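import Mathlib
import Cfsg.Agent.Lib.Helper71.BG1310Defs

/-!
# BG 13.10, LEAF N (keystone 131014): `N_M(X) = C_{M_σ}(X) N_E(X)` for `X ≤ E`, `E` a complement of `M_σ` in `M`.
-/

set_option autoImplicit false

namespace Cfsg.Agent.Lib.Helper22.BG1310

open Cfsg Cfsg.Agent.Lib.Helper55 Cfsg.Agent.Lib.Helper31.BG134 Cfsg.Agent.Lib.Helper71.BG1310

variable {G : Type*} [Group G] [Finite G]

omit [Finite G] in
/-- `M_σ` is normalized by `M` -/
theorem sigmaCore_conj_mem' {M : Subgroup G} {b x : G} (hb : b ∈ sigmaCore M) (hx : x ∈ M) :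
    x * b * x⁻¹ ∈ sigmaCore M := by
  unfold sigmaCore at hb ⊢
  obtain ⟨b', hb', rfl⟩ := hb
  exact ⟨⟨x, hx⟩ * b' * ⟨x, hx⟩⁻¹, (piCore_normal (sigma M) ↥M).conj_mem b' hb' ⟨x, hx⟩, by simp⟩

/-- **LEAF N (131014)  normalizer_eq** -/
theorem normalizer_eq {M E X : Subgroup G} (hE : IsComplIn E (sigmaCore M) M) (hX : X ≤ E) :
    M ⊓ Subgroup.normalizer (X : Set G) = CP M X ⊔ (E ⊓ Subgroup.normalizer (X : Set G)) := by
  obtain ⟨hEM, hσM, hdisj, hprod⟩ := hE
  apply le_antisymm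
  · rintro y ⟨hyM, hyN⟩
    obtain ⟨a, ha, b, hb, rfl⟩ := hprod y hyM
    have hyN' := Subgroup.mem_normalizer_iff.mp hyN
    -- `b` centralizes `X`
    have hbC : b ∈ Subgroup.centralizer (X : Set G) := by
      rw [Subgroup.mem_centralizer_iff]
      intro x hx
      have hxE : x ∈ E := hX hx
      have hxM : x ∈ M := hEM hxE
      have h1 : a * b * x * (a * b)⁻¹ ∈ X := (hyN' x).mp hx
      have h2 : b * x * b⁻¹ ∈ E := by
        have : b * x * b⁻¹ = a⁻¹ * (a * b * x * (a * b)⁻¹) * a := by group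
        rw [this]
        exact E.mul_mem (E.mul_mem (E.inv_mem ha) (hX h1)) ha
      have h3 : b * x * b⁻¹ * x⁻¹ ∈ E := E.mul_mem h2 (E.inv_mem hxE)
      have h4 : b * x * b⁻¹ * x⁻¹ ∈ sigmaCore M := by
        have : b * x * b⁻¹ * x⁻¹ = b * (x * b⁻¹ * x⁻¹) := by group
        rw [this]
        exact (sigmaCore M).mul_mem hb (sigmaCore_conj_mem' ((sigmaCore M).inv_mem hb) hxM)
      have h5 : b * x * b⁻¹ * x⁻¹ ∈ E ⊓ sigmaCore M := ⟨h3, h4⟩
      rw [hdisj, Subgroup.mem_bot] at h5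
      have h6 : b * x * b⁻¹ = x := by
        have := congrArg (· * x) h5
        simpa using this
      calc x * b = (b * x * b⁻¹) * b := by rw [h6]
        _ = b * x := by group
    have hbN : b ∈ Subgroup.normalizer (X : Set G) :=
      Subgroup.centralizer_le_normalizer _ hbC
    have haN : a ∈ Subgroup.normalizer (X : Set G) := by
      have : a = a * b * b⁻¹ := by group
      rw [this]
      exact Subgroup.mul_mem _ hyN (Subgroup.inv_mem _ hbN)
    have : a * b ∈ (E ⊓ Subgroup.normalizer (X : Set G)) ⊔ CP M X :=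
      Subgroup.mul_mem_sup ⟨ha, haN⟩ ⟨hb, hbC⟩
    rwa [sup_comm] at this
  · apply sup_le
    · rintro y ⟨hyσ, hyC⟩
      exact ⟨hσM hyσ, Subgroup.centralizer_le_normalizer _ hyC⟩
    · exact inf_le_inf_right _ hEM

end Cfsg.Agent.Lib.Helper22.BG1310
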