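import Mathlib
import Cfsg.Agent.Lib.Helper03.FrobSub
import Cfsg.Agent.Lib.Helper29.Coprime

/-!
# Lemma F for S1428 (BG 13.4), the nonabelian core F3–F5 (helper22, for helper74)

`abelian_of_core`: given F1 (every `Γ`-invariant abelian subgroup of `S` lies in
`Y = C_S(⨆ Q i)`) and F2 (`Γ` centralizes `Y`), the `p`-group `S` is abelian.

Proof: `N` a minimal nonabelian `Γ`-invariant subgroup of `S`; `⁅N,N⁆` and `Z(N)` are proper
invariant abelian, so lie in `Y` and are centralized by `Γ`.  F4: `C_N(R i) ≤ Z(N)` (every coset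
of `C_N(x)`, `x ∈ C_N(R i)`, is `R i`-invariant, so contains a fixed point, which commutes with `x`
as `C_S(R i)` is cyclic).  F5: the Frobenius–Wielandt formula (`Helper03.FrobSub.wielandt_sub`)
for `Q i ⋊ R i` on `N` with `C_N(R i) = C_N(Q i R i)` gives `|N| = |C_N(Q i)|`.
-/

set_option autoImplicit false

namespace Cfsg.Agent.Lib.Helper22.BGFrobF

open Subgroup

variable {G : Type*} [Group G]

theorem conj_mem_of_le_normalizer {H X : Subgroup G} (h : H ≤ normalizer (X : Set G)) {g x : G}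
    (hg : g ∈ H) (hx : x ∈ X) : g * x * g⁻¹ ∈ X :=
  (mem_normalizer_iff.mp (h hg) x).mp hx

theorem le_normalizer_of_forall_conj_mem {H X : Subgroup G}
    (h : ∀ g ∈ H, ∀ x ∈ X, g * x * g⁻¹ ∈ X) : H ≤ normalizer (X : Set G) := by
  intro g hg
  rw [mem_normalizer_iff]
  intro x
  refine ⟨h g hg x, fun hx => ?_⟩
  have := h g⁻¹ (H.inv_mem hg) _ hx
  simpa [mul_assoc] using this

theorem le_normalizer_inf {H X X' : Subgroup G} (h1 : H ≤ normalizer (X : Set G))
    (h2 : H ≤ normalizer (X' : Set G)) : H ≤ normalizer ((X ⊓ X' : Subgroup G) : Set G) :=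
  le_normalizer_of_forall_conj_mem fun _ hg _ hx =>
    mem_inf.mpr ⟨conj_mem_of_le_normalizer h1 hg (mem_inf.mp hx).1,
      conj_mem_of_le_normalizer h2 hg (mem_inf.mp hx).2⟩

theorem le_normalizer_centralizer {H X : Subgroup G} (h : H ≤ normalizer (X : Set G)) :
    H ≤ normalizer ((centralizer (X : Set G) : Subgroup G) : Set G) := by
  apply le_normalizer_of_forall_conj_mem
  intro g hg c hc
  rw [mem_centralizer_iff] at hc ⊢
  intro x hx
  have hx' : g⁻¹ * x * g ∈ X := by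
    have := conj_mem_of_le_normalizer h (H.inv_mem hg) hx
    simpa using this
  have h1 := hc _ hx'
  calc x * (g * c * g⁻¹) = g * ((g⁻¹ * x * g) * c) * g⁻¹ := by group
    _ = g * (c * (g⁻¹ * x * g)) * g⁻¹ := by rw [h1]
    _ = g * c * g⁻¹ * x := by group

theorem le_normalizer_commutator {H X X' : Subgroup G} (h1 : H ≤ normalizer (X : Set G))
    (h2 : H ≤ normalizer (X' : Set G)) : H ≤ normalizer ((⁅X, X'⁆ : Subgroup G) : Set G) := by
  apply le_normalizer_of_forall_conj_mem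
  intro g hg c hc
  have hmap : (⁅X, X'⁆).map (MulAut.conj g).toMonoidHom =
      ⁅X.map (MulAut.conj g).toMonoidHom, X'.map (MulAut.conj g).toMonoidHom⁆ :=
    Subgroup.map_commutator _ _ _
  have hX : X.map (MulAut.conj g).toMonoidHom ≤ X := by
    rintro _ ⟨x, hx, rfl⟩
    exact conj_mem_of_le_normalizer h1 hg hx
  have hX' : X'.map (MulAut.conj g).toMonoidHom ≤ X' := by
    rintro _ ⟨x, hx, rfl⟩
    exact conj_mem_of_le_normalizer h2 hg hx
  have hmem : g * c * g⁻¹ ∈ (⁅X, X'⁆).map (MulAut.conj g).toMonoidHom := ⟨c, hc, rfl⟩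
  rw [hmap] at hmem
  exact Subgroup.commutator_mono hX hX' hmem

/-- `V ≤ C(Q)` from `Q ≤ C(V)`-style symmetric statements -/
theorem le_centralizer_symm {H K : Subgroup G} (h : H ≤ centralizer (K : Set G)) :
    K ≤ centralizer (H : Set G) := by
  intro k hk
  rw [mem_centralizer_iff]
  intro x hx
  exact ((mem_centralizer_iff.mp (h hx)) k hk).symm

section fin

variable [Finite G]

/-- **Frobenius–Wielandt consequence.**  `Q` abelian, `R` normalizes `Q` and every nonidentity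
element of `R` is fixed-point-free on `Q`; `Q`, `R` normalize the solvable group `V` of coprime
order.  If every `R`-fixed point of `V` is `Q`-fixed then `Q` centralizes `V`. -/
theorem frob_centralizes (Q R V : Subgroup G)
    (hQab : ∀ x ∈ Q, ∀ y ∈ Q, x * y = y * x) (hRQ : R ≤ normalizer (Q : Set G))
    (hfpf : ∀ ρ ∈ R, ρ ≠ 1 → ∀ y ∈ Q, ρ * y = y * ρ → y = 1)
    (hQV : Q ≤ normalizer (V : Set G)) (hRV : R ≤ normalizer (V : Set G))
    (hsolv : Group.IsSolvable V) (hcop : (Nat.card V).Coprime (Nat.card ↥(Q ⊔ R)))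
    (hVR : V ⊓ centralizer (R : Set G) ≤ centralizer (Q : Set G)) :
    V ≤ centralizer (Q : Set G) := by
  let _ : CommGroup Q :=
    { (inferInstance : Group Q) with
      mul_comm := fun a b => Subtype.ext (hQab a a.2 b b.2) }
  have hnil : Group.IsNilpotent Q := CommGroup.isNilpotent
  have hUn : ∀ e ∈ R, ∀ u ∈ Q, e * u * e⁻¹ ∈ Q := fun e he u hu =>
    conj_mem_of_le_normalizer hRQ he hu
  have hHn : ∀ x ∈ Q ⊔ R, ∀ h ∈ V, x * h * x⁻¹ ∈ V := fun x hx h hh =>
    conj_mem_of_le_normalizer (sup_le hQV hRV) hx hh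
  have key := Cfsg.Agent.Lib.Helper03.FrobSub.wielandt_sub Q R V hUn hfpf hnil hHn hsolv hcop
  have h1 : V ⊓ centralizer ((Q ⊔ R : Subgroup G) : Set G) = V ⊓ centralizer (R : Set G) := by
    apply le_antisymm
    · exact inf_le_inf_left _ (centralizer_le (by exact_mod_cast (le_sup_right : R ≤ Q ⊔ R)))
    · intro x hx
      refine mem_inf.mpr ⟨(mem_inf.mp hx).1, ?_⟩
      have hxQ : x ∈ centralizer (Q : Set G) := hVR hx
      have hxR : x ∈ centralizer (R : Set G) := (mem_inf.mp hx).2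
      have hle : Q ⊔ R ≤ centralizer ({x} : Set G) := by
        apply sup_le
        · intro q hq
          rw [mem_centralizer_iff]
          intro y hy
          rw [Set.mem_singleton_iff.mp hy]
          exact ((mem_centralizer_iff.mp hxQ) q hq).symm
        · intro q hq
          rw [mem_centralizer_iff]
          intro y hy
          rw [Set.mem_singleton_iff.mp hy]
          exact ((mem_centralizer_iff.mp hxR) q hq).symm
      rw [mem_centralizer_iff]
      intro g hg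
      have := (mem_centralizer_iff.mp (hle hg)) x (Set.mem_singleton x)
      exact this.symm
  rw [h1] at key
  have hpos : 0 < Nat.card ↥(V ⊓ centralizer (R : Set G)) ^ Nat.card R :=
    pow_pos Nat.card_pos _
  have hcard : Nat.card V = Nat.card ↥(V ⊓ centralizer (Q : Set G)) :=
    Nat.eq_of_mul_eq_mul_left hpos key
  have heq : V ⊓ centralizer (Q : Set G) = V :=
    eq_of_le_of_card_ge inf_le_left hcard.le
  intro v hv
  rw [← heq] at hv
  exact (mem_inf.mp hv).2

/-- **F3–F5**, with the two extra hypotheses `hQab`, `hRprime` of the final Lemma F. -/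
theorem abelian_of_core {p : ℕ} [Fact p.Prime] (S Γ : Subgroup G)
    (hS : IsPGroup p S) (hΓS : Γ ≤ normalizer (S : Set G)) (hΓp : ¬ p ∣ Nat.card Γ)
    {ι : Type*} (Q R : ι → Subgroup G)
    (hQab : ∀ i, ∀ x ∈ Q i, ∀ y ∈ Q i, x * y = y * x)
    (hRQ : ∀ i, R i ≤ normalizer (Q i : Set G))
    (hRprime : ∀ i, (Nat.card (R i)).Prime)
    (hfpf : ∀ i, ∀ ρ ∈ R i, ρ ≠ 1 → ∀ y ∈ Q i, ρ * y = y * ρ → y = 1)
    (hgen : Γ = ⨆ i, (Q i ⊔ R i))
    (hcycR : ∀ i, IsCyclic ↥(S ⊓ centralizer (R i : Set G)))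
    (hF1 : ∀ A : Subgroup G, A ≤ S → (∀ a ∈ A, ∀ b ∈ A, a * b = b * a) →
      Γ ≤ normalizer (A : Set G) →
      A ≤ S ⊓ centralizer ((⨆ i, Q i : Subgroup G) : Set G))
    (hYab : ∀ a ∈ S ⊓ centralizer ((⨆ i, Q i : Subgroup G) : Set G),
      ∀ b ∈ S ⊓ centralizer ((⨆ i, Q i : Subgroup G) : Set G), a * b = b * a)
    (hF2 : Γ ≤ centralizer
      ((S ⊓ centralizer ((⨆ i, Q i : Subgroup G) : Set G) : Subgroup G) : Set G)) :
    ∀ a ∈ S, ∀ b ∈ S, a * b = b * a := by
  classical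
  have hp : p.Prime := Fact.out
  by_contra hnab
  set Y : Subgroup G := S ⊓ centralizer ((⨆ i, Q i : Subgroup G) : Set G) with hY
  have hQΓ : ∀ i, Q i ≤ Γ := fun i => by
    rw [hgen]; exact le_trans le_sup_left (le_iSup (fun i => Q i ⊔ R i) i)
  have hRΓ : ∀ i, R i ≤ Γ := fun i => by
    rw [hgen]; exact le_trans le_sup_right (le_iSup (fun i => Q i ⊔ R i) i)
  -- the family of nonabelian invariant subgroups
  let 𝒩 : Set (Subgroup G) := {N | N ≤ S ∧ Γ ≤ normalizer (N : Set G) ∧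
    ¬ ∀ a ∈ N, ∀ b ∈ N, a * b = b * a}
  have hS𝒩 : S ∈ 𝒩 := ⟨le_rfl, hΓS, hnab⟩
  obtain ⟨N, hN𝒩, hmin⟩ := WellFounded.has_min
    (measure fun N : Subgroup G => Nat.card N).wf 𝒩 ⟨S, hS𝒩⟩
  obtain ⟨hNS, hΓN, hNnab⟩ := hN𝒩
  have hNp : IsPGroup p N := hS.to_le hNS
  -- an invariant subgroup of `S` of smaller order than `N` lies in `Y` and is centralized by `Γ`
  have hsmall : ∀ M : Subgroup G, M ≤ N → M ≠ N → Γ ≤ normalizer (M : Set G) →
      M ≤ Y ∧ Γ ≤ centralizer (M : Set G) := by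
    intro M hMN hMne hΓM
    have hlt : Nat.card M < Nat.card N :=
      lt_of_le_of_ne (card_le_of_le hMN) (fun h => hMne (eq_of_le_of_card_ge hMN h.ge))
    have hMab : ∀ a ∈ M, ∀ b ∈ M, a * b = b * a := by
      by_contra hcon
      exact hmin M ⟨hMN.trans hNS, hΓM, hcon⟩ hlt
    have hMY : M ≤ Y := hF1 M (hMN.trans hNS) hMab hΓM
    exact ⟨hMY, hF2.trans (centralizer_le (by exact_mod_cast hMY))⟩
  -- the commutator subgroup
  have hDN : ⁅N, N⁆ ≤ N := by
    rw [commutator_le]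
    intro a ha b hb
    exact N.mul_mem (N.mul_mem (N.mul_mem ha hb) (N.inv_mem ha)) (N.inv_mem hb)
  have hDne : ⁅N, N⁆ ≠ N := by
    intro h
    have hnil : Group.IsNilpotent N := hNp.isNilpotent
    have hsolv : Group.IsSolvable N := IsNilpotent.to_isSolvable
    have hnt : Nontrivial N := by
      by_contra hcon
      rw [not_nontrivial_iff_subsingleton] at hcon
      apply hNnab
      intro a ha b hb
      have h1 : (⟨a, ha⟩ : N) = ⟨b, hb⟩ := Subsingleton.elim _ _
      have h2 : a = b := congrArg Subtype.val h1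
      rw [h2]
    have hlt := Group.IsSolvable.commutator_lt_top_of_nontrivial ↥N
    have h1 : (commutator N).map N.subtype = (⊤ : Subgroup N).map N.subtype := by
      rw [map_subtype_commutator, h, ← MonoidHom.range_eq_map, Subgroup.range_subtype]
    have h2 := Subgroup.map_injective N.subtype_injective h1
    exact absurd h2 hlt.ne
  obtain ⟨hDY, hΓD⟩ := hsmall ⁅N, N⁆ hDN hDne (le_normalizer_commutator hΓN hΓN)
  -- the centre
  set Z : Subgroup G := N ⊓ centralizer (N : Set G) with hZ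
  have hZab : ∀ a ∈ Z, ∀ b ∈ Z, a * b = b * a := by
    intro a ha b hb
    exact ((mem_centralizer_iff.mp (mem_inf.mp ha).2) b (mem_inf.mp hb).1).symm
  have hΓZ : Γ ≤ normalizer (Z : Set G) := le_normalizer_inf hΓN (le_normalizer_centralizer hΓN)
  have hZY : Z ≤ Y := hF1 Z (inf_le_left.trans hNS) hZab hΓZ
  have hΓcZ : Γ ≤ centralizer (Z : Set G) := hF2.trans (centralizer_le (by exact_mod_cast hZY))
  -- F4
  have hF4 : ∀ i, N ⊓ centralizer (R i : Set G) ≤ centralizer (N : Set G) := by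
    intro i x hx
    obtain ⟨hxN, hxR⟩ := mem_inf.mp hx
    rw [mem_centralizer_iff] at hxR
    rw [mem_centralizer_iff]
    intro n hn
    -- `K = C_N(x)`
    set K : Subgroup G := N ⊓ centralizer ({x} : Set G) with hK
    have hmemK : ∀ k, k ∈ K ↔ k ∈ N ∧ x * k = k * x := by
      intro k
      rw [hK, mem_inf, mem_centralizer_iff]
      constructor
      · rintro ⟨h1, h2⟩
        exact ⟨h1, h2 x (Set.mem_singleton x)⟩
      · rintro ⟨h1, h2⟩
        refine ⟨h1, fun y hy => ?_⟩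
        rw [Set.mem_singleton_iff.mp hy]; exact h2
    let T : Set G := (fun k => n * k) '' (K : Set G)
    have hTcard : Nat.card T = Nat.card K :=
      Nat.card_image_of_injective (mul_right_injective n) _
    have hr : (Nat.card (R i)).Prime := hRprime i
    have : Fact (Nat.card (R i)).Prime := ⟨hr⟩
    have hRp : IsPGroup (Nat.card (R i)) (R i) := IsPGroup.of_card (n := 1) (by rw [pow_one])
    have hrp : Nat.card (R i) ≠ p := by
      intro h
      apply hΓp
      rw [← h]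
      exact card_dvd_of_le (hRΓ i)
    have hcardT : ¬ Nat.card (R i) ∣ Nat.card T := by
      rw [hTcard]
      obtain ⟨m, hm⟩ := IsPGroup.iff_card.mp (hNp.to_le (inf_le_left : K ≤ N))
      rw [hm]
      intro hdvd
      exact hrp ((Nat.prime_dvd_prime_iff_eq hr hp).mp (hr.dvd_of_dvd_pow hdvd))
    have hinv : ∀ g ∈ R i, ∀ s ∈ T, g * s * g⁻¹ ∈ T := by
      rintro g hg _ ⟨k, hk, rfl⟩
      have hgΓ : g ∈ Γ := hRΓ i hg
      obtain ⟨hkN, hkx⟩ := (hmemK k).mp hk
      have hgx : g * x * g⁻¹ = x := by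
        rw [hxR g hg]; group
      -- `g k g⁻¹ ∈ K`
      have h1 : g * k * g⁻¹ ∈ K := by
        rw [hmemK]
        refine ⟨conj_mem_of_le_normalizer hΓN hgΓ hkN, ?_⟩
        calc x * (g * k * g⁻¹) = (g * x * g⁻¹) * (g * k * g⁻¹) := by rw [hgx]
          _ = g * (x * k) * g⁻¹ := by group
          _ = g * (k * x) * g⁻¹ := by rw [hkx]
          _ = (g * k * g⁻¹) * (g * x * g⁻¹) := by group
          _ = (g * k * g⁻¹) * x := by rw [hgx]
      -- `n⁻¹ (g n g⁻¹) ∈ K`
      have h2 : n⁻¹ * (g * n * g⁻¹) ∈ K := by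
        rw [hmemK]
        have hn' : g * n * g⁻¹ ∈ N := conj_mem_of_le_normalizer hΓN hgΓ hn
        refine ⟨N.mul_mem (N.inv_mem hn) hn', ?_⟩
        have hc : x * n * x⁻¹ * n⁻¹ ∈ ⁅N, N⁆ := commutator_mem_commutator hxN hn
        have hgc : g * (x * n * x⁻¹ * n⁻¹) * g⁻¹ = x * n * x⁻¹ * n⁻¹ := by
          have := (mem_centralizer_iff.mp (hΓD hgΓ)) _ hc
          rw [← this]; group
        have h3 : x * (g * n * g⁻¹) * x⁻¹ * (g * n * g⁻¹)⁻¹ = x * n * x⁻¹ * n⁻¹ := by
          calc x * (g * n * g⁻¹) * x⁻¹ * (g * n * g⁻¹)⁻¹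
              = (g * x * g⁻¹) * (g * n * g⁻¹) * (g * x * g⁻¹)⁻¹ * (g * n * g⁻¹)⁻¹ := by rw [hgx]
            _ = g * (x * n * x⁻¹ * n⁻¹) * g⁻¹ := by group
            _ = x * n * x⁻¹ * n⁻¹ := hgc
        have h4 : (g * n * g⁻¹) * x⁻¹ * (g * n * g⁻¹)⁻¹ = n * x⁻¹ * n⁻¹ := by
          calc (g * n * g⁻¹) * x⁻¹ * (g * n * g⁻¹)⁻¹
              = x⁻¹ * (x * (g * n * g⁻¹) * x⁻¹ * (g * n * g⁻¹)⁻¹) := by group
            _ = x⁻¹ * (x * n * x⁻¹ * n⁻¹) := by rw [h3]
            _ = n * x⁻¹ * n⁻¹ := by group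
        calc x * (n⁻¹ * (g * n * g⁻¹))
            = x * n⁻¹ * ((g * n * g⁻¹) * x⁻¹ * (g * n * g⁻¹)⁻¹) * (g * n * g⁻¹) * x := by group
          _ = x * n⁻¹ * (n * x⁻¹ * n⁻¹) * (g * n * g⁻¹) * x := by rw [h4]
          _ = n⁻¹ * (g * n * g⁻¹) * x := by group
      refine ⟨n⁻¹ * (g * n * g⁻¹) * (g * k * g⁻¹), K.mul_mem h2 h1, ?_⟩
      show n * (n⁻¹ * (g * n * g⁻¹) * (g * k * g⁻¹)) = g * (n * k) * g⁻¹
      group
    obtain ⟨t, htT, htfix⟩ :=
      Cfsg.Agent.Lib.Helper29.exists_conj_fixed_of_pgroup (R i) hRp T hinv hcardT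
    obtain ⟨k, hk, rfl⟩ := htT
    obtain ⟨hkN, hkx⟩ := (hmemK k).mp hk
    -- `t = n k` and `x` both lie in the cyclic group `C_S(R i)`
    have htC : n * k ∈ S ⊓ centralizer (R i : Set G) := by
      refine mem_inf.mpr ⟨hNS (N.mul_mem hn hkN), ?_⟩
      rw [mem_centralizer_iff]
      intro g hg
      have := htfix g hg
      calc g * (n * k) = g * (n * k) * g⁻¹ * g := by group
        _ = n * k * g := by rw [this]
    have hxC : x ∈ S ⊓ centralizer (R i : Set G) :=
      mem_inf.mpr ⟨hNS hxN, mem_centralizer_iff.mpr hxR⟩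
    have := hcycR i
    have hcomm : x * (n * k) = (n * k) * x := by
      have := mul_comm' (⟨x, hxC⟩ : ↥(S ⊓ centralizer (R i : Set G))) ⟨n * k, htC⟩
      exact congrArg Subtype.val this
    -- hence `n` commutes with `x`
    have hkx' : k⁻¹ * x = x * k⁻¹ := by
      calc k⁻¹ * x = k⁻¹ * (x * k) * k⁻¹ := by group
        _ = k⁻¹ * (k * x) * k⁻¹ := by rw [hkx]
        _ = x * k⁻¹ := by group
    calc n * x = (n * k) * (k⁻¹ * x) := by group
      _ = (n * k) * (x * k⁻¹) := by rw [hkx']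
      _ = ((n * k) * x) * k⁻¹ := by group
      _ = (x * (n * k)) * k⁻¹ := by rw [hcomm]
      _ = x * n := by group
  -- F5
  have hF5 : ∀ i, N ≤ centralizer (Q i : Set G) := by
    intro i
    have hcop : (Nat.card N).Coprime (Nat.card ↥(Q i ⊔ R i)) := by
      obtain ⟨m, hm⟩ := IsPGroup.iff_card.mp hNp
      rw [hm]
      apply Nat.Coprime.pow_left
      rw [Nat.Prime.coprime_iff_not_dvd hp]
      intro hdvd
      apply hΓp
      exact hdvd.trans (card_dvd_of_le (sup_le (hQΓ i) (hRΓ i)))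
    have hnil : Group.IsNilpotent N := hNp.isNilpotent
    have hsolv : Group.IsSolvable N := IsNilpotent.to_isSolvable
    apply frob_centralizes (Q i) (R i) N (hQab i) (hRQ i) (hfpf i) ((hQΓ i).trans hΓN)
      ((hRΓ i).trans hΓN) hsolv hcop
    intro x hx
    have hxZ : x ∈ Z := mem_inf.mpr ⟨(mem_inf.mp hx).1, hF4 i hx⟩
    have h1 : Q i ≤ centralizer (Z : Set G) := (hQΓ i).trans hΓcZ
    exact le_centralizer_symm h1 hxZ
  -- conclusion
  have hNY : N ≤ Y := by
    intro n hn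
    refine mem_inf.mpr ⟨hNS hn, ?_⟩
    have h1 : (⨆ i, Q i) ≤ centralizer (N : Set G) :=
      iSup_le fun i => le_centralizer_symm (hF5 i)
    exact le_centralizer_symm h1 hn
  exact hNnab fun a ha b hb => hYab a (hNY ha) b (hNY hb)

end fin

end Cfsg.Agent.Lib.Helper22.BGFrobF
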