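import Mathlib
import Cfsg.Prelude.Def_Blocks
import Cfsg.Agent.Lib.Helper81.BlockPart
import Cfsg.Agent.Lib.Helper82.BlockBasic

set_option autoImplicit false
set_option linter.unusedSectionVars false

namespace Cfsg.Agent.Lib.Helper22

open Cfsg
open Cfsg.Agent.Lib.Helper21 Cfsg.Agent.Lib.Helper82 Cfsg.Agent.Lib.Helper83
open Cfsg.Agent.Lib.Helper81

/-- A class function is the sum of its block parts. -/
theorem eq_sum_blockPart {G : Type*} [Group G] [Fintype G] [Fintype (IrrCharacter G)]
    {M : Ideal AlgInt} (hMp : M.IsPrime) {ϑ : G → ℂ} (hϑ : IsClassFunction G ϑ) (y : G)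
    [Fintype (Set (IrrCharacter G))] [DecidablePred (IsPBlock (G := G) M)] :
    ϑ y = ∑ b : Set (IrrCharacter G), if IsPBlock M b then blockPart b ϑ y else 0 := by
  classical
  have h1 := congrFun (classFunction_eq_sum_irr hϑ) y
  rw [Finset.sum_apply] at h1
  simp only [Pi.smul_apply, smul_eq_mul] at h1
  rw [h1, ← Finset.sum_fiberwise (Finset.univ : Finset (IrrCharacter G))
    (fun ξ : IrrCharacter G => blockOf M (ξ : G → ℂ))]
  refine Finset.sum_congr rfl fun b _ => ?_
  split_ifs with hb
  · rw [blockPart_apply, finsum_mem_eq_sum_ite, ← Finset.sum_filter]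
    refine Finset.sum_congr ?_ fun _ _ => rfl
    ext ξ
    simp only [Finset.mem_filter, Finset.mem_univ, true_and]
    constructor
    · intro h
      rw [← h]
      exact mem_blockOf_self hMp ξ
    · intro h
      exact (IsPBlock.eq_blockOf hMp hb h).symm
  · apply Finset.sum_eq_zero
    intro ξ hξ
    rw [Finset.mem_filter] at hξ
    exact absurd ⟨ξ, hξ.2.symm⟩ hb

/-- If all block parts of a class function other than the `B₁`-part vanish at `y`, then its value
at `y` is the value of the `B₁`-part. -/
theorem eq_blockPart_of_forall_ne {G : Type*} [Group G] [Finite G]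
    {M : Ideal AlgInt} (hMp : M.IsPrime) {ϑ : G → ℂ} (hϑ : IsClassFunction G ϑ) (y : G)
    {B₁ : Set (IrrCharacter G)} (hB₁ : IsPBlock M B₁)
    (h : ∀ b : Set (IrrCharacter G), IsPBlock M b → b ≠ B₁ → blockPart b ϑ y = 0) :
    ϑ y = blockPart B₁ ϑ y := by
  classical
  let _ : Fintype G := Fintype.ofFinite G
  let _ : Fintype (IrrCharacter G) := Fintype.ofFinite _
  let _ : Fintype (Set (IrrCharacter G)) := Fintype.ofFinite _
  rw [eq_sum_blockPart hMp hϑ y, Finset.sum_eq_single B₁]
  · rw [if_pos hB₁]
  · intro b _ hb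
    split_ifs with hb'
    · exact h b hb' hb
    · rfl
  · intro h'
    exact absurd (Finset.mem_univ _) h'

end Cfsg.Agent.Lib.Helper22
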