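import Mathlib
import Cfsg.Prelude.Def_Blocks
import Cfsg.Agent.Lib.Helper22.BlockPartSum
import Cfsg.Agent.Lib.Helper21.BrauerCorr
import Cfsg.Agent.Lib.Helper05.CharBasic
import Cfsg.Agent.S0919
import Cfsg.Agent.S0923
import Cfsg.Agent.S0936

set_option autoImplicit false
set_option linter.unusedSectionVars false

namespace Cfsg.Agent.Lib.Helper22

open Cfsg
open Cfsg.Agent.Lib.Helper21 Cfsg.Agent.Lib.Helper82 Cfsg.Agent.Lib.Helper83

theorem isPBlock_principalBlock (M : Ideal AlgInt) (G : Type*) [Group G] :
    IsPBlock M (principalBlock M G) :=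
  ⟨⟨fun _ => 1, Cfsg.Agent.Lib.Helper05.isIrrCharacter_one⟩, rfl⟩

section
variable {G : Type*} [Group G] [Finite G] {p : ℕ} [Fact p.Prime] {M : Ideal AlgInt}

/-- The principal block of the centralizer of a `p`-element induces the principal block. -/
theorem isInducedBlock_principal_centralizer (hM : IsPModular p M) (z : G)
    (hz : ∃ k : ℕ, orderOf z = p ^ k) :
    IsInducedBlock M (Subgroup.centralizer ({z} : Set G))
      (principalBlock M (Subgroup.centralizer ({z} : Set G))) (principalBlock M G) := by
  obtain ⟨k, hk⟩ := hz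
  have hP : IsPGroup p (Subgroup.zpowers z) := IsPGroup.of_card (n := k) (by rw [Nat.card_zpowers, hk])
  have hcent : Subgroup.centralizer ((Subgroup.zpowers z : Subgroup G) : Set G) =
      Subgroup.centralizer ({z} : Set G) := by
    rw [Subgroup.zpowers_eq_closure, Subgroup.centralizer_closure]
  have hPH : Subgroup.zpowers z ≤ Subgroup.centralizer ({z} : Set G) := by
    rw [Subgroup.zpowers_le, Subgroup.mem_centralizer_iff]
    intro h hh
    rw [Set.mem_singleton_iff] at hh
    rw [hh]
  have hdef := Cfsg.Agent.S0919.result p M hM (Subgroup.zpowers z)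
    (Subgroup.centralizer ({z} : Set G)) hP hPH hcent.le
    (hcent ▸ Subgroup.centralizer_le_normalizer _)
    (principalBlock M (Subgroup.centralizer ({z} : Set G))) (isPBlock_principalBlock M _)
  exact (Cfsg.Agent.S0936.result p M hM _ _ hdef).2 rfl

/-- `c ↦ χ (z * c)` is a class function on the centralizer of `z`. -/
theorem isClassFunction_shift (χ : IrrCharacter G) (z : G) :
    IsClassFunction (Subgroup.centralizer ({z} : Set G))
      (fun c : Subgroup.centralizer ({z} : Set G) => (χ : G → ℂ) (z * (c : G))) := by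
  have hχc : IsCharacter G (χ : G → ℂ) := IrrCharacter_isCharacter χ
  intro c c'
  have hc' : z * (c' : G) = (c' : G) * z := (Subgroup.mem_centralizer_iff.1 c'.2) z rfl
  have h1 : z * ((c' * c * c'⁻¹ : Subgroup.centralizer ({z} : Set G)) : G) =
      (c' : G) * (z * (c : G)) * (c' : G)⁻¹ := by
    push_cast
    calc z * ((c' : G) * (c : G) * (c' : G)⁻¹) = (z * (c' : G)) * (c : G) * (c' : G)⁻¹ := by group
      _ = ((c' : G) * z) * (c : G) * (c' : G)⁻¹ := by rw [hc']
      _ = (c' : G) * (z * (c : G)) * (c' : G)⁻¹ := by group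
  change (χ : G → ℂ) (z * ((c' * c * c'⁻¹ : Subgroup.centralizer ({z} : Set G)) : G)) =
    (χ : G → ℂ) (z * (c : G))
  rw [h1]
  exact char_isClassFunction hχc _ _

open Classical in
/-- Second and third main theorems for the principal block: the principal-block part of
`c ↦ ζ (z * c)` at a `p`-regular element is `ζ (z * y)` or `0` according as `ζ` lies in the
principal block or not. -/
theorem blockPart_principal_shift (hM : IsPModular p M) (z : G)
    (hz : ∃ k : ℕ, orderOf z = p ^ k) (ζ : IrrCharacter G)
    (y : Subgroup.centralizer ({z} : Set G)) (hy : ¬ p ∣ orderOf y) :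
    blockPart (principalBlock M (Subgroup.centralizer ({z} : Set G)))
      (fun c : Subgroup.centralizer ({z} : Set G) => (ζ : G → ℂ) (z * (c : G))) y =
      if ζ ∈ principalBlock M G then (ζ : G → ℂ) (z * (y : G)) else 0 := by
  have hMp : M.IsPrime := hM.2.1.isPrime
  have hind := isInducedBlock_principal_centralizer hM z hz
  have hB₀ := isPBlock_principalBlock M (Subgroup.centralizer ({z} : Set G))
  split_ifs with hζ
  · symm
    apply eq_blockPart_of_forall_ne hMp (isClassFunction_shift ζ z) y hB₀
    intro b hb hne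
    apply Cfsg.Agent.S0923.result p M hM z hz (principalBlock M G)
      (isPBlock_principalBlock M G) ζ hζ b hb _ y hy
    intro hind'
    exact hne ((Cfsg.Agent.S0936.result p M hM _ b ⟨_, hind'⟩).1 hind')
  · apply Cfsg.Agent.S0923.result p M hM z hz (blockOf M (ζ : G → ℂ))
      (isPBlock_blockOf ζ) ζ (mem_blockOf_self hMp ζ) _ hB₀ _ y hy
    intro hind'
    apply hζ
    let _ : Fintype G := Fintype.ofFinite G
    let _ : Fintype (IrrCharacter G) := Fintype.ofFinite _
    let _ : Fintype (Subgroup.centralizer ({z} : Set G)) := Fintype.ofFinite _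
    let _ : Fintype (IrrCharacter (Subgroup.centralizer ({z} : Set G))) := Fintype.ofFinite _
    rw [isInducedBlock_unique hMp _ hind hind']
    exact mem_blockOf_self hMp ζ

end

end Cfsg.Agent.Lib.Helper22
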