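import Cfsg.Prelude.Def_Blocks

set_option autoImplicit false

namespace Cfsg.Agent.Lib.Helper22

open Cfsg

theorem memLocalIdeal_zero {M : Ideal AlgInt} (hM : M.IsMaximal) : MemLocalIdeal M 0 := by
  refine ⟨0, 1, M.zero_mem, ?_, by simp⟩
  exact (Ideal.ne_top_iff_one M).mp hM.ne_top

theorem algInt_coe_ne_zero_of_not_mem {M : Ideal AlgInt} {b : AlgInt} (hb : b ∉ M) :
    (b : ℂ) ≠ 0 := by
  intro h
  apply hb
  have : b = 0 := Subtype.ext h
  rw [this]
  exact M.zero_mem

theorem memLocalIdeal_add {M : Ideal AlgInt} (hM : M.IsMaximal) {x y : ℂ}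
    (hx : MemLocalIdeal M x) (hy : MemLocalIdeal M y) : MemLocalIdeal M (x + y) := by
  obtain ⟨a, b, ha, hb, rfl⟩ := hx
  obtain ⟨a', b', ha', hb', rfl⟩ := hy
  have hprime : M.IsPrime := hM.isPrime
  refine ⟨a * b' + b * a', b * b', ?_, ?_, ?_⟩
  · exact M.add_mem (M.mul_mem_right _ ha) (M.mul_mem_left _ ha')
  · intro h
    rcases hprime.mem_or_mem h with h | h
    · exact hb h
    · exact hb' h
  · have hb0 := algInt_coe_ne_zero_of_not_mem hb
    have hb0' := algInt_coe_ne_zero_of_not_mem hb'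
    rw [div_add_div _ _ hb0 hb0']
    push_cast
    rfl

theorem memLocalIdeal_neg {M : Ideal AlgInt} {x : ℂ}
    (hx : MemLocalIdeal M x) : MemLocalIdeal M (-x) := by
  obtain ⟨a, b, ha, hb, rfl⟩ := hx
  refine ⟨-a, b, M.neg_mem ha, hb, ?_⟩
  push_cast
  rw [neg_div]

theorem memLocalIdeal_sub {M : Ideal AlgInt} (hM : M.IsMaximal) {x y : ℂ}
    (hx : MemLocalIdeal M x) (hy : MemLocalIdeal M y) : MemLocalIdeal M (x - y) := by
  rw [sub_eq_add_neg]
  exact memLocalIdeal_add hM hx (memLocalIdeal_neg hy)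

theorem memLocalIdeal_sum {M : Ideal AlgInt} (hM : M.IsMaximal) {ι : Type*} (s : Finset ι)
    (f : ι → ℂ) (h : ∀ i ∈ s, MemLocalIdeal M (f i)) : MemLocalIdeal M (∑ i ∈ s, f i) := by
  classical
  induction s using Finset.induction_on with
  | empty => simpa using memLocalIdeal_zero hM
  | insert a s ha ih =>
    rw [Finset.sum_insert ha]
    exact memLocalIdeal_add hM (h a (Finset.mem_insert_self a s))
      (ih (fun i hi => h i (Finset.mem_insert_of_mem hi)))

end Cfsg.Agent.Lib.Helper22
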