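import Mathlib
import Cfsg.Prelude.Def_Blocks
import Cfsg.Agent.Lib.Helper21.NilpBridge
import Cfsg.Agent.Lib.Helper83.Quotient
import Cfsg.Agent.S0905
import Cfsg.Agent.S0933

/-!
# Blocks and quotients (helper22)

* `memLocalIdeal_sub_one_of_pow`: a `p`-power root of unity is `≡ 1` modulo `M`.
* `centralChar_pow_eq_one_of_central`: central character at a central element is a root of unity.
* `memLocalIdeal_centralChar_sub_index_of_isPGroup`, `sameBlock_of_isPGroup`:
  a finite `p`-group has a single block.
* `sum_stable_mem`: same block ⟹ sum over a conjugation-stable set of the normalised difference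
  lies in the local ideal.
* `ker_of_sameBlock`: a normal `p'`-subgroup in the kernel of one character of a block is in the
  kernel of all of them.
* `sameBlock_inflate`, `sameBlock_deflate`: blocks and inflation from `G ⧸ N`.
-/

set_option autoImplicit false

namespace Cfsg.Agent.Lib.Helper22

open Cfsg
open Cfsg.Agent.Lib.Helper21 Cfsg.Agent.Lib.Helper82 Cfsg.Agent.Lib.Helper83

universe u
variable {G : Type u} [Group G]

/-- An algebraic integer whose `p^k`-th power is `1` is congruent to `1` modulo `M`. -/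
theorem memLocalIdeal_sub_one_of_pow {p : ℕ} {M : Ideal AlgInt} (hM : IsPModular p M)
    {z : ℂ} (hz : IsIntegral ℤ z) (k : ℕ) (hpow : z ^ p ^ k = 1) : MemLocalIdeal M (z - 1) := by
  have hprime : M.IsPrime := hM.2.1.isPrime
  set a : AlgInt := ⟨z, hz⟩ with ha
  have hcoe : ((a - 1 : AlgInt) : ℂ) = z - 1 := by simp [ha]
  rw [← hcoe, Cfsg.Agent.Lib.Helper82.memLocalIdeal_algInt_iff hprime]
  obtain ⟨r, hr⟩ := exists_add_pow_prime_pow_eq hM.1 (a - 1) 1 k
  have ha1 : a ^ p ^ k = 1 := Subtype.ext (by push_cast; exact hpow)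
  rw [sub_add_cancel, ha1, one_pow] at hr
  have h2 : (a - 1) ^ p ^ k = -((p : AlgInt) * ((a - 1) * 1 * r)) := by
    have : (a - 1) ^ p ^ k + 1 + (p : AlgInt) * (a - 1) * 1 * r = 1 := hr.symm
    linear_combination this
  have h3 : (a - 1) ^ p ^ k ∈ M := by
    rw [h2]
    exact M.neg_mem (M.mul_mem_right _ hM.2.2)
  exact hprime.mem_of_pow_mem _ h3

/-- For a central element `g` with `g ^ n = 1`, the central character value at `g` is an
`n`-th root of unity. -/
theorem centralChar_pow_eq_one_of_central [Fintype G] {χ : G → ℂ} (hχ : IsIrrCharacter G χ)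
    {g : G} (hg : g ∈ Subgroup.center G) (n : ℕ) (hn : g ^ n = 1) :
    (centralChar χ g) ^ n = 1 := by
  classical
  obtain ⟨-, hom⟩ := coeffFn_classSumZ_pow g n
  rw [← hom χ hχ]
  have hcls : classSumZ g = MonoidAlgebra.single g (1 : ℤ) := by
    unfold classSumZ
    have : Finset.univ.filter (fun x => IsConj g x) = {g} := by
      ext x
      simp only [Finset.mem_filter, Finset.mem_univ, true_and, Finset.mem_singleton]
      constructor
      · intro hx
        obtain ⟨c, hc⟩ := isConj_iff.mp hx
        rw [← hc, (Subgroup.mem_center_iff.mp hg c), mul_inv_cancel_right]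
      · rintro rfl
        exact IsConj.refl _
    rw [this, Finset.sum_singleton]
  rw [hcls, MonoidAlgebra.single_pow, hn, one_pow, ← MonoidAlgebra.one_def, coeffFn_one]
  exact omega_delta 1 χ (IsIrrCharacter.apply_one_ne_zero hχ)

/-- In a finite `p`-group every irreducible character lies in the principal block: its central
character is congruent to the class size at every element. -/
theorem memLocalIdeal_centralChar_sub_index_of_isPGroup [Finite G] {p : ℕ} [Fact p.Prime]
    {M : Ideal AlgInt} (hM : IsPModular p M) (hG : IsPGroup p G) {χ : G → ℂ}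
    (hχ : IsIrrCharacter G χ) (g : G) :
    MemLocalIdeal M (centralChar χ g - ((Subgroup.centralizer ({g} : Set G)).index : ℂ)) := by
  classical
  let _ : Fintype G := Fintype.ofFinite G
  let _ : Fintype (IrrCharacter G) := Fintype.ofFinite _
  have hprime : M.IsPrime := hM.2.1.isPrime
  obtain ⟨k, hk⟩ := IsPGroup.iff_card.mp hG
  by_cases hg : g ∈ Subgroup.center G
  · have hcent : Subgroup.centralizer ({g} : Set G) = ⊤ := by
      rw [eq_top_iff]
      intro x _
      rw [Subgroup.mem_centralizer_iff]
      intro y hy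
      rw [Set.mem_singleton_iff] at hy
      subst hy
      exact (Subgroup.mem_center_iff.mp hg x).symm
    rw [hcent, Subgroup.index_top, Nat.cast_one]
    apply memLocalIdeal_sub_one_of_pow hM (IsIrrCharacter.isIntegral_centralChar hχ g) k
    apply centralChar_pow_eq_one_of_central hχ hg
    rw [← hk]
    exact pow_card_eq_one'
  · have hpc : Cfsg.pCore p G = ⊤ := by
      rw [eq_top_iff]
      apply le_sSup
      exact ⟨inferInstance, fun x => by
        obtain ⟨j, hj⟩ := hG (x : G)
        exact ⟨j, Subtype.ext (by simpa using hj)⟩⟩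
    have havoid : ∀ x : G, IsConj g x → x ∉ Subgroup.centralizer (Cfsg.pCore p G : Set G) := by
      intro x hx hxc
      rw [hpc, Subgroup.coe_top, Subgroup.centralizer_univ] at hxc
      obtain ⟨c, hc⟩ := isConj_iff.mp hx
      apply hg
      rw [Subgroup.mem_center_iff] at hxc ⊢
      intro y
      have h1 := hxc (c * y * c⁻¹)
      rw [← hc] at h1
      have h2 : c * (y * g) * c⁻¹ = c * (g * y) * c⁻¹ := by
        calc c * (y * g) * c⁻¹ = c * y * c⁻¹ * (c * g * c⁻¹) := by group
          _ = c * g * c⁻¹ * (c * y * c⁻¹) := h1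
          _ = c * (g * y) * c⁻¹ := by group
      exact mul_left_cancel (mul_right_cancel h2)
    have hnil := Cfsg.Agent.S0905.result p (ZMod p) g havoid
    have hsum : (∑ᶠ x ∈ ConjClasses.carrier (ConjClasses.mk g),
        MonoidAlgebra.single x (1 : ZMod p) : MonoidAlgebra (ZMod p) G)
        = ∑ x ∈ Finset.univ.filter (fun x => IsConj g x), MonoidAlgebra.single x (1 : ZMod p) := by
      rw [finsum_mem_eq_finite_toFinset_sum _ (Set.toFinite _)]
      apply Finset.sum_congr
      · ext x
        simp only [Set.Finite.mem_toFinset, ConjClasses.mem_carrier_iff_mk_eq,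
          ConjClasses.mk_eq_mk_iff_isConj, Finset.mem_filter, Finset.mem_univ, true_and]
        exact isConj_comm
      · intros; rfl
    rw [hsum] at hnil
    have h1 := memLocalIdeal_centralChar_of_isNilpotent hM g hnil ⟨χ, hχ⟩
    apply Cfsg.Agent.Lib.Helper82.memLocalIdeal_sub hprime h1
    rw [memLocalIdeal_natCast_iff hM]
    have hdvd : (Subgroup.centralizer ({g} : Set G)).index ∣ p ^ k := by
      rw [← hk]; exact Subgroup.index_dvd_card _
    obtain ⟨j, -, hj⟩ := (Nat.dvd_prime_pow (Fact.out : p.Prime)).mp hdvd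
    rcases Nat.eq_zero_or_pos j with rfl | hjpos
    · exfalso
      rw [pow_zero, Subgroup.index_eq_one] at hj
      apply hg
      rw [Subgroup.mem_center_iff]
      intro y
      have : y ∈ Subgroup.centralizer ({g} : Set G) := hj ▸ Subgroup.mem_top y
      rw [Subgroup.mem_centralizer_iff] at this
      exact (this g rfl).symm
    · rw [hj]
      exact dvd_pow_self p hjpos.ne'

/-- A finite `p`-group has a single block. -/
theorem sameBlock_of_isPGroup [Finite G] {p : ℕ} [Fact p.Prime]
    {M : Ideal AlgInt} (hM : IsPModular p M) (hG : IsPGroup p G) {χ ψ : G → ℂ}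
    (hχ : IsIrrCharacter G χ) (hψ : IsIrrCharacter G ψ) : SameBlock M χ ψ := by
  intro g
  have h1 := memLocalIdeal_centralChar_sub_index_of_isPGroup hM hG hχ g
  have h2 := memLocalIdeal_centralChar_sub_index_of_isPGroup hM hG hψ g
  have h3 := Cfsg.Agent.Lib.Helper82.memLocalIdeal_sub hM.2.1.isPrime h1 h2
  convert h3 using 1
  ring

/-- Summing the difference of normalised characters in the same block over a conjugation
stable set gives an element of the local ideal. -/
theorem sum_stable_mem [Fintype G] {M : Ideal Cfsg.AlgInt}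
    (hmax : M.IsMaximal) (α β : G → ℂ) (hα : Cfsg.IsCharacter G α) (hβ : Cfsg.IsCharacter G β)
    (hsb : Cfsg.SameBlock M α β) (S : Finset G) (hS : ∀ h ∈ S, ∀ k : G, k * h * k⁻¹ ∈ S) :
    Cfsg.MemLocalIdeal M (∑ h ∈ S, (α h / α 1 - β h / β 1)) := by
  apply Cfsg.Agent.S0933.memLocalIdeal_sum_stable hmax S hS
  · intro h k
    rw [char_conj_eq hα, char_conj_eq hβ]
  · intro h _
    have h1 := hsb h
    unfold Cfsg.centralChar at h1
    convert h1 using 1
    ring

/-- If `α`, `β` are irreducible characters in the same block and the normal `p'`-subgroup `N`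
is in the kernel of `α`, then it is in the kernel of `β`. -/
theorem ker_of_sameBlock [Finite G] {p : ℕ} {M : Ideal AlgInt} (hM : IsPModular p M)
    (N : Subgroup G) [N.Normal] (hN : ¬ p ∣ Nat.card N) {α β : G → ℂ}
    (hα : IsIrrCharacter G α) (hβ : IsIrrCharacter G β) (hsb : SameBlock M α β)
    (hker : ∀ n ∈ N, α n = α 1) : ∀ n ∈ N, β n = β 1 := by
  classical
  let _ : Fintype G := Fintype.ofFinite G
  let _ : Fintype N := Fintype.ofFinite _
  have hmax : M.IsMaximal := hM.2.1
  have hα1 : α 1 ≠ 0 := irr_degree_ne_zero ⟨α, hα⟩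
  have hcardN : ¬ Cfsg.MemLocalIdeal M ((Nat.card N : ℕ) : ℂ) := by
    rw [memLocalIdeal_natCast_iff hM]
    exact hN
  by_contra hcon
  push Not at hcon
  have hzero := irr_sum_normal_eq_zero ⟨β, hβ⟩ N hcon
  have hmem := sum_stable_mem hmax α β (isCharacter_of_irr hα) (isCharacter_of_irr hβ) hsb
    (Finset.univ.filter (fun x : G => x ∈ N))
    (by
      intro h hh k
      simp only [Finset.mem_filter, Finset.mem_univ, true_and] at hh ⊢
      exact Subgroup.Normal.conj_mem inferInstance h hh k)
  rw [Finset.sum_filter, ← sum_subgroup_eq_sum_ite N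
    (fun h => α h / α 1 - β h / β 1), Finset.sum_sub_distrib] at hmem
  have hz2 : ∑ x : N, β (x : G) / β 1 = 0 := by
    rw [← Finset.sum_div]
    have : ∑ i : N, β (i : G) = 0 := hzero
    rw [this, zero_div]
  rw [hz2, sub_zero] at hmem
  have h1 : ∀ n : N, α (n : G) / α 1 = 1 := by
    intro n
    rw [hker n n.2, div_self hα1]
  rw [Finset.sum_congr rfl (fun n _ => h1 n), Finset.sum_const, Finset.card_univ,
    nsmul_eq_mul, mul_one, ← Nat.card_eq_fintype_card] at hmem
  exact hcardN hmem

/-- Inflation from `G ⧸ N` preserves "same block". -/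
theorem sameBlock_inflate [Finite G] {M : Ideal AlgInt} (hM : M.IsPrime)
    (N : Subgroup G) [N.Normal] {χ ψ : G ⧸ N → ℂ} (hsb : SameBlock M χ ψ) :
    SameBlock M (χ ∘ (QuotientGroup.mk : G → G ⧸ N)) (ψ ∘ (QuotientGroup.mk : G → G ⧸ N)) := by
  intro g
  set q : G ⧸ N := QuotientGroup.mk g with hq
  set K : Subgroup G := (Subgroup.centralizer ({q} : Set (G ⧸ N))).comap (QuotientGroup.mk' N)
    with hK
  have hle : Subgroup.centralizer ({g} : Set G) ≤ K := by
    intro x hx
    rw [hK, Subgroup.mem_comap, Subgroup.mem_centralizer_iff]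
    intro y hy
    rw [Set.mem_singleton_iff] at hy
    subst hy
    rw [Subgroup.mem_centralizer_iff] at hx
    have := hx g rfl
    rw [hq, QuotientGroup.mk'_apply, ← QuotientGroup.mk_mul, ← QuotientGroup.mk_mul, this]
  have hidx : K.index = (Subgroup.centralizer ({q} : Set (G ⧸ N))).index :=
    Subgroup.index_comap_of_surjective _ (QuotientGroup.mk'_surjective N)
  have hmul := Subgroup.relIndex_mul_index hle
  rw [hidx] at hmul
  have h1 := hsb q
  have h2 := Cfsg.Agent.Lib.Helper82.memLocalIdeal_mul_left hM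
    (memLocalRing_natCast hM ((Subgroup.centralizer ({g} : Set G)).relIndex K)) h1
  convert h2 using 1
  unfold Cfsg.centralChar
  simp only [Function.comp, QuotientGroup.mk_one, ← hq]
  rw [← hmul]
  push_cast
  ring

/-- For a normal `p'`-subgroup `N`, if the inflations of two irreducible characters of `G ⧸ N`
lie in the same block of `G`, the characters lie in the same block of `G ⧸ N`. -/
theorem sameBlock_deflate [Finite G] {p : ℕ} {M : Ideal AlgInt} (hM : IsPModular p M)
    (N : Subgroup G) [N.Normal] (hN : ¬ p ∣ Nat.card N) {χ ψ : G ⧸ N → ℂ}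
    (hχ : IsIrrCharacter (G ⧸ N) χ) (hψ : IsIrrCharacter (G ⧸ N) ψ)
    (hsb : SameBlock M (χ ∘ (QuotientGroup.mk : G → G ⧸ N))
      (ψ ∘ (QuotientGroup.mk : G → G ⧸ N))) : SameBlock M χ ψ := by
  classical
  let _ : Fintype G := Fintype.ofFinite G
  let _ : Fintype (G ⧸ N) := Fintype.ofFinite _
  have hmax : M.IsMaximal := hM.2.1
  have hprime : M.IsPrime := hmax.isPrime
  have hcardN : ¬ Cfsg.MemLocalIdeal M ((Nat.card N : ℕ) : ℂ) := by
    rw [memLocalIdeal_natCast_iff hM]
    exact hN
  intro q
  set F : G ⧸ N → ℂ := fun y => if IsConj q y then (χ y / χ 1 - ψ y / ψ 1) else 0 with hF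
  have hmem := sum_stable_mem hmax _ _ (isCharacter_of_irr (isIrrCharacter_inflate N hχ))
    (isCharacter_of_irr (isIrrCharacter_inflate N hψ)) hsb
    (Finset.univ.filter (fun x : G => IsConj q (QuotientGroup.mk x : G ⧸ N)))
    (by
      intro h hh k
      simp only [Finset.mem_filter, Finset.mem_univ, true_and] at hh ⊢
      refine hh.trans ?_
      rw [isConj_iff]
      exact ⟨(QuotientGroup.mk k : G ⧸ N), by simp⟩)
  have hsum1 : ∑ h ∈ Finset.univ.filter (fun x : G => IsConj q (QuotientGroup.mk x : G ⧸ N)),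
      ((χ ∘ (QuotientGroup.mk : G → G ⧸ N)) h / (χ ∘ (QuotientGroup.mk : G → G ⧸ N)) 1 -
        (ψ ∘ (QuotientGroup.mk : G → G ⧸ N)) h / (ψ ∘ (QuotientGroup.mk : G → G ⧸ N)) 1)
      = ∑ g : G, F (QuotientGroup.mk g) := by
    rw [Finset.sum_filter]
    apply Finset.sum_congr rfl
    intro g _
    simp only [hF, Function.comp, QuotientGroup.mk_one]
  have hsum2 : ∑ y : G ⧸ N, F y = Cfsg.centralChar χ q - Cfsg.centralChar ψ q := by
    simp only [hF]
    rw [← Finset.sum_filter]
    have hconst : ∀ y ∈ Finset.univ.filter (fun y : G ⧸ N => IsConj q y),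
        (χ y / χ 1 - ψ y / ψ 1) = (χ q / χ 1 - ψ q / ψ 1) := by
      intro y hy
      simp only [Finset.mem_filter, Finset.mem_univ, true_and] at hy
      obtain ⟨k, hk⟩ := isConj_iff.mp hy
      rw [← hk, char_conj_eq (isCharacter_of_irr hχ), char_conj_eq (isCharacter_of_irr hψ)]
    rw [Finset.sum_congr rfl hconst, Finset.sum_const, nsmul_eq_mul,
      Cfsg.Agent.S0933.card_class_eq_index]
    unfold Cfsg.centralChar
    ring
  simp only [Function.comp] at hsum1 hmem
  rw [hsum1, sum_comp_quotient_mk N F, hsum2] at hmem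
  have hint : Cfsg.MemLocalRing M (Cfsg.centralChar χ q - Cfsg.centralChar ψ q) :=
    memLocalRing_sub hprime
      (memLocalRing_of_isIntegral hprime (IsIrrCharacter.isIntegral_centralChar hχ q))
      (memLocalRing_of_isIntegral hprime (IsIrrCharacter.isIntegral_centralChar hψ q))
  rcases memLocalIdeal_of_mul_memLocalIdeal hprime
    (memLocalRing_natCast hprime (Nat.card N)) hint hmem with h | h
  · exact absurd h hcardN
  · exact h

end Cfsg.Agent.Lib.Helper22
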