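import Mathlib
import Cfsg.Prelude.Def_Blocks
import Cfsg.Agent.Lib.Helper82.Integral
import Cfsg.Agent.Lib.Helper82.Counting

set_option autoImplicit false

namespace Cfsg.Agent.Lib.Helper22

open Cfsg

/-- In a ring, if `e` is idempotent and commutes with `a`, then
`(a * e + (1 - e)) ^ k = a ^ k * e + (1 - e)`. -/
theorem pow_mul_idem_add {A : Type*} [Ring A] (a e : A) (hee : e * e = e) (hae : a * e = e * a)
    (k : ℕ) : (a * e + (1 - e)) ^ k = a ^ k * e + (1 - e) := by
  induction k with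
  | zero => simp
  | succ k ih =>
    rw [pow_succ, ih]
    have h1 : a ^ k * e * (a * e) = a ^ (k + 1) * e := by
      rw [mul_assoc, ← mul_assoc e a e, ← hae, mul_assoc a e e, hee, ← mul_assoc, ← pow_succ]
    have h2 : a ^ k * e * (1 - e) = 0 := by
      rw [mul_sub, mul_one, mul_assoc, hee, sub_self]
    have h3 : (1 - e) * (a * e) = 0 := by
      rw [sub_mul, one_mul, ← mul_assoc, ← hae, mul_assoc, hee, sub_self]
    have h4 : (1 - e) * (1 - e) = 1 - e := by
      rw [mul_sub, mul_one, sub_mul, one_mul, hee, sub_self, sub_zero]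
    rw [add_mul, mul_add, mul_add, h1, h2, h3, h4, add_zero, zero_add]

/-- The average of a character over a coset `g D` of a subgroup `D` centralized by `g` is an
algebraic integer. -/
theorem isIntegral_avg_coset {G : Type*} [Group G] [Finite G] {χ : G → ℂ}
    (hχ : IsCharacter G χ) (D : Subgroup G) [Fintype D] (g : G)
    (hg : ∀ u ∈ D, g * u = u * g) :
    IsIntegral ℤ ((Fintype.card D : ℂ)⁻¹ * ∑ u : D, χ (g * u)) := by
  classical
  obtain ⟨m, hm⟩ := Helper82.IsCharacter.sum_subgroup hχ D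
  obtain ⟨n, ρ, rfl⟩ := hχ
  set c : ℂ := (Fintype.card D : ℂ)⁻¹ with hc
  have hcard : (Fintype.card D : ℂ) ≠ 0 := by exact_mod_cast Fintype.card_ne_zero
  set e : Module.End ℂ (Fin n → ℂ) := c • ∑ u : D, ρ (u : G) with he
  have hve : ∀ v : D, ρ (v : G) * e = e := by
    intro v
    rw [he, mul_smul_comm, Finset.mul_sum]
    congr 1
    refine Fintype.sum_equiv (Equiv.mulLeft v) _ _ fun u => ?_
    rw [← map_mul]
    rfl
  have hee : e * e = e := by
    have h1 : (c • ∑ u : D, ρ (u : G)) * e = e := by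
      rw [smul_mul_assoc, Finset.sum_mul]
      simp only [hve]
      rw [Finset.sum_const, Finset.card_univ, ← Nat.cast_smul_eq_nsmul ℂ, smul_smul, hc,
        inv_mul_cancel₀ hcard, one_smul]
    rwa [← he] at h1
  have hae : ρ g * e = e * ρ g := by
    rw [he, mul_smul_comm, smul_mul_assoc, Finset.mul_sum, Finset.sum_mul]
    congr 1
    refine Finset.sum_congr rfl fun u _ => ?_
    rw [← map_mul, ← map_mul, hg u u.2]
  have hpow := pow_mul_idem_add (ρ g) e hee hae (orderOf g)
  rw [← map_pow, pow_orderOf_eq_one, map_one, one_mul, add_sub_cancel] at hpow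
  have hint := Helper82.isIntegral_trace_of_pow_eq_one (ρ g * e + (1 - e)) (orderOf g)
    (orderOf_pos g) hpow
  have htr1 : LinearMap.trace ℂ (Fin n → ℂ) (ρ g * e) = c * ∑ u : D, ρ.character (g * u) := by
    rw [he, mul_smul_comm, map_smul, Finset.mul_sum, map_sum, smul_eq_mul]
    congr 1
    refine Finset.sum_congr rfl fun u _ => ?_
    rw [← map_mul]; rfl
  have htr2 : LinearMap.trace ℂ (Fin n → ℂ) e = (m : ℂ) := by
    rw [he, map_smul, map_sum, smul_eq_mul]
    have : ∑ u : D, LinearMap.trace ℂ (Fin n → ℂ) (ρ (u : G)) = ∑ u : D, ρ.character u := rfl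
    rw [this, hm, hc, inv_mul_cancel_left₀ hcard]
  have htr3 : LinearMap.trace ℂ (Fin n → ℂ) (1 : Module.End ℂ (Fin n → ℂ)) = (n : ℂ) := by
    rw [LinearMap.trace_one]; simp
  rw [map_add, map_sub, htr1, htr2, htr3] at hint
  have : c * ∑ u : D, ρ.character (g * u) =
      (c * ∑ u : D, ρ.character (g * u) + ((n : ℂ) - (m : ℂ))) - (n : ℂ) + (m : ℂ) := by ring
  rw [this]
  have hnat : ∀ k : ℕ, IsIntegral ℤ (k : ℂ) := fun k => by
    have := isIntegral_algebraMap (R := ℤ) (A := ℂ) (x := (k : ℤ))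
    simpa using this
  exact (hint.sub (hnat n)).add (hnat m)

end Cfsg.Agent.Lib.Helper22
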