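import Mathlib
import Cfsg.Prelude.Def_Blocks
import Cfsg.Agent.S0908
import Cfsg.Agent.Lib.Helper22.BlockQuot
import Cfsg.Agent.Lib.Helper33.TraceCongr
import Cfsg.Agent.Lib.Helper82.CharSchur

set_option autoImplicit false
set_option linter.unusedSectionVars false

namespace Cfsg.Agent.Lib.Helper22

open Cfsg
open Cfsg.Agent.Lib.Helper21 Cfsg.Agent.Lib.Helper82
open scoped ComplexConjugate

/-- A quotient of natural numbers whose denominator is divisible by at most the power of `p`
dividing the numerator is a local integer. -/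
theorem memLocalRing_div_of_factorization_le {p : ℕ} {M : Ideal AlgInt} (hM : IsPModular p M)
    (m d : ℕ) (hd : d ≠ 0) (h : d.factorization p ≤ m.factorization p) :
    MemLocalRing M ((m : ℂ) / (d : ℂ)) := by
  have hp : p.Prime := hM.1
  have hMp : M.IsPrime := hM.2.1.isPrime
  rcases Nat.eq_zero_or_pos m with rfl | hm
  · simpa using memLocalRing_zero hMp
  have h1 : p ^ d.factorization p ∣ m := (Nat.pow_dvd_pow p h).trans (Nat.ordProj_dvd m p)
  obtain ⟨m', hm'⟩ := h1
  have h2 : p ^ d.factorization p * (d / p ^ d.factorization p) = d :=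
    Nat.ordProj_mul_ordCompl_eq_self d p
  have h3 : ¬ p ∣ d / p ^ d.factorization p := Nat.not_dvd_ordCompl hp hd
  generalize d / p ^ d.factorization p = d' at h2 h3
  generalize d.factorization p = k at h2 hm'
  have hd'0 : (d' : ℂ) ≠ 0 := by
    intro h0
    have : d' = 0 := by exact_mod_cast h0
    rw [this] at h3; exact h3 (dvd_zero p)
  have hp0 : (p : ℂ) ≠ 0 := Nat.cast_ne_zero.2 hp.ne_zero
  have heq : (m : ℂ) / (d : ℂ) = (m' : ℂ) * (d' : ℂ)⁻¹ := by
    rw [hm', ← h2]
    push_cast
    field_simp
  rw [heq]
  refine memLocalRing_mul hMp (memLocalRing_natCast hMp m') ?_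
  exact memLocalRing_inv (memLocalRing_natCast hMp d')
    (fun hh => h3 ((memLocalIdeal_natCast_iff hM d').1 hh))

/-- For a `p`-element `x` commuting with `y`, the values of a character at `x * y` and at `y` are
congruent modulo the local ideal. -/
theorem char_mul_sub_memLocalIdeal {G : Type*} [Group G] [Finite G] {p : ℕ} {M : Ideal AlgInt}
    (hM : IsPModular p M) {χ : G → ℂ} (hχ : IsCharacter G χ) (x y : G) (hxy : x * y = y * x)
    (k : ℕ) (hx : orderOf x = p ^ k) : MemLocalIdeal M (χ (x * y) - χ y) := by
  have hMp : M.IsPrime := hM.2.1.isPrime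
  obtain ⟨n, ρ, rfl⟩ := hχ
  have hpk : p ^ k ≠ 0 := pow_ne_zero _ hM.1.ne_zero
  have hζ : IsPrimitiveRoot (Complex.exp (2 * Real.pi * Complex.I / ((p ^ k : ℕ) : ℂ))) (p ^ k) :=
    Complex.isPrimitiveRoot_exp _ hpk
  have hf : (ρ x) ^ (p ^ k) = 1 := by
    rw [← map_pow, ← hx, pow_orderOf_eq_one, map_one]
  have hh : (ρ y) ^ (orderOf y) = 1 := by
    rw [← map_pow, pow_orderOf_eq_one, map_one]
  have hcomm : ρ x * ρ y = ρ y * ρ x := by rw [← map_mul, ← map_mul, hxy]
  obtain ⟨ω, hω, heq⟩ := Cfsg.Agent.Lib.Helper33.trace_mul_sub_trace (ρ x) (ρ y) (p ^ k)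
    (orderOf y) hpk (orderOf_pos y).ne' hf hh hcomm hζ
  have heq' : ρ.character (x * y) - ρ.character y =
      (1 - Complex.exp (2 * Real.pi * Complex.I / ((p ^ k : ℕ) : ℂ))) * ω := by
    rw [← heq, ← map_mul]; rfl
  rw [heq']
  have h1 := memLocalIdeal_sub_one_of_pow hM (hζ.isIntegral (Nat.pos_of_ne_zero hpk)) k hζ.pow_eq_one
  have h2 := memLocalIdeal_neg h1
  rw [neg_sub] at h2
  exact memLocalIdeal_mul_right hMp h2 (memLocalRing_of_isIntegral hMp hω)

section
variable {G : Type*} [Group G] [Finite G] {p : ℕ} [Fact p.Prime] {M : Ideal AlgInt}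

/-- The defect of a block is the exponent of `p` in the centralizer order of a defect class. -/
theorem blockDefect_eq_of_isDefectClass (hM : IsPModular p M) {B : Set (IrrCharacter G)}
    (hB : IsPBlock M B) {g : G} (hg : IsDefectClass M B g) :
    blockDefect p B = (Nat.card (Subgroup.centralizer ({g} : Set G))).factorization p := by
  obtain ⟨P⟩ : Nonempty (Sylow p (Subgroup.centralizer ({g} : Set G))) := inferInstance
  have h1 := Cfsg.Agent.S0908.result p M hM B hB _ ⟨g, hg, P, rfl⟩
  rw [Subgroup.card_map_of_injective (Subgroup.subtype_injective _), P.card_eq_multiplicity] at h1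
  exact (Nat.pow_right_injective (Fact.out : p.Prime).two_le h1).symm

theorem factorization_card_eq_add (g : G) :
    (Nat.card G).factorization p =
      (Nat.card (Subgroup.centralizer ({g} : Set G))).factorization p +
        (Subgroup.centralizer ({g} : Set G)).index.factorization p := by
  rw [← Subgroup.card_mul_index (Subgroup.centralizer ({g} : Set G)),
    Nat.factorization_mul Nat.card_pos.ne' Subgroup.index_ne_zero_of_finite]
  rfl

theorem factorization_charDegree_le_card (χ : IrrCharacter G) :
    (charDegree (χ : G → ℂ)).factorization p ≤ (Nat.card G).factorization p := by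
  have h := IsIrrCharacter.charDegree_dvd_card χ.2
  exact (Nat.factorization_le_iff_dvd (IsIrrCharacter.charDegree_pos χ.2).ne'
    Nat.card_pos.ne').2 h p

/-- The least exponent of `p` in the degrees of a block is the exponent of `p` in the size of a
defect class. -/
theorem sInf_factorization_eq_of_isDefectClass (hM : IsPModular p M) {B : Set (IrrCharacter G)}
    (hB : IsPBlock M B) {g : G} (hg : IsDefectClass M B g) :
    sInf ((fun χ : IrrCharacter G => (charDegree (χ : G → ℂ)).factorization p) '' B) =
      (Subgroup.centralizer ({g} : Set G)).index.factorization p := by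
  have hMp : M.IsPrime := hM.2.1.isPrime
  have h1 := blockDefect_eq_of_isDefectClass hM hB hg
  have h2 := factorization_card_eq_add (p := p) g
  obtain ⟨χ, hχ⟩ := IsPBlock.nonempty hMp hB
  have h3 : sInf ((fun χ : IrrCharacter G => (charDegree (χ : G → ℂ)).factorization p) '' B) ≤
      (Nat.card G).factorization p :=
    (Nat.sInf_le (Set.mem_image_of_mem _ hχ)).trans (factorization_charDegree_le_card χ)
  rw [blockDefect] at h1
  omega

/-- A height-zero character of a block has degree with the same exponent of `p` as the size of a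
defect class. -/
theorem factorization_charDegree_of_height_zero (hM : IsPModular p M) {B : Set (IrrCharacter G)}
    (hB : IsPBlock M B) {g : G} (hg : IsDefectClass M B g) {χ : IrrCharacter G} (hχ : χ ∈ B)
    (h0 : blockHeight p B (χ : G → ℂ) = 0) :
    (charDegree (χ : G → ℂ)).factorization p =
      (Subgroup.centralizer ({g} : Set G)).index.factorization p := by
  have h1 := sInf_factorization_eq_of_isDefectClass hM hB hg
  have h2 : sInf ((fun χ : IrrCharacter G => (charDegree (χ : G → ℂ)).factorization p) '' B) ≤
      (charDegree (χ : G → ℂ)).factorization p := Nat.sInf_le (Set.mem_image_of_mem _ hχ)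
  rw [blockHeight] at h0
  omega

/-- Every block contains a character of height zero. -/
theorem exists_height_zero (hMp : M.IsPrime) {B : Set (IrrCharacter G)} (hB : IsPBlock M B) :
    ∃ χ ∈ B, blockHeight p B (χ : G → ℂ) = 0 := by
  have hne : ((fun χ : IrrCharacter G => (charDegree (χ : G → ℂ)).factorization p) '' B).Nonempty :=
    (IsPBlock.nonempty hMp hB).image _
  obtain ⟨χ, hχ, hχe⟩ := Nat.sInf_mem hne
  refine ⟨χ, hχ, ?_⟩
  rw [blockHeight]
  have : (charDegree (χ : G → ℂ)).factorization p =
      sInf ((fun χ : IrrCharacter G => (charDegree (χ : G → ℂ)).factorization p) '' B) := hχe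
  omega

/-- The value of a height-zero character at a defect class element is a unit modulo the local
ideal. -/
theorem not_memLocalIdeal_apply_of_height_zero (hM : IsPModular p M) {B : Set (IrrCharacter G)}
    (hB : IsPBlock M B) {g : G} (hg : IsDefectClass M B g) {χ : IrrCharacter G} (hχ : χ ∈ B)
    (h0 : blockHeight p B (χ : G → ℂ) = 0) : ¬ MemLocalIdeal M ((χ : G → ℂ) g) := by
  have hMp : M.IsPrime := hM.2.1.isPrime
  intro hcon
  apply hg.2.2 χ hχ
  have hχc := IsIrrCharacter.isCharacter χ.2
  have hdpos := IsIrrCharacter.charDegree_pos χ.2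
  have hrew : centralChar (χ : G → ℂ) g =
      (((Subgroup.centralizer ({g} : Set G)).index : ℂ) / (charDegree (χ : G → ℂ) : ℂ)) *
        (χ : G → ℂ) g := by
    rw [centralChar, IsCharacter.charDegree_cast hχc]
    ring
  rw [hrew]
  exact memLocalIdeal_mul_left hMp
    (memLocalRing_div_of_factorization_le hM _ _ hdpos.ne'
      (factorization_charDegree_of_height_zero hM hB hg hχ h0).le) hcon

end

end Cfsg.Agent.Lib.Helper22
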