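import Mathlib
import Cfsg.Prelude.Def_Blocks
import Cfsg.Agent.S0911
import Cfsg.Agent.Lib.Helper22.DefectClass

set_option autoImplicit false
set_option linter.unusedSectionVars false

namespace Cfsg.Agent.Lib.Helper22

open Cfsg
open Cfsg.Agent.Lib.Helper21 Cfsg.Agent.Lib.Helper82

/-- The `p`-part of an element is a power of it. -/
theorem IsPPart.mem_zpowers {G : Type*} [Group G] {p : ℕ} (hp : p.Prime) {g z : G}
    (h : IsPPart p g z) : z ∈ Subgroup.zpowers g := by
  obtain ⟨y, hzy, hcomm, ⟨k, hk⟩, hy⟩ := h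
  have hco : (orderOf y).Coprime (orderOf z) := by
    rw [hk]
    exact Nat.Coprime.pow_right k ((Nat.Prime.coprime_iff_not_dvd hp).2 hy).symm
  obtain ⟨j, hj⟩ := exists_pow_eq_self_of_coprime hco
  have h1 : g ^ orderOf y = z ^ orderOf y := by
    rw [← hzy, hcomm.mul_pow, pow_orderOf_eq_one, mul_one]
  rw [← hj, ← h1, ← pow_mul]
  exact Subgroup.npow_mem_zpowers g _

/-- The `p`-part of an element commutes with everything commuting with the element. -/
theorem IsPPart.commute_of_commute {G : Type*} [Group G] {p : ℕ} (hp : p.Prime) {g z w : G}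
    (h : IsPPart p g z) (hw : g * w = w * g) : z * w = w * z := by
  obtain ⟨n, hn⟩ := Subgroup.mem_zpowers_iff.1 (IsPPart.mem_zpowers hp h)
  rw [← hn]
  have : Commute g w := hw
  exact (this.zpow_left n).eq

section
variable {G : Type*} [Group G] [Finite G] {p : ℕ} [Fact p.Prime] {M : Ideal AlgInt}

/-- A defect class element is `p`-regular. -/
theorem IsDefectClass.not_dvd_orderOf (hM : IsPModular p M) {B : Set (IrrCharacter G)}
    (hB : IsPBlock M B) {g : G} (hg : IsDefectClass M B g) : ¬ p ∣ orderOf g := by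
  classical
  let _ : Fintype G := Fintype.ofFinite G
  let _ : Fintype (IrrCharacter G) := Fintype.ofFinite _
  intro hdiv
  obtain ⟨χ₀, rfl⟩ := hB
  apply hg.2.1
  rw [blockCoeff_eq_zero_of_singular hM χ₀ g hdiv]
  exact Cfsg.Agent.Lib.Helper82.memLocalIdeal_zero hM.2.1.isPrime

/-- The order of a defect group. -/
theorem IsDefectGroup.card_eq (hM : IsPModular p M) {B : Set (IrrCharacter G)}
    (hB : IsPBlock M B) {D : Subgroup G} (hD : IsDefectGroup p M B D) :
    Nat.card D = p ^ blockDefect p B := Cfsg.Agent.S0908.result p M hM B hB D hD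

/-- Any two defect groups of a block are conjugate. -/
theorem IsDefectGroup.exists_conj (hM : IsPModular p M) {B : Set (IrrCharacter G)}
    (hB : IsPBlock M B) {D D' : Subgroup G} (hD : IsDefectGroup p M B D)
    (hD' : IsDefectGroup p M B D') :
    ∃ t : G, D' = D.map (MulAut.conj t).toMonoidHom := by
  have hp : p.Prime := hM.1
  have hMp : M.IsPrime := hM.2.1.isPrime
  have hcD := IsDefectGroup.card_eq hM hB hD
  have hcD' := IsDefectGroup.card_eq hM hB hD'
  obtain ⟨g, hg, P, rfl⟩ := hD
  obtain ⟨g', hg', P', rfl⟩ := hD'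
  obtain ⟨χ, hχ⟩ := IsPBlock.nonempty hMp hB
  obtain ⟨x, Q, hle⟩ := (Cfsg.Agent.S0911.result p M hM B hB g hg P g').2
    ⟨χ, hχ, hg'.2.2 χ hχ⟩
  -- equal cardinalities
  have hQc : Nat.card ((Q : Subgroup (Subgroup.centralizer ({g'} : Set G))).map
      (Subgroup.centralizer ({g'} : Set G)).subtype) = p ^ blockDefect p B :=
    IsDefectGroup.card_eq hM hB ⟨g', hg', Q, rfl⟩
  have hLc : Nat.card (((P : Subgroup (Subgroup.centralizer ({g} : Set G))).map
      (Subgroup.centralizer ({g} : Set G)).subtype).map (MulAut.conj x).toMonoidHom) =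
      p ^ blockDefect p B := by
    rw [Subgroup.card_map_of_injective (MulAut.conj x).injective]
    exact hcD
  have heq : ((P : Subgroup (Subgroup.centralizer ({g} : Set G))).map
      (Subgroup.centralizer ({g} : Set G)).subtype).map (MulAut.conj x).toMonoidHom =
      (Q : Subgroup (Subgroup.centralizer ({g'} : Set G))).map
        (Subgroup.centralizer ({g'} : Set G)).subtype :=
    Subgroup.eq_of_le_of_card_ge hle (by rw [hQc, hLc])
  -- Sylow conjugacy inside the centralizer of `g'`
  obtain ⟨c, hc⟩ := MulAction.exists_smul_eq (Subgroup.centralizer ({g'} : Set G)) Q P'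
  refine ⟨(c : G) * x, ?_⟩
  rw [← hc, Sylow.coe_subgroup_smul, Subgroup.pointwise_smul_def]
  ext v
  simp only [Subgroup.mem_map, MulDistribMulAction.toMonoidEnd_apply,
    MulDistribMulAction.toMonoidHom_apply, MulEquiv.coe_toMonoidHom, MulAut.conj_apply,
    Subgroup.coe_subtype, exists_exists_and_eq_and]
  constructor
  · rintro ⟨q, hq, rfl⟩
    have hq' : (q : G) ∈ (Q : Subgroup (Subgroup.centralizer ({g'} : Set G))).map
        (Subgroup.centralizer ({g'} : Set G)).subtype := ⟨q, hq, rfl⟩
    rw [← heq] at hq'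
    obtain ⟨w, ⟨u, hu, rfl⟩, hw⟩ := hq'
    refine ⟨u, hu, ?_⟩
    simp only [MulEquiv.coe_toMonoidHom, MulAut.conj_apply, Subgroup.coe_subtype] at hw
    simp only [MulAut.smul_def, MulAut.conj_apply, Subgroup.coe_mul, InvMemClass.coe_inv, ← hw]
    group
  · rintro ⟨u, hu, rfl⟩
    have hq' : x * (u : G) * x⁻¹ ∈ (Q : Subgroup (Subgroup.centralizer ({g'} : Set G))).map
        (Subgroup.centralizer ({g'} : Set G)).subtype := by
      rw [← heq]
      exact ⟨(u : G), ⟨u, hu, rfl⟩, by simp⟩
    obtain ⟨q, hq, hqe⟩ := hq'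
    refine ⟨q, hq, ?_⟩
    simp only [Subgroup.coe_subtype] at hqe
    simp only [MulAut.smul_def, MulAut.conj_apply, Subgroup.coe_mul, InvMemClass.coe_inv, hqe]
    group

end

end Cfsg.Agent.Lib.Helper22
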