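import Mathlib
import Cfsg.Prelude.Def_Blocks
import Cfsg.Agent.Lib.Helper21.OsimaApps
import Cfsg.Agent.Lib.Helper82.BlockBasic
import Cfsg.Agent.Lib.Helper85.Clifford
import Cfsg.Agent.S0933
import Cfsg.Agent.S0963
import Cfsg.Agent.Lib.Helper83.Quotient

/-!
# Covering of blocks (helper22)

For `N` normal in `G` and a block `b` of `N`: `conjSet hN b` is the union of the `G`-conjugates
of `b`; its idempotent coefficient function is `G`-invariant with local-integer values.
Main lemma `mem_conjSet_of_iCC`: if the induced central characters of `ψ` and of some `θ ∈ b`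
agree modulo the local ideal on `N`, then `ψ` lies in a conjugate of `b`.
-/

set_option autoImplicit false
set_option linter.unusedSectionVars false

namespace Cfsg.Agent.Lib.Helper22

open Cfsg
open Cfsg.Agent.Lib.Helper21 Cfsg.Agent.Lib.Helper82 Cfsg.Agent.Lib.Helper83
open Cfsg.Agent.Lib.Helper85
open scoped ComplexConjugate

universe u
variable {G : Type u} [Group G]

section Conj

variable [Finite G] {N : Subgroup G} (hN : N.Normal)

/-- Conjugation of irreducible characters of a normal subgroup. -/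
noncomputable def irrConj (g : G) (ψ : IrrCharacter N) : IrrCharacter N :=
  ⟨conjFun hN (ψ : N → ℂ) g, isIrrCharacter_conjFun hN ψ.2 g⟩

theorem irrConj_apply (g : G) (ψ : IrrCharacter N) (n : N) :
    (irrConj hN g ψ : N → ℂ) n = (ψ : N → ℂ) ⟨g * n * g⁻¹, hN.conj_mem n n.2 g⟩ := rfl

theorem irrConj_irrConj (g h : G) (ψ : IrrCharacter N) :
    irrConj hN g (irrConj hN h ψ) = irrConj hN (h * g) ψ := by
  apply Subtype.ext
  funext n
  simp only [irrConj_apply]
  refine congrArg _ (Subtype.ext ?_)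
  simp only [mul_inv_rev]
  group

theorem irrConj_one (ψ : IrrCharacter N) : irrConj hN 1 ψ = ψ := by
  apply Subtype.ext
  funext n
  simp only [irrConj_apply]
  refine congrArg _ (Subtype.ext ?_)
  simp

/-- The union of the `G`-conjugates of a set of irreducible characters of `N`. -/
def conjSet (b : Set (IrrCharacter N)) : Set (IrrCharacter N) :=
  {ψ | ∃ g : G, ∃ θ ∈ b, ψ = irrConj hN g θ}

theorem subset_conjSet (b : Set (IrrCharacter N)) : b ⊆ conjSet hN b :=
  fun θ hθ => ⟨1, θ, hθ, (irrConj_one hN θ).symm⟩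

theorem irrConj_mem_conjSet {b : Set (IrrCharacter N)} {ψ : IrrCharacter N}
    (hψ : ψ ∈ conjSet hN b) (g : G) : irrConj hN g ψ ∈ conjSet hN b := by
  obtain ⟨h, θ, hθ, rfl⟩ := hψ
  exact ⟨h * g, θ, hθ, irrConj_irrConj hN g h θ⟩

theorem irrConj_mem_conjSet_iff {b : Set (IrrCharacter N)} {ψ : IrrCharacter N} (g : G) :
    irrConj hN g ψ ∈ conjSet hN b ↔ ψ ∈ conjSet hN b := by
  constructor
  · intro h
    have := irrConj_mem_conjSet hN h g⁻¹
    rwa [irrConj_irrConj, mul_inv_cancel, irrConj_one] at this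
  · intro h
    exact irrConj_mem_conjSet hN h g

end Conj

theorem index_centralizer_mulEquiv {H H' : Type*} [Group H] [Group H'] (φ : H ≃* H') (h : H) :
    (Subgroup.centralizer ({φ h} : Set H')).index = (Subgroup.centralizer ({h} : Set H)).index := by
  have : Subgroup.centralizer ({φ h} : Set H') =
      (Subgroup.centralizer ({h} : Set H)).map (φ : H →* H') := by
    ext x
    simp only [Subgroup.mem_map, Subgroup.mem_centralizer_iff, Set.mem_singleton_iff, forall_eq,
      MonoidHom.coe_coe]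
    constructor
    · intro hx
      refine ⟨φ.symm x, ?_, φ.apply_symm_apply x⟩
      apply φ.injective
      rw [map_mul, map_mul, MulEquiv.apply_symm_apply, hx]
    · rintro ⟨y, hy, rfl⟩
      rw [← map_mul, ← map_mul, hy]
  rw [this, Subgroup.index_map_equiv]

theorem centralChar_comp_mulEquiv {H H' : Type*} [Group H] [Group H'] (φ : H ≃* H')
    (χ : H' → ℂ) (h : H) : centralChar (fun x => χ (φ x)) h = centralChar χ (φ h) := by
  unfold centralChar
  simp only [index_centralizer_mulEquiv, map_one]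

section Conj2

variable [Finite G] {N : Subgroup G} (hN : N.Normal)

theorem centralChar_conjFun (θ : N → ℂ) (g : G) (n : N) :
    centralChar (conjFun hN θ g) n =
      centralChar θ ⟨g * n * g⁻¹, hN.conj_mem n n.2 g⟩ := by
  have := hN
  rw [conjFun_eq_comp]
  exact centralChar_comp_mulEquiv (MulAut.conjNormal g : MulAut N) θ n

theorem sameBlock_conjFun {M : Ideal AlgInt} {θ θ' : N → ℂ} (h : SameBlock M θ θ') (g : G) :
    SameBlock M (conjFun hN θ g) (conjFun hN θ' g) := by
  intro n
  rw [centralChar_conjFun, centralChar_conjFun]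
  exact h _

theorem blockOf_subset_conjSet {M : Ideal AlgInt} (hM : M.IsPrime) {b : Set (IrrCharacter N)}
    (hb : IsPBlock M b) {ψ : IrrCharacter N} (hψ : ψ ∈ conjSet hN b) :
    blockOf M (ψ : N → ℂ) ⊆ conjSet hN b := by
  obtain ⟨g, θ, hθ, rfl⟩ := hψ
  intro ψ' hψ'
  have h1 : SameBlock M (irrConj hN g θ : N → ℂ) (ψ' : N → ℂ) := hψ'
  have h2 := sameBlock_conjFun hN h1 g⁻¹
  have h3 : conjFun hN (irrConj hN g θ : N → ℂ) g⁻¹ = (θ : N → ℂ) := by
    have := congrArg Subtype.val (irrConj_irrConj hN g⁻¹ g θ)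
    rw [mul_inv_cancel, irrConj_one] at this
    exact this
  rw [h3] at h2
  have h4 : irrConj hN g⁻¹ ψ' ∈ b := IsPBlock.mem_of_sameBlock hM hb hθ h2
  refine ⟨g, irrConj hN g⁻¹ ψ', h4, ?_⟩
  rw [irrConj_irrConj, inv_mul_cancel, irrConj_one]

end Conj2


/-- The idempotent of a union of blocks has local-integer coefficients. -/
theorem memLocalRing_blockCoeff_of_union {H : Type u} [Group H] [Fintype H]
    [Fintype (IrrCharacter H)] {M : Ideal AlgInt} (hM : M.IsPrime)
    (A : Set (IrrCharacter H)) (hA : ∀ ψ ∈ A, blockOf M (ψ : H → ℂ) ⊆ A) (h : H) :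
    MemLocalRing M (blockCoeff A h) := by
  classical
  set 𝓑 : Finset (Set (IrrCharacter H)) :=
    (Finset.univ.filter (fun ψ : IrrCharacter H => ψ ∈ A)).image
      (fun ψ : IrrCharacter H => blockOf M (ψ : H → ℂ)) with h𝓑
  have hind : ∀ (ψ : IrrCharacter H) (c : ℂ),
      (if ψ ∈ A then c else 0) = ∑ b' ∈ 𝓑, (if ψ ∈ b' then c else 0) := by
    intro ψ c
    by_cases hψ : ψ ∈ A
    · rw [if_pos hψ, Finset.sum_eq_single (blockOf M (ψ : H → ℂ))]
      · rw [if_pos (mem_blockOf_self hM ψ)]
      · intro b' hb' hne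
        rw [if_neg]
        intro hmem
        apply hne
        obtain ⟨ψ₀, -, rfl⟩ := Finset.mem_image.mp hb'
        exact (blockOf_eq_of_mem hM hmem).symm
      · intro hnot
        exfalso
        apply hnot
        exact Finset.mem_image.mpr ⟨ψ, Finset.mem_filter.mpr ⟨Finset.mem_univ _, hψ⟩, rfl⟩
    · rw [if_neg hψ]
      symm
      apply Finset.sum_eq_zero
      intro b' hb'
      obtain ⟨ψ₀, hψ₀, rfl⟩ := Finset.mem_image.mp hb'
      rw [if_neg]
      intro hmem
      exact hψ (hA ψ₀ (Finset.mem_filter.mp hψ₀).2 hmem)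
  have hsum : blockCoeff A h = ∑ b' ∈ 𝓑, blockCoeff b' h := by
    rw [blockCoeff_eq_sum A]
    simp_rw [blockCoeff_eq_sum]
    rw [← Finset.mul_sum, Finset.sum_comm]
    congr 1
    apply Finset.sum_congr rfl
    intro ψ _
    exact hind ψ _
  rw [hsum]
  apply memLocalRing_sum hM
  intro b' hb'
  obtain ⟨ψ₀, -, rfl⟩ := Finset.mem_image.mp hb'
  exact memLocalRing_blockCoeff_blockOf hM ψ₀ h


section Key

variable [Fintype G] {N : Subgroup G} (hN : N.Normal) [Fintype N]

theorem blockCoeff_conjSet_conj (b : Set (IrrCharacter N)) (g : G) (n : N) :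
    blockCoeff (conjSet hN b) (⟨g * n * g⁻¹, hN.conj_mem n n.2 g⟩ : N) =
      blockCoeff (conjSet hN b) n := by
  unfold blockCoeff
  congr 1
  apply finsum_mem_eq_of_bijOn (irrConj hN g)
  · refine ⟨fun ψ hψ => irrConj_mem_conjSet hN hψ g, ?_, ?_⟩
    · intro ψ _ ψ' _ h
      have := congrArg (irrConj hN g⁻¹) h
      rwa [irrConj_irrConj, irrConj_irrConj, mul_inv_cancel, irrConj_one, irrConj_one] at this
    · intro ψ hψ
      refine ⟨irrConj hN g⁻¹ ψ, irrConj_mem_conjSet hN hψ g⁻¹, ?_⟩
      rw [irrConj_irrConj, inv_mul_cancel, irrConj_one]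
  · intro ψ _
    rw [irrConj_apply, irrConj_apply]
    congr 2
    apply congrArg
    apply Subtype.ext
    simp

/-- For a `G`-invariant function `a` on the normal subgroup `N`, summing against `ψ` is the same
as summing against the `G`-average of `ψ`. -/
theorem sum_mul_eq_sum_mul_conjSum (a : N → ℂ)
    (ha : ∀ (g : G) (n : N), a ⟨g * n * g⁻¹, hN.conj_mem n n.2 g⟩ = a n) (ψ : N → ℂ) :
    ∑ n : N, a n * ψ n = (Fintype.card G : ℂ)⁻¹ *
      ∑ n : N, a n * (haveI := hN; Cfsg.Agent.S0963.conjSum N ψ n) := by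
  have := hN
  have hcard : (Fintype.card G : ℂ) ≠ 0 := by exact_mod_cast Fintype.card_ne_zero
  unfold Cfsg.Agent.S0963.conjSum
  have h1 : ∑ n : N, a n * ∑ g : G, ψ (MulAut.conjNormal g n) =
      ∑ g : G, ∑ n : N, a n * ψ (MulAut.conjNormal g n) := by
    simp_rw [Finset.mul_sum]
    rw [Finset.sum_comm]
  have h2 : ∀ g : G, ∑ n : N, a n * ψ (MulAut.conjNormal g n) = ∑ n : N, a n * ψ n := by
    intro g
    apply Fintype.sum_equiv (MulAut.conjNormal g : MulAut N).toEquiv
    intro n
    have he : (MulAut.conjNormal g : MulAut N).toEquiv n =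
        ⟨g * n * g⁻¹, hN.conj_mem n n.2 g⟩ := Subtype.ext (MulAut.conjNormal_apply g n)
    have : a ((MulAut.conjNormal g : MulAut N).toEquiv n) = a n := by
      rw [he]; exact ha g n
    rw [this]
    rfl
  rw [h1, Finset.sum_congr rfl (fun g _ => h2 g), Finset.sum_const, Finset.card_univ,
    nsmul_eq_mul]
  field_simp

theorem inducedCentralChar_conj (ψ : N → ℂ) (g : G) (x : G) :
    inducedCentralChar N ψ (g * x * g⁻¹) = inducedCentralChar N ψ x := by
  unfold inducedCentralChar
  have : {h : N | IsConj (g * x * g⁻¹) (h : G)} = {h : N | IsConj x (h : G)} := by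
    ext h
    simp only [Set.mem_ofPred_eq]
    have hc : IsConj x (g * x * g⁻¹) := isConj_iff.mpr ⟨g, rfl⟩
    exact ⟨fun h1 => hc.trans h1, fun h1 => hc.symm.trans h1⟩
  rw [this]

/-- `omega a ψ` in terms of the induced central character, for `G`-invariant `a`. -/
theorem omega_eq_sum_iCC (a : N → ℂ)
    (ha : ∀ (g : G) (n : N), a ⟨g * n * g⁻¹, hN.conj_mem n n.2 g⟩ = a n) (ψ : N → ℂ) :
    omega a ψ = ∑ n : N, a n * (inducedCentralChar N ψ (n : G) /
      ((Subgroup.centralizer ({(n : G)} : Set G)).index : ℂ)) := by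
  have := hN
  unfold omega
  rw [sum_mul_eq_sum_mul_conjSum hN a ha ψ, Finset.mul_sum, Finset.sum_div]
  apply Finset.sum_congr rfl
  intro n _
  rw [Cfsg.Agent.S0963.inducedCentralChar_eq N ψ n]
  have hcard : (Fintype.card G : ℂ) ≠ 0 := by exact_mod_cast Fintype.card_ne_zero
  have hC : (Nat.card (Subgroup.centralizer ({(n : G)} : Set G)) : ℂ) ≠ 0 := by
    have : 0 < Nat.card (Subgroup.centralizer ({(n : G)} : Set G)) := Nat.card_pos
    exact_mod_cast this.ne'
  have hidx : ((Subgroup.centralizer ({(n : G)} : Set G)).index : ℂ) ≠ 0 := by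
    have : (Subgroup.centralizer ({(n : G)} : Set G)).index ≠ 0 := Subgroup.index_ne_zero_of_finite
    exact_mod_cast this
  have hmul : (Fintype.card G : ℂ) = (Nat.card (Subgroup.centralizer ({(n : G)} : Set G)) : ℂ) *
      ((Subgroup.centralizer ({(n : G)} : Set G)).index : ℂ) := by
    rw [← Nat.cast_mul, Subgroup.card_mul_index, Nat.card_eq_fintype_card]
  rw [hmul]
  by_cases hψ : ψ 1 = 0
  · simp [hψ]
  · field_simp

/-- Key lemma. -/
theorem omega_sub_mem_of_iCC {M : Ideal AlgInt} (hM : M.IsMaximal) (a : N → ℂ)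
    (ha : ∀ (g : G) (n : N), a ⟨g * n * g⁻¹, hN.conj_mem n n.2 g⟩ = a n)
    (haR : ∀ n, MemLocalRing M (a n)) (θ ψ : N → ℂ)
    (hyp : ∀ n : N, MemLocalIdeal M
      (inducedCentralChar N ψ (n : G) - inducedCentralChar N θ (n : G))) :
    MemLocalIdeal M (omega a ψ - omega a θ) := by
  classical
  have hprime : M.IsPrime := hM.isPrime
  rw [omega_eq_sum_iCC hN a ha ψ, omega_eq_sum_iCC hN a ha θ, ← Finset.sum_sub_distrib]
  set φ : N → ℂ := fun n => a n * (inducedCentralChar N ψ (n : G) /
      ((Subgroup.centralizer ({(n : G)} : Set G)).index : ℂ)) -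
    a n * (inducedCentralChar N θ (n : G) /
      ((Subgroup.centralizer ({(n : G)} : Set G)).index : ℂ)) with hφ
  have hφinv : ∀ (g : G) (n : N), φ ⟨g * n * g⁻¹, hN.conj_mem n n.2 g⟩ = φ n := by
    intro g n
    simp only [hφ]
    rw [ha g n, inducedCentralChar_conj, inducedCentralChar_conj]
    have := index_centralizer_mulEquiv (MulAut.conj g) (n : G)
    rw [MulAut.conj_apply] at this
    rw [this]
  have hsum : ∑ n : N, φ n = ∑ x ∈ Finset.univ.filter (fun x : G => x ∈ N),
      Cfsg.extendByZero N φ x := by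
    rw [Finset.sum_filter, ← sum_subgroup_eq_sum_ite N (Cfsg.extendByZero N φ)]
    apply Finset.sum_congr rfl
    intro n _
    rw [Cfsg.Agent.S0932.extendByZero_apply_mem]
  rw [hsum]
  apply Cfsg.Agent.S0933.memLocalIdeal_sum_stable hM
  · intro h hh k
    simp only [Finset.mem_filter, Finset.mem_univ, true_and] at hh ⊢
    exact hN.conj_mem h hh k
  · intro h k
    by_cases hh : h ∈ N
    · have h1 := Cfsg.Agent.S0932.extendByZero_apply_mem N φ ⟨h, hh⟩
      have h2 := Cfsg.Agent.S0932.extendByZero_apply_mem N φ ⟨k * h * k⁻¹, hN.conj_mem h hh k⟩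
      simp only at h1 h2
      rw [h1, h2]
      exact hφinv k ⟨h, hh⟩
    · have hh' : k * h * k⁻¹ ∉ N := by
        intro hcon
        apply hh
        have := hN.conj_mem _ hcon k⁻¹
        simpa [mul_assoc] using this
      rw [Cfsg.Agent.S0932.extendByZero_apply_not_mem N φ h hh,
        Cfsg.Agent.S0932.extendByZero_apply_not_mem N φ _ hh']
  · intro h hh
    simp only [Finset.mem_filter, Finset.mem_univ, true_and] at hh
    have h1 := Cfsg.Agent.S0932.extendByZero_apply_mem N φ ⟨h, hh⟩
    simp only at h1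
    rw [h1]
    simp only [hφ]
    have hidx : ((Subgroup.centralizer ({h} : Set G)).index : ℂ) ≠ 0 := by
      have : (Subgroup.centralizer ({h} : Set G)).index ≠ 0 := Subgroup.index_ne_zero_of_finite
      exact_mod_cast this
    have : ((Subgroup.centralizer ({h} : Set G)).index : ℂ) *
        (a ⟨h, hh⟩ * (inducedCentralChar N ψ h / ((Subgroup.centralizer ({h} : Set G)).index : ℂ)) -
          a ⟨h, hh⟩ * (inducedCentralChar N θ h /
            ((Subgroup.centralizer ({h} : Set G)).index : ℂ))) =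
        a ⟨h, hh⟩ * (inducedCentralChar N ψ h - inducedCentralChar N θ h) := by
      field_simp
    rw [this]
    exact memLocalIdeal_mul_left hprime (haR _) (hyp ⟨h, hh⟩)


/-- If the induced central characters of `ψ` and of some `θ ∈ b` agree modulo the local ideal
on `N`, then `ψ` lies in a `G`-conjugate of the block `b`. -/
theorem mem_conjSet_of_iCC {M : Ideal AlgInt} (hM : M.IsMaximal)
    {b : Set (IrrCharacter N)} (hb : IsPBlock M b) {θ : IrrCharacter N} (hθ : θ ∈ b)
    (ψ : IrrCharacter N)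
    (hyp : ∀ n : N, MemLocalIdeal M
      (inducedCentralChar N (ψ : N → ℂ) (n : G) - inducedCentralChar N (θ : N → ℂ) (n : G))) :
    ψ ∈ conjSet hN b := by
  classical
  let _ : Fintype (IrrCharacter N) := Fintype.ofFinite _
  have hprime : M.IsPrime := hM.isPrime
  have hkey := omega_sub_mem_of_iCC hN hM (blockCoeff (conjSet hN b))
    (fun g n => blockCoeff_conjSet_conj hN b g n)
    (fun n => memLocalRing_blockCoeff_of_union hprime _
      (fun ψ' hψ' => blockOf_subset_conjSet hN hprime hb hψ') n)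
    (θ : N → ℂ) (ψ : N → ℂ) hyp
  rw [omega_blockCoeff, omega_blockCoeff, if_pos (subset_conjSet hN b hθ)] at hkey
  by_contra hψ
  rw [if_neg hψ, zero_sub] at hkey
  have := memLocalIdeal_neg hkey
  rw [neg_neg] at this
  exact not_memLocalIdeal_one hprime this

end Key

end Cfsg.Agent.Lib.Helper22
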