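import Mathlib
import Cfsg.Prelude.Def_Blocks
import Cfsg.Agent.Lib.Helper82.WeakOrth
import Cfsg.Agent.Lib.Helper82.BlockBasic
import Cfsg.Agent.Lib.Helper34.GenChar
import Cfsg.Agent.Lib.Helper04.IndFun
import Cfsg.Agent.Lib.Helper83.Decompose
import Cfsg.Agent.Lib.Helper33.Constituent

/-!
# Blocks are determined on `p`-regular classes (helper22)

* `sameBlock_of_forall_regular`: if the central characters of `χ`, `ψ` agree modulo the local
  ideal on all `p`-regular elements then `χ`, `ψ` lie in the same block (uses Osima's theorem with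
  support, `Helper82.WeakOrth`).
* `eq_of_sameBlock_of_pprime`: blocks of a `p'`-group are singletons.
* `mem_of_regular_of_index`: `p`-regular elements lie in a normal subgroup of `p`-power index.
* `exists_irr_over`: every irreducible character of a subgroup lies under one of the group.
* `exists_constituent`: a nonzero character has an irreducible constituent.
* `blockCoeff_one_ne_zero`.
-/

set_option autoImplicit false
set_option linter.unusedSectionVars false

namespace Cfsg.Agent.Lib.Helper22

open Cfsg
open Cfsg.Agent.Lib.Helper21 Cfsg.Agent.Lib.Helper82 Cfsg.Agent.Lib.Helper83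
open scoped ComplexConjugate

universe u
variable {G : Type u} [Group G]

/-- If the central characters of two irreducible characters agree modulo the local ideal on
`p`-regular elements, they lie in the same block. -/
theorem sameBlock_of_forall_regular [Fintype G] {p : ℕ} {M : Ideal AlgInt} (hM : IsPModular p M)
    (χ ψ : IrrCharacter G)
    (h : ∀ g : G, ¬ p ∣ orderOf g →
      MemLocalIdeal M (centralChar (χ : G → ℂ) g - centralChar (ψ : G → ℂ) g)) :
    SameBlock M (χ : G → ℂ) (ψ : G → ℂ) := by
  classical
  let _ : Fintype (IrrCharacter G) := Fintype.ofFinite _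
  have hprime : M.IsPrime := hM.2.1.isPrime
  set B := blockOf M (χ : G → ℂ) with hB
  have hcf := blockCoeff_isClassFunction B
  have hdiff : MemLocalIdeal M (omega (blockCoeff B) (χ : G → ℂ) -
      omega (blockCoeff B) (ψ : G → ℂ)) := by
    rw [omega_eq_sum_classes hcf (isClassFunction_irr χ),
      omega_eq_sum_classes hcf (isClassFunction_irr ψ), ← Finset.sum_sub_distrib]
    apply memLocalIdeal_sum hprime
    intro K _
    rw [← mul_sub]
    by_cases hK : p ∣ orderOf (Quotient.out K)
    · rw [blockCoeff_eq_zero_of_singular hM χ _ hK, zero_mul]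
      exact memLocalIdeal_zero hprime
    · exact memLocalIdeal_mul_left hprime (memLocalRing_blockCoeff_blockOf hprime χ _) (h _ hK)
  rw [omega_blockCoeff, omega_blockCoeff, if_pos (mem_blockOf_self hprime χ)] at hdiff
  by_contra hcon
  have hψ : ψ ∉ B := hcon
  rw [if_neg hψ, sub_zero] at hdiff
  exact not_memLocalIdeal_one hprime hdiff

/-- In a group of order prime to `p`, each block is a singleton. -/
theorem eq_of_sameBlock_of_pprime [Fintype G] {p : ℕ} {M : Ideal AlgInt} (hM : IsPModular p M)
    (hG : ¬ p ∣ Nat.card G) (θ θ' : IrrCharacter G)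
    (h : SameBlock M (θ : G → ℂ) (θ' : G → ℂ)) : θ = θ' := by
  classical
  let _ : Fintype (IrrCharacter G) := Fintype.ofFinite _
  have hprime : M.IsPrime := hM.2.1.isPrime
  have hcard : MemLocalRing M ((Nat.card G : ℂ)⁻¹) := by
    apply memLocalRing_inv (memLocalRing_natCast hprime _)
    rw [memLocalIdeal_natCast_iff hM]
    exact hG
  have hA : ∀ g : G, MemLocalRing M (blockCoeff ({θ} : Set (IrrCharacter G)) g) := by
    intro g
    rw [blockCoeff_eq_sum]
    apply memLocalRing_mul hprime hcard
    apply memLocalRing_sum hprime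
    intro χ _
    split_ifs
    · apply memLocalRing_mul hprime
      · exact memLocalRing_of_isIntegral hprime
          (IsCharacter.isIntegral (IsIrrCharacter.isCharacter χ.2) 1)
      · have h1 := IsCharacter.isIntegral (IsIrrCharacter.isCharacter χ.2) g⁻¹
        rw [char_inv (IsIrrCharacter.isCharacter χ.2)] at h1
        exact memLocalRing_of_isIntegral hprime h1
    · exact memLocalRing_zero hprime
  have := blockOf_subset_of_memLocalRing_blockCoeff hprime ({θ} : Set (IrrCharacter G)) hA
    (Set.mem_singleton θ) h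
  exact (Set.mem_singleton_iff.mp this).symm

/-- `p`-regular elements lie in every normal subgroup of `p`-power index. -/
theorem mem_of_regular_of_index [Finite G] {p : ℕ} [Fact p.Prime] (N : Subgroup G) [N.Normal]
    {k : ℕ} (hidx : N.index = p ^ k) {g : G} (hg : ¬ p ∣ orderOf g) : g ∈ N := by
  have hp : p.Prime := Fact.out
  rw [← QuotientGroup.eq_one_iff]
  have h1 : orderOf (QuotientGroup.mk g : G ⧸ N) ∣ orderOf g :=
    orderOf_dvd_of_pow_eq_one (by rw [← QuotientGroup.mk_pow, pow_orderOf_eq_one]; rfl)
  have h2 : orderOf (QuotientGroup.mk g : G ⧸ N) ∣ p ^ k := by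
    rw [← hidx, Subgroup.index_eq_card]
    exact orderOf_dvd_natCard _
  rw [← orderOf_eq_one_iff]
  obtain ⟨j, -, hj⟩ := (Nat.dvd_prime_pow hp).mp h2
  rcases Nat.eq_zero_or_pos j with rfl | hjpos
  · simpa using hj
  · exfalso
    apply hg
    exact dvd_trans (by rw [hj]; exact dvd_pow_self p hjpos.ne') h1

/-- A nonzero character has an irreducible constituent. -/
theorem exists_constituent {H : Type*} [Group H] [Fintype H] {φ : H → ℂ}
    (hφ : Cfsg.IsCharacter H φ) (h1 : φ 1 ≠ 0) :
    ∃ ψ : Cfsg.IrrCharacter H, Cfsg.classInner φ (ψ : H → ℂ) ≠ 0 := by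
  classical
  let _ : Fintype (IrrCharacter H) := Fintype.ofFinite _
  by_contra hcon
  push Not at hcon
  have hexp := char_eq_sum_irrMult hφ
  have hz : ∀ ψ : IrrCharacter H, (irrMult φ ψ : ℂ) = 0 := by
    intro ψ
    rw [irrMult_cast hφ, hcon ψ]
  apply h1
  rw [hexp]
  simp [hz]

/-- Every irreducible character of a subgroup lies under an irreducible character of the
group. -/
theorem exists_irr_over [Fintype G] (H : Subgroup G) [Fintype H] (θ : IrrCharacter H) :
    ∃ χ : IrrCharacter G, classInner (fun h : H => (χ : G → ℂ) h) (θ : H → ℂ) ≠ 0 := by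
  have hΦ : IsCharacter G (indFun H (θ : H → ℂ)) :=
    Cfsg.Agent.Lib.Helper34.isCharacter_indFun H (isCharacter_of_irr θ.2)
  have h1 : indFun H (θ : H → ℂ) 1 ≠ 0 := by
    rw [Cfsg.Agent.Lib.Helper33.indFun_one]
    have hidx : (H.index : ℂ) ≠ 0 := by
      have : H.index ≠ 0 := Subgroup.index_ne_zero_of_finite
      exact_mod_cast this
    exact mul_ne_zero hidx (IsIrrCharacter.apply_one_ne_zero θ.2)
  obtain ⟨χ, hχ⟩ := exists_constituent hΦ h1
  refine ⟨χ, ?_⟩
  rw [Cfsg.Agent.Lib.Helper04.frobenius_reciprocity H (θ : H → ℂ) (χ : G → ℂ)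
    (isClassFunction_irr χ)] at hχ
  intro hcon
  apply hχ
  rw [← classInner_conj_symm, hcon, map_zero]

end Cfsg.Agent.Lib.Helper22
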