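import Mathlib
import Cfsg.Agent.S3995

/-!
# Definitions for pack K-NSE (S3431): groups with the same set of same-order-element counts as `A_n`

`S m` stands for the number of elements of order `m` (`Cfsg.Agent.S3995.s G m`), `N` for the group
order, `V` for the (finite) set of values of `S` on the spectrum.
-/

set_option autoImplicit false

namespace Cfsg.Agent.Lib.Helper22.Nse

/-- The abstract numerical situation. -/
structure NseHyp (N : ℕ) (S : ℕ → ℕ) (V : Finset ℕ) : Prop where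
  pos : 0 < N
  one : S 1 = 1
  frob : ∀ m, m ∣ N → m ∣ ∑ d ∈ m.divisors, S d
  dvd : ∀ m, S m ≠ 0 → m ∣ N
  closed : ∀ m d, S m ≠ 0 → d ∣ m → S d ≠ 0
  cauchy : ∀ p, p.Prime → p ∣ N → S p ≠ 0
  phi : ∀ m, Nat.totient m ∣ S m
  total : N = ∑ d ∈ N.divisors, S d
  mem : ∀ m, S m ≠ 0 → S m ∈ V
  attained : ∀ v ∈ V, ∃ m, S m = v

/-- Sylow counting for a cyclic Sylow `p`-subgroup of order `p ^ k`:
the elements of order `p ^ k` are the generators of the Sylow `p`-subgroups. -/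
def SylowHyp (N : ℕ) (S : ℕ → ℕ) : Prop :=
  ∀ p k, p.Prime → 0 < k → p ^ k ∣ N → ¬ p ^ (k + 1) ∣ N → S (p ^ k) ≠ 0 →
    ∃ n, S (p ^ k) = Nat.totient (p ^ k) * n ∧ n % p = 1 ∧ n ∣ N

/-- First consequences for `nse(A_6) = {1, 45, 80, 90, 144}`. -/
structure A6Basic (N : ℕ) (S : ℕ → ℕ) : Prop where
  two : S 2 = 45
  val : ∀ m, 3 ≤ m → S m = 0 ∨ S m = 80 ∨ S m = 90 ∨ S m = 144
  three : 3 ∣ N → S 3 = 80
  five : 5 ∣ N → S 5 = 144
  seven : 7 ∣ N → S 7 = 90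
  primes : ∀ p, p.Prime → p ∣ N → p = 2 ∨ p = 3 ∨ p = 5 ∨ p = 7

/-- Prime-power information for `nse(A_6)`. -/
structure A6Parts (N : ℕ) (S : ℕ → ℕ) : Prop where
  not7 : ¬ 7 ∣ N
  not16 : ¬ 16 ∣ N
  four : 4 ∣ N → S 4 = 90
  not243 : ¬ 243 ∣ N
  nine : 27 ∣ N → S 9 = 0
  not25 : ¬ 25 ∣ N

/-- First consequences for `nse(A_5) = {1, 15, 20, 24}`. -/
structure A5Basic (N : ℕ) (S : ℕ → ℕ) : Prop where
  two : S 2 = 15
  val : ∀ m, 3 ≤ m → S m = 0 ∨ S m = 20 ∨ S m = 24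
  three : 3 ∣ N → S 3 = 20
  five : 5 ∣ N → S 5 = 24
  primes : ∀ p, p.Prime → p ∣ N → p = 2 ∨ p = 3 ∨ p = 5

end Cfsg.Agent.Lib.Helper22.Nse
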