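import Mathlib
import Cfsg.Prelude.Def_GeometricClasses
import Cfsg.Agent.Lib.Helper50.Frame3
import Cfsg.Agent.Lib.Helper50.StdForms

/-!
# K-OOddMax-XB : `three_spaces_le_lines_of_card_three` (keystone 581408, architect helper8)

Over the field with three elements a non-degenerate quadratic 3-space has a canonical orthogonal frame, so an
isometric orthogonal decomposition into 3-spaces refines canonically to a decomposition into lines.
-/

set_option autoImplicit false
set_option linter.unusedSectionVars false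

namespace Cfsg.Agent.Lib.Helper22.OOddMax

open Cfsg Cfsg.Geo
open Module QuadraticMap
open scoped Matrix

section gen

variable {F : Type*} [Field F] [Fintype F] {ι : Type} [Fintype ι] [DecidableEq ι]

theorem cases_of_card_three (hq : Fintype.card F = 3) (x : F) : x = 0 ∨ x = 1 ∨ x = -1 := by
  by_cases hx : x = 0
  · exact Or.inl hx
  · right
    exact mul_self_eq_one_iff.mp
      (Cfsg.Agent.Lib.Helper50.mul_self_eq_one_of_card_le_three (by omega) x hx)

/-- the vectors of norm `c` in a 3-space with an orthogonal basis of vectors of norm `c` -/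
theorem frame_of_equal_norm (hq : Fintype.card F = 3) (Q : QuadraticForm F (ι → F)) (N : Submodule F (ι → F))
    (u : Fin 3 → ι → F) (c : F) (hc : c ≠ 0) (hQu : ∀ j, Q (u j) = c)
    (horth : ∀ i j, i ≠ j → polar (⇑Q) (u i) (u j) = 0)
    (hspan : ∀ w ∈ N, ∃ x : Fin 3 → F, w = ∑ j, x j • u j) :
    ∀ w ∈ N, Q w = c → ∃ j, w = u j ∨ w = -u j := by
  intro w hw hwc
  have h2 := Cfsg.Agent.Lib.Helper50.two_ne_zero_of_card_three hq
  obtain ⟨x, rfl⟩ := hspan w hw
  rw [Cfsg.Agent.Lib.Helper50.Q_sum_orth Q u horth x Finset.univ] at hwc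
  simp only [hQu, Fin.sum_univ_three] at hwc ⊢
  have hsum : x 0 * x 0 + x 1 * x 1 + x 2 * x 2 = 1 := by
    have : (x 0 * x 0 + x 1 * x 1 + x 2 * x 2) * c = 1 * c := by linear_combination hwc
    exact mul_right_cancel₀ hc this
  rcases cases_of_card_three hq (x 0) with h0 | h0 | h0 <;>
  rcases cases_of_card_three hq (x 1) with h1 | h1 | h1 <;>
  rcases cases_of_card_three hq (x 2) with h2' | h2' | h2' <;>
  rw [h0, h1, h2'] at hsum ⊢ <;>
  first
  | (refine ⟨0, ?_⟩; simp; done)
  | (refine ⟨1, ?_⟩; simp; done)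
  | (refine ⟨2, ?_⟩; simp; done)
  | (exfalso; simp at hsum; done)
  | (exfalso; apply h2; linear_combination hsum)

theorem three_eq_zero_of_card_three (hq : Fintype.card F = 3) : (3 : F) = 0 := by
  have h := Nat.cast_card_eq_zero F
  rw [hq] at h
  exact_mod_cast h

/-- a non-degenerate 3-space over the field with three elements has an orthogonal basis of vectors of equal norm
`c`, and these are, up to sign, the only vectors of norm `c`. -/
theorem exists_frame (hq : Fintype.card F = 3) (Q : QuadraticForm F (ι → F)) (N : Submodule F (ι → F))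
    (hN : finrank F N = 3) (hnd : IsNondegenerateOn (polar (⇑Q)) N) :
    ∃ (c : F) (b : Fin 3 → ι → F), c ≠ 0 ∧ (∀ j, b j ∈ N) ∧ (∀ j, Q (b j) = c) ∧
      (∀ i j, i ≠ j → polar (⇑Q) (b i) (b j) = 0) ∧ (∀ w ∈ N, ∃ x : Fin 3 → F, w = ∑ j, x j • b j) ∧
      ∀ w ∈ N, Q w = c → ∃ j, w = b j ∨ w = -b j := by
  have h2 := Cfsg.Agent.Lib.Helper50.two_ne_zero_of_card_three hq
  have h3 := three_eq_zero_of_card_three hq
  have hle : Fintype.card F ≤ 3 := by omega
  obtain ⟨u, huN, hu0, horth, hspan⟩ := Cfsg.Agent.Lib.Helper50.exists_orthogonal_basis_sub h2 Q N 3 hN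
  have ha : ∀ j, Q (u j) ≠ 0 := by
    intro j hj
    obtain ⟨-, ⟨y, hyN, hy⟩⟩ := hnd (u j) (huN j) (hu0 j)
    apply hy
    obtain ⟨x, rfl⟩ := hspan y hyN
    rw [Cfsg.Agent.Lib.Helper50.polar_sum_right_fin]
    apply Finset.sum_eq_zero
    intro m _
    by_cases hmj : m = j
    · subst hmj
      rw [polar_self, hj, smul_zero, mul_zero]
    · rw [horth j m (Ne.symm hmj), mul_zero]
  have hpm : ∀ j, Q (u j) = 1 ∨ Q (u j) = -1 := fun j =>
    mul_self_eq_one_iff.mp (Cfsg.Agent.Lib.Helper50.mul_self_eq_one_of_card_le_three hle _ (ha j))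
  -- all norms equal
  have keyeq : Q (u 0) = Q (u 1) → Q (u 0) = Q (u 2) → ∃ (c : F) (b : Fin 3 → ι → F), c ≠ 0 ∧ (∀ j, b j ∈ N) ∧
      (∀ j, Q (b j) = c) ∧
      (∀ i j, i ≠ j → polar (⇑Q) (b i) (b j) = 0) ∧ (∀ w ∈ N, ∃ x : Fin 3 → F, w = ∑ j, x j • b j) ∧
      ∀ w ∈ N, Q w = c → ∃ j, w = b j ∨ w = -b j := by
    intro e01 e02
    have hall : ∀ j, Q (u j) = Q (u 0) := by
      intro j
      fin_cases j
      · rfl
      · exact e01.symm
      · exact e02.symm
    exact ⟨Q (u 0), u, ha 0, huN, hall, horth, hspan,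
      frame_of_equal_norm hq Q N u (Q (u 0)) (ha 0) hall horth hspan⟩
  -- two norms equal, the third one different
  have key : ∀ i j l : Fin 3, (∀ f : Fin 3 → (ι → F), ∑ m, f m = f i + f j + f l) → i ≠ j → i ≠ l → j ≠ l →
      Q (u i) = Q (u j) → Q (u l) = -Q (u i) →
      ∃ (c : F) (b : Fin 3 → ι → F), c ≠ 0 ∧ (∀ j, b j ∈ N) ∧ (∀ j, Q (b j) = c) ∧
      (∀ i j, i ≠ j → polar (⇑Q) (b i) (b j) = 0) ∧ (∀ w ∈ N, ∃ x : Fin 3 → F, w = ∑ j, x j • b j) ∧
      ∀ w ∈ N, Q w = c → ∃ j, w = b j ∨ w = -b j := by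
    intro i j l huniv hij hil hjl eij elj
    have hb0 : ∀ k, (![u l, u i + u j, u i - u j] : Fin 3 → ι → F) k ∈ N := by
      intro k
      fin_cases k
      · exact huN l
      · exact N.add_mem (huN i) (huN j)
      · exact N.sub_mem (huN i) (huN j)
    have hQadd : Q (u i + u j) = Q (u l) := by
      rw [QuadraticMap.map_add Q (u i) (u j), horth i j hij, elj, ← eij]
      linear_combination Q (u i) * h3
    have hQsub : Q (u i - u j) = Q (u l) := by
      rw [sub_eq_add_neg, QuadraticMap.map_add Q (u i) (-u j), QuadraticMap.map_neg, polar_neg_right,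
        horth i j hij, elj, ← eij]
      linear_combination Q (u i) * h3
    have hQb : ∀ k, Q ((![u l, u i + u j, u i - u j] : Fin 3 → ι → F) k) = Q (u l) := by
      intro k
      fin_cases k
      · rfl
      · exact hQadd
      · exact hQsub
    have h01 : polar (⇑Q) (u l) (u i + u j) = 0 := by
      rw [polar_add_right, horth l i (Ne.symm hil), horth l j (Ne.symm hjl), add_zero]
    have h02 : polar (⇑Q) (u l) (u i - u j) = 0 := by
      rw [polar_sub_right, horth l i (Ne.symm hil), horth l j (Ne.symm hjl), sub_zero]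
    have h12 : polar (⇑Q) (u i + u j) (u i - u j) = 0 := by
      rw [polar_add_left, polar_sub_right, polar_sub_right, horth i j hij, horth j i (Ne.symm hij),
        polar_self, polar_self, eij]
      simp
    have horthb : ∀ a b : Fin 3, a ≠ b → polar (⇑Q) ((![u l, u i + u j, u i - u j] : Fin 3 → ι → F) a)
        ((![u l, u i + u j, u i - u j] : Fin 3 → ι → F) b) = 0 := by
      intro a b hab
      fin_cases a <;> fin_cases b
      · exact absurd rfl hab
      · exact h01
      · exact h02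
      · exact (polar_comm _ _ _).trans h01
      · exact absurd rfl hab
      · exact h12
      · exact (polar_comm _ _ _).trans h02
      · exact (polar_comm _ _ _).trans h12
      · exact absurd rfl hab
    have hspanb : ∀ w ∈ N, ∃ x : Fin 3 → F,
        w = ∑ k, x k • (![u l, u i + u j, u i - u j] : Fin 3 → ι → F) k := by
      intro w hw
      obtain ⟨x, rfl⟩ := hspan w hw
      refine ⟨![x l, -(x i + x j), -(x i - x j)], ?_⟩
      rw [huniv, Fin.sum_univ_three]
      ext k
      simp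
      linear_combination (x i * u i k + x j * u j k) * h3
    exact ⟨Q (u l), _, ha l, hb0, hQb, horthb, hspanb,
      frame_of_equal_norm hq Q N _ (Q (u l)) (ha l) hQb horthb hspanb⟩
  have hneg : ∀ a b : Fin 3, Q (u a) ≠ Q (u b) → Q (u b) = -Q (u a) := by
    intro a b hab
    rcases hpm a with h | h <;> rcases hpm b with h' | h' <;> rw [h, h'] at hab ⊢ <;>
      first | exact absurd rfl hab | simp
  by_cases e01 : Q (u 0) = Q (u 1)
  · by_cases e02 : Q (u 0) = Q (u 2)
    · exact keyeq e01 e02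
    · exact key 0 1 2 (fun f => Fin.sum_univ_three f) (by decide) (by decide) (by decide) e01 (hneg 0 2 e02)
  · by_cases e02 : Q (u 0) = Q (u 2)
    · exact key 0 2 1 (fun f => by rw [Fin.sum_univ_three]; abel) (by decide) (by decide) (by decide) e02
        (hneg 0 1 e01)
    · have e1 := hneg 0 1 e01
      have e2 := hneg 0 2 e02
      refine key 1 2 0 (fun f => by rw [Fin.sum_univ_three]; abel) (by decide) (by decide) (by decide)
        (by rw [e1, e2]) (by rw [e1, neg_neg])

theorem polar_mulVec_of_isometry (Q : QuadraticForm F (ι → F)) (g : Matrix ι ι F)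
    (hg : ∀ u, Q (g *ᵥ u) = Q u) (x y : ι → F) :
    polar (⇑Q) (g *ᵥ x) (g *ᵥ y) = polar (⇑Q) x y := by
  unfold polar
  rw [← Matrix.mulVec_add, hg, hg, hg]

/-- K-OOddMax-XB for an arbitrary quadratic form over the field with three elements. -/
theorem three_spaces_le_lines_gen (hq : Fintype.card F = 3) (Q : QuadraticForm F (ι → F)) {t : ℕ}
    (D : Fin t → Submodule F (ι → F)) (hD : IsOrthogonalMDecomposition (⇑Q) 3 D) :
    ∃ D' : Fin (t * 3) → Submodule F (ι → F), IsOrthogonalMDecomposition (⇑Q) 1 D' ∧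
      decompositionStabilizer D ⊓ isometryGroup F (⇑Q) ≤ decompositionStabilizer D' := by
  classical
  have h2 := Cfsg.Agent.Lib.Helper50.two_ne_zero_of_card_three hq
  have ht : 2 ≤ t := hD.decomp.decomp.two_le
  have hfr : ∀ i, finrank F (D i) = 3 := hD.decomp.decomp.finrank_eq
  obtain ⟨i0, hi0⟩ : ∃ i0 : Fin t, i0 = ⟨0, by omega⟩ := ⟨_, rfl⟩
  obtain ⟨c, b0, hc, hb0N, hQb0, horth0, hspan0, hcan0⟩ :=
    exists_frame hq Q (D i0) (hfr i0) (hD.decomp.nondegenerate i0)
  have h2c' : (2 : F) * c ≠ 0 := mul_ne_zero h2 hc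
  choose e he using fun i => hD.isometric i0 i
  have hpol : ∀ i (a b : D i0),
      polar (⇑Q) ((e i a : D i) : ι → F) ((e i b : D i) : ι → F) =
        polar (⇑Q) (a : ι → F) (b : ι → F) := by
    intro i a b
    unfold polar
    rw [← he i a, ← he i b, ← Submodule.coe_add, ← Submodule.coe_add, ← he i (a + b), map_add]
  -- the frames of the `D i`
  obtain ⟨bp, hbp⟩ : ∃ bp : Fin t → Fin 3 → (ι → F),
      bp = fun i j => ((e i ⟨b0 j, hb0N j⟩ : D i) : ι → F) := ⟨_, rfl⟩
  have hbpD : ∀ i j, bp i j ∈ D i := fun i j => by rw [hbp]; exact (e i ⟨b0 j, hb0N j⟩).2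
  have hbpQ : ∀ i j, Q (bp i j) = c := fun i j => by
    rw [hbp]
    show Q ((e i ⟨b0 j, hb0N j⟩ : D i) : ι → F) = c
    rw [he]; exact hQb0 j
  have hbporth : ∀ i j i' j', (i, j) ≠ (i', j') → polar (⇑Q) (bp i j) (bp i' j') = 0 := by
    intro i j i' j' hne
    by_cases hii : i = i'
    · subst hii
      have hjj : j ≠ j' := fun h => hne (by rw [h])
      rw [hbp]
      show polar (⇑Q) ((e i ⟨b0 j, hb0N j⟩ : D i) : ι → F) ((e i ⟨b0 j', hb0N j'⟩ : D i) : ι → F) = 0
      rw [hpol]; exact horth0 j j' hjj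
    · exact hD.decomp.orthogonal i i' hii _ (hbpD i j) _ (hbpD i' j')
  have hbpspan : ∀ i, ∀ w ∈ D i, ∃ x : Fin 3 → F, w = ∑ j, x j • bp i j := by
    intro i w hw
    obtain ⟨x, hx⟩ := hspan0 ((e i).symm ⟨w, hw⟩ : ι → F) ((e i).symm ⟨w, hw⟩).2
    refine ⟨x, ?_⟩
    have h1 : (e i).symm ⟨w, hw⟩ = ∑ j, x j • (⟨b0 j, hb0N j⟩ : D i0) := by
      apply Subtype.ext
      rw [hx]
      simp
    have h3 : (⟨w, hw⟩ : D i) = ∑ j, x j • e i ⟨b0 j, hb0N j⟩ := by
      rw [← (e i).apply_symm_apply ⟨w, hw⟩, h1, map_sum]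
      simp only [map_smul]
    have h4 := congrArg (fun z : D i => (z : ι → F)) h3
    simp only [Submodule.coe_sum, Submodule.coe_smul] at h4
    rw [hbp]
    exact h4
  have hbpcan : ∀ i, ∀ w ∈ D i, Q w = c → ∃ j, w = bp i j ∨ w = -bp i j := by
    intro i w hw hwc
    obtain ⟨w0, hw0⟩ : ∃ w0 : D i0, w0 = (e i).symm ⟨w, hw⟩ := ⟨_, rfl⟩
    have hew0 : ((e i w0 : D i) : ι → F) = w := by
      rw [hw0, LinearEquiv.apply_symm_apply]
    have hw0c : Q (w0 : ι → F) = c := by rw [← he i w0, hew0, hwc]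
    obtain ⟨j, hj | hj⟩ := hcan0 (w0 : ι → F) w0.2 hw0c
    · refine ⟨j, Or.inl ?_⟩
      have h' : w0 = ⟨b0 j, hb0N j⟩ := Subtype.ext hj
      rw [← hew0, h', hbp]
    · refine ⟨j, Or.inr ?_⟩
      have h' : w0 = -⟨b0 j, hb0N j⟩ := Subtype.ext hj
      rw [← hew0, h', map_neg, hbp]
      rfl
  -- the global frame
  obtain ⟨bb, hbb⟩ : ∃ bb : Fin (t * 3) → (ι → F),
      bb = fun k => bp (finProdFinEquiv.symm k).1 (finProdFinEquiv.symm k).2 := ⟨_, rfl⟩
  have hbbpair : ∀ i j, bb (finProdFinEquiv (i, j)) = bp i j := by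
    intro i j
    rw [hbb]
    simp only [Equiv.symm_apply_apply]
  have hbbD : ∀ k, bb k ∈ D (finProdFinEquiv.symm k).1 := fun k => by rw [hbb]; exact hbpD _ _
  have hbbQ : ∀ k, Q (bb k) = c := fun k => by rw [hbb]; exact hbpQ _ _
  have hbb0 : ∀ k, bb k ≠ 0 := by
    intro k h0
    have := hbbQ k
    rw [h0, map_zero] at this
    exact hc this.symm
  have hbborth : ∀ k k', k ≠ k' → polar (⇑Q) (bb k) (bb k') = 0 := by
    intro k k' hkk'
    rw [hbb]
    apply hbporth
    intro h
    apply hkk'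
    apply finProdFinEquiv.symm.injective
    exact Prod.ext (congrArg Prod.fst h) (congrArg Prod.snd h)
  have hbbself : ∀ k, polar (⇑Q) (bb k) (bb k) = 2 * c := by
    intro k
    rw [polar_self, hbbQ]
    simp
  have hbbcan : ∀ i, ∀ w ∈ D i, Q w = c → ∃ k, w = bb k ∨ w = -bb k := by
    intro i w hw hwc
    obtain ⟨j, hj⟩ := hbpcan i w hw hwc
    exact ⟨finProdFinEquiv (i, j), by rw [hbbpair]; exact hj⟩
  refine ⟨fun k => Submodule.span F {bb k}, ⟨⟨⟨by omega, Nat.one_pos, ?_, ?_, ?_⟩, ?_, ?_⟩, ?_⟩, ?_⟩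
  · intro k
    exact finrank_span_singleton (hbb0 k)
  · apply LinearIndependent.iSupIndep_span_singleton
    rw [linearIndependent_iff']
    intro s g hs k hk
    have h1 : polar (⇑Q) (bb k) (∑ i ∈ s, g i • bb i) = 0 := by
      rw [hs]; simp [polar]
    have h := map_sum (polarBilin Q (bb k)) (fun i => g i • bb i) s
    simp only [map_smul, smul_eq_mul, polarBilin_apply_apply] at h
    rw [h, Finset.sum_eq_single k] at h1
    · rw [hbbself] at h1
      rcases mul_eq_zero.mp h1 with h5 | h5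
      · exact h5
      · exact absurd h5 h2c'
    · intro k' _ hk'
      rw [hbborth k k' (Ne.symm hk'), mul_zero]
    · intro hk'
      exact absurd hk hk'
  · rw [eq_top_iff, ← hD.decomp.decomp.iSup_eq_top]
    apply iSup_le
    intro i w hw
    obtain ⟨x, rfl⟩ := hbpspan i w hw
    apply Submodule.sum_mem
    intro j _
    apply Submodule.smul_mem
    rw [← hbbpair]
    exact Submodule.mem_iSup_of_mem (finProdFinEquiv (i, j)) (Submodule.mem_span_singleton_self _)
  · intro k w hw hw0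
    rw [Submodule.mem_span_singleton] at hw
    obtain ⟨a, rfl⟩ := hw
    have ha : a ≠ 0 := by
      rintro rfl
      simp at hw0
    refine ⟨⟨bb k, Submodule.mem_span_singleton_self _, ?_⟩, ⟨bb k, Submodule.mem_span_singleton_self _, ?_⟩⟩
    · rw [polar_smul_right, hbbself, smul_eq_mul]
      exact mul_ne_zero ha h2c'
    · rw [polar_smul_left, hbbself, smul_eq_mul]
      exact mul_ne_zero ha h2c'
  · intro k k' hkk' u hu v hv
    rw [Submodule.mem_span_singleton] at hu hv
    obtain ⟨a, rfl⟩ := hu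
    obtain ⟨a', rfl⟩ := hv
    rw [polar_smul_left, polar_smul_right, hbborth k k' hkk']
    simp
  · intro k k'
    refine ⟨(LinearEquiv.toSpanNonzeroSingleton F (ι → F) (bb k) (hbb0 k)).symm.trans
      (LinearEquiv.toSpanNonzeroSingleton F (ι → F) (bb k') (hbb0 k')), ?_⟩
    intro w
    have hw : (w : ι → F) = (LinearEquiv.toSpanNonzeroSingleton F (ι → F) (bb k) (hbb0 k)).symm w • bb k :=
      (LinearEquiv.toSpanNonzeroSingleton_symm_apply_smul F (ι → F) (bb k) (hbb0 k) w).symm
    rw [LinearEquiv.trans_apply, LinearEquiv.toSpanNonzeroSingleton_apply]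
    conv_rhs => rw [hw]
    show Q (_ • bb k') = Q (_ • bb k)
    rw [QuadraticMap.map_smul, QuadraticMap.map_smul, hbbQ, hbbQ]
  · intro g hg
    obtain ⟨⟨σ, hσ⟩, hiso⟩ := Subgroup.mem_inf.mp hg
    have hQg : ∀ u, Q ((g : Matrix ι ι F) *ᵥ u) = Q u := fun u => hiso u u
    have hpolg := polar_mulVec_of_isometry Q (g : Matrix ι ι F) hQg
    have hmem : ∀ k, ∃ k', (g : Matrix ι ι F) *ᵥ bb k = bb k' ∨ (g : Matrix ι ι F) *ᵥ bb k = -bb k' := by
      intro k
      have h1 : (g : Matrix ι ι F) *ᵥ bb k ∈ D (σ (finProdFinEquiv.symm k).1) := by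
        rw [← hσ]
        exact Submodule.mem_map.mpr ⟨bb k, hbbD k, by rw [Matrix.toLin'_apply]⟩
      exact hbbcan _ _ h1 (by rw [hQg, hbbQ])
    choose f hf using hmem
    have hinj : Function.Injective f := by
      intro k₁ k₂ h12
      by_contra hne
      have h0 := hbborth k₁ k₂ hne
      rw [← hpolg] at h0
      rcases hf k₁ with h1 | h1 <;> rcases hf k₂ with h2' | h2' <;> rw [h1, h2', h12] at h0 <;>
        simp only [polar_neg_left, polar_neg_right, neg_neg, hbbself, neg_eq_zero] at h0 <;>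
        exact h2c' h0
    refine ⟨Equiv.ofBijective f (Finite.injective_iff_bijective.mp hinj), fun k => ?_⟩
    show (Submodule.span F {bb k}).map (Matrix.toLin' (g : Matrix ι ι F)) = Submodule.span F {bb (f k)}
    rw [Submodule.map_span, Set.image_singleton, Matrix.toLin'_apply]
    rcases hf k with h | h
    · rw [h]
    · rw [h, ← neg_one_smul F (bb (f k)), Submodule.span_singleton_smul_eq (isUnit_one.neg)]

end gen

section main

variable {F : Type*} [Field F] [Fintype F] {m : ℕ}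

/-- K-OOddMax-XB. -/
theorem three_spaces_le_lines_of_card_three (hq : Fintype.card F = 3) {t : ℕ}
    (D : Fin t → Submodule F (Unit ⊕ (Fin m ⊕ Fin m) → F)) (hD : IsOrthogonalMDecomposition (quadFormOdd m F) 3 D) :
    ∃ D' : Fin (t * 3) → Submodule F (Unit ⊕ (Fin m ⊕ Fin m) → F), IsOrthogonalMDecomposition (quadFormOdd m F) 1 D' ∧
      decompositionStabilizer D ⊓ isometryGroup F (quadFormOdd m F) ≤ decompositionStabilizer D' :=
  three_spaces_le_lines_gen hq (Cfsg.Agent.Lib.Helper50.QOdd m F) D hD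

end main

end Cfsg.Agent.Lib.Helper22.OOddMax
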