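import Mathlib
import Cfsg.Prelude.Def_JordanBlocks
import Cfsg.Prelude.Def_LieClassical
import Cfsg.Agent.Lib.Helper73.UCDefs

/-!
# K-UC pack (S2646, architect helper73), keystone 264609 K-UC-A1 (helper22): `hankel_mem_iff`

A matrix on the Jordan index set is hermitian and `nilM`-self-adjoint iff it is the Hankel-type matrix of a
hermitian coefficient system.
-/

set_option autoImplicit false
set_option linter.unusedVariables false
set_option linter.unusedSectionVars false

namespace Cfsg.Agent.Lib.Helper22.UC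

open Matrix Cfsg.Agent.Lib.Helper73.UC

variable {K : Type*} [Field K]

theorem uca1_nilM_apply {t : ℕ} (d : Fin t → ℕ) (x y : JI d) :
    nilM d K x y = if x.1 = y.1 ∧ (x.2 : ℕ) = (y.2 : ℕ) + 1 then 1 else 0 := by
  rcases x with ⟨k, a⟩
  rcases y with ⟨l, b⟩
  unfold nilM Cfsg.jordanTypeMatrix
  rw [Matrix.sub_apply]
  by_cases h : k = l
  · subst h
    rw [Matrix.blockDiagonal'_apply_eq, Matrix.one_apply]
    simp only [Cfsg.jordanBlock, Matrix.of_apply, Sigma.mk.inj_iff, heq_eq_eq, true_and, Fin.ext_iff]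
    split_ifs <;> simp_all
  · rw [Matrix.blockDiagonal'_apply_ne _ _ _ h, Matrix.one_apply, if_neg, if_neg]
    · simp
    · simp [h]
    · intro hh
      exact h (congrArg Sigma.fst hh)

theorem uca1_hadj_apply {ι : Type*} [Fintype ι] [DecidableEq ι] (φ : K →+* K) (M : Matrix ι ι K)
    (x y : ι) : hadj φ M x y = φ (M y x) := rfl

theorem uca1_mul_nilM_apply {t : ℕ} (d : Fin t → ℕ) (M : Matrix (JI d) (JI d) K) (x : JI d)
    (k : Fin t) (a : Fin (d k)) :
    (M * nilM d K) x ⟨k, a⟩ = if h : (a : ℕ) + 1 < d k then M x ⟨k, ⟨a + 1, h⟩⟩ else 0 := by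
  rw [Matrix.mul_apply]
  split_ifs with h
  · rw [Finset.sum_eq_single (⟨k, ⟨a + 1, h⟩⟩ : JI d)]
    · rw [uca1_nilM_apply, if_pos ⟨rfl, rfl⟩, mul_one]
    · intro z _ hz
      rw [uca1_nilM_apply, if_neg, mul_zero]
      rintro ⟨h1, h2⟩
      apply hz
      rcases z with ⟨k', a'⟩
      simp only at h1 h2
      subst h1
      congr 1
      exact Fin.ext h2
    · intro h'
      exact absurd (Finset.mem_univ _) h'
  · apply Finset.sum_eq_zero
    intro z _
    rw [uca1_nilM_apply, if_neg, mul_zero]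
    rintro ⟨h1, h2⟩
    rcases z with ⟨k', a'⟩
    simp only at h1 h2
    subst h1
    exact h (by rw [← h2]; exact a'.2)

theorem uca1_hadj_nilM_mul_apply {t : ℕ} (d : Fin t → ℕ) (φ : K →+* K) (M : Matrix (JI d) (JI d) K)
    (l : Fin t) (b : Fin (d l)) (y : JI d) :
    (hadj φ (nilM d K) * M) ⟨l, b⟩ y = if h : (b : ℕ) + 1 < d l then M ⟨l, ⟨b + 1, h⟩⟩ y else 0 := by
  rw [Matrix.mul_apply]
  split_ifs with h
  · rw [Finset.sum_eq_single (⟨l, ⟨b + 1, h⟩⟩ : JI d)]
    · rw [uca1_hadj_apply, uca1_nilM_apply, if_pos ⟨rfl, rfl⟩, map_one, one_mul]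
    · intro z _ hz
      rw [uca1_hadj_apply, uca1_nilM_apply, if_neg, map_zero, zero_mul]
      rintro ⟨h1, h2⟩
      apply hz
      rcases z with ⟨k', a'⟩
      simp only at h1 h2
      subst h1
      congr 1
      exact Fin.ext h2
    · intro h'
      exact absurd (Finset.mem_univ _) h'
  · apply Finset.sum_eq_zero
    intro z _
    rw [uca1_hadj_apply, uca1_nilM_apply, if_neg, map_zero, zero_mul]
    rintro ⟨h1, h2⟩
    rcases z with ⟨k', a'⟩
    simp only at h1 h2
    subst h1
    exact h (by rw [← h2]; exact a'.2)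

theorem uca1_c_congr {t : ℕ} (d : Fin t → ℕ) (c : CIdx d → K) (l k : Fin t) (s s' : ℕ)
    (h : s < min (d l) (d k)) (h' : s' < min (d l) (d k)) (hs : s = s') :
    c ⟨l, k, ⟨s, h⟩⟩ = c ⟨l, k, ⟨s', h'⟩⟩ := by
  subst hs
  rfl

/-- LEAF A1. -/
theorem hankel_mem_iff {t : ℕ} (d : Fin t → ℕ) (φ : K →+* K) (hφφ : ∀ x, φ (φ x) = x)
    (M : Matrix (JI d) (JI d) K) :
    (hadj φ M = M ∧ hadj φ (nilM d K) * M = M * nilM d K) ↔ ∃ c ∈ HC d φ, hankel d c = M := by
  constructor
  · rintro ⟨hH, hS⟩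
    -- entries indexed by natural numbers, `0` outside the range
    obtain ⟨m, hm⟩ : ∃ m : Fin t → Fin t → ℕ → ℕ → K, m = fun l k b a =>
      if h : b < d l ∧ a < d k then M ⟨l, ⟨b, h.1⟩⟩ ⟨k, ⟨a, h.2⟩⟩ else 0 := ⟨_, rfl⟩
    have hm_in : ∀ (l k : Fin t) (b a : ℕ) (hb : b < d l) (ha : a < d k),
        M ⟨l, ⟨b, hb⟩⟩ ⟨k, ⟨a, ha⟩⟩ = m l k b a := by
      intro l k b a hb ha
      rw [hm]
      simp only
      rw [dif_pos ⟨hb, ha⟩]
    have hm_out : ∀ l k b a, ¬ (b < d l ∧ a < d k) → m l k b a = 0 := by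
      intro l k b a h
      rw [hm]
      simp only
      rw [dif_neg h]
    have hherm : ∀ l k b a, m l k b a = φ (m k l a b) := by
      intro l k b a
      by_cases h : b < d l ∧ a < d k
      · rw [← hm_in l k b a h.1 h.2, ← hm_in k l a b h.2 h.1]
        conv_lhs => rw [← hH]
        rfl
      · rw [hm_out l k b a h, hm_out k l a b (by tauto), map_zero]
    have hshift : ∀ l k b a, b < d l → a < d k → m l k (b + 1) a = m l k b (a + 1) := by
      intro l k b a hb ha
      have h := congrFun (congrFun hS ⟨l, ⟨b, hb⟩⟩) ⟨k, ⟨a, ha⟩⟩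
      rw [uca1_hadj_nilM_mul_apply, uca1_mul_nilM_apply] at h
      have e1 : (if h : b + 1 < d l then M ⟨l, ⟨b + 1, h⟩⟩ ⟨k, ⟨a, ha⟩⟩ else 0) = m l k (b + 1) a := by
        by_cases h1 : b + 1 < d l
        · rw [dif_pos h1, hm_in]
        · rw [dif_neg h1, hm_out l k (b + 1) a (by tauto)]
      have e2 : (if h : a + 1 < d k then M ⟨l, ⟨b, hb⟩⟩ ⟨k, ⟨a + 1, h⟩⟩ else 0) = m l k b (a + 1) := by
        by_cases h1 : a + 1 < d k
        · rw [dif_pos h1, hm_in]
        · rw [dif_neg h1, hm_out l k b (a + 1) (by tauto)]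
      rw [← e1, ← e2]
      exact h
    have hclaim : ∀ l k b, b < d l → ∀ a, m l k b a = m l k 0 (b + a) := by
      intro l k b
      induction b with
      | zero =>
        intro _ a
        rw [zero_add]
      | succ b ih =>
        intro hb a
        have hb' : b < d l := by omega
        by_cases ha : a < d k
        · rw [hshift l k b a hb' ha, ih hb' (a + 1)]
          congr 1
          omega
        · rw [hm_out l k (b + 1) a (by tauto), hm_out l k 0 (b + 1 + a) (fun h => ha (by omega))]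
    refine ⟨fun p => m p.1 p.2.1 0 p.2.2, ?_, ?_⟩
    · -- hermitian coefficient system
      intro p
      rcases p with ⟨l, k, s⟩
      have hs1 : (s : ℕ) < d l := lt_of_lt_of_le s.2 (min_le_left _ _)
      have hs2 : (s : ℕ) < d k := lt_of_lt_of_le s.2 (min_le_right _ _)
      show m k l 0 (s : ℕ) = φ (m l k 0 (s : ℕ))
      rw [← hherm k l s 0, hclaim k l s hs2 0, add_zero]
    · -- the Hankel matrix is `M`
      ext x y
      rcases x with ⟨l, b⟩
      rcases y with ⟨k, a⟩
      simp only [hankel, Matrix.of_apply]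
      rw [hm_in l k b a b.2 a.2, hclaim l k b b.2 a]
      split_ifs with h
      · rfl
      · by_cases h2 : (b : ℕ) + a < d k
        · have h3 : ¬ ((b : ℕ) + a < d l) := fun h3 => h (lt_min h3 h2)
          rw [← hclaim l k b b.2 a, hherm l k b a, hclaim k l a a.2 b,
            hm_out k l 0 (a + b) (fun h4 => h3 (by omega)), map_zero]
        · rw [hm_out l k 0 (b + a) (by tauto)]
  · rintro ⟨c, hc, rfl⟩
    constructor
    · ext x y
      rcases x with ⟨l, b⟩
      rcases y with ⟨k, a⟩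
      rw [uca1_hadj_apply]
      simp only [hankel, Matrix.of_apply]
      by_cases h : (b : ℕ) + a < min (d l) (d k)
      · have h' : (a : ℕ) + b < min (d k) (d l) := by rw [add_comm, min_comm]; exact h
        rw [dif_pos h, dif_pos h']
        have h1 := hc ⟨k, l, ⟨a + b, h'⟩⟩
        rw [← h1]
        show c ⟨l, k, ⟨(a : ℕ) + b, _⟩⟩ = c ⟨l, k, ⟨(b : ℕ) + a, h⟩⟩
        exact uca1_c_congr d c l k _ _ _ _ (add_comm _ _)
      · have h' : ¬ ((a : ℕ) + b < min (d k) (d l)) := by rw [add_comm, min_comm]; exact h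
        rw [dif_neg h, dif_neg h', map_zero]
    · ext x y
      rcases x with ⟨l, b⟩
      rcases y with ⟨k, a⟩
      rw [uca1_hadj_nilM_mul_apply, uca1_mul_nilM_apply]
      simp only [hankel, Matrix.of_apply]
      by_cases h : (b : ℕ) + 1 + a < min (d l) (d k)
      · have h1 : (b : ℕ) + 1 < d l := by
          have := min_le_left (d l) (d k)
          omega
        have h2 : (a : ℕ) + 1 < d k := by
          have := min_le_right (d l) (d k)
          omega
        have h3 : (b : ℕ) + (a + 1) < min (d l) (d k) := by omega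
        rw [dif_pos h1, dif_pos h2, dif_pos h, dif_pos h3]
        exact uca1_c_congr d c l k _ _ _ _ (by omega)
      · have e1 : (if h1 : (b : ℕ) + 1 < d l then
            (if h2 : (b : ℕ) + 1 + a < min (d l) (d k) then c ⟨l, k, ⟨(b : ℕ) + 1 + a, h2⟩⟩ else 0)
            else 0) = 0 := by
          split_ifs <;> rfl
        have h3 : ¬ ((b : ℕ) + (a + 1) < min (d l) (d k)) := by omega
        have e2 : (if h1 : (a : ℕ) + 1 < d k then
            (if h2 : (b : ℕ) + (a + 1) < min (d l) (d k) then c ⟨l, k, ⟨(b : ℕ) + (a + 1), h2⟩⟩ else 0)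
            else 0) = 0 := by
          split_ifs <;> rfl
        rw [e1, e2]

end Cfsg.Agent.Lib.Helper22.UC
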