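import Mathlib
import Cfsg.Prelude.Def_Blocks
import Cfsg.Prelude.Def_Solvable
import Cfsg.Agent.Lib.Helper22.DefectConj
import Cfsg.Agent.Lib.Helper82.BlockOrthFull
import Cfsg.Agent.Lib.Helper42.PPrimeCore

set_option autoImplicit false
set_option linter.unusedSectionVars false

namespace Cfsg.Agent.Lib.Helper22

open Cfsg
open Cfsg.Agent.Lib.Helper82

section
variable {X : Type*} [Group X] [Finite X]

/-- A Sylow `2`-subgroup `Q` which is "Klein four with a central involution `z`" (stated by
elementary properties) satisfies `N(Q) ≤ C(Q)`. -/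
theorem normalizer_le_centralizer_of_four (Q : Sylow 2 X) (z : X) (hz1 : z ≠ 1)
    (hzc : ∀ x : X, z * x = x * z)
    (hcomm : ∀ s ∈ (Q : Subgroup X), ∀ t ∈ (Q : Subgroup X), s * t = t * s)
    (hfour : ∀ t ∈ (Q : Subgroup X), ∀ t' ∈ (Q : Subgroup X), t ≠ 1 → t ≠ z → t' ≠ 1 → t' ≠ z →
      t' ≠ t → t' = t * z)
    (hzz : z * z = 1) :
    Subgroup.normalizer ((Q : Subgroup X) : Set X) ≤
      Subgroup.centralizer ((Q : Subgroup X) : Set X) := by
  have : Fact (Nat.Prime 2) := ⟨Nat.prime_two⟩
  -- odd order elements of the normalizer centralize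
  have hodd : ∀ g ∈ Subgroup.normalizer ((Q : Subgroup X) : Set X), ¬ 2 ∣ orderOf g →
      ∀ t ∈ (Q : Subgroup X), t * g = g * t := by
    intro g hg hord t ht
    by_contra hne
    have ht' : g * t * g⁻¹ ∈ (Q : Subgroup X) := (Subgroup.mem_normalizer_iff.1 hg t).1 ht
    have h1 : t ≠ 1 := by rintro rfl; exact hne (by rw [one_mul, mul_one])
    have h2 : t ≠ z := by rintro rfl; exact hne (hzc g)
    have h3 : g * t * g⁻¹ ≠ 1 := by
      intro h
      apply h1
      have : t = g⁻¹ * (g * t * g⁻¹) * g := by group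
      rw [this, h]; group
    have h4 : g * t * g⁻¹ ≠ z := by
      intro h
      apply h2
      have : t = g⁻¹ * (g * t * g⁻¹) * g := by group
      rw [this, h, ← hzc, inv_mul_cancel_right]
    have h5 : g * t * g⁻¹ ≠ t := by
      intro h
      apply hne
      calc t * g = (g * t * g⁻¹) * g := by rw [h]
        _ = g * t := by group
    have h6 := hfour t ht _ ht' h1 h2 h3 h4 h5
    -- g^2 commutes with t
    have h7 : g ^ 2 * t = t * g ^ 2 := by
      have e1 : g * t = t * z * g := by
        calc g * t = (g * t * g⁻¹) * g := by group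
          _ = t * z * g := by rw [h6]
      calc g ^ 2 * t = g * (g * t) := by rw [pow_two, mul_assoc]
        _ = g * (t * z * g) := by rw [e1]
        _ = (g * t) * z * g := by simp only [mul_assoc]
        _ = t * z * g * z * g := by rw [e1]
        _ = t * (z * z) * g * g := by
          rw [mul_assoc (t * z) g z, ← hzc g]; simp only [mul_assoc]
        _ = t * g ^ 2 := by rw [hzz, mul_one, pow_two, mul_assoc]
    have hoddg : Odd (orderOf g) := Nat.odd_iff.2 (by omega)
    obtain ⟨k, hk⟩ := hoddg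
    have h8 : g = (g ^ 2) ^ (k + 1) := by
      rw [← pow_mul, show 2 * (k + 1) = orderOf g + 1 by omega, pow_succ, pow_orderOf_eq_one,
        one_mul]
    have h9 : Commute (g ^ 2) t := h7
    have h10 : Commute g t := by
      rw [h8]; exact h9.pow_left _
    exact hne h10.eq.symm
  -- 2-elements of the normalizer lie in Q
  have htwo : ∀ g ∈ Subgroup.normalizer ((Q : Subgroup X) : Set X),
      (∃ k : ℕ, orderOf g = 2 ^ k) → ∀ t ∈ (Q : Subgroup X), t * g = g * t := by
    intro g hg ⟨k, hk⟩ t ht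
    have hgp : IsPGroup 2 (Subgroup.zpowers g) :=
      IsPGroup.of_card (n := k) (by rw [Nat.card_zpowers, hk])
    have hle : Subgroup.zpowers g ≤ Subgroup.normalizer ((Q : Subgroup X) : Set X) := by
      rw [Subgroup.zpowers_le]; exact hg
    have hsup : IsPGroup 2 (Subgroup.zpowers g ⊔ (Q : Subgroup X) : Subgroup X) :=
      IsPGroup.to_sup_of_normal_right' hgp Q.2 hle
    have heq := Q.is_maximal' hsup le_sup_right
    have hgQ : g ∈ (Q : Subgroup X) := by
      rw [← heq]
      exact Subgroup.mem_sup_left (Subgroup.mem_zpowers g)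
    exact hcomm t ht g hgQ
  intro g hg
  rw [Subgroup.mem_centralizer_iff]
  intro t ht
  obtain ⟨u, hu⟩ := exists_isPPart Nat.prime_two g (orderOf_pos g)
  have huz := IsPPart.mem_zpowers Nat.prime_two hu
  obtain ⟨s, hus, hcs, hu2, hs2⟩ := hu
  have hzle : Subgroup.zpowers g ≤ Subgroup.normalizer ((Q : Subgroup X) : Set X) := by
    rw [Subgroup.zpowers_le]; exact hg
  have huN := hzle huz
  have hsN : s ∈ Subgroup.normalizer ((Q : Subgroup X) : Set X) := by
    have : s = u⁻¹ * g := by rw [← hus]; group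
    rw [this]
    exact Subgroup.mul_mem _ (Subgroup.inv_mem _ huN) hg
  have e1 := htwo u huN hu2 t ht
  have e2 := hodd s hsN hs2 t ht
  rw [← hus, ← mul_assoc, e1, mul_assoc, e2, mul_assoc]

/-- Burnside: if `N(Q) ≤ C(Q)` for a Sylow `p`-subgroup `Q` then `O_{p'}` has `p`-power index. -/
theorem exists_index_pPrimeCore_of_normalizer_le {p : ℕ} [Fact p.Prime] (Q : Sylow p X)
    (hN : Subgroup.normalizer ((Q : Subgroup X) : Set X) ≤
      Subgroup.centralizer ((Q : Subgroup X) : Set X)) :
    ∃ k : ℕ, (Cfsg.pPrimeCore p X).index = p ^ k := by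
  have hp : p.Prime := Fact.out
  have hc := MonoidHom.ker_transferSylow_isComplement' Q hN
  have hnd := MonoidHom.not_dvd_card_ker_transferSylow Q hN
  have hle : (MonoidHom.transferSylow Q hN).ker ≤ Cfsg.pPrimeCore p X :=
    Cfsg.Agent.Lib.Helper42.le_pPrimeCore _ ((Nat.Prime.coprime_iff_not_dvd hp).mpr hnd).symm
  have h1 : (Cfsg.pPrimeCore p X).index ∣ (MonoidHom.transferSylow Q hN).ker.index :=
    Subgroup.index_dvd_of_le hle
  have h2 : (MonoidHom.transferSylow Q hN).ker.index = Nat.card (Q : Subgroup X) :=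
    hc.symm.index_eq_card
  obtain ⟨n, hn⟩ := IsPGroup.iff_card.mp Q.isPGroup'
  rw [h2, hn] at h1
  obtain ⟨k, -, hk⟩ := (Nat.dvd_prime_pow hp).1 h1
  exact ⟨k, hk⟩

end

section
variable {G : Type*} [Group G] [Finite G]

theorem kleinFour_centralizer_facts (P : Sylow 2 G) (hP : IsKleinFour (P : Subgroup G)) (z : G)
    (hzP : z ∈ (P : Subgroup G)) (hz1 : z ≠ 1) :
    (P : Subgroup G) ≤ Subgroup.centralizer ({z} : Set G) ∧
    (∃ k : ℕ, (Cfsg.pPrimeCore 2 (Subgroup.centralizer ({z} : Set G))).index = 2 ^ k) ∧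
    2 ^ (Nat.card (Subgroup.centralizer ({z} : Set G))).factorization 2 = 4 := by
  have : Fact (Nat.Prime 2) := ⟨Nat.prime_two⟩
  have hsq : ∀ t ∈ (P : Subgroup G), t * t = 1 := by
    intro t ht
    have := IsKleinFour.mul_self (⟨t, ht⟩ : (P : Subgroup G))
    exact congrArg Subtype.val this
  have hcomm : ∀ s ∈ (P : Subgroup G), ∀ t ∈ (P : Subgroup G), s * t = t * s := by
    intro s hs t ht
    have := mul_comm_of_exponent_two (IsKleinFour.exponent_two (G := (P : Subgroup G)))
      (⟨s, hs⟩ : (P : Subgroup G)) ⟨t, ht⟩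
    exact congrArg Subtype.val this
  have hfour : ∀ t ∈ (P : Subgroup G), ∀ t' ∈ (P : Subgroup G), t ≠ 1 → t ≠ z → t' ≠ 1 →
      t' ≠ z → t' ≠ t → t' = t * z := by
    intro t ht t' ht' h1 h2 h3 h4 h5
    have := IsKleinFour.eq_mul_of_ne_all (G := (P : Subgroup G)) (x := ⟨t, ht⟩) (y := ⟨z, hzP⟩)
      (z := ⟨t', ht'⟩) (fun h => h1 (congrArg Subtype.val h)) (fun h => hz1 (congrArg Subtype.val h))
      (fun h => h2 (congrArg Subtype.val h)) (fun h => h3 (congrArg Subtype.val h))
      (fun h => h5 (congrArg Subtype.val h)) (fun h => h4 (congrArg Subtype.val h))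
    exact congrArg Subtype.val this
  have hle : (P : Subgroup G) ≤ Subgroup.centralizer ({z} : Set G) := by
    intro t ht
    rw [Subgroup.mem_centralizer_iff]
    intro h hh
    rw [Set.mem_singleton_iff] at hh
    rw [hh]
    exact hcomm z hzP t ht
  refine ⟨hle, ?_, ?_⟩
  · let Q : Sylow 2 (Subgroup.centralizer ({z} : Set G)) := P.subtype hle
    have hzH : z ∈ Subgroup.centralizer ({z} : Set G) := hle hzP
    have hQmem : ∀ x : Subgroup.centralizer ({z} : Set G),
        x ∈ (Q : Subgroup (Subgroup.centralizer ({z} : Set G))) ↔ (x : G) ∈ (P : Subgroup G) := by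
      intro x
      change x ∈ (P : Subgroup G).subgroupOf _ ↔ _
      rw [Subgroup.mem_subgroupOf]
    apply exists_index_pPrimeCore_of_normalizer_le Q
    apply normalizer_le_centralizer_of_four Q ⟨z, hzH⟩
    · intro h; exact hz1 (congrArg Subtype.val h)
    · intro x
      apply Subtype.ext
      exact (Subgroup.mem_centralizer_iff.1 x.2) z rfl
    · intro s hs t ht
      apply Subtype.ext
      exact hcomm s ((hQmem s).1 hs) t ((hQmem t).1 ht)
    · intro t ht t' ht' h1 h2 h3 h4 h5
      apply Subtype.ext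
      exact hfour t ((hQmem t).1 ht) t' ((hQmem t').1 ht')
        (fun h => h1 (Subtype.ext h)) (fun h => h2 (Subtype.ext h))
        (fun h => h3 (Subtype.ext h)) (fun h => h4 (Subtype.ext h))
        (fun h => h5 (Subtype.ext h))
    · apply Subtype.ext
      exact hsq z hzP
  · have h1 := Sylow.card_eq_multiplicity (P.subtype hle)
    rw [← h1]
    have h2 : Nat.card (P.subtype hle : Subgroup (Subgroup.centralizer ({z} : Set G))) =
        Nat.card (P : Subgroup G) :=
      Nat.card_congr (Subgroup.subgroupOfEquivOfLe hle).toEquiv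
    rw [h2]
    exact IsKleinFour.card_four

end


end Cfsg.Agent.Lib.Helper22
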