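import Mathlib
import Cfsg.Prelude.Def_Blocks
import Cfsg.Agent.Lib.Helper22.DefectConj
import Cfsg.Agent.Lib.Helper82.BlockOrthFull
import Cfsg.Agent.Lib.Helper83.SecondOrth
import Cfsg.Agent.Lib.Helper81.BlockPart

set_option autoImplicit false
set_option linter.unusedSectionVars false

namespace Cfsg.Agent.Lib.Helper22

open Cfsg
open Cfsg.Agent.Lib.Helper21 Cfsg.Agent.Lib.Helper82 Cfsg.Agent.Lib.Helper83
open scoped ComplexConjugate

section
universe u
variable {G : Type u} [Group G] [Fintype G] {p : ℕ} {M : Ideal AlgInt}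

/-- Weak block orthogonality: a `p`-regular and a `p`-singular element. -/
theorem sum_block_conj_eq_zero_of_singular (hM : IsPModular p M) (χ₀ : IrrCharacter G)
    (y c : G) (hy : ¬ p ∣ orderOf y) (hc : p ∣ orderOf c) :
    ∑ᶠ χ ∈ blockOf M (χ₀ : G → ℂ), (χ : G → ℂ) y * conj ((χ : G → ℂ) c) = 0 := by
  have hp : p.Prime := hM.1
  obtain ⟨w, hw⟩ := exists_isPPart hp c (orderOf_pos c)
  have hw1 : w ≠ 1 := by
    rintro rfl
    obtain ⟨s, hs, -, -, hsp⟩ := hw
    rw [one_mul] at hs
    rw [hs] at hsp
    exact hsp hc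
  have h1 : IsPPart p y 1 :=
    ⟨y, one_mul y, Commute.one_left y, ⟨0, by rw [orderOf_one, pow_zero]⟩, hy⟩
  have h2 : IsPPart p (c⁻¹)⁻¹ w := by rw [inv_inv]; exact hw
  have h3 : ¬ IsConj (1 : G) w := by
    intro h
    exact hw1 (isConj_one_right.1 h)
  have := sum_block_mul_eq_zero_of_not_isConj hM χ₀ y c⁻¹ 1 w h1 h2 h3
  rw [← this]
  apply finsum_mem_congr rfl
  intro χ _
  rw [char_inv (IrrCharacter_isCharacter χ)]

end

section
universe u
variable {G : Type u} [Group G] [Finite G] {p : ℕ} {M : Ideal AlgInt}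

theorem isPPart_shift (z : G) (hz : ∃ k : ℕ, orderOf z = p ^ k)
    (y : Subgroup.centralizer ({z} : Set G)) (hy : ¬ p ∣ orderOf y) :
    IsPPart p (z * (y : G)) z := by
  refine ⟨(y : G), rfl, ?_, hz, ?_⟩
  · exact (Subgroup.mem_centralizer_iff.1 y.2) z rfl
  · rwa [Subgroup.orderOf_coe]

theorem centralizer_shift_eq (hp : p.Prime) (z : G) (hz : ∃ k : ℕ, orderOf z = p ^ k)
    (y : Subgroup.centralizer ({z} : Set G)) (hy : ¬ p ∣ orderOf y) :
    (Subgroup.centralizer ({y} : Set (Subgroup.centralizer ({z} : Set G)))).map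
      (Subgroup.centralizer ({z} : Set G)).subtype =
      Subgroup.centralizer ({z * (y : G)} : Set G) := by
  have hzy : z * (y : G) = (y : G) * z := (Subgroup.mem_centralizer_iff.1 y.2) z rfl
  ext g
  constructor
  · rintro ⟨c, hc, rfl⟩
    rw [SetLike.mem_coe, Subgroup.mem_centralizer_iff] at hc
    have h1 := hc y rfl
    have h1' : (y : G) * (c : G) = (c : G) * (y : G) := by
      have := congrArg Subtype.val h1
      simpa using this
    have h2 : z * (c : G) = (c : G) * z := (Subgroup.mem_centralizer_iff.1 c.2) z rfl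
    rw [Subgroup.mem_centralizer_iff]
    intro h hh
    rw [Set.mem_singleton_iff] at hh
    rw [hh]
    change z * (y : G) * (c : G) = (c : G) * (z * (y : G))
    rw [mul_assoc, h1', ← mul_assoc, h2, mul_assoc]
  · intro hg
    rw [Subgroup.mem_centralizer_iff] at hg
    have h0 := hg _ rfl
    have h2 : z * g = g * z := IsPPart.commute_of_commute hp (isPPart_shift z hz y hy) h0
    have hgH : g ∈ Subgroup.centralizer ({z} : Set G) := by
      rw [Subgroup.mem_centralizer_iff]
      intro h hh
      rw [Set.mem_singleton_iff] at hh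
      rw [hh]; exact h2
    refine ⟨⟨g, hgH⟩, ?_, rfl⟩
    rw [SetLike.mem_coe, Subgroup.mem_centralizer_iff]
    intro h hh
    rw [Set.mem_singleton_iff] at hh
    rw [hh]
    apply Subtype.ext
    push_cast
    have : z * ((y : G) * g) = z * (g * (y : G)) := by
      rw [← mul_assoc, h0, ← mul_assoc, ← h2, mul_assoc]
    exact mul_left_cancel this

theorem card_centralizer_shift (hp : p.Prime) (z : G) (hz : ∃ k : ℕ, orderOf z = p ^ k)
    (y : Subgroup.centralizer ({z} : Set G)) (hy : ¬ p ∣ orderOf y) :
    Nat.card (Subgroup.centralizer ({z * (y : G)} : Set G)) =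
      Nat.card (Subgroup.centralizer ({y} : Set (Subgroup.centralizer ({z} : Set G)))) := by
  rw [← centralizer_shift_eq hp z hz y hy]
  exact Subgroup.card_map_of_injective (Subgroup.subtype_injective _)

/-- For `p`-regular `c, y ∈ C(z)`: `z c ~_G z y` iff `c ~_{C(z)} y`. -/
theorem isConj_shift_iff (hp : p.Prime) (z : G) (hz : ∃ k : ℕ, orderOf z = p ^ k)
    (c y : Subgroup.centralizer ({z} : Set G)) (hc : ¬ p ∣ orderOf c) (hy : ¬ p ∣ orderOf y) :
    IsConj (z * (c : G)) (z * (y : G)) ↔ IsConj c y := by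
  constructor
  · intro h
    obtain ⟨g, hg⟩ := isConj_iff.1 h
    have h1 : (g⁻¹)⁻¹ * (z * (c : G)) ^ 1 * g⁻¹ = (z * (y : G)) ^ 1 := by
      rw [pow_one, pow_one, inv_inv]; exact hg
    have h2 := conj_ppart_of_conj_pow hp (isPPart_shift z hz c hc) (isPPart_shift z hz y hy)
      (t := 1) (by simpa using hp.one_lt.ne') h1
    rw [inv_inv] at h2
    have hgz : z * g = g * z := by
      calc z * g = (g * z * g⁻¹) * g := by rw [h2]
        _ = g * z := by group
    have hgH : g ∈ Subgroup.centralizer ({z} : Set G) := by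
      rw [Subgroup.mem_centralizer_iff]
      intro h hh
      rw [Set.mem_singleton_iff] at hh
      rw [hh]; exact hgz
    rw [isConj_iff]
    refine ⟨⟨g, hgH⟩, ?_⟩
    apply Subtype.ext
    push_cast
    have : z * (g * (c : G) * g⁻¹) = z * (y : G) := by
      rw [← hg]
      calc z * (g * (c : G) * g⁻¹) = (z * g) * (c : G) * g⁻¹ := by group
        _ = (g * z) * (c : G) * g⁻¹ := by rw [hgz]
        _ = g * (z * (c : G)) * g⁻¹ := by group
    exact mul_left_cancel this
  · intro h
    obtain ⟨g, hg⟩ := isConj_iff.1 h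
    rw [isConj_iff]
    refine ⟨(g : G), ?_⟩
    have hgz : z * (g : G) = (g : G) * z := (Subgroup.mem_centralizer_iff.1 g.2) z rfl
    have hg' : (g : G) * (c : G) * (g : G)⁻¹ = (y : G) := by
      have := congrArg Subtype.val hg
      simpa using this
    rw [← hg']
    calc (g : G) * (z * (c : G)) * (g : G)⁻¹ = ((g : G) * z) * (c : G) * (g : G)⁻¹ := by group
      _ = (z * (g : G)) * (c : G) * (g : G)⁻¹ := by rw [hgz]
      _ = z * ((g : G) * (c : G) * (g : G)⁻¹) := by group

end


section
universe u
variable {G : Type u} [Group G] [Fintype G] [Fintype (IrrCharacter G)] {p : ℕ} {M : Ideal AlgInt}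
variable (z : G)
local notation "Hz" => Subgroup.centralizer (Singleton.singleton z : Set G)

open Classical in
theorem sum_blockPart_shift (hM : IsPModular p M) (hz : ∃ k : ℕ, orderOf z = p ^ k)
    [Fintype (Subgroup.centralizer ({z} : Set G))]
    [Fintype (IrrCharacter (Subgroup.centralizer ({z} : Set G)))]
    (χ₀ : IrrCharacter (Subgroup.centralizer ({z} : Set G)))
    (y : Subgroup.centralizer ({z} : Set G)) (hy : ¬ p ∣ orderOf y) :
    ∑ ζ : IrrCharacter G,
      blockPart (blockOf M (χ₀ : Subgroup.centralizer ({z} : Set G) → ℂ))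
        (fun c : Subgroup.centralizer ({z} : Set G) => (ζ : G → ℂ) (z * (c : G))) y *
        conj ((ζ : G → ℂ) (z * (y : G))) =
    ∑ χ : IrrCharacter (Subgroup.centralizer ({z} : Set G)),
      if χ ∈ blockOf M (χ₀ : Subgroup.centralizer ({z} : Set G) → ℂ) then
        (χ : Subgroup.centralizer ({z} : Set G) → ℂ) y *
          conj ((χ : Subgroup.centralizer ({z} : Set G) → ℂ) y) else 0 := by
  have hp : p.Prime := hM.1
  set b := blockOf M (χ₀ : Hz → ℂ) with hb
  set T : Hz → ℂ := fun c => ∑ χ : IrrCharacter Hz,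
    if χ ∈ b then (χ : Hz → ℂ) y * conj ((χ : Hz → ℂ) c) else 0 with hT
  -- Step A
  have hA : ∀ ζ : IrrCharacter G,
      blockPart b (fun c : Hz => (ζ : G → ℂ) (z * (c : G))) y =
        (Nat.card Hz : ℂ)⁻¹ * ∑ c : Hz, (ζ : G → ℂ) (z * (c : G)) * T c := by
    intro ζ
    rw [Cfsg.Agent.Lib.Helper81.blockPart_apply, finsum_mem_eq_sum_ite]
    simp only [classInner, hT]
    simp only [Finset.mul_sum]
    rw [Finset.sum_comm]
    simp only [← Finset.mul_sum]
    rw [Finset.mul_sum]
    apply Finset.sum_congr rfl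
    intro χ _
    split_ifs
    · rw [Finset.mul_sum, Finset.sum_mul, Finset.mul_sum]
      apply Finset.sum_congr rfl
      intro c _
      ring
    · simp
  -- Step C ingredients
  have hK : Nat.card (Subgroup.centralizer ({z * (y : G)} : Set G)) =
      Nat.card (Subgroup.centralizer ({y} : Set Hz)) := card_centralizer_shift hp z hz y hy
  have hC : ∀ c : Hz, T c * (if IsConj (z * (c : G)) (z * (y : G)) then
        (Nat.card (Subgroup.centralizer ({z * (y : G)} : Set G)) : ℂ) else 0) =
      if IsConj y c then T y * (Nat.card (Subgroup.centralizer ({y} : Set Hz)) : ℂ) else 0 := by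
    intro c
    by_cases hc : p ∣ orderOf c
    · have hT0 : T c = 0 := by
        have := sum_block_conj_eq_zero_of_singular hM χ₀ y c hy hc
        rw [finsum_mem_eq_sum_ite] at this
        exact this
      have hnc : ¬ IsConj y c := by
        intro h
        obtain ⟨u, hu⟩ := h
        have := SemiconjBy.orderOf_eq _ hu
        rw [this] at hy
        exact hy hc
      rw [hT0, zero_mul, if_neg hnc]
    · have hiff := isConj_shift_iff hp z hz c y hc hy
      by_cases h : IsConj c y
      · rw [if_pos (hiff.2 h), if_pos h.symm, hK]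
        congr 1
        simp only [hT]
        apply Finset.sum_congr rfl
        intro χ _
        obtain ⟨g, hg⟩ := isConj_iff.1 h
        rw [← hg, isClassFunction_irr χ c g]
      · rw [if_neg (fun h' => h (hiff.1 h')), if_neg (fun h' => h h'.symm), mul_zero]
  -- Step B
  calc ∑ ζ : IrrCharacter G, blockPart b (fun c : Hz => (ζ : G → ℂ) (z * (c : G))) y *
        conj ((ζ : G → ℂ) (z * (y : G)))
      = ∑ ζ : IrrCharacter G, ((Nat.card Hz : ℂ)⁻¹ * ∑ c : Hz, (ζ : G → ℂ) (z * (c : G)) * T c) *
        conj ((ζ : G → ℂ) (z * (y : G))) := by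
        apply Finset.sum_congr rfl
        intro ζ _
        rw [hA ζ]
    _ = (Nat.card Hz : ℂ)⁻¹ * ∑ c : Hz, T c * ∑ ζ : IrrCharacter G,
          (ζ : G → ℂ) (z * (c : G)) * conj ((ζ : G → ℂ) (z * (y : G))) := by
        simp only [Finset.mul_sum, Finset.sum_mul]
        rw [Finset.sum_comm]
        apply Finset.sum_congr rfl
        intro c _
        apply Finset.sum_congr rfl
        intro ζ _
        ring
    _ = (Nat.card Hz : ℂ)⁻¹ * ∑ c : Hz, (if IsConj y c then
          T y * (Nat.card (Subgroup.centralizer ({y} : Set Hz)) : ℂ) else 0) := by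
        congr 1
        apply Finset.sum_congr rfl
        intro c _
        rw [second_orthogonality, hC c]
    _ = T y := by
        rw [Finset.sum_ite, Finset.sum_const_zero, add_zero, Finset.sum_const, nsmul_eq_mul]
        have hcard : ((Finset.univ.filter (fun c : Hz => IsConj y c)).card : ℂ) =
            (Nat.card {x : Hz // IsConj y x} : ℂ) := by
          rw [Nat.card_eq_fintype_card, Fintype.card_subtype]
        rw [hcard]
        have hmul := card_centralizer_mul_card_conj y
        have hH0 : (Nat.card Hz : ℂ) ≠ 0 := by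
          exact_mod_cast Nat.card_pos.ne'
        have hmulC : (Nat.card (Subgroup.centralizer ({y} : Set Hz)) : ℂ) *
            (Nat.card {x : Hz // IsConj y x} : ℂ) = (Nat.card Hz : ℂ) := by
          exact_mod_cast hmul
        field_simp
        rw [← hmulC]
        ring

end


end Cfsg.Agent.Lib.Helper22
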