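import Mathlib
import Cfsg.Prelude.Def_Blocks
import Cfsg.Agent.Lib.Helper82.Counting
import Cfsg.Agent.Lib.Helper82.LocalRing
import Cfsg.Agent.Lib.Helper82.CharBasic
import Cfsg.Agent.Lib.Helper83.CharBasic

set_option autoImplicit false
set_option linter.unusedSectionVars false

namespace Cfsg.Agent.Lib.Helper22

open Cfsg
open Cfsg.Agent.Lib.Helper82 Cfsg.Agent.Lib.Helper83

section
variable {G : Type*} [Group G] [Finite G]

theorem mem_zpowers_of_orderOf_two (z : G) (hz : orderOf z = 2) (x : G) :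
    x ∈ Subgroup.zpowers z ↔ x = 1 ∨ x = z := by
  constructor
  · rintro ⟨k, rfl⟩
    change z ^ k = 1 ∨ z ^ k = z
    rw [← zpow_mod_orderOf, hz]
    rcases Int.emod_two_eq_zero_or_one k with h | h
    · left; rw [show k % ((2 : ℕ) : ℤ) = 0 from h, zpow_zero]
    · right; rw [show k % ((2 : ℕ) : ℤ) = 1 from h, zpow_one]
  · rintro (rfl | rfl)
    · exact Subgroup.one_mem _
    · exact Subgroup.mem_zpowers _

/-- Character values at involutions are integers. -/
theorem exists_int_char_of_orderOf_two {χ : G → ℂ} (hχ : IsCharacter G χ) (z : G)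
    (hz : orderOf z = 2) : ∃ n : ℤ, χ z = (n : ℂ) := by
  classical
  let _ : Fintype G := Fintype.ofFinite G
  let _ : Fintype (Subgroup.zpowers z) := Fintype.ofFinite _
  obtain ⟨m, hm⟩ := IsCharacter.sum_subgroup hχ (Subgroup.zpowers z)
  have hz1 : z ≠ 1 := by
    rintro rfl
    rw [orderOf_one] at hz
    omega
  have hsum : ∑ u : Subgroup.zpowers z, χ u = χ 1 + χ z := by
    rw [← Finset.sum_subtype ({1, z} : Finset G) (p := fun x => x ∈ Subgroup.zpowers z)
      (fun x => by rw [mem_zpowers_of_orderOf_two z hz]; simp) χ]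
    rw [Finset.sum_pair hz1.symm]
  have hcard : Fintype.card (Subgroup.zpowers z) = 2 := by
    rw [← Nat.card_eq_fintype_card, Nat.card_zpowers, hz]
  rw [hsum, hcard, ← IsCharacter.charDegree_cast hχ] at hm
  refine ⟨2 * m - charDegree χ, ?_⟩
  push_cast
  linear_combination hm

/-- A character in the principal block does not vanish at an element whose centralizer has
index prime to `p`. -/
theorem principal_char_ne_zero {p : ℕ} {M : Ideal AlgInt} (hM : IsPModular p M)
    (ζ : IrrCharacter G) (hζ : ζ ∈ principalBlock M G) (z : G)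
    (hodd : ¬ p ∣ (Subgroup.centralizer ({z} : Set G)).index) : (ζ : G → ℂ) z ≠ 0 := by
  intro h0
  have h1 := hζ z
  have h2 : centralChar (fun _ : G => (1 : ℂ)) z =
      ((Subgroup.centralizer ({z} : Set G)).index : ℂ) := by
    simp [centralChar]
  have h3 : centralChar (ζ : G → ℂ) z = 0 := by
    simp [centralChar, h0]
  rw [h2, h3, sub_zero, memLocalIdeal_natCast_iff hM] at h1
  exact hodd h1

/-- If a character is constant `δ` on the involutions of a Klein four Sylow `2`-subgroup then its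
degree is congruent to `δ` modulo `4`. -/
theorem kleinFour_degree_congr (P : Sylow 2 G) (hP : IsKleinFour (P : Subgroup G)) {χ : G → ℂ}
    (hχ : IsCharacter G χ) (δ : ℤ) (hδ : ∀ t ∈ (P : Subgroup G), t ≠ 1 → χ t = (δ : ℂ)) :
    (4 : ℤ) ∣ (charDegree χ : ℤ) - δ := by
  classical
  let _ : Fintype G := Fintype.ofFinite G
  let _ : Fintype (P : Subgroup G) := Fintype.ofFinite _
  obtain ⟨m, hm⟩ := IsCharacter.sum_subgroup hχ (P : Subgroup G)
  have hcard : Fintype.card (P : Subgroup G) = 4 := IsKleinFour.card_four'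
  have hsum : ∑ u : (P : Subgroup G), χ u = χ 1 + 3 * (δ : ℂ) := by
    rw [← Finset.add_sum_erase Finset.univ (fun u : (P : Subgroup G) => χ u) (Finset.mem_univ 1)]
    congr 1
    have : ∀ u ∈ (Finset.univ : Finset (P : Subgroup G)).erase 1, χ (u : G) = (δ : ℂ) := by
      intro u hu
      apply hδ u u.2
      intro h
      exact (Finset.mem_erase.1 hu).1 (Subtype.ext h)
    rw [Finset.sum_congr rfl this, Finset.sum_const, Finset.card_erase_of_mem (Finset.mem_univ 1),
      Finset.card_univ, hcard]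
    simp
  rw [hsum, hcard, ← IsCharacter.charDegree_cast hχ] at hm
  refine ⟨m - δ, ?_⟩
  have : ((charDegree χ : ℤ) : ℂ) + 3 * (δ : ℂ) = ((4 * (m : ℤ) : ℤ) : ℂ) := by
    push_cast
    rw [hm]
    push_cast
    ring
  have h2 : (charDegree χ : ℤ) + 3 * δ = 4 * (m : ℤ) := by exact_mod_cast this
  linarith

end

theorem three_signs {ι : Type*} [DecidableEq ι] (S : Finset ι) (f d : ι → ℤ)
    (h1 : ∑ i ∈ S, f i ^ 2 = 3) (h2 : ∀ i ∈ S, f i ≠ 0) (h3 : ∀ i ∈ S, 1 ≤ d i)
    (h4 : 1 + ∑ i ∈ S, d i * f i = 0) :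
    ∃ a b c : ι, a ∈ S ∧ b ∈ S ∧ c ∈ S ∧ a ≠ b ∧ a ≠ c ∧ b ≠ c ∧ S = {a, b, c} ∧
      f a = 1 ∧ f c = -1 ∧ (f b = 1 ∨ f b = -1) := by
  have hsq : ∀ i ∈ S, f i = 1 ∨ f i = -1 := by
    intro i hi
    have hle : f i ^ 2 ≤ 3 := by
      rw [← h1]
      exact Finset.single_le_sum (f := fun i => f i ^ 2) (fun j _ => sq_nonneg (f j)) hi
    have hne := h2 i hi
    have hlt : f i < 2 := by nlinarith
    have hgt : -2 < f i := by nlinarith
    omega
  have hsq1 : ∀ i ∈ S, f i ^ 2 = 1 := by
    intro i hi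
    rcases hsq i hi with h | h <;> rw [h] <;> norm_num
  have hcard : S.card = 3 := by
    have : ∑ i ∈ S, f i ^ 2 = (S.card : ℤ) := by
      rw [Finset.sum_congr rfl hsq1]; simp
    rw [h1] at this
    exact_mod_cast this.symm
  have hdsum : (3 : ℤ) ≤ ∑ i ∈ S, d i := by
    have : ∑ i ∈ S, (1 : ℤ) ≤ ∑ i ∈ S, d i := Finset.sum_le_sum h3
    simpa [hcard] using this
  have ha : ∃ a ∈ S, f a = 1 := by
    by_contra hcon
    push Not at hcon
    have hall : ∀ i ∈ S, d i * f i = - d i := by
      intro i hi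
      rcases hsq i hi with h | h
      · exact absurd h (hcon i hi)
      · rw [h]; ring
    rw [Finset.sum_congr rfl hall, Finset.sum_neg_distrib] at h4
    linarith
  have hc : ∃ c ∈ S, f c = -1 := by
    by_contra hcon
    push Not at hcon
    have hall : ∀ i ∈ S, d i * f i = d i := by
      intro i hi
      rcases hsq i hi with h | h
      · rw [h]; ring
      · exact absurd h (hcon i hi)
    rw [Finset.sum_congr rfl hall] at h4
    linarith
  obtain ⟨a, haS, hfa⟩ := ha
  obtain ⟨c, hcS, hfc⟩ := hc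
  have hac : a ≠ c := by
    rintro rfl
    rw [hfa] at hfc
    omega
  have hcard2 : ((S.erase a).erase c).card = 1 := by
    rw [Finset.card_erase_of_mem (Finset.mem_erase.2 ⟨hac.symm, hcS⟩),
      Finset.card_erase_of_mem haS, hcard]
  obtain ⟨b, hb⟩ := Finset.card_eq_one.1 hcard2
  have hbmem : b ∈ (S.erase a).erase c := by rw [hb]; exact Finset.mem_singleton_self b
  have hbc : b ≠ c := (Finset.mem_erase.1 hbmem).1
  have hba : b ≠ a := (Finset.mem_erase.1 (Finset.mem_erase.1 hbmem).2).1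
  have hbS : b ∈ S := (Finset.mem_erase.1 (Finset.mem_erase.1 hbmem).2).2
  refine ⟨a, b, c, haS, hbS, hcS, hba.symm, hac, hbc, ?_, hfa, hfc, hsq b hbS⟩
  ext i
  constructor
  · intro hi
    by_cases hia : i = a
    · rw [hia]; simp
    by_cases hic : i = c
    · rw [hic]; simp
    have : i ∈ (S.erase a).erase c := Finset.mem_erase.2 ⟨hic, Finset.mem_erase.2 ⟨hia, hi⟩⟩
    rw [hb, Finset.mem_singleton] at this
    rw [this]; simp
  · intro hi
    simp only [Finset.mem_insert, Finset.mem_singleton] at hi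
    rcases hi with rfl | rfl | rfl
    · exact haS
    · exact hbS
    · exact hcS


end Cfsg.Agent.Lib.Helper22
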