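import Mathlib
import Cfsg.Agent.Lib.Helper06.NFDefs
import Cfsg.Agent.Lib.Helper02.FpfCyclic

/-!
# K-S0688-2 (for helper6): in a fixed-point-free linear group the abelian subgroups are cyclic
-/

set_option autoImplicit false

namespace Cfsg.Agent.Lib.Helper22.NF

open Cfsg.Agent.Lib.Helper06.NF

variable {p : ℕ} [Fact p.Prime] {V : Type*} [AddCommGroup V] [Module (ZMod p) V]

/-- the action of a subgroup of a subgroup of `GL(V)` on `Multiplicative V` -/
@[reducible] def mulAct (H : Subgroup (V ≃ₗ[ZMod p] V)) (M : Subgroup H) :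
    MulDistribMulAction M (Multiplicative V) where
  smul m w := Multiplicative.ofAdd (((m : H) : V ≃ₗ[ZMod p] V) (Multiplicative.toAdd w))
  one_smul w := by
    change Multiplicative.ofAdd ((((1 : M) : H) : V ≃ₗ[ZMod p] V) (Multiplicative.toAdd w)) = w
    simp
  mul_smul a b w := by
    change Multiplicative.ofAdd ((((a * b : M) : H) : V ≃ₗ[ZMod p] V) (Multiplicative.toAdd w)) =
      Multiplicative.ofAdd (((a : H) : V ≃ₗ[ZMod p] V) (Multiplicative.toAdd
        (Multiplicative.ofAdd (((b : H) : V ≃ₗ[ZMod p] V) (Multiplicative.toAdd w)))))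
    simp [LinearEquiv.mul_apply]
  smul_mul a w₁ w₂ := by
    change Multiplicative.ofAdd (((a : H) : V ≃ₗ[ZMod p] V) (Multiplicative.toAdd (w₁ * w₂))) =
      Multiplicative.ofAdd (((a : H) : V ≃ₗ[ZMod p] V) (Multiplicative.toAdd w₁)) *
      Multiplicative.ofAdd (((a : H) : V ≃ₗ[ZMod p] V) (Multiplicative.toAdd w₂))
    rw [toAdd_mul, map_add, ofAdd_add]
  smul_one a := by
    change Multiplicative.ofAdd (((a : H) : V ≃ₗ[ZMod p] V) (Multiplicative.toAdd (1 : Multiplicative V))) = 1
    simp

theorem cyc_of_fpf [Finite V] [Nontrivial V] (H : Subgroup (V ≃ₗ[ZMod p] V))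
    (hfpf : ∀ h : H, ∀ v : V, v ≠ 0 → (h : V ≃ₗ[ZMod p] V) v = v → h = 1)
    (M : Subgroup H) (hM : ∀ a ∈ M, ∀ b ∈ M, a * b = b * a) : IsCyclic M := by
  haveI : Finite H := finite_subgroup_linearEquiv H
  letI : MulDistribMulAction M (Multiplicative V) := mulAct H M
  haveI : Nontrivial (Multiplicative V) := inferInstanceAs (Nontrivial V)
  haveI : Finite (Multiplicative V) := inferInstanceAs (Finite V)
  apply Cfsg.Agent.Lib.Helper02.isCyclic_of_fpf_of_comm (A := M) (W := Multiplicative V)
  · intro a ha w hw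
    by_contra hw1
    apply ha
    have hv : Multiplicative.toAdd w ≠ 0 := fun h0 => hw1 (by
      have : w = Multiplicative.ofAdd (Multiplicative.toAdd w) := rfl
      rw [this, h0]; rfl)
    have hfix : ((a : H) : V ≃ₗ[ZMod p] V) (Multiplicative.toAdd w) = Multiplicative.toAdd w := by
      have h1 : Multiplicative.ofAdd (((a : H) : V ≃ₗ[ZMod p] V) (Multiplicative.toAdd w)) = w := hw
      exact congrArg Multiplicative.toAdd h1
    have := hfpf (a : H) _ hv hfix
    exact Subtype.ext this
  · intro a b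
    exact Subtype.ext (hM a a.2 b b.2)

end Cfsg.Agent.Lib.Helper22.NF
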