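import Mathlib

/-!
# K-SylAlt-P1a (keystone 292901, for S2929)

A transitive permutation group generated by 3-cycles contains the alternating group.
-/

set_option autoImplicit false

namespace Cfsg.Agent.Lib.Helper22.SylAlt

open Equiv Equiv.Perm
open scoped Pointwise

/-- A 3-cycle that is a member of a family generating a group preserves every block with at least two
points of that group. -/
theorem threeCycle_smul_block_eq {β : Type*} [Fintype β] [DecidableEq β]
    (S : Set (Perm β)) (s : Perm β) (hs : s ∈ S) (h3 : s.IsThreeCycle)
    (B : Set β) (hB : MulAction.IsBlock ↥(Subgroup.closure S) B)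
    (x y : β) (hx : x ∈ B) (hy : y ∈ B) (hxy : x ≠ y) : s • B = B := by
  classical
  rcases (MulAction.isBlock_iff_smul_eq_or_disjoint.mp hB)
    ⟨s, Subgroup.subset_closure hs⟩ with h | h
  · exact h
  · exfalso
    have hsx : s x ∉ B := fun hh => Set.disjoint_left.mp h ⟨x, hx, rfl⟩ hh
    have hsy : s y ∉ B := fun hh => Set.disjoint_left.mp h ⟨y, hy, rfl⟩ hh
    have h1 : s x ≠ x := fun hh => hsx (hh.symm ▸ hx)
    have h2 : s y ≠ y := fun hh => hsy (hh.symm ▸ hy)
    have hsub : ({x, y, s x, s y} : Finset β) ⊆ s.support := by
      intro z hz
      simp only [Finset.mem_insert, Finset.mem_singleton] at hz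
      rw [Equiv.Perm.mem_support]
      rcases hz with rfl | rfl | rfl | rfl
      · exact h1
      · exact h2
      · exact fun hh => h1 (s.injective hh)
      · exact fun hh => h2 (s.injective hh)
    have hcard : ({x, y, s x, s y} : Finset β).card = 4 := by
      rw [Finset.card_insert_of_notMem, Finset.card_insert_of_notMem, Finset.card_pair]
      · exact fun hh => hxy (s.injective hh)
      · simp only [Finset.mem_insert, Finset.mem_singleton, not_or]
        exact ⟨fun hh => hsx (hh ▸ hy), fun hh => hsy (hh ▸ hy)⟩
      · simp only [Finset.mem_insert, Finset.mem_singleton, not_or]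
        exact ⟨hxy, fun hh => hsx (hh ▸ hx), fun hh => hsy (hh ▸ hx)⟩
    have := Finset.card_le_card hsub
    rw [h3.card_support, hcard] at this
    omega

/-- **K-SylAlt-P1a.** A transitive permutation group generated by 3-cycles contains the alternating
group. -/
theorem alternatingGroup_le_of_transitive_of_closure_threeCycle {β : Type*} [Fintype β]
    [DecidableEq β]
    (S : Set (Perm β)) (hS : ∀ t ∈ S, t.IsThreeCycle)
    (htr : MulAction.IsPretransitive ↥(Subgroup.closure S) β) :
    alternatingGroup β ≤ Subgroup.closure S := by
  classical
  rcases S.eq_empty_or_nonempty with hSe | ⟨t, ht⟩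
  · subst hSe
    have hsub : Subsingleton β := by
      constructor
      intro a b
      obtain ⟨⟨g, hgm⟩, hg⟩ := htr.exists_smul_eq a b
      have h1 : g = 1 := by
        have h := hgm
        rw [Subgroup.closure_empty, Subgroup.mem_bot] at h
        exact h
      rw [← hg]
      show a = g a
      rw [h1]; rfl
    intro p _
    have : p = 1 := Subsingleton.elim _ _
    rw [this]; exact one_mem _
  · have hprim : MulAction.IsPreprimitive ↥(Subgroup.closure S) β := by
      refine { toIsPretransitive := htr, isTrivialBlock_of_isBlock := ?_ }
      intro B hB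
      by_cases hBs : B.Subsingleton
      · exact Or.inl hBs
      · right
        obtain ⟨x, hx, y, hy, hxy⟩ := Set.not_subsingleton_iff.mp hBs
        have hstab : Subgroup.closure S ≤ MulAction.stabilizer (Perm β) B := by
          rw [Subgroup.closure_le]
          intro s hs
          exact MulAction.mem_stabilizer_iff.mpr
            (threeCycle_smul_block_eq S s hs (hS s hs) B hB x y hx hy hxy)
        apply Set.eq_univ_of_forall
        intro z
        obtain ⟨g, hg⟩ := htr.exists_smul_eq x z
        have hgB : (g : Perm β) • B = B := MulAction.mem_stabilizer_iff.mp (hstab g.2)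
        rw [← hgB, ← hg]
        exact ⟨x, hx, rfl⟩
    exact Equiv.Perm.alternatingGroup_le_of_isPreprimitive_of_isThreeCycle_mem hprim (hS t ht)
      (Subgroup.subset_closure ht)

end Cfsg.Agent.Lib.Helper22.SylAlt
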