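import Mathlib
import Cfsg.Prelude.Def_GeometricClasses
import Cfsg.Agent.Lib.Helper61.AschDefs
import Cfsg.Agent.Lib.Helper43.AltForm

/-!
# K-S5630-C4 (for helper61's S5630): a group normalizing an absolutely irreducible group `X`
(`spanAlg X = ⊤`) which fixes a non-degenerate form lies in the similarity group of the form.
-/

set_option autoImplicit false

namespace Cfsg.Agent.Lib.Helper22.Asch

open Cfsg Cfsg.Geo Cfsg.Agent.Lib.Helper61.Asch
open scoped Matrix Kronecker MatrixGroups

section core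

variable {F : Type*} [Field F] {n : ℕ}

local notation "V" => (Fin n → F)
local notation "Mat" => Matrix (Fin n) (Fin n) F

/-- entrywise application of a field automorphism -/
noncomputable def tw (σ : F ≃+* F) (A : Mat) : Mat := A.map σ

theorem tw_mul (σ : F ≃+* F) (A B : Mat) : tw σ (A * B) = tw σ A * tw σ B := by
  unfold tw
  exact Matrix.map_mul (f := (σ : F →+* F))

theorem tw_one (σ : F ≃+* F) : tw σ (1 : Mat) = 1 := by
  unfold tw
  exact Matrix.map_one σ (map_zero σ) (map_one σ)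

theorem tw_add (σ : F ≃+* F) (A B : Mat) : tw σ (A + B) = tw σ A + tw σ B := by
  unfold tw
  exact Matrix.map_add σ (map_add σ) A B

theorem tw_symm_tw (σ : F ≃+* F) (A : Mat) : tw σ (tw σ.symm A) = A := by
  unfold tw
  ext i j
  simp

theorem tw_algebraMap (σ : F ≃+* F) (r : F) :
    tw σ (algebraMap F Mat r) = algebraMap F Mat (σ r) := by
  unfold tw
  ext i j
  simp only [Matrix.map_apply, Matrix.algebraMap_matrix_apply]
  split_ifs <;> simp

/-- **Core matrix lemma.** -/
theorem core_scalar (σ : F ≃+* F) (M : Mat) (hM : IsUnit M) (X : Subgroup (GL (Fin n) F))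
    (hX : spanAlg X = ⊤)
    (hfix : ∀ x ∈ X, ((x : GL (Fin n) F) : Mat)ᵀ * M * tw σ (x : Mat) = M)
    (k : GL (Fin n) F) (hk : ∀ x ∈ X, k * x * k⁻¹ ∈ X) :
    ∃ c : F, ((k : GL (Fin n) F) : Mat)ᵀ * M * tw σ (k : Mat) = c • M := by
  obtain ⟨Mu, rfl⟩ := hM
  set M' : Mat := ((k : GL (Fin n) F) : Mat)ᵀ * (Mu : Mat) * tw σ (k : Mat) with hM'
  -- Step 1
  have h1 : ∀ x ∈ X, ((x : GL (Fin n) F) : Mat)ᵀ * M' * tw σ (x : Mat) = M' := by
    intro x hx
    have hx' := hk x hx
    have hkx : (k : Mat) * (x : Mat) = ((k * x * k⁻¹ : GL (Fin n) F) : Mat) * (k : Mat) := by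
      rw [← Units.val_mul, ← Units.val_mul]
      congr 1
      group
    have e1 : ((x : GL (Fin n) F) : Mat)ᵀ * M' * tw σ (x : Mat) =
        ((k : Mat) * (x : Mat))ᵀ * (Mu : Mat) * tw σ ((k : Mat) * (x : Mat)) := by
      rw [hM', Matrix.transpose_mul, tw_mul]
      simp only [Matrix.mul_assoc]
    rw [e1, hkx, Matrix.transpose_mul, tw_mul]
    have := hfix _ hx'
    calc (k : Mat)ᵀ * ((k * x * k⁻¹ : GL (Fin n) F) : Mat)ᵀ * (Mu : Mat) *
          (tw σ ((k * x * k⁻¹ : GL (Fin n) F) : Mat) * tw σ (k : Mat))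
        = (k : Mat)ᵀ * (((k * x * k⁻¹ : GL (Fin n) F) : Mat)ᵀ * (Mu : Mat) *
          tw σ ((k * x * k⁻¹ : GL (Fin n) F) : Mat)) * tw σ (k : Mat) := by
          simp only [Matrix.mul_assoc]
      _ = M' := by rw [this]
  -- Step 2
  set C : Mat := ((Mu⁻¹ : Matˣ) : Mat) * M' with hC
  have hMC : (Mu : Mat) * C = M' := by
    rw [hC, ← Matrix.mul_assoc, ← Units.val_mul, mul_inv_cancel, Units.val_one, Matrix.one_mul]
  have h2 : ∀ x ∈ X, C * tw σ (x : Mat) = tw σ (x : Mat) * C := by
    intro x hx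
    have hxinv : tw σ (x : Mat) * tw σ ((x⁻¹ : GL (Fin n) F) : Mat) = 1 := by
      rw [← tw_mul, ← Units.val_mul, mul_inv_cancel, Units.val_one, tw_one]
    have ha : ((x : GL (Fin n) F) : Mat)ᵀ * (Mu : Mat) =
        (Mu : Mat) * tw σ ((x⁻¹ : GL (Fin n) F) : Mat) := by
      have := hfix x hx
      calc ((x : GL (Fin n) F) : Mat)ᵀ * (Mu : Mat)
          = ((x : GL (Fin n) F) : Mat)ᵀ * (Mu : Mat) * (tw σ (x : Mat) *
              tw σ ((x⁻¹ : GL (Fin n) F) : Mat)) := by rw [hxinv, Matrix.mul_one]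
        _ = (((x : GL (Fin n) F) : Mat)ᵀ * (Mu : Mat) * tw σ (x : Mat)) *
              tw σ ((x⁻¹ : GL (Fin n) F) : Mat) := by simp only [Matrix.mul_assoc]
        _ = (Mu : Mat) * tw σ ((x⁻¹ : GL (Fin n) F) : Mat) := by rw [this]
    have hb : (Mu : Mat) * (tw σ ((x⁻¹ : GL (Fin n) F) : Mat) * C * tw σ (x : Mat)) =
        (Mu : Mat) * C := by
      have := h1 x hx
      rw [← hMC] at this
      calc (Mu : Mat) * (tw σ ((x⁻¹ : GL (Fin n) F) : Mat) * C * tw σ (x : Mat))
          = ((Mu : Mat) * tw σ ((x⁻¹ : GL (Fin n) F) : Mat)) * C * tw σ (x : Mat) := by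
            simp only [Matrix.mul_assoc]
        _ = ((x : GL (Fin n) F) : Mat)ᵀ * ((Mu : Mat) * C) * tw σ (x : Mat) := by
            rw [← ha]; simp only [Matrix.mul_assoc]
        _ = (Mu : Mat) * C := this
    have hc : tw σ ((x⁻¹ : GL (Fin n) F) : Mat) * C * tw σ (x : Mat) = C := by
      have := congrArg (fun A => ((Mu⁻¹ : Matˣ) : Mat) * A) hb
      simp only [← Matrix.mul_assoc, ← Units.val_mul, inv_mul_cancel, Units.val_one,
        Matrix.one_mul] at this
      exact this
    calc C * tw σ (x : Mat) = (tw σ (x : Mat) * tw σ ((x⁻¹ : GL (Fin n) F) : Mat)) *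
          C * tw σ (x : Mat) := by rw [hxinv, Matrix.one_mul]
      _ = tw σ (x : Mat) * (tw σ ((x⁻¹ : GL (Fin n) F) : Mat) * C * tw σ (x : Mat)) := by
          simp only [Matrix.mul_assoc]
      _ = tw σ (x : Mat) * C := by rw [hc]
  -- Step 3
  have h3 : ∀ A : Mat, C * tw σ A = tw σ A * C := by
    intro A
    have hA : A ∈ Algebra.adjoin F (matrixSet X) := by
      have : A ∈ (⊤ : Subalgebra F Mat) := Algebra.mem_top
      rw [← hX] at this
      exact this
    induction hA using Algebra.adjoin_induction with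
    | mem A hA =>
      obtain ⟨x, hx, rfl⟩ := hA
      exact h2 x hx
    | algebraMap r =>
      rw [tw_algebraMap]
      exact (Algebra.commutes (σ r) C).symm
    | add A B _ _ ihA ihB =>
      rw [tw_add, Matrix.mul_add, Matrix.add_mul, ihA, ihB]
    | mul A B _ _ ihA ihB =>
      rw [tw_mul, ← Matrix.mul_assoc, ihA, Matrix.mul_assoc, ihB, Matrix.mul_assoc]
  have h4 : ∀ A : Mat, C * A = A * C := by
    intro A
    have := h3 (tw σ.symm A)
    rwa [tw_symm_tw] at this
  have h5 : C ∈ Set.range (Matrix.scalar (Fin n)) := by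
    rw [Matrix.mem_range_scalar_iff_commute_single']
    intro i j
    exact (h4 _).symm
  obtain ⟨c, hc⟩ := h5
  refine ⟨c, ?_⟩
  rw [← hMC, ← hc]
  rw [Matrix.scalar_apply, ← Matrix.smul_one_eq_diagonal, Matrix.mul_smul, Matrix.mul_one]


/-! ## forms and Gram matrices -/

/-- a form additive in both arguments, linear in the first, `σ`-semilinear in the second -/
structure IsSesq (σ : F ≃+* F) (f : V → V → F) : Prop where
  add_left : ∀ x y v, f (x + y) v = f x v + f y v
  smul_left : ∀ (c : F) (x v : V), f (c • x) v = c * f x v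
  add_right : ∀ v x y, f v (x + y) = f v x + f v y
  smul_right : ∀ (c : F) (v x : V), f v (c • x) = σ c * f v x

/-- the Gram matrix of a form in the standard basis -/
def gram (f : V → V → F) : Mat := Matrix.of fun i j => f (Pi.single i 1) (Pi.single j 1)

theorem comp_single (σ : F ≃+* F) (j : Fin n) :
    (σ ∘ (Pi.single j (1 : F) : V)) = Pi.single j 1 := by
  funext i
  simp only [Function.comp_apply, Pi.single_apply]
  split_ifs <;> simp

theorem sesq_eq (σ : F ≃+* F) (f : V → V → F) (hf : IsSesq σ f) (u v : V) :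
    f u v = u ⬝ᵥ (gram f *ᵥ (σ ∘ v)) := by
  let g : LinearMap.BilinForm F V :=
    LinearMap.mk₂ F (fun u w => f u (σ.symm ∘ w))
      (fun x y w => hf.add_left x y _)
      (fun c x w => hf.smul_left c x _)
      (fun x w w' => by
        have : (σ.symm ∘ (w + w')) = (σ.symm ∘ w) + (σ.symm ∘ w') := by
          funext i; simp
        change f x (σ.symm ∘ (w + w')) = f x (σ.symm ∘ w) + f x (σ.symm ∘ w')
        rw [this, hf.add_right])
      (fun c x w => by
        have : (σ.symm ∘ (c • w)) = σ.symm c • (σ.symm ∘ w) := by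
          funext i; simp
        change f x (σ.symm ∘ (c • w)) = c • f x (σ.symm ∘ w)
        rw [this, hf.smul_right, RingEquiv.apply_symm_apply, smul_eq_mul])
  have h1 : f u v = g u (σ ∘ v) := by
    change f u v = f u (σ.symm ∘ (σ ∘ v))
    congr 1
    funext i
    simp
  have h3 : LinearMap.BilinForm.toMatrix' g = gram f := by
    ext i j
    rw [LinearMap.BilinForm.toMatrix'_apply]
    change f (Pi.single i 1) (σ.symm ∘ (Pi.single j (1 : F) : V)) = f (Pi.single i 1) (Pi.single j 1)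
    rw [comp_single]
  rw [h1, ← Matrix.toBilin'_toMatrix' g, Matrix.toBilin'_apply', h3]

theorem comp_mulVec (σ : F ≃+* F) (A : Mat) (v : V) : (σ ∘ (A *ᵥ v)) = tw σ A *ᵥ (σ ∘ v) := by
  funext i
  exact RingHom.map_mulVec (σ : F →+* F) A v i

theorem sesq_mulVec (σ : F ≃+* F) (f : V → V → F) (hf : IsSesq σ f) (A : Mat) (u v : V) :
    f (A *ᵥ u) (A *ᵥ v) = u ⬝ᵥ ((Aᵀ * gram f * tw σ A) *ᵥ (σ ∘ v)) := by
  rw [sesq_eq σ f hf, comp_mulVec, ← Matrix.vecMul_transpose, ← Matrix.dotProduct_mulVec,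
    Matrix.mulVec_mulVec, Matrix.mulVec_mulVec, Matrix.mul_assoc]

theorem mat_eq_of_forall (σ : F ≃+* F) (A B : Mat)
    (h : ∀ u v : V, u ⬝ᵥ (A *ᵥ (σ ∘ v)) = u ⬝ᵥ (B *ᵥ (σ ∘ v))) : A = B := by
  ext i j
  have := h (Pi.single i 1) (Pi.single j 1)
  rw [comp_single] at this
  simpa using this

theorem gram_fix (σ : F ≃+* F) (f : V → V → F) (hf : IsSesq σ f) (A : Mat)
    (h : ∀ u v, f (A *ᵥ u) (A *ᵥ v) = f u v) : Aᵀ * gram f * tw σ A = gram f := by
  apply mat_eq_of_forall σ
  intro u v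
  rw [← sesq_mulVec σ f hf, ← sesq_eq σ f hf, h]

theorem isUnit_gram (σ : F ≃+* F) (f : V → V → F) (hf : IsSesq σ f)
    (hnd : ∀ v : V, v ≠ 0 → ∃ x, f x v ≠ 0) : IsUnit (gram f) := by
  rw [← Matrix.mulVec_injective_iff_isUnit]
  intro w w' hww
  by_contra hne
  have hd : w - w' ≠ 0 := sub_ne_zero.mpr hne
  have hv : (σ.symm ∘ (w - w')) ≠ 0 := by
    intro h0
    apply hd
    funext i
    have := congrFun h0 i
    simp only [Function.comp_apply, Pi.zero_apply] at this
    have h2 := congrArg σ this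
    simpa using h2
  obtain ⟨x, hx⟩ := hnd _ hv
  apply hx
  rw [sesq_eq σ f hf]
  have : (σ ∘ (σ.symm ∘ (w - w'))) = w - w' := by funext i; simp
  rw [this, Matrix.mulVec_sub]
  have h2 : gram f *ᵥ w = gram f *ᵥ w' := hww
  rw [h2, sub_self, dotProduct_zero]

/-- the similarity statement with a possibly zero multiplier -/
theorem sesq_similarity_aux (σ : F ≃+* F) (f : V → V → F) (hf : IsSesq σ f)
    (hnd : ∀ v : V, v ≠ 0 → ∃ x, f x v ≠ 0)
    (K X : Subgroup (GL (Fin n) F)) (hX : spanAlg X = ⊤) (hKX : NormBy K X)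
    (hfix : FixesForm (matrixSet X) f) (k : GL (Fin n) F) (hk : k ∈ K) :
    ∃ c : F, ∀ u v, f ((k : Mat) *ᵥ u) ((k : Mat) *ᵥ v) = c * f u v := by
  have hM := isUnit_gram σ f hf hnd
  have hfixM : ∀ x ∈ X, ((x : GL (Fin n) F) : Mat)ᵀ * gram f * tw σ (x : Mat) = gram f := by
    intro x hx
    exact gram_fix σ f hf _ (hfix _ ⟨x, hx, rfl⟩)
  obtain ⟨c, hc⟩ := core_scalar σ (gram f) hM X hX hfixM k (fun x hx => hKX k hk x hx)
  refine ⟨c, fun u v => ?_⟩
  rw [sesq_mulVec σ f hf, hc, Matrix.smul_mulVec, dotProduct_smul, smul_eq_mul, ← sesq_eq σ f hf]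

/-- the similarity statement with a unit multiplier -/
theorem sesq_similarity (σ : F ≃+* F) (f : V → V → F) (hf : IsSesq σ f)
    (hnd : ∀ v : V, v ≠ 0 → ∃ x, f x v ≠ 0)
    (K X : Subgroup (GL (Fin n) F)) (hX : spanAlg X = ⊤) (hKX : NormBy K X)
    (hfix : FixesForm (matrixSet X) f) : K ≤ similarityGroup f := by
  intro k hk
  obtain ⟨c, hc⟩ := sesq_similarity_aux σ f hf hnd K X hX hKX hfix k hk
  by_cases h0 : c = 0
  · -- then `f` vanishes identically
    have hzero : ∀ u v, f u v = 0 := by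
      intro u v
      have := hc (((k⁻¹ : GL (Fin n) F) : Mat) *ᵥ u) (((k⁻¹ : GL (Fin n) F) : Mat) *ᵥ v)
      rw [Matrix.mulVec_mulVec, Matrix.mulVec_mulVec, ← Units.val_mul, mul_inv_cancel, Units.val_one,
        Matrix.one_mulVec, Matrix.one_mulVec, h0, zero_mul] at this
      exact this
    exact ⟨1, fun u v => by rw [hzero, hzero, mul_zero]⟩
  · exact ⟨Units.mk0 c h0, fun u v => by rw [Units.val_mk0]; exact hc u v⟩


theorem isSesq_of_bilinear (f : V → V → F) (hf : IsBilinearForm f) : IsSesq (RingEquiv.refl F) f where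
  add_left := hf.add_left
  smul_left := hf.smul_left
  add_right := hf.add_right
  smul_right := fun c v x => by rw [hf.smul_right]; rfl

theorem isSesq_of_unitary (σ : F ≃+* F) (f : V → V → F) (hf : IsUnitaryForm σ f) : IsSesq σ f where
  add_left := hf.add_left
  smul_left := hf.smul_left
  add_right := fun v x y => by
    rw [hf.herm v (x + y), hf.add_left, map_add, ← hf.herm, ← hf.herm]
  smul_right := fun c v x => by
    rw [hf.herm v (c • x), hf.smul_left, map_mul, ← hf.herm]

end core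

/-! ## the three keystones -/

section final

variable {F : Type*} [Field F] [Fintype F] {n : ℕ}

local notation "V" => (Fin n → F)
local notation "Mat" => Matrix (Fin n) (Fin n) F

/-- K-S5630-C4a -/
theorem le_similarityGroup_of_fixes_symplectic (K X : Subgroup (GL (Fin n) F)) (hX : spanAlg X = ⊤)
    (hKX : NormBy K X) (f : V → V → F) (hf : IsSymplecticForm f) (hfix : FixesForm (matrixSet X) f) :
    K ≤ similarityGroup f ∧ Even n := by
  refine ⟨sesq_similarity (RingEquiv.refl F) f (isSesq_of_bilinear f hf.bilinear)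
    (fun v hv => (hf.nondegenerate v hv).1) K X hX hKX hfix, ?_⟩
  let B : LinearMap.BilinForm F V :=
    LinearMap.mk₂ F f hf.bilinear.add_left (fun c x w => by rw [hf.bilinear.smul_left]; rfl)
      hf.bilinear.add_right (fun c x w => by rw [hf.bilinear.smul_right]; rfl)
  have hA : B.IsAlt := fun v => hf.alternating v
  have hN : B.Nondegenerate := by
    constructor
    · intro x hx
      by_contra hx0
      obtain ⟨y, hy⟩ := (hf.nondegenerate x hx0).2
      exact hy (hx y)
    · intro y hy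
      by_contra hy0
      obtain ⟨x, hx⟩ := (hf.nondegenerate y hy0).1
      exact hx (hy x)
  have := Cfsg.Agent.Lib.Helper43.even_finrank_of_isAlt_nondegenerate B hA hN
  rwa [Module.finrank_fin_fun] at this

/-- K-S5630-C4b -/
theorem le_similarityGroup_of_fixes_unitary (K X : Subgroup (GL (Fin n) F)) (hX : spanAlg X = ⊤)
    (hKX : NormBy K X) (σ : F ≃+* F) (f : V → V → F) (hf : IsUnitaryForm σ f)
    (hfix : FixesForm (matrixSet X) f) :
    K ≤ similarityGroup f :=
  sesq_similarity σ f (isSesq_of_unitary σ f hf) (fun v hv => (hf.nondegenerate v hv).1)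
    K X hX hKX hfix

/-- K-S5630-C4c -/
theorem le_quadSimilarityGroup_of_fixes (K X : Subgroup (GL (Fin n) F))
    (hX : spanAlg X = ⊤)
    (hKX : NormBy K X) (hodd : Odd (Fintype.card F)) (Q : V → F) (hQ : IsNondegenerateQuadraticForm Q)
    (hfix : FixesQuadForm (matrixSet X) Q) :
    K ≤ quadSimilarityGroup Q := by
  have h2 : (2 : F) ≠ 0 := by
    apply Ring.two_ne_zero
    intro hchar
    have := FiniteField.even_card_iff_char_two.mp hchar
    rcases hodd with ⟨m, hm⟩
    omega
  -- `X` fixes the polar form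
  have hfixP : FixesForm (matrixSet X) (QuadraticMap.polar Q) := by
    intro s hs u v
    unfold QuadraticMap.polar
    rw [← Matrix.mulVec_add, hfix s hs, hfix s hs, hfix s hs]
  -- `Q v = polar v v / 2`
  have hQp : ∀ v : V, QuadraticMap.polar Q v v = 2 * Q v := by
    intro v
    unfold QuadraticMap.polar
    have : v + v = (2 : F) • v := (two_smul F v).symm
    rw [this, hQ.smul]
    ring
  intro k hk
  obtain ⟨c, hc⟩ := sesq_similarity_aux (RingEquiv.refl F) (QuadraticMap.polar Q)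
    (isSesq_of_bilinear _ hQ.polar_bilinear) (fun v hv => (hQ.nondegenerate v hv).1)
    K X hX hKX hfixP k hk
  have hQk : ∀ v, Q ((k : Mat) *ᵥ v) = c * Q v := by
    intro v
    have h := hc v v
    rw [hQp, hQp] at h
    have : (2 : F) * Q ((k : Mat) *ᵥ v) = 2 * (c * Q v) := by rw [h]; ring
    exact mul_left_cancel₀ h2 this
  by_cases h0 : c = 0
  · have hzero : ∀ v, Q v = 0 := by
      intro v
      have := hQk (((k⁻¹ : GL (Fin n) F) : Mat) *ᵥ v)
      rw [Matrix.mulVec_mulVec, ← Units.val_mul, mul_inv_cancel, Units.val_one,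
        Matrix.one_mulVec, h0, zero_mul] at this
      exact this
    exact ⟨1, fun v => by rw [hzero, hzero, mul_zero]⟩
  · exact ⟨Units.mk0 c h0, fun v => by rw [Units.val_mk0]; exact hQk v⟩

end final

end Cfsg.Agent.Lib.Helper22.Asch
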