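import Mathlib
import Cfsg.Prelude.Def_GeometricClasses
import Cfsg.Agent.Lib.Helper61.AschDefs

/-!
# K-S5630-A3 (for helper61's S5630): an irreducible group generated by elements lying in `A` or
centralizing `A` makes `V` an isotypic `A`-module.
-/

set_option autoImplicit false

namespace Cfsg.Agent.Lib.Helper22.Asch

open Cfsg Cfsg.Geo Cfsg.Agent.Lib.Helper61.Asch
open scoped Matrix Kronecker MatrixGroups

variable {F : Type*} [Field F] [Fintype F] {n : ℕ}

/-- the matrix of an element of `GL` acts injectively -/
theorem toLin'_injective_of_GL (g : GL (Fin n) F) :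
    Function.Injective (Matrix.toLin' (g : Matrix (Fin n) (Fin n) F)) := by
  apply Function.LeftInverse.injective
    (g := Matrix.toLin' ((g⁻¹ : GL (Fin n) F) : Matrix (Fin n) (Fin n) F))
  intro v
  rw [← LinearMap.comp_apply, ← Matrix.toLin'_mul, ← Units.val_mul, inv_mul_cancel, Units.val_one,
    Matrix.toLin'_one]
  rfl

/-- an invertible matrix mapping a subspace into itself maps it onto itself -/
theorem map_eq_of_map_le (g : GL (Fin n) F) (W : Submodule F (Fin n → F))
    (h : W.map (Matrix.toLin' (g : Matrix (Fin n) (Fin n) F)) ≤ W) :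
    W.map (Matrix.toLin' (g : Matrix (Fin n) (Fin n) F)) = W := by
  apply Submodule.eq_of_le_of_finrank_eq h
  exact (Submodule.equivMapOfInjective _ (toLin'_injective_of_GL g) W).finrank_eq.symm

theorem isIsotypic_of_generated (N : Subgroup (GL (Fin n) F))
    (A : Subalgebra F (Matrix (Fin n) (Fin n) F))
    (hN : ActsIrreducibly (matrixSet N)) (hss : IsSemisimpleModule A (Fin n → F))
    (S : Set (GL (Fin n) F)) (hS : N ≤ Subgroup.closure S)
    (hgen : ∀ g ∈ S, (g : Matrix (Fin n) (Fin n) F) ∈ A ∨
      ∀ x ∈ A, (g : Matrix (Fin n) (Fin n) F) * x = x * (g : Matrix (Fin n) (Fin n) F)) :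
    IsIsotypic A (Fin n → F) := by
  rw [isIsotypic_iff_isFullyInvariant_imp_bot_or_top]
  intro W hW
  -- the underlying `F`-subspace
  have key : ∀ g ∈ Subgroup.closure S,
      (W.restrictScalars F).map (Matrix.toLin' (g : Matrix (Fin n) (Fin n) F)) =
        W.restrictScalars F := by
    intro g hg
    induction hg using Subgroup.closure_induction with
    | mem g hgS =>
      apply map_eq_of_map_le
      rintro _ ⟨v, hv, rfl⟩
      have hvW : v ∈ W := hv
      rcases hgen g hgS with hA | hC
      · -- `g ∈ A`
        have : (⟨(g : Matrix (Fin n) (Fin n) F), hA⟩ : A) • v ∈ W := W.smul_mem _ hvW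
        exact this
      · -- `g` centralizes `A`: it is an `A`-linear endomorphism
        let f : Module.End A (Fin n → F) :=
          { toFun := fun v => (g : Matrix (Fin n) (Fin n) F) *ᵥ v
            map_add' := fun v w => Matrix.mulVec_add _ v w
            map_smul' := by
              intro a v
              change (g : Matrix (Fin n) (Fin n) F) *ᵥ ((a : Matrix (Fin n) (Fin n) F) *ᵥ v) =
                (a : Matrix (Fin n) (Fin n) F) *ᵥ ((g : Matrix (Fin n) (Fin n) F) *ᵥ v)
              rw [Matrix.mulVec_mulVec, Matrix.mulVec_mulVec, hC a a.2] }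
        have := hW f hvW
        exact this
    | one =>
      simp
    | mul g h _ _ ihg ihh =>
      rw [Units.val_mul, Matrix.toLin'_mul, Submodule.map_comp, ihh, ihg]
    | inv g _ ihg =>
      have h1 : ((W.restrictScalars F).map (Matrix.toLin' (g : Matrix (Fin n) (Fin n) F))).map
          (Matrix.toLin' ((g⁻¹ : GL (Fin n) F) : Matrix (Fin n) (Fin n) F)) = W.restrictScalars F := by
        rw [← Submodule.map_comp, ← Matrix.toLin'_mul, ← Units.val_mul, inv_mul_cancel, Units.val_one,
          Matrix.toLin'_one]
        exact Submodule.map_id _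
      rw [ihg] at h1
      exact h1
  have hinv : ∀ s ∈ matrixSet N, (W.restrictScalars F).map (Matrix.toLin' s) ≤ W.restrictScalars F := by
    rintro _ ⟨g, hg, rfl⟩
    exact (key g (hS hg)).le
  rcases hN (W.restrictScalars F) hinv with h | h
  · left
    rw [eq_bot_iff]
    intro v hv
    have : v ∈ W.restrictScalars F := hv
    rw [h] at this
    exact this
  · right
    rw [eq_top_iff]
    intro v _
    have : v ∈ W.restrictScalars F := by rw [h]; trivial
    exact this

end Cfsg.Agent.Lib.Helper22.Asch
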