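import Mathlib
import Cfsg.Prelude.Def_GeometricClasses
import Cfsg.Agent.Lib.Helper50.TensorNonMax
import Cfsg.Agent.Lib.Helper50.TensorAct2
import Cfsg.Agent.Lib.Helper22.OOddMaxXB

/-!
# K-OEvenX-X11 : `tensor_three_four_le_decomposition` (keystone 582631, architect helper46)

Over the field with three elements, a non-degenerate symmetric form `f₁` on `F³` has a canonical orthogonal frame
`{± w₀, ± w₁, ± w₂}` (`Helper22.OOddMax.exists_frame`).  If the polar form of `Q` is `f₁ ⊗ f₂` (through `e`, `P`) then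
`D j := P (w_j ⊗ F^{n₂})` is an orthogonal isometric decomposition, and every isometry of `Q` in the tensor product
subgroup `P (a ⊗ b) P⁻¹` permutes the `D j`: `a` is a similitude of `f₁`, hence an isometry
(`Helper50.similitude_eq_one`), hence permutes the frame up to signs.
-/

set_option autoImplicit false
set_option linter.unusedSectionVars false

namespace Cfsg.Agent.Lib.Helper22.OEvenX

open Cfsg Cfsg.Geo
open Module QuadraticMap
open Cfsg.Agent.Lib.Helper50
open scoped Matrix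

section gen

variable {F : Type*} [Field F] {ι : Type} [Fintype ι] [DecidableEq ι]

/-- pairwise orthogonal non-degenerate subspaces are independent -/
theorem iSupIndep_of_orthogonal (f : (ι → F) → (ι → F) → F) (hf : IsBilinearForm f) {t : ℕ}
    (D : Fin t → Submodule F (ι → F)) (hnd : ∀ i, IsNondegenerateOn f (D i))
    (horth : ∀ i j, i ≠ j → AreOrthogonalFor f (D i) (D j)) : iSupIndep D := by
  rw [iSupIndep_def]
  intro i
  rw [Submodule.disjoint_def]
  intro x hxi hx
  by_contra hx0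
  obtain ⟨⟨u, hu, hux⟩, -⟩ := hnd i x hxi hx0
  apply hux
  let W : Submodule F (ι → F) :=
    { carrier := {v | ∀ u ∈ D i, f u v = 0}
      add_mem' := by
        intro a b ha hb u hu
        rw [hf.add_right, ha u hu, hb u hu, add_zero]
      zero_mem' := by
        intro u _
        exact bilin_zero_right f hf u
      smul_mem' := by
        intro c a ha u hu
        rw [hf.smul_right, ha u hu, mul_zero] }
  have hle : (⨆ j, ⨆ (_ : j ≠ i), D j) ≤ W := by
    apply iSup₂_le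
    intro j hj v hv u hu
    exact horth i j (Ne.symm hj) u hu v hv
  exact hle hx u hu

/-- the linear map `u ↦ u ⊗ y` -/
def pureLinL {n₁ n₂ : ℕ} (e : ι ≃ Fin n₁ × Fin n₂) (P : GL ι F) (y : Fin n₂ → F) :
    (Fin n₁ → F) →ₗ[F] (ι → F) where
  toFun u := pureT e P u y
  map_add' u u' := pureT_add_left e P u u' y
  map_smul' c u := pureT_smul_left e P c u y

theorem pureT_sum_left {n₁ n₂ : ℕ} (e : ι ≃ Fin n₁ × Fin n₂) (P : GL ι F) {k : ℕ} (x : Fin k → F)
    (w : Fin k → Fin n₁ → F) (y : Fin n₂ → F) :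
    pureT e P (∑ j, x j • w j) y = ∑ j, x j • pureT e P (w j) y := by
  have h := map_sum (pureLinL e P y) (fun j => x j • w j) Finset.univ
  simp only [map_smul] at h
  exact h

variable [Fintype F]

/-- K-OEvenX-X11 for an arbitrary index type and second factor of dimension `n₂ ≥ 2`. -/
theorem tensor_three_le_decomposition_gen (hq : Fintype.card F = 3) {n₂ : ℕ} (hn2 : 2 ≤ n₂)
    (Q : (ι → F) → F) (hQ : IsNondegenerateQuadraticForm Q) (e : ι ≃ Fin 3 × Fin n₂) (P : GL ι F)
    (f₁ : (Fin 3 → F) → (Fin 3 → F) → F) (f₂ : (Fin n₂ → F) → (Fin n₂ → F) → F)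
    (hf₁ : IsSymmetricForm f₁) (hf₂ : IsSymmetricForm f₂)
    (hT : IsTensorFormStructure id (QuadraticMap.polar Q) f₁ f₂ e P) :
    ∃ D : Fin 3 → Submodule F (ι → F), IsOrthogonalMDecomposition Q n₂ D ∧
      tensorProductSubgroup 3 n₂ e P ⊓ isometryGroup F Q ≤ decompositionStabilizer D := by
  classical
  have h2 := two_ne_zero_of_card_three hq
  obtain ⟨c0, hc0, hform0⟩ := form_pureT (polar Q) f₁ f₂ e P hT
  have hform : ∀ u u' y y', polar Q (pureT e P u y) (pureT e P u' y') = c0 * f₁ u u' * f₂ y y' := by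
    intro u u' y y'
    rw [hform0, ← bilin_eq_gram f₁ hf₁.bilinear, ← bilin_eq_gram f₂ hf₂.bilinear]
  have hQpure : ∀ u y, 2 * Q (pureT e P u y) = c0 * f₁ u u * f₂ y y := by
    intro u y
    rw [← hform]
    unfold polar
    have h : pureT e P u y + pureT e P u y = (2 : F) • pureT e P u y := by rw [two_smul]
    rw [h, hQ.smul]
    ring
  -- negation for `f₁`
  have hnegl : ∀ x y, f₁ (-x) y = -f₁ x y := by
    intro x y
    have h := hf₁.bilinear.smul_left (-1) x y
    rw [neg_one_smul] at h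
    rw [h]; ring
  have hnegr : ∀ x y, f₁ x (-y) = -f₁ x y := by
    intro x y
    have h := hf₁.bilinear.smul_right (-1) x y
    rw [neg_one_smul] at h
    rw [h]; ring
  -- the frame of the first factor
  let B1 : LinearMap.BilinForm F (Fin 3 → F) := LinearMap.mk₂ F f₁ hf₁.bilinear.add_left
    hf₁.bilinear.smul_left hf₁.bilinear.add_right hf₁.bilinear.smul_right
  let Q1 : QuadraticForm F (Fin 3 → F) := LinearMap.BilinMap.toQuadraticMap B1
  have hQ1 : ∀ x, Q1 x = f₁ x x := fun x => rfl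
  have hpQ1 : ∀ x y, polar (⇑Q1) x y = 2 * f₁ x y := by
    intro x y
    rw [LinearMap.BilinMap.polar_toQuadraticMap]
    show f₁ x y + f₁ y x = _
    rw [hf₁.symm y x]; ring
  have hnd1 : IsNondegenerateOn (polar (⇑Q1)) ⊤ := by
    intro v _ hv
    obtain ⟨⟨x, hx⟩, -⟩ := hf₁.nondegenerate v hv
    refine ⟨⟨x, trivial, ?_⟩, ⟨x, trivial, ?_⟩⟩
    · rw [hpQ1]; exact mul_ne_zero h2 hx
    · rw [hpQ1, hf₁.symm]; exact mul_ne_zero h2 hx
  obtain ⟨c1, w, hc1, -, hwc, hworth, hwspan, hwcan⟩ :=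
    Cfsg.Agent.Lib.Helper22.OOddMax.exists_frame hq Q1 ⊤
      (by rw [finrank_top, Module.finrank_fin_fun]) hnd1
  have hwc' : ∀ j, f₁ (w j) (w j) = c1 := fun j => by rw [← hQ1]; exact hwc j
  have hworth' : ∀ i j, i ≠ j → f₁ (w i) (w j) = 0 := by
    intro i j hij
    have := hworth i j hij
    rw [hpQ1] at this
    exact (mul_eq_zero.mp this).resolve_left h2
  have hwcan' : ∀ x, f₁ x x = c1 → ∃ j, x = w j ∨ x = -w j := fun x hx =>
    hwcan x trivial (by rw [hQ1]; exact hx)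
  have hwspan' : ∀ u : Fin 3 → F, ∃ x : Fin 3 → F, u = ∑ j, x j • w j := fun u => hwspan u trivial
  have hw0 : ∀ j, ∃ i, w j i ≠ 0 := by
    intro j
    by_contra hall
    push Not at hall
    have : w j = 0 := funext hall
    have h := hwc' j
    rw [this, bilin_zero_left f₁ hf₁.bilinear] at h
    exact hc1 h.symm
  have hinj : ∀ j, Function.Injective (pureLin e P (w j)) := by
    intro j y y' h
    rw [pureLin_apply, pureLin_apply, pureT_eq_iff] at h
    obtain ⟨i, hi⟩ := hw0 j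
    funext k
    exact mul_left_cancel₀ hi (h i k)
  -- the three subspaces
  set D : Fin 3 → Submodule F (ι → F) := fun j => LinearMap.range (pureLin e P (w j)) with hD
  have hmemD : ∀ j y, pureT e P (w j) y ∈ D j := fun j y => ⟨y, rfl⟩
  have hDmem : ∀ j v, v ∈ D j → ∃ y, v = pureT e P (w j) y := by
    rintro j v ⟨y, rfl⟩
    exact ⟨y, rfl⟩
  have htop : iSup D = ⊤ := by
    rw [eq_top_iff]
    intro v _
    have hv := exists_pure_decomp e P v
    rw [hv]
    apply Submodule.sum_mem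
    intro i _
    obtain ⟨x, hx⟩ := hwspan' (Pi.single i 1)
    rw [hx, pureT_sum_left]
    apply Submodule.sum_mem
    intro j _
    apply Submodule.smul_mem
    exact Submodule.mem_iSup_of_mem j (hmemD j _)
  have hnd : ∀ j, IsNondegenerateOn (polar Q) (D j) := by
    intro j v hv hv0
    obtain ⟨y, rfl⟩ := hDmem j v hv
    have hy0 : y ≠ 0 := by
      rintro rfl
      exact hv0 (pureT_zero_right e P (w j))
    obtain ⟨⟨x, hx⟩, ⟨x', hx'⟩⟩ := hf₂.nondegenerate y hy0
    refine ⟨⟨pureT e P (w j) x, hmemD j x, ?_⟩, ⟨pureT e P (w j) x', hmemD j x', ?_⟩⟩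
    · rw [hform, hwc']; exact mul_ne_zero (mul_ne_zero hc0 hc1) hx
    · rw [hform, hwc']; exact mul_ne_zero (mul_ne_zero hc0 hc1) hx'
  have horth : ∀ i j, i ≠ j → AreOrthogonalFor (polar Q) (D i) (D j) := by
    intro i j hij u hu v hv
    obtain ⟨y, rfl⟩ := hDmem i u hu
    obtain ⟨y', rfl⟩ := hDmem j v hv
    rw [hform, hworth' i j hij, mul_zero, zero_mul]
  have hfr : ∀ j, finrank F (D j) = n₂ := by
    intro j
    show finrank F (LinearMap.range (pureLin e P (w j))) = n₂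
    rw [LinearMap.finrank_range_of_inj (hinj j), Module.finrank_fin_fun]
  have hiso : ∀ i j, AreIsometricFor Q (D i) (D j) := by
    intro i j
    let Ei := LinearEquiv.ofInjective (pureLin e P (w i)) (hinj i)
    let Ej := LinearEquiv.ofInjective (pureLin e P (w j)) (hinj j)
    refine ⟨Ei.symm.trans Ej, fun v => ?_⟩
    obtain ⟨y, hy⟩ : ∃ y, v = Ei y := ⟨Ei.symm v, (Ei.apply_symm_apply v).symm⟩
    rw [hy, LinearEquiv.trans_apply, LinearEquiv.symm_apply_apply]
    show Q (pureT e P (w j) y) = Q (pureT e P (w i) y)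
    have h1 := hQpure (w j) y
    have h1' := hQpure (w i) y
    rw [hwc'] at h1 h1'
    exact mul_left_cancel₀ h2 (h1.trans h1'.symm)
  refine ⟨D, ⟨⟨⟨by norm_num, by omega, hfr,
    iSupIndep_of_orthogonal _ hQ.polar_bilinear D hnd horth, htop⟩, hnd, horth⟩, hiso⟩, ?_⟩
  -- the stabiliser
  intro g hg
  obtain ⟨hgt, hgiso⟩ := Subgroup.mem_inf.mp hg
  have hQg : ∀ u, Q ((g : Matrix ι ι F) *ᵥ u) = Q u := fun u => hgiso u u
  have hpolg : ∀ x y, polar Q ((g : Matrix ι ι F) *ᵥ x) ((g : Matrix ι ι F) *ᵥ y) = polar Q x y := by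
    intro x y
    unfold polar
    rw [← Matrix.mulVec_add, hQg, hQg, hQg]
  obtain ⟨a, b, hab⟩ := tensor_mulVec_pureT e P g hgt
  have hinv : ∀ u u' y y', f₁ ((a : Matrix (Fin 3) (Fin 3) F) *ᵥ u) ((a : Matrix (Fin 3) (Fin 3) F) *ᵥ u') *
      f₂ ((b : Matrix (Fin n₂) (Fin n₂) F) *ᵥ y) ((b : Matrix (Fin n₂) (Fin n₂) F) *ᵥ y') =
        f₁ u u' * f₂ y y' := by
    intro u u' y y'
    have h := hpolg (pureT e P u y) (pureT e P u' y')
    rw [hab, hab, hform, hform] at h
    have : c0 * (f₁ ((a : Matrix (Fin 3) (Fin 3) F) *ᵥ u) ((a : Matrix (Fin 3) (Fin 3) F) *ᵥ u') *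
        f₂ ((b : Matrix (Fin n₂) (Fin n₂) F) *ᵥ y) ((b : Matrix (Fin n₂) (Fin n₂) F) *ᵥ y') -
          f₁ u u' * f₂ y y') = 0 := by
      linear_combination h
    rcases mul_eq_zero.mp this with h' | h'
    · exact absurd h' hc0
    · linear_combination h'
  obtain ⟨y0, -, hy0, -, -⟩ := exists_nonsingular_perp_form h2 hn2 f₂ hf₂
  have hb0 : f₂ ((b : Matrix (Fin n₂) (Fin n₂) F) *ᵥ y0) ((b : Matrix (Fin n₂) (Fin n₂) F) *ᵥ y0) ≠ 0 := by
    intro h0
    have := hinv (w 0) (w 0) y0 y0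
    rw [h0, mul_zero, hwc'] at this
    exact mul_ne_zero hc1 hy0 this.symm
  have hsim : ∀ u u', f₁ ((a : Matrix (Fin 3) (Fin 3) F) *ᵥ u) ((a : Matrix (Fin 3) (Fin 3) F) *ᵥ u') =
      (f₂ y0 y0 / f₂ ((b : Matrix (Fin n₂) (Fin n₂) F) *ᵥ y0) ((b : Matrix (Fin n₂) (Fin n₂) F) *ᵥ y0)) *
        f₁ u u' := by
    intro u u'
    have := hinv u u' y0 y0
    field_simp
    linear_combination this
  have hlam1 := similitude_eq_one hq f₁ hf₁ a _ hsim
  rw [hlam1] at hsim
  simp only [one_mul] at hsim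
  have hmem : ∀ j, ∃ k, (a : Matrix (Fin 3) (Fin 3) F) *ᵥ w j = w k ∨
      (a : Matrix (Fin 3) (Fin 3) F) *ᵥ w j = -w k := fun j =>
    hwcan' _ (by rw [hsim, hwc'])
  choose σ hσ using hmem
  have hσinj : Function.Injective σ := by
    intro j j' hjj'
    by_contra hne
    have h0 := hworth' j j' hne
    rw [← hsim] at h0
    rcases hσ j with h1 | h1 <;> rcases hσ j' with h1' | h1' <;> rw [h1, h1', hjj'] at h0 <;>
      simp only [hnegl, hnegr, neg_neg, hwc', neg_eq_zero] at h0 <;>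
      exact hc1 h0
  refine ⟨Equiv.ofBijective σ (Finite.injective_iff_bijective.mp hσinj), fun j => ?_⟩
  show (D j).map (Matrix.toLin' (g : Matrix ι ι F)) = D (σ j)
  apply le_antisymm
  · rintro _ ⟨v, hv, rfl⟩
    obtain ⟨y, rfl⟩ := hDmem j v hv
    rw [Matrix.toLin'_apply, hab]
    rcases hσ j with h | h
    · rw [h]; exact hmemD _ _
    · rw [h, pureT_neg_left]; exact hmemD _ _
  · intro v hv
    obtain ⟨y, rfl⟩ := hDmem (σ j) v hv
    rcases hσ j with h | h
    · refine ⟨pureT e P (w j) (((b⁻¹ : GL (Fin n₂) F) : Matrix (Fin n₂) (Fin n₂) F) *ᵥ y), hmemD j _, ?_⟩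
      rw [Matrix.toLin'_apply, hab, h, Matrix.mulVec_mulVec, ← Units.val_mul, mul_inv_cancel,
        Units.val_one, Matrix.one_mulVec]
    · refine ⟨pureT e P (w j) (((b⁻¹ : GL (Fin n₂) F) : Matrix (Fin n₂) (Fin n₂) F) *ᵥ (-y)),
        hmemD j _, ?_⟩
      rw [Matrix.toLin'_apply, hab, h, pureT_neg_left, Matrix.mulVec_mulVec, ← Units.val_mul,
        mul_inv_cancel, Units.val_one, Matrix.one_mulVec, neg_neg]

end gen

section main

variable {F : Type*} [Field F] [Fintype F]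

/-- K-OEvenX-X11. -/
theorem tensor_three_four_le_decomposition (hq : Fintype.card F = 3) (Q : (Fin 12 → F) → F)
    (hQ : IsNondegenerateQuadraticForm Q) (e : Fin 12 ≃ Fin 3 × Fin 4) (P : GL (Fin 12) F)
    (f₁ : (Fin 3 → F) → (Fin 3 → F) → F) (f₂ : (Fin 4 → F) → (Fin 4 → F) → F)
    (hf₁ : IsSymmetricForm f₁) (hf₂ : IsSymmetricForm f₂)
    (hT : IsTensorFormStructure id (QuadraticMap.polar Q) f₁ f₂ e P) :
    ∃ D : Fin 3 → Submodule F (Fin 12 → F), IsOrthogonalMDecomposition Q 4 D ∧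
      tensorProductSubgroup 3 4 e P ⊓ isometryGroup F Q ≤ decompositionStabilizer D :=
  tensor_three_le_decomposition_gen hq (by norm_num) Q hQ e P f₁ f₂ hf₁ hf₂ hT

end main

end Cfsg.Agent.Lib.Helper22.OEvenX
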