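import Mathlib
import Cfsg.Prelude.Def_OddOrderLocal
import Cfsg.Prelude.Def_Solvable

/-!
# K-S4118-4 : Frattini argument with a TI Hall subgroup (keystone 411804, architect helper11)
-/

set_option autoImplicit false

namespace Cfsg.Agent.Lib.Helper22.TIHall

open scoped Pointwise

/-- a Hall subgroup whose order is divisible by `p` contains a Sylow `p`-subgroup of `G` -/
theorem exists_sylow_le_of_hall {G : Type*} [Group G] [Finite G] (H : Subgroup G)
    (hHallG : (Nat.card H).Coprime H.index) (p : ℕ) [Fact p.Prime] (hpH : p ∣ Nat.card H) :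
    ∃ T : Sylow p G, (T : Subgroup G) ≤ H := by
  have hp : p.Prime := Fact.out
  have hpi : ¬ p ∣ H.index := by
    intro h
    have h1 : p ∣ Nat.gcd (Nat.card H) H.index := Nat.dvd_gcd hpH h
    rw [hHallG] at h1
    exact hp.one_lt.ne' (Nat.dvd_one.mp h1)
  obtain ⟨PH⟩ : Nonempty (Sylow p H) := inferInstance
  have hTG : IsPGroup p ((PH : Subgroup H).map H.subtype) := PH.isPGroup'.map H.subtype
  obtain ⟨T, hT⟩ := hTG.exists_le_sylow
  refine ⟨T, ?_⟩
  have hcardTG : Nat.card ((PH : Subgroup H).map H.subtype) = p ^ (Nat.card H).factorization p := by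
    rw [Nat.card_congr ((PH : Subgroup H).equivMapOfInjective H.subtype H.subtype_injective).symm.toEquiv]
    exact PH.card_eq_multiplicity
  have hcardT : Nat.card (T : Subgroup G) = p ^ (Nat.card G).factorization p := T.card_eq_multiplicity
  have hfac : (Nat.card G).factorization p = (Nat.card H).factorization p := by
    rw [← H.card_mul_index, Nat.factorization_mul Nat.card_pos.ne' (Subgroup.index_ne_zero_of_finite),
      Finsupp.add_apply, Nat.factorization_eq_zero_of_not_dvd hpi, add_zero]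
  have heq : (PH : Subgroup H).map H.subtype = (T : Subgroup G) := by
    apply Subgroup.eq_of_le_of_card_ge hT
    rw [hcardTG, hcardT, hfac]
  rw [← heq]
  exact Subgroup.map_subtype_le _

/-- K4. Frattini argument with TI: `G = R N_G(H)`. -/
theorem sup_normalizer_eq_top_of_ti {G : Type*} [Group G] [Finite G] (H R : Subgroup G) [R.Normal]
    (hTI : Cfsg.IsTISubset (H : Set G)) (hHallG : (Nat.card H).Coprime H.index)
    (p : ℕ) (hp : p.Prime) (hpH : p ∣ Nat.card H) (hpR : p ∣ Nat.card R) :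
    R ⊔ Subgroup.normalizer (H : Set G) = ⊤ := by
  have : Fact p.Prime := ⟨hp⟩
  obtain ⟨T, hTH⟩ := exists_sylow_le_of_hall H hHallG p hpH
  obtain ⟨Q₀⟩ : Nonempty (Sylow p R) := inferInstance
  have hQG : IsPGroup p ((Q₀ : Subgroup R).map R.subtype) := Q₀.isPGroup'.map R.subtype
  obtain ⟨S, hS⟩ := hQG.exists_le_sylow
  obtain ⟨g, hg⟩ := MulAction.exists_smul_eq G S T
  -- conjugating by `g` carries `Q` into `H`
  have hconj : ∀ x ∈ (Q₀ : Subgroup R).map R.subtype, g * x * g⁻¹ ∈ H := by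
    intro x hx
    apply hTH
    rw [← hg, Sylow.smul_def, Sylow.pointwise_smul_def]
    have h1 : MulAut.conj g • x ∈ MulAut.conj g • (S : Subgroup G) :=
      Subgroup.smul_mem_pointwise_smul _ _ _ (hS hx)
    rwa [MulAut.smul_def, MulAut.conj_apply] at h1
  -- a nontrivial element of `Q`
  obtain ⟨x, hxQ, hx1⟩ : ∃ x ∈ (Q₀ : Subgroup R).map R.subtype, x ≠ 1 := by
    have hne : (Q₀ : Subgroup R) ≠ ⊥ := by
      intro h
      have h1 := Q₀.card_eq_multiplicity
      rw [h, Subgroup.card_bot] at h1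
      have h2 : 0 < (Nat.card R).factorization p :=
        hp.factorization_pos_of_dvd Nat.card_pos.ne' hpR
      have h3 : 1 < p ^ (Nat.card R).factorization p := Nat.one_lt_pow h2.ne' hp.one_lt
      omega
    obtain ⟨y, hy1⟩ := (Subgroup.ne_bot_iff_exists_ne_one.mp hne)
    refine ⟨((y : R) : G), Subgroup.mem_map.mpr ⟨(y : R), y.2, rfl⟩, ?_⟩
    intro h
    apply hy1
    exact Subtype.ext (Subtype.ext h)
  have hfrat := Sylow.normalizer_sup_eq_top Q₀
  rw [eq_top_iff]
  intro y _
  have hy' : g⁻¹ * y * g ∈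
      Subgroup.normalizer (((Q₀ : Subgroup R).map R.subtype : Subgroup G) : Set G) ⊔ R := by
    rw [hfrat]; exact Subgroup.mem_top _
  rw [Subgroup.mem_sup_of_normal_right] at hy'
  obtain ⟨n, hn, r, hr, hnr⟩ := hy'
  have hy : y = (g * n * g⁻¹) * (g * r * g⁻¹) := by
    have : g * (g⁻¹ * y * g) * g⁻¹ = y := by group
    rw [← this, ← hnr]; group
  have hrR : g * r * g⁻¹ ∈ R := ‹R.Normal›.conj_mem r hr g
  have hnN : g * n * g⁻¹ ∈ Subgroup.normalizer (H : Set G) := by
    by_contra hcon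
    have hx' : g * x * g⁻¹ ∈ (H : Set G) := hconj x hxQ
    have hnx : n * x * n⁻¹ ∈ (Q₀ : Subgroup R).map R.subtype :=
      (Subgroup.mem_normalizer_iff.mp hn x).mp hxQ
    have h2 : (g * n * g⁻¹) * (g * x * g⁻¹) * (g * n * g⁻¹)⁻¹ ∈ (H : Set G) := by
      have : (g * n * g⁻¹) * (g * x * g⁻¹) * (g * n * g⁻¹)⁻¹ = g * (n * x * n⁻¹) * g⁻¹ := by group
      rw [this]
      exact hconj _ hnx
    have h3 := hTI (g * n * g⁻¹) hcon (g * x * g⁻¹) hx' h2
    apply hx1
    have : x = g⁻¹ * (g * x * g⁻¹) * g := by group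
    rw [this, h3]; group
  rw [hy, sup_comm]
  exact Subgroup.mul_mem_sup hnN hrR

end Cfsg.Agent.Lib.Helper22.TIHall
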