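import Mathlib

/-!
# K-S3779-SS: subset sums mod p (for helper12's S3779)

A list of `p - 1` nonzero residues mod `p` can be permuted so that a prefix sums to any given `t`.
-/

set_option autoImplicit false

namespace Cfsg.Agent.Lib.Helper22.KK

open scoped Pointwise

/-- the finset of all sums of sublists of `l` -/
def subSums {α : Type*} {p : ℕ} (deg : α → ZMod p) : List α → Finset (ZMod p)
  | [] => {0}
  | a :: l => subSums deg l + {0, deg a}

theorem subSums_nonempty {α : Type*} {p : ℕ} (deg : α → ZMod p) (l : List α) :
    (subSums deg l).Nonempty := by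
  induction l with
  | nil => exact ⟨0, by simp [subSums]⟩
  | cons a l ih =>
    simp only [subSums]
    exact Finset.Nonempty.add ih ⟨0, by simp⟩

theorem exists_sublist_of_mem_subSums {α : Type*} {p : ℕ} (deg : α → ZMod p) (l : List α)
    (x : ZMod p) (hx : x ∈ subSums deg l) :
    ∃ s : List α, s.Sublist l ∧ (s.map deg).sum = x := by
  induction l generalizing x with
  | nil =>
    simp only [subSums, Finset.mem_singleton] at hx
    exact ⟨[], List.Sublist.refl _, by simp [hx]⟩
  | cons a l ih =>
    simp only [subSums] at hx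
    obtain ⟨y, hy, z, hz, rfl⟩ := Finset.mem_add.mp hx
    obtain ⟨s, hs, hsum⟩ := ih y hy
    simp only [Finset.mem_insert, Finset.mem_singleton] at hz
    rcases hz with rfl | rfl
    · exact ⟨s, hs.cons a, by simp [hsum]⟩
    · exact ⟨a :: s, hs.cons₂ a, by simp [hsum, add_comm]⟩

theorem card_subSums_ge {α : Type*} (p : ℕ) [Fact p.Prime] (deg : α → ZMod p) (l : List α)
    (hne : ∀ a ∈ l, deg a ≠ 0) :
    min p (l.length + 1) ≤ (subSums deg l).card := by
  induction l with
  | nil => simp [subSums]
  | cons a l ih =>
    have ih' := ih (fun b hb => hne b (List.mem_cons_of_mem _ hb))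
    have ha : deg a ≠ 0 := hne a (List.mem_cons_self)
    simp only [subSums, List.length_cons]
    have h2 : ({0, deg a} : Finset (ZMod p)).card = 2 := by
      rw [Finset.card_insert_of_notMem (by simpa using ha.symm), Finset.card_singleton]
    have hcd := ZMod.cauchy_davenport (Fact.out : p.Prime) (subSums_nonempty deg l)
      (show ({0, deg a} : Finset (ZMod p)).Nonempty from ⟨0, by simp⟩)
    rw [h2] at hcd
    refine le_trans ?_ hcd
    have : (subSums deg l).card + 2 - 1 = (subSums deg l).card + 1 := by omega
    rw [this]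
    omega

theorem exists_perm_append_sum {α : Type*} (p : ℕ) [Fact p.Prime] (deg : α → ZMod p) (l : List α)
    (hl : l.length = p - 1) (hne : ∀ a ∈ l, deg a ≠ 0) (t : ZMod p) :
    ∃ l1 l2 : List α, l.Perm (l1 ++ l2) ∧ (l1.map deg).sum = t := by
  have hp : p.Prime := Fact.out
  have hcard := card_subSums_ge p deg l hne
  have hp1 : l.length + 1 = p := by have := hp.one_lt; omega
  rw [hp1, min_self] at hcard
  have huniv : subSums deg l = Finset.univ := by
    apply Finset.eq_univ_of_card
    have hle : (subSums deg l).card ≤ Fintype.card (ZMod p) := Finset.card_le_univ _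
    rw [ZMod.card] at hle ⊢
    omega
  have ht : t ∈ subSums deg l := by rw [huniv]; exact Finset.mem_univ _
  obtain ⟨s, hs, hsum⟩ := exists_sublist_of_mem_subSums deg l t ht
  obtain ⟨l2, hperm⟩ := hs.exists_perm_append
  exact ⟨s, l2, hperm, hsum⟩

end Cfsg.Agent.Lib.Helper22.KK
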