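import Mathlib
import Cfsg.Agent.Lib.Helper50.Isotropic
import Cfsg.Agent.Lib.Helper50.TwoFamilies

/-!
# K-S2718-W2 (keystone 271804, row S2718, architect helper50)

Odd characteristic, "two quadrics": a similarity `T` with `T² = λ`, `λ` a nonsquare, has a non-singular
vector `u` with `u ⊥ T u`.
-/

set_option autoImplicit false

namespace Cfsg.Agent.Lib.Helper22.S2718K

open Module Matrix QuadraticMap Cfsg.Agent.Lib.Helper50

universe u

section generic

variable {F : Type u} [Field F] [Fintype F] {ι : Type} [Fintype ι] [DecidableEq ι]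
variable (Q : QuadraticForm F (ι → F))

/-- K-S2718-W2. -/
theorem exists_nonsingular_orth_image (h2 : (2 : F) ≠ 0)
    (hQ : (QuadraticMap.polarBilin Q).Nondegenerate) (m : ℕ) (hm : 2 ≤ m)
    (hcard : Fintype.card ι = 2 * m) (T : Matrix ι ι F) (lam μ : F) (hlam : ¬ IsSquare lam)
    (hT : T * T = lam • (1 : Matrix ι ι F)) (hμ : ∀ v, Q (T *ᵥ v) = μ * Q v) :
    ∃ u : ι → F, Q u ≠ 0 ∧ QuadraticMap.polar Q u (T *ᵥ u) = 0 := by
  classical
  have hV : finrank F (ι → F) = 2 * m := by rw [Module.finrank_fintype_fun_eq_card, hcard]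
  have hlam0 : lam ≠ 0 := by
    intro h
    apply hlam
    rw [h]
    exact ⟨0, by ring⟩
  have hTT : ∀ v : ι → F, T *ᵥ (T *ᵥ v) = lam • v := by
    intro v
    rw [Matrix.mulVec_mulVec, hT, Matrix.smul_mulVec, Matrix.one_mulVec]
  -- linearity of the polar form, in the shape we use
  have pal : ∀ x x' y : ι → F, polar Q (x + x') y = polar Q x y + polar Q x' y := polar_add_left Q
  have par : ∀ x y y' : ι → F, polar Q x (y + y') = polar Q x y + polar Q x y' := polar_add_right Q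
  have psl : ∀ (a : F) (x y : ι → F), polar Q (a • x) y = a * polar Q x y := fun a x y => by
    rw [polar_smul_left, smul_eq_mul]
  have psr : ∀ (a : F) (x y : ι → F), polar Q x (a • y) = a * polar Q x y := fun a x y => by
    rw [polar_smul_right, smul_eq_mul]
  have pc : ∀ x y : ι → F, polar Q x y = polar Q y x := polar_comm Q
  have hadd : ∀ x y : ι → F, Q (x + y) = Q x + Q y + polar Q x y := fun x y => by
    unfold polar; ring
  have hsm : ∀ (a : F) (x : ι → F), Q (a • x) = a * a * Q x := fun a x => by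
    rw [QuadraticMap.map_smul, smul_eq_mul]
  have hpolT : ∀ x y : ι → F, polar Q (T *ᵥ x) (T *ᵥ y) = μ * polar Q x y := by
    intro x y
    unfold polar
    rw [← Matrix.mulVec_add, hμ, hμ, hμ]
    ring
  -- a non-singular vector
  obtain ⟨v₀, hv₀⟩ : ∃ v : ι → F, Q v ≠ 0 := by
    by_contra hcon
    push Not at hcon
    have hts : TF.TS Q ⊤ := fun w _ => hcon w
    have := TF.TS.finrank_le Q hQ m hV hts
    rw [finrank_top, hV] at this
    omega
  -- `μ = ± λ`
  have hμlam : μ = lam ∨ μ = -lam := by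
    have h1 : Q (T *ᵥ (T *ᵥ v₀)) = μ * (μ * Q v₀) := by rw [hμ, hμ]
    rw [hTT, hsm] at h1
    have h3 : (μ - lam) * (μ + lam) * Q v₀ = 0 := by linear_combination -h1
    rcases mul_eq_zero.1 h3 with h | h
    · rcases mul_eq_zero.1 h with h | h
      · left; exact sub_eq_zero.1 h
      · right; exact eq_neg_of_add_eq_zero_left h
    · exact absurd h hv₀
  -- key identity
  have hkey : ∀ u : ι → F, lam * polar Q u (T *ᵥ u) = μ * polar Q u (T *ᵥ u) := by
    intro u
    have h1 := hpolT u (T *ᵥ u)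
    rw [hTT, psr, pc (T *ᵥ u) u] at h1
    exact h1
  rcases hμlam with hμ1 | hμ1
  swap
  · -- `μ = -λ`: every vector is orthogonal to its image
    refine ⟨v₀, hv₀, ?_⟩
    have h1 := hkey v₀
    rw [hμ1] at h1
    have h3 : 2 * lam * polar Q v₀ (T *ᵥ v₀) = 0 := by linear_combination h1
    rcases mul_eq_zero.1 h3 with h | h
    · exact absurd h (mul_ne_zero h2 hlam0)
    · exact h
  -- `μ = λ`: `T` is self-adjoint
  have hsa : ∀ x y : ι → F, polar Q (T *ᵥ x) y = polar Q x (T *ᵥ y) := by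
    intro x y
    have h1 := hpolT x (T *ᵥ y)
    rw [hTT, psr, hμ1] at h1
    exact mul_left_cancel₀ hlam0 h1
  by_contra hcon
  push Not at hcon
  have hzero : ∀ u : ι → F, polar Q u (T *ᵥ u) = 0 → Q u = 0 := by
    intro u hu
    by_contra hq
    exact hcon u hq hu
  -- the second quadric
  let Bt : LinearMap.BilinForm F (ι → F) := (polarBilin Q).compl₂ (Matrix.toLin' T)
  let Q' : QuadraticForm F (ι → F) := LinearMap.BilinMap.toQuadraticMap Bt
  have hQ' : ∀ u : ι → F, Q' u = polar Q u (T *ᵥ u) := by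
    intro u
    show Bt u u = _
    rw [LinearMap.compl₂_apply, Matrix.toLin'_apply, polarBilin_apply_apply]
  obtain ⟨u₀, hu₀, hQ'u₀⟩ := Cfsg.Agent.Lib.Helper50.exists_isotropic Q' (by rw [hV]; omega)
  have hq0 : polar Q u₀ (T *ᵥ u₀) = 0 := by rw [← hQ']; exact hQ'u₀
  have hQu₀ : Q u₀ = 0 := hzero u₀ hq0
  -- Claim A
  have hA : ∃ w₀ : ι → F, polar Q w₀ u₀ = 0 ∧ polar Q w₀ (T *ᵥ u₀) ≠ 0 := by
    by_contra hA
    push Not at hA
    obtain ⟨w₁, hw₁⟩ : ∃ w₁ : ι → F, polar Q w₁ u₀ ≠ 0 := by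
      by_contra h
      push Not at h
      exact hu₀ (hQ.2 u₀ (fun w => by rw [polarBilin_apply_apply]; exact h w))
    set c : F := polar Q w₁ (T *ᵥ u₀) / polar Q w₁ u₀ with hc
    have hall : ∀ w : ι → F, polar Q w (T *ᵥ u₀ + (-c) • u₀) = 0 := by
      intro w
      have h1 := hA (w + (-(polar Q w u₀ / polar Q w₁ u₀)) • w₁) (by
        rw [pal, psl]
        field_simp
        ring)
      rw [pal, psl] at h1
      rw [par, psr, hc]
      field_simp
      field_simp at h1
      linear_combination h1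
    have hTu : T *ᵥ u₀ = c • u₀ := by
      have h1 := hQ.2 _ (fun w => by rw [polarBilin_apply_apply]; exact hall w)
      have h3 : T *ᵥ u₀ = -((-c) • u₀) := eq_neg_of_add_eq_zero_left h1
      rw [h3, neg_smul, neg_neg]
    have hcc : c * c = lam := by
      have h1 := hTT u₀
      rw [hTu, Matrix.mulVec_smul, hTu, smul_smul] at h1
      by_contra hne
      have h3 : (c * c - lam) • u₀ = 0 := by rw [sub_smul, h1, sub_self]
      rcases smul_eq_zero.1 h3 with h | h
      · exact hne (sub_eq_zero.1 h)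
      · exact hu₀ h
    exact hlam ⟨c, hcc.symm⟩
  obtain ⟨w₀, hw₀ℓ, hw₀ℓ'⟩ := hA
  -- Claim B
  have hBcl : ∀ w : ι → F, polar Q w (T *ᵥ u₀) ≠ 0 →
      Q w = polar Q w (T *ᵥ w) / (2 * polar Q w (T *ᵥ u₀)) * polar Q w u₀ := by
    intro w hw
    set a : F := polar Q w (T *ᵥ w) / (2 * polar Q w (T *ᵥ u₀)) with ha
    have h2ne : 2 * polar Q w (T *ᵥ u₀) ≠ 0 := mul_ne_zero h2 hw
    have h1 : polar Q (w + (-a) • u₀) (T *ᵥ (w + (-a) • u₀)) = 0 := by
      rw [Matrix.mulVec_add, Matrix.mulVec_smul, pal, par, par, psl, psl, psr, psr, hq0,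
        ← hsa u₀ w, pc (T *ᵥ u₀) w, ha]
      field_simp
      ring
    have h3 := hzero _ h1
    rw [hadd, hsm, hQu₀, psr] at h3
    linear_combination h3
  -- `Q` vanishes on `ker ℓ ∖ ker ℓ'`
  have hC1 : ∀ w : ι → F, polar Q w u₀ = 0 → polar Q w (T *ᵥ u₀) ≠ 0 → Q w = 0 := by
    intro w hw hw'
    rw [hBcl w hw', hw, mul_zero]
  -- `Q` vanishes on `ker ℓ ⊓ ker ℓ'`
  have hC2 : ∀ z : ι → F, polar Q z u₀ = 0 → polar Q z (T *ᵥ u₀) = 0 → Q z = 0 := by
    intro z hz hz'
    have e1 := hC1 (w₀ + z) (by rw [pal, hw₀ℓ, hz, add_zero]) (by rw [pal, hz', add_zero]; exact hw₀ℓ')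
    have e2 := hC1 ((2 : F) • w₀ + z) (by rw [pal, psl, hw₀ℓ, hz, mul_zero, add_zero])
      (by rw [pal, psl, hz', add_zero]; exact mul_ne_zero h2 hw₀ℓ')
    have e0 := hC1 w₀ hw₀ℓ hw₀ℓ'
    rw [hadd, e0] at e1
    rw [hadd, hsm, e0, psl] at e2
    linear_combination 2 * e1 - e2
  -- a totally singular hyperplane
  have hts : TF.TS Q (TF.perp Q (Submodule.span F {u₀})) := by
    intro w hw
    rw [TF.mem_perp] at hw
    have hw0 : polar Q w u₀ = 0 := by
      rw [pc]
      exact hw u₀ (Submodule.mem_span_singleton_self u₀)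
    by_cases hw' : polar Q w (T *ᵥ u₀) = 0
    · exact hC2 w hw0 hw'
    · exact hC1 w hw0 hw'
  have hle := TF.TS.finrank_le Q hQ m hV hts
  rw [TF.finrank_perp Q hQ m hV, finrank_span_singleton hu₀] at hle
  omega

end generic

end Cfsg.Agent.Lib.Helper22.S2718K
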