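import Mathlib
import Cfsg.Prelude.Def_Blocks
import Cfsg.Agent.Lib.Helper22.Covering
import Cfsg.Agent.Lib.Helper84.NormalAction

set_option autoImplicit false
set_option linter.unusedSectionVars false

namespace Cfsg.Agent.Lib.Helper22

open Cfsg
open Cfsg.Agent.Lib.Helper82 Cfsg.Agent.Lib.Helper83

section
variable {H H' : Type*} [Group H] [Group H'] [Finite H]

/-- Transport of an irreducible character along a group isomorphism. -/
noncomputable def irrComap (e : H' ≃* H) (θ : IrrCharacter H) : IrrCharacter H' :=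
  ⟨fun x => (θ : H → ℂ) (e x), Cfsg.Agent.Lib.Helper84.isIrrCharacter_comp_mulEquiv e θ.2⟩

theorem irrComap_apply (e : H' ≃* H) (θ : IrrCharacter H) (x : H') :
    (irrComap e θ : H' → ℂ) x = (θ : H → ℂ) (e x) := rfl

theorem sameBlock_comp_mulEquiv {M : Ideal AlgInt} (e : H' ≃* H) {θ θ' : H → ℂ}
    (h : SameBlock M θ θ') : SameBlock M (fun x => θ (e x)) (fun x => θ' (e x)) := by
  intro g
  rw [centralChar_comp_mulEquiv, centralChar_comp_mulEquiv]
  exact h (e g)

end

section
variable {H H' : Type*} [Group H] [Group H'] [Finite H] [Finite H']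

theorem irrComap_symm_irrComap (e : H' ≃* H) (θ : IrrCharacter H) :
    irrComap e.symm (irrComap e θ) = θ := by
  apply Subtype.ext
  funext x
  simp [irrComap_apply]

theorem irrComap_irrComap_symm (e : H' ≃* H) (ψ : IrrCharacter H') :
    irrComap e (irrComap e.symm ψ) = ψ := by
  apply Subtype.ext
  funext x
  simp [irrComap_apply]

/-- Transport of a set of irreducible characters. -/
def blockComap (e : H' ≃* H) (b : Set (IrrCharacter H)) : Set (IrrCharacter H') :=
  {ψ | irrComap e.symm ψ ∈ b}

theorem irrComap_mem_blockComap (e : H' ≃* H) {b : Set (IrrCharacter H)} {θ : IrrCharacter H}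
    (hθ : θ ∈ b) : irrComap e θ ∈ blockComap e b := by
  change irrComap e.symm (irrComap e θ) ∈ b
  rw [irrComap_symm_irrComap]
  exact hθ

theorem blockComap_blockOf {M : Ideal AlgInt} (e : H' ≃* H) (χ₀ : IrrCharacter H) :
    blockComap e (blockOf M (χ₀ : H → ℂ)) = blockOf M (irrComap e χ₀ : H' → ℂ) := by
  ext ψ
  constructor
  · intro h
    have h1 : SameBlock M (χ₀ : H → ℂ) (irrComap e.symm ψ : H → ℂ) := h
    have h2 := sameBlock_comp_mulEquiv e h1
    have h3 : (fun x => (irrComap e.symm ψ : H → ℂ) (e x)) = (ψ : H' → ℂ) := by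
      funext x
      simp [irrComap_apply]
    rw [h3] at h2
    exact h2
  · intro h
    have h1 : SameBlock M (irrComap e χ₀ : H' → ℂ) (ψ : H' → ℂ) := h
    have h2 := sameBlock_comp_mulEquiv e.symm h1
    have h3 : (fun x => (irrComap e χ₀ : H' → ℂ) (e.symm x)) = (χ₀ : H → ℂ) := by
      funext x
      simp [irrComap_apply]
    rw [h3] at h2
    exact h2

theorem isPBlock_blockComap {M : Ideal AlgInt} (e : H' ≃* H) {b : Set (IrrCharacter H)}
    (hb : IsPBlock M b) : IsPBlock M (blockComap e b) := by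
  obtain ⟨χ₀, rfl⟩ := hb
  exact ⟨irrComap e χ₀, blockComap_blockOf e χ₀⟩

end

end Cfsg.Agent.Lib.Helper22
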