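import Mathlib
import Cfsg.Prelude.Def_Blocks
import Cfsg.Agent.Lib.Helper82.LocalRing
import Cfsg.Agent.Lib.Helper83.SecondOrth

set_option autoImplicit false
set_option linter.unusedSectionVars false

namespace Cfsg.Agent.Lib.Helper22

open Cfsg
open Cfsg.Agent.Lib.Helper82 Cfsg.Agent.Lib.Helper83

section
variable {X : Type*} [Group X] [Fintype X] [DecidableEq X]

/-- If every class sum of `F` over a class meeting the conjugation-stable set `A` lies in the local
ideal then so does the sum of `F` over `A`. -/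
theorem memLocalIdeal_sum_of_class_sums {M : Ideal AlgInt} (hMp : M.IsPrime) (A : Finset X)
    (hA : ∀ h ∈ A, ∀ x : X, x * h * x⁻¹ ∈ A) (F : X → ℂ)
    (hF : ∀ k ∈ A, MemLocalIdeal M (∑ h ∈ Finset.univ.filter (fun h => IsConj k h), F h)) :
    MemLocalIdeal M (∑ h ∈ A, F h) := by
  classical
  rw [← Finset.sum_fiberwise_of_maps_to (g := (ConjClasses.mk : X → ConjClasses X))
    (t := A.image ConjClasses.mk) (fun i hi => Finset.mem_image_of_mem _ hi)]
  apply memLocalIdeal_sum hMp
  intro c hc
  obtain ⟨k, hk, rfl⟩ := Finset.mem_image.1 hc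
  have : A.filter (fun h => ConjClasses.mk h = ConjClasses.mk k) =
      Finset.univ.filter (fun h => IsConj k h) := by
    ext h
    simp only [Finset.mem_filter, Finset.mem_univ, true_and, ConjClasses.mk_eq_mk_iff_isConj]
    constructor
    · rintro ⟨_, h2⟩; exact h2.symm
    · intro h2
      refine ⟨?_, h2.symm⟩
      obtain ⟨x, hx⟩ := isConj_iff.1 h2
      rw [← hx]
      exact hA k hk x
  rw [this]
  exact hF k hk

/-- The central character as a class sum. -/
theorem sum_class_div_eq_centralChar (ξ : X → ℂ) (hξ : IsClassFunction X ξ) (k : X) :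
    ∑ h ∈ Finset.univ.filter (fun h => IsConj k h), ξ h / ξ 1 = centralChar ξ k := by
  have h1 : ∀ h ∈ Finset.univ.filter (fun h => IsConj k h), ξ h / ξ 1 = ξ k / ξ 1 := by
    intro h hh
    obtain ⟨x, hx⟩ := isConj_iff.1 (Finset.mem_filter.1 hh).2
    rw [← hx, hξ k x]
  rw [Finset.sum_congr rfl h1, Finset.sum_const, nsmul_eq_mul]
  unfold centralChar
  rw [index_centralizer_eq_card_conj, Nat.card_eq_fintype_card, Fintype.card_subtype]
  ring

end

section
variable {G : Type*} [Group G] [Finite G]

/-- Key lemma: the covering congruence for `L ⊴ N` gives a congruence of Brauer central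
characters. -/
theorem brauerCentralChar_sub_mem {M : Ideal AlgInt} (hMp : M.IsPrime) (P L N : Subgroup G)
    (hLN : L ≤ N) (hCL : Subgroup.centralizer (P : Set G) ≤ L)
    (hNP : N ≤ Subgroup.normalizer (P : Set G)) (hnorm : (L.subgroupOf N).Normal)
    (ξ : N → ℂ) (hξ : IsClassFunction N ξ) (θ : L → ℂ)
    (hyp : ∀ n : L.subgroupOf N, MemLocalIdeal M (centralChar ξ (n : N) -
      inducedCentralChar (L.subgroupOf N)
        (fun x : L.subgroupOf N => θ (Subgroup.subgroupOfEquivOfLe hLN x)) (n : N)))
    (g : G) :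
    MemLocalIdeal M (brauerCentralChar P N ξ g - brauerCentralChar P L θ g) := by
  classical
  let _ : Fintype G := Fintype.ofFinite G
  let _ : Fintype N := Fintype.ofFinite N
  let _ : Fintype L := Fintype.ofFinite L
  let _ : Fintype (L.subgroupOf N) := Fintype.ofFinite _
  set A : Finset N := Finset.univ.filter
    (fun h : N => IsConj g (h : G) ∧ (h : G) ∈ Subgroup.centralizer (P : Set G)) with hAdef
  set F₁ : N → ℂ := fun h => ξ h / ξ 1 with hF₁
  set F₂ : N → ℂ := fun h => if hL : (h : G) ∈ L then θ ⟨h, hL⟩ / θ 1 else 0 with hF₂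
  -- (a)
  have ha : brauerCentralChar P N ξ g = ∑ h ∈ A, F₁ h := by
    unfold brauerCentralChar
    rw [finsum_mem_eq_finite_toFinset_sum _ (Set.toFinite _)]
    apply Finset.sum_congr
    · ext h; simp [hAdef]
    · intros; rfl
  -- (b)
  have hb : brauerCentralChar P L θ g = ∑ h ∈ A, F₂ h := by
    unfold brauerCentralChar
    rw [finsum_mem_eq_finite_toFinset_sum _ (Set.toFinite _)]
    apply Finset.sum_bij (fun (x : L) _ => (⟨(x : G), hLN x.2⟩ : N))
    · intro x hx
      simp only [Set.Finite.mem_toFinset, Set.mem_ofPred_eq] at hx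
      simp only [hAdef, Finset.mem_filter, Finset.mem_univ, true_and]
      exact hx
    · intro x _ y _ hxy
      apply Subtype.ext
      exact congrArg (fun z : N => (z : G)) hxy
    · intro h hh
      simp only [hAdef, Finset.mem_filter, Finset.mem_univ, true_and] at hh
      refine ⟨⟨(h : G), hCL hh.2⟩, ?_, ?_⟩
      · simp only [Set.Finite.mem_toFinset, Set.mem_ofPred_eq]
        exact hh
      · rfl
    · intro x _
      simp only [hF₂]
      rw [dif_pos x.2]
  -- (c)
  have hc : ∀ h ∈ A, ∀ x : N, x * h * x⁻¹ ∈ A := by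
    intro h hh x
    simp only [hAdef, Finset.mem_filter, Finset.mem_univ, true_and] at hh ⊢
    refine ⟨hh.1.trans (isConj_iff.2 ⟨(x : G), by push_cast; rfl⟩), ?_⟩
    push_cast
    rw [Subgroup.mem_centralizer_iff]
    intro q hq
    have hx := hNP x.2
    have hq' : (x : G)⁻¹ * q * (x : G) ∈ P := by
      have := (Subgroup.mem_normalizer_iff.1 (Subgroup.inv_mem _ hx) q).1 hq
      simpa using this
    have hcomm := (Subgroup.mem_centralizer_iff.1 hh.2) _ hq'
    calc q * ((x : G) * (h : G) * (x : G)⁻¹)
        = (x : G) * (((x : G)⁻¹ * q * (x : G)) * (h : G)) * (x : G)⁻¹ := by group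
      _ = (x : G) * ((h : G) * ((x : G)⁻¹ * q * (x : G))) * (x : G)⁻¹ := by rw [hcomm]
      _ = (x : G) * (h : G) * (x : G)⁻¹ * q := by group
  rw [ha, hb, ← Finset.sum_sub_distrib]
  apply memLocalIdeal_sum_of_class_sums hMp A hc (fun h => F₁ h - F₂ h)
  intro k hk
  rw [Finset.sum_sub_distrib]
  have hkA := hk
  simp only [hAdef, Finset.mem_filter, Finset.mem_univ, true_and] at hkA
  have hkL : (k : G) ∈ L := hCL hkA.2
  have hkL' : k ∈ L.subgroupOf N := by rw [Subgroup.mem_subgroupOf]; exact hkL
  -- (d)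
  have hd : ∑ h ∈ Finset.univ.filter (fun h => IsConj k h), F₁ h = centralChar ξ k :=
    sum_class_div_eq_centralChar ξ hξ k
  -- (e)
  have he : ∑ h ∈ Finset.univ.filter (fun h => IsConj k h), F₂ h =
      inducedCentralChar (L.subgroupOf N)
        (fun x : L.subgroupOf N => θ (Subgroup.subgroupOfEquivOfLe hLN x)) k := by
    unfold inducedCentralChar
    rw [finsum_mem_eq_finite_toFinset_sum _ (Set.toFinite _)]
    symm
    apply Finset.sum_bij (fun (x : L.subgroupOf N) _ => (x : N))
    · intro x hx
      simp only [Set.Finite.mem_toFinset, Set.mem_ofPred_eq] at hx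
      simp only [Finset.mem_filter, Finset.mem_univ, true_and]
      exact hx
    · intro x _ y _ hxy
      exact Subtype.ext hxy
    · intro h hh
      simp only [Finset.mem_filter, Finset.mem_univ, true_and] at hh
      obtain ⟨x, hx⟩ := isConj_iff.1 hh
      have hmem : h ∈ L.subgroupOf N := by
        rw [← hx]
        exact hnorm.conj_mem k hkL' x
      refine ⟨⟨h, hmem⟩, ?_, rfl⟩
      simp only [Set.Finite.mem_toFinset, Set.mem_ofPred_eq]
      exact hh
    · intro x _
      simp only [hF₂]
      have hxL : ((x : N) : G) ∈ L := Subgroup.mem_subgroupOf.1 x.2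
      rw [dif_pos hxL]
      rfl
  rw [hd, he]
  exact hyp ⟨k, hkL'⟩

end


end Cfsg.Agent.Lib.Helper22
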