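import Mathlib
import Cfsg.Prelude.Def_BlockRank
import Cfsg.Agent.Lib.Helper22.BlockTransport
import Cfsg.Agent.Lib.Helper82.BlockRank
import Cfsg.Agent.Lib.Helper42.PPrimeCore
import Cfsg.Agent.Lib.Helper05.CharBasic
import Cfsg.Agent.S0939

set_option autoImplicit false
set_option linter.unusedSectionVars false

namespace Cfsg.Agent.Lib.Helper22

open Cfsg
open Cfsg.Agent.Lib.Helper82 Cfsg.Agent.Lib.Helper83

section
variable {H H' : Type*} [Group H] [Group H'] [Finite H] [Finite H']

theorem pRegularPart_comp_mulEquiv (p : ℕ) (e : H' ≃* H) (f : H → ℂ) :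
    pRegularPart p (fun x => f (e x)) = fun x => pRegularPart p f (e x) := by
  funext x
  by_cases h : p ∣ orderOf x
  · rw [pRegularPart_of_singular _ h, pRegularPart_of_singular _ (by rwa [MulEquiv.orderOf_eq])]
  · rw [pRegularPart_of_regular _ h, pRegularPart_of_regular _ (by rwa [MulEquiv.orderOf_eq])]

/-- The `p`-regular rank is invariant under transport along a group isomorphism. -/
theorem blockRank_blockComap (p : ℕ) (e : H' ≃* H) (b : Set (IrrCharacter H)) :
    blockRank p (blockComap e b) = blockRank p b := by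
  unfold blockRank
  set Φ : (H → ℂ) ≃ₗ[ℂ] (H' → ℂ) := LinearEquiv.funCongrLeft ℂ ℂ e.toEquiv with hΦ
  have hΦapp : ∀ f : H → ℂ, Φ f = fun x => f (e x) := fun f => rfl
  have himg : (fun χ : IrrCharacter H' => pRegularPart p (χ : H' → ℂ)) '' (blockComap e b) =
      Φ '' ((fun χ : IrrCharacter H => pRegularPart p (χ : H → ℂ)) '' b) := by
    ext f
    constructor
    · rintro ⟨ψ, hψ, rfl⟩
      refine ⟨pRegularPart p (irrComap e.symm ψ : H → ℂ), ⟨irrComap e.symm ψ, hψ, rfl⟩, ?_⟩
      rw [hΦapp, ← pRegularPart_comp_mulEquiv]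
      congr 1
      funext x
      simp [irrComap_apply]
    · rintro ⟨_, ⟨θ, hθ, rfl⟩, rfl⟩
      refine ⟨irrComap e θ, irrComap_mem_blockComap e hθ, ?_⟩
      rw [hΦapp, ← pRegularPart_comp_mulEquiv]
      rfl
  rw [himg]
  have hmap : Submodule.span ℂ (⇑Φ '' ((fun χ : IrrCharacter H => pRegularPart p (χ : H → ℂ)) '' b)) =
      (Submodule.span ℂ ((fun χ : IrrCharacter H => pRegularPart p (χ : H → ℂ)) '' b)).map
        Φ.toLinearMap := by
    rw [Submodule.map_span]
    rfl
  rw [hmap]
  exact LinearEquiv.finrank_map_eq Φ _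

theorem principalBlock_eq_blockComap (M : Ideal AlgInt) (e : H' ≃* H) :
    principalBlock M H' = blockComap e (principalBlock M H) := by
  have h := blockComap_blockOf (M := M) e
    (⟨fun _ => 1, Cfsg.Agent.Lib.Helper05.isIrrCharacter_one⟩ : IrrCharacter H)
  exact h.symm

end

section
variable {H : Type*} [Group H] [Finite H]

/-- The principal block of a `p`-nilpotent group has `p`-regular rank one. -/
theorem blockRank_principal_of_index (p : ℕ) [Fact p.Prime] (M : Ideal AlgInt)
    (hM : IsPModular p M) (hnc : ∃ k : ℕ, (Cfsg.pPrimeCore p H).index = p ^ k) :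
    blockRank p (principalBlock M H) = 1 := by
  have hp : p.Prime := Fact.out
  have hMp : M.IsPrime := hM.2.1.isPrime
  have hpb := Cfsg.Agent.S0939.result p M hM hnc
  unfold blockRank
  set u : H → ℂ := pRegularPart p (fun _ : H => (1 : ℂ)) with hu
  have hmemN : ∀ y : H, ¬ p ∣ orderOf y → y ∈ Cfsg.pPrimeCore p H := by
    intro y hy
    have : (Cfsg.pPrimeCore p H).Normal := Cfsg.Agent.Lib.Helper42.pPrimeCore_normal p H
    obtain ⟨k, hk⟩ := hnc
    rw [← QuotientGroup.eq_one_iff, ← orderOf_eq_one_iff]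
    have h1 : orderOf (y : H ⧸ Cfsg.pPrimeCore p H) ∣ orderOf y :=
      orderOf_map_dvd (QuotientGroup.mk' (Cfsg.pPrimeCore p H)) y
    have h2 : orderOf (y : H ⧸ Cfsg.pPrimeCore p H) ∣ p ^ k := by
      rw [← hk, Subgroup.index_eq_card]
      exact orderOf_dvd_natCard _
    obtain ⟨j, -, hj⟩ := (Nat.dvd_prime_pow hp).1 h2
    rcases Nat.eq_zero_or_pos j with h0 | hpos
    · rw [hj, h0, pow_zero]
    · exfalso
      apply hy
      refine dvd_trans ?_ h1
      rw [hj]
      exact dvd_pow_self p hpos.ne'
  have hspan : Submodule.span ℂ ((fun χ : IrrCharacter H => pRegularPart p (χ : H → ℂ)) ''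
      (principalBlock M H)) = Submodule.span ℂ {u} := by
    apply le_antisymm
    · rw [Submodule.span_le]
      rintro _ ⟨χ, hχ, rfl⟩
      rw [hpb] at hχ
      have : pRegularPart p (χ : H → ℂ) = ((χ : H → ℂ) 1) • u := by
        funext y
        by_cases hy : p ∣ orderOf y
        · simp only [Pi.smul_apply, smul_eq_mul, hu]
          rw [pRegularPart_of_singular _ hy, pRegularPart_of_singular _ hy, mul_zero]
        · simp only [Pi.smul_apply, smul_eq_mul, hu]
          rw [pRegularPart_of_regular _ hy, pRegularPart_of_regular _ hy, mul_one]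
          exact hχ y (hmemN y hy)
      change pRegularPart p (χ : H → ℂ) ∈ _
      rw [this]
      exact Submodule.smul_mem _ _ (Submodule.subset_span rfl)
    · rw [Submodule.span_le]
      intro v hv
      rw [Set.mem_singleton_iff] at hv
      rw [hv]
      apply Submodule.subset_span
      have hmem : (⟨fun _ => 1, Cfsg.Agent.Lib.Helper05.isIrrCharacter_one⟩ : IrrCharacter H) ∈
          principalBlock M H :=
        mem_blockOf_self hMp (⟨fun _ => 1, Cfsg.Agent.Lib.Helper05.isIrrCharacter_one⟩ :
          IrrCharacter H)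
      exact ⟨_, hmem, rfl⟩
  rw [hspan]
  apply finrank_span_singleton
  intro h0
  have h1 := congrFun h0 1
  rw [hu, pRegularPart_of_regular _ (by rw [orderOf_one]; exact hp.not_dvd_one)] at h1
  exact one_ne_zero h1

end

end Cfsg.Agent.Lib.Helper22
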