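import Mathlib
import Cfsg.Prelude.Def_GeometricClasses
import Cfsg.Agent.Lib.Helper61.AschDefs
import Cfsg.Agent.Lib.Helper61.AschUDefs
import Cfsg.Agent.Lib.Helper04.AschE3
import Cfsg.Agent.Lib.Helper40.GUConj
import Cfsg.Agent.Lib.Helper07.HermClass

/-!
# K-S5663-E6 : `exists_tensorPowerForm` (keystone 272, architect helper61)

The Gram matrix of the unitary form in a tensor-power basis is a scalar times a pure tensor of Hermitian
matrices; orthonormalising each factor gives a tensor power form structure.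
-/

set_option autoImplicit false

namespace Cfsg.Agent.Lib.Helper22.AschU

open Cfsg Cfsg.Geo
open scoped Matrix Kronecker MatrixGroups

section tools

variable {F : Type*} [Field F] {m t : ℕ}

local notation "pA" => Cfsg.Agent.Lib.Helper04.Asch.pureAt
local notation "PT" => Cfsg.Agent.Lib.Helper04.Asch.PT

theorem pureAt_transpose (i : Fin t) (x : Matrix (Fin m) (Fin m) F) :
    (pA m t i x)ᵀ = pA m t i xᵀ := by
  ext u v
  rw [Matrix.transpose_apply, Cfsg.Agent.Lib.Helper04.Asch.pureAt_apply,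
    Cfsg.Agent.Lib.Helper04.Asch.pureAt_apply, Matrix.transpose_apply]
  by_cases h : ∀ j, j ≠ i → v j = u j
  · rw [if_pos h, if_pos (fun j hj => (h j hj).symm)]
  · rw [if_neg h, if_neg (fun h' => h (fun j hj => (h' j hj).symm))]

theorem pureAt_map (φ : F →+* F) (i : Fin t) (x : Matrix (Fin m) (Fin m) F) :
    (pA m t i x).map φ = pA m t i (x.map φ) := by
  ext u v
  rw [Matrix.map_apply, Cfsg.Agent.Lib.Helper04.Asch.pureAt_apply,
    Cfsg.Agent.Lib.Helper04.Asch.pureAt_apply, Matrix.map_apply]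
  split_ifs
  · rfl
  · exact map_zero φ

theorem PT_transpose (a : Fin t → Matrix (Fin m) (Fin m) F) :
    (PT a)ᵀ = PT (fun i => (a i)ᵀ) := rfl

theorem PT_map (φ : F →+* F) (a : Fin t → Matrix (Fin m) (Fin m) F) :
    (PT a).map φ = PT (fun i => (a i).map φ) := by
  ext u v
  rw [Matrix.map_apply, Cfsg.Agent.Lib.Helper04.Asch.PT_apply,
    Cfsg.Agent.Lib.Helper04.Asch.PT_apply, map_prod]
  rfl

theorem PT_smul (d : Fin t → F) (a : Fin t → Matrix (Fin m) (Fin m) F) :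
    PT (fun i => d i • a i) = (∏ i, d i) • PT a := by
  ext u v
  rw [Matrix.smul_apply, Cfsg.Agent.Lib.Helper04.Asch.PT_apply,
    Cfsg.Agent.Lib.Helper04.Asch.PT_apply, smul_eq_mul, ← Finset.prod_mul_distrib]
  rfl

theorem PT_smul_one (d : Fin t → F) :
    PT (fun i => d i • (1 : Matrix (Fin m) (Fin m) F)) = (∏ i, d i) • 1 := by
  rw [PT_smul, Cfsg.Agent.Lib.Helper04.Asch.PT_one]

/-- proportional pure tensors have proportional factors -/
theorem PT_eq_smul_PT (a b : Fin t → Matrix (Fin m) (Fin m) F) (κ : F) (hκ : κ ≠ 0)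
    (r s : Fin t → Fin m) (hb : ∀ i, b i (r i) (s i) ≠ 0) (h : PT a = κ • PT b) :
    ∀ i, ∃ l : F, a i = l • b i := by
  classical
  intro i
  set A : F := ∏ j ∈ Finset.univ.erase i, a j (r j) (s j) with hA
  set B : F := ∏ j ∈ Finset.univ.erase i, b j (r j) (s j) with hB
  have hB0 : B ≠ 0 := Finset.prod_ne_zero_iff.mpr (fun j _ => hb j)
  have key : ∀ p q' : Fin m, a i p q' * A = κ * (b i p q' * B) := by
    intro p q'
    have h1 := congrFun (congrFun h (Function.update r i p)) (Function.update s i q')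
    rw [Matrix.smul_apply, Cfsg.Agent.Lib.Helper04.Asch.PT_apply,
      Cfsg.Agent.Lib.Helper04.Asch.PT_apply, smul_eq_mul,
      ← Finset.mul_prod_erase Finset.univ _ (Finset.mem_univ i),
      ← Finset.mul_prod_erase Finset.univ _ (Finset.mem_univ i)] at h1
    simp only [Function.update_self] at h1
    have e1 : ∏ j ∈ Finset.univ.erase i, a j (Function.update r i p j) (Function.update s i q' j) = A := by
      apply Finset.prod_congr rfl
      intro j hj
      rw [Function.update_of_ne (Finset.ne_of_mem_erase hj), Function.update_of_ne (Finset.ne_of_mem_erase hj)]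
    have e2 : ∏ j ∈ Finset.univ.erase i, b j (Function.update r i p j) (Function.update s i q' j) = B := by
      apply Finset.prod_congr rfl
      intro j hj
      rw [Function.update_of_ne (Finset.ne_of_mem_erase hj), Function.update_of_ne (Finset.ne_of_mem_erase hj)]
    rw [e1, e2] at h1
    exact h1
  have hA0 : A ≠ 0 := by
    intro h0
    have := key (r i) (s i)
    rw [h0, mul_zero] at this
    exact mul_ne_zero hκ (mul_ne_zero (hb i) hB0) this.symm
  refine ⟨κ * B / A, ?_⟩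
  ext p q'
  rw [Matrix.smul_apply, smul_eq_mul]
  have := key p q'
  field_simp
  rw [this]; ring

/-- a matrix is determined by the sesquilinear form it defines -/
theorem mat_eq_of_forall_dot {κ₁ κ₂ : Type*} [Fintype κ₁] [Fintype κ₂] [DecidableEq κ₁] [DecidableEq κ₂]
    (A B : Matrix κ₁ κ₂ F) (h : ∀ (u : κ₁ → F) (v : κ₂ → F), u ⬝ᵥ (A *ᵥ v) = u ⬝ᵥ (B *ᵥ v)) : A = B := by
  ext a b
  have := h (Pi.single a 1) (Pi.single b 1)
  simpa using this

/-- the unitary form on the image of a rectangular matrix -/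
theorem herm_rect {n q : ℕ} {κ : Type*} [Fintype κ] (φ : F →+* F) (hφ : ∀ x, φ x = x ^ q)
    (M : Matrix (Fin n) κ F) (u v : κ → F) :
    hermForm n F q (M *ᵥ u) (M *ᵥ v) = u ⬝ᵥ ((Mᵀ * M.map φ) *ᵥ (φ ∘ v)) := by
  rw [Cfsg.Agent.Lib.Helper40.GUConj.hermForm_eq_dot φ hφ]
  have h1 : φ ∘ (M *ᵥ v) = M.map φ *ᵥ (φ ∘ v) := by
    funext i
    rw [Function.comp_apply, RingHom.map_mulVec]
  rw [h1, ← Matrix.mulVec_mulVec]
  calc (M *ᵥ u) ⬝ᵥ (M.map φ *ᵥ (φ ∘ v))
      = (u ᵥ* Mᵀ) ⬝ᵥ (M.map φ *ᵥ (φ ∘ v)) := by rw [Matrix.vecMul_transpose]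
    _ = u ⬝ᵥ (Mᵀ *ᵥ (M.map φ *ᵥ (φ ∘ v))) := by rw [← Matrix.dotProduct_mulVec]

/-- Hilbert 90 for an involution of a field -/
theorem exists_h90 (φ : F →+* F) (hφ2 : ∀ x, φ (φ x) = x) (θ₀ : F) (hθ₀ : φ θ₀ ≠ θ₀) (l : F)
    (hl : l * φ l = 1) : ∃ ν : F, ν ≠ 0 ∧ φ ν = l * ν := by
  by_cases h : 1 + φ l = 0
  · have h1 : φ l = -1 := by linear_combination h
    have h2 : l = -1 := by
      have := congrArg φ h1
      rw [hφ2, map_neg, map_one] at this
      exact this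
    refine ⟨θ₀ - φ θ₀, ?_, ?_⟩
    · intro h0
      exact hθ₀ (sub_eq_zero.mp h0).symm
    · rw [map_sub, hφ2, h2]; ring
  · refine ⟨1 + φ l, h, ?_⟩
    rw [map_add, map_one, hφ2]
    linear_combination -hl

/-- a unit matrix which is Hermitian up to a scalar is congruent to a scalar matrix -/
theorem exists_orthonormalize [Finite F] (hm : 0 < m) (φ : F →+* F) (hφ2 : ∀ x, φ (φ x) = x) (θ₀ : F)
    (hθ₀ : φ θ₀ ≠ θ₀) (w : Matrix (Fin m) (Fin m) F) (hw : IsUnit w) (l : F) (hwl : wᵀ = l • w.map φ) :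
    ∃ (B : GL (Fin m) F) (ν : F), ν ≠ 0 ∧
      (B : Matrix (Fin m) (Fin m) F)ᵀ * w * (B : Matrix (Fin m) (Fin m) F).map φ = ν • 1 := by
  classical
  have : Nonempty (Fin m) := ⟨⟨0, hm⟩⟩
  have hw0 : w ≠ 0 := hw.ne_zero
  have hent : ∀ a b, w b a = l * φ (w a b) := by
    intro a b
    have := congrFun (congrFun hwl a) b
    rw [Matrix.transpose_apply, Matrix.smul_apply, Matrix.map_apply, smul_eq_mul] at this
    exact this
  have hl : l * φ l = 1 := by
    obtain ⟨a, b, hab⟩ : ∃ a b, w a b ≠ 0 := by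
      by_contra hc
      push Not at hc
      exact hw0 (by ext a b; exact hc a b)
    have h1 : w a b = l * φ l * w a b := by
      conv_lhs => rw [hent b a, hent a b, map_mul, hφ2]
      ring
    have h2 : (l * φ l - 1) * w a b = 0 := by linear_combination -h1
    rcases mul_eq_zero.mp h2 with h3 | h3
    · linear_combination h3
    · exact absurd h3 hab
  obtain ⟨ν, hν, hφν⟩ := exists_h90 φ hφ2 θ₀ hθ₀ l hl
  set H : Matrix (Fin m) (Fin m) F := ν • w with hH
  let σ : RingAut F := RingEquiv.ofRingHom φ φ (RingHom.ext hφ2) (RingHom.ext hφ2)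
  have hσ : ∀ a, σ a = φ a := fun a => rfl
  have hHu : IsUnit H := by
    rw [Matrix.isUnit_iff_isUnit_det, hH, Matrix.det_smul]
    exact (IsUnit.pow _ (isUnit_iff_ne_zero.mpr hν)).mul ((Matrix.isUnit_iff_isUnit_det _).mp hw)
  have hHσ : H.map σ = Hᵀ := by
    ext a b
    rw [Matrix.map_apply, Matrix.transpose_apply, hH, Matrix.smul_apply, Matrix.smul_apply, smul_eq_mul,
      smul_eq_mul, hσ, map_mul, hφν, hent a b]
    ring
  have hσ1 : σ ≠ 1 := by
    intro h1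
    apply hθ₀
    have := congrArg (fun s : RingAut F => s θ₀) h1
    exact this
  obtain ⟨Q, hQu, hQ⟩ := Cfsg.Agent.Lib.Helper07.herm_classify σ (fun a => by rw [hσ, hσ, hφ2]) hσ1 H hHu hHσ
  obtain ⟨Qi, hQQi, hQiQ⟩ : ∃ Qi : Matrix (Fin m) (Fin m) F, Q * Qi = 1 ∧ Qi * Q = 1 :=
    ⟨((hQu.unit)⁻¹ : (Matrix (Fin m) (Fin m) F)ˣ), hQu.mul_val_inv, hQu.val_inv_mul⟩
  let B : GL (Fin m) F := ⟨Qiᵀ, Qᵀ, by rw [← Matrix.transpose_mul, hQQi, Matrix.transpose_one],
    by rw [← Matrix.transpose_mul, hQiQ, Matrix.transpose_one]⟩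
  refine ⟨B, ν⁻¹, inv_ne_zero hν, ?_⟩
  have hB : (B : Matrix (Fin m) (Fin m) F) = Qiᵀ := rfl
  have hmapσ : Q.map σ = Q.map φ := rfl
  have h5 : Qi * H * (Qiᵀ).map φ = 1 := by
    rw [hQ, hmapσ, ← Matrix.transpose_map, ← mul_assoc, hQiQ, one_mul, ← Matrix.map_mul,
      ← Matrix.transpose_mul, hQiQ]
    simp
  rw [hB, Matrix.transpose_transpose]
  have h6 : Qi * H * (Qiᵀ).map φ = ν • (Qi * w * (Qiᵀ).map φ) := by
    rw [hH, Matrix.mul_smul, Matrix.smul_mul]
  rw [h6] at h5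
  rw [← h5, smul_smul, inv_mul_cancel₀ hν, one_smul]

local notation "MT" => Matrix (Fin t → Fin m) (Fin t → Fin m) F
local notation "Mm" => Matrix (Fin m) (Fin m) F

/-- the abstract core of K-S5663-E6: a rectangular base change `R` whose factor algebras are closed under
adjoints for the unitary form can be corrected by a pure tensor to an orthogonal basis with constant norm -/
theorem core [Finite F] {n q : ℕ} (hm : 0 < m) (φ : F →+* F) (hφq : ∀ x, φ x = x ^ q)
    (hφ2 : ∀ x, φ (φ x) = x) (θ₀ : F) (hθ₀ : φ θ₀ ≠ θ₀)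
    (R : Matrix (Fin n) (Fin t → Fin m) F) (Ri : Matrix (Fin t → Fin m) (Fin n) F)
    (hRRi : R * Ri = 1) (hRiR : Ri * R = 1)
    (hadj : ∀ (i : Fin t) (x : Mm), ∃ y : Mm,
      ∀ u v : Fin n → F, hermForm n F q ((R * pA m t i x * Ri) *ᵥ u) v
        = hermForm n F q u ((R * pA m t i y * Ri) *ᵥ v)) :
    ∃ (B : Fin t → GL (Fin m) F) (c₀ : F), c₀ ≠ 0 ∧
      (R * PT (fun i => (B i : Mm)))ᵀ * (R * PT (fun i => (B i : Mm))).map φ = c₀ • 1 := by
  classical
  have hne : Nonempty (Fin m) := ⟨⟨0, hm⟩⟩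
  obtain ⟨GT, hGT⟩ : ∃ GT : MT, GT = Rᵀ * R.map φ := ⟨_, rfl⟩
  obtain ⟨GTi, hGTi⟩ : ∃ GTi : MT, GTi = Ri.map φ * Riᵀ := ⟨_, rfl⟩
  have hG1 : GT * GTi = 1 := by
    rw [hGT, hGTi]
    calc Rᵀ * R.map φ * (Ri.map φ * Riᵀ) = Rᵀ * ((R.map φ * Ri.map φ) * Riᵀ) := by
          simp only [Matrix.mul_assoc]
      _ = 1 := by
          rw [← Matrix.map_mul, hRRi, Matrix.map_one _ (map_zero φ) (map_one φ), Matrix.one_mul,
            ← Matrix.transpose_mul, hRiR, Matrix.transpose_one]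
  have hG2 : GTi * GT = 1 := by
    rw [hGT, hGTi]
    calc Ri.map φ * Riᵀ * (Rᵀ * R.map φ) = Ri.map φ * ((Riᵀ * Rᵀ) * R.map φ) := by
          simp only [Matrix.mul_assoc]
      _ = 1 := by
          rw [← Matrix.transpose_mul, hRRi, Matrix.transpose_one, Matrix.one_mul, ← Matrix.map_mul, hRiR,
            Matrix.map_one _ (map_zero φ) (map_one φ)]
  have hφsurj : ∀ v : (Fin t → Fin m) → F, φ ∘ (φ ∘ v) = v := by
    intro v; funext a; simp [hφ2]
  -- Step A
  have stepA : ∀ (i : Fin t) (x : Mm), ∃ y : Mm, (pA m t i x)ᵀ * GT = GT * (pA m t i y).map φ := by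
    intro i x
    obtain ⟨y, hy⟩ := hadj i x
    refine ⟨y, ?_⟩
    apply mat_eq_of_forall_dot
    intro u v
    have h1 := hy (R *ᵥ u) (R *ᵥ (φ ∘ v))
    have e1 : ∀ (z : Mm) (u' : (Fin t → Fin m) → F),
        (R * pA m t i z * Ri) *ᵥ (R *ᵥ u') = R *ᵥ (pA m t i z *ᵥ u') := by
      intro z u'
      rw [Matrix.mulVec_mulVec, Matrix.mul_assoc, hRiR, Matrix.mul_one, ← Matrix.mulVec_mulVec]
    rw [e1, e1, herm_rect φ hφq, herm_rect φ hφq, hφsurj, ← hGT] at h1
    have e2 : φ ∘ (pA m t i y *ᵥ (φ ∘ v)) = (pA m t i y).map φ *ᵥ v := by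
      funext a
      rw [Function.comp_apply, RingHom.map_mulVec, hφsurj]
    rw [e2] at h1
    rw [← Matrix.mulVec_mulVec, ← Matrix.mulVec_mulVec, ← h1, Matrix.dotProduct_mulVec,
      Matrix.vecMul_transpose]
  -- Step B
  let gGL : GL (Fin t → Fin m) F := ⟨GT, GTi, hG1, hG2⟩
  have hg : ∀ (i : Fin t) (x : Mm), ∃ y : Mm,
      ((gGL⁻¹ : GL (Fin t → Fin m) F) : MT) * pA m t i x * (((gGL⁻¹)⁻¹ : GL (Fin t → Fin m) F) : MT)
        = pA m t i y := by
    intro i x
    obtain ⟨y, hy⟩ := stepA i xᵀ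
    refine ⟨y.map φ, ?_⟩
    rw [inv_inv]
    show GTi * pA m t i x * GT = _
    rw [pureAt_transpose, Matrix.transpose_transpose, pureAt_map] at hy
    rw [Matrix.mul_assoc, hy, ← Matrix.mul_assoc, hG2, Matrix.one_mul]
  obtain ⟨u, c, hc, huc⟩ := Cfsg.Agent.Lib.Helper04.Asch.exists_pure_of_normalizes hm gGL⁻¹ hg
  obtain ⟨w, hw⟩ : ∃ w : Fin t → Mm, w = fun i => (((u i)⁻¹ : GL (Fin m) F) : Mm) := ⟨_, rfl⟩
  have hwu : ∀ i, IsUnit (w i) := fun i => by rw [hw]; exact ((u i)⁻¹).isUnit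
  have hGTw : GT = c⁻¹ • PT w := by
    have h1 : PT w * GTi = c • 1 := by
      rw [← huc, Units.val_mul, Cfsg.Agent.Lib.Helper04.Asch.ptGL_inv_val, hw]; rfl
    have h2 := congrArg (· * GT) h1
    simp only [Matrix.mul_assoc, hG2, Matrix.mul_one, Matrix.smul_mul, Matrix.one_mul] at h2
    rw [h2, smul_smul, inv_mul_cancel₀ hc, one_smul]
  -- Step C
  have hGherm : GTᵀ = GT.map φ := by
    have h3 : (R.map φ).map φ = R := by ext a b; simp [hφ2]
    rw [hGT, Matrix.transpose_mul, Matrix.transpose_transpose, Matrix.map_mul, Matrix.transpose_map, h3]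
  have hPTw : PT (fun i => (w i)ᵀ) = (c * φ c⁻¹) • PT (fun i => (w i).map φ) := by
    have h4 : (c⁻¹ • PT w).map φ = φ c⁻¹ • (PT w).map φ := by
      ext a b; simp
    rw [hGTw, Matrix.transpose_smul, PT_transpose, h4, PT_map] at hGherm
    rw [mul_smul, ← hGherm, smul_smul, mul_inv_cancel₀ hc, one_smul]
  have hex : ∀ i, ∃ r s : Fin m, ((w i).map φ) r s ≠ 0 := by
    intro i
    have h0 : w i ≠ 0 := (hwu i).ne_zero
    by_contra hc'
    push Not at hc'
    apply h0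
    ext a b
    have := hc' a b
    rw [Matrix.map_apply] at this
    exact (map_eq_zero φ).mp this
  choose r s hrs using hex
  have hκ : c * φ c⁻¹ ≠ 0 := mul_ne_zero hc ((map_ne_zero φ).mpr (inv_ne_zero hc))
  have hfac := PT_eq_smul_PT (fun i => (w i)ᵀ) (fun i => (w i).map φ) _ hκ r s hrs hPTw
  have hB : ∀ i, ∃ (B : GL (Fin m) F) (ν : F), ν ≠ 0 ∧
      (B : Mm)ᵀ * w i * (B : Mm).map φ = ν • 1 := by
    intro i
    obtain ⟨l, hl⟩ := hfac i
    exact exists_orthonormalize hm φ hφ2 θ₀ hθ₀ (w i) (hwu i) l hl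
  choose B ν hν hBν using hB
  refine ⟨B, c⁻¹ * ∏ i, ν i, mul_ne_zero (inv_ne_zero hc) (Finset.prod_ne_zero_iff.mpr fun i _ => hν i), ?_⟩
  rw [Matrix.transpose_mul, Matrix.map_mul, PT_transpose, PT_map]
  calc (PT fun i => (B i : Mm)ᵀ) * Rᵀ * (R.map φ * PT fun i => (B i : Mm).map φ)
      = (PT fun i => (B i : Mm)ᵀ) * GT * PT (fun i => (B i : Mm).map φ) := by
        rw [hGT]; simp only [Matrix.mul_assoc]
    _ = c⁻¹ • (PT (fun i => (B i : Mm)ᵀ) * PT w * PT (fun i => (B i : Mm).map φ)) := by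
        rw [hGTw]; simp only [Matrix.mul_smul, Matrix.smul_mul]
    _ = c⁻¹ • PT (fun i => ν i • (1 : Mm)) := by
        rw [Cfsg.Agent.Lib.Helper04.Asch.PT_mul, Cfsg.Agent.Lib.Helper04.Asch.PT_mul]
        congr 2
        funext i
        exact hBν i
    _ = (c⁻¹ * ∏ i, ν i) • 1 := by rw [PT_smul_one, smul_smul]

end tools

section main

open Cfsg.Agent.Lib.Helper61.Asch Cfsg.Agent.Lib.Helper61.AschU

variable {F : Type*} [Field F] [Fintype F] {n q : ℕ}

local notation "V" => (Fin n → F)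
local notation "𝔥" => hermForm n F q
local notation "pA" => Cfsg.Agent.Lib.Helper04.Asch.pureAt
local notation "PT" => Cfsg.Agent.Lib.Helper04.Asch.PT

/-- K-S5663-E6. -/
theorem exists_tensorPowerForm (hF : Fintype.card F = q ^ 2) (K : Subgroup (GL (Fin n) F)) (m t : ℕ) (hm : 1 ≤ m)
    (ht : 1 ≤ t) (e : Fin n ≃ (Fin t → Fin m)) (P : GL (Fin n) F) (hK : K ≤ tensorWreathSubgroup m t e P)
    (hadj : ∀ (i : Fin t) (x : Matrix (Fin m) (Fin m) F), ∃ y : Matrix (Fin m) (Fin m) F,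
      ∀ u v : V, 𝔥 (fac m t e P i x *ᵥ u) v = 𝔥 u (fac m t e P i y *ᵥ v)) :
    ∃ P' : GL (Fin n) F, IsTensorPowerFormStructure (fun x : F => x ^ q) 𝔥 (hermForm m F q) e P' ∧
      K ≤ tensorWreathSubgroup m t e P' := by
  classical
  obtain ⟨φ, hφq, hφ2, θ₀, hθ₀⟩ := Cfsg.Agent.Lib.Helper40.GUConj.exists_frob hF
  have hq0 : q ≠ 0 := by
    rintro rfl
    have h1 : 1 < Fintype.card F := Fintype.one_lt_card
    rw [hF] at h1
    simp at h1
  obtain ⟨Pm, hPm⟩ : ∃ Pm : Matrix (Fin n) (Fin n) F, Pm = (P : Matrix (Fin n) (Fin n) F) := ⟨_, rfl⟩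
  obtain ⟨Pi', hPi⟩ : ∃ Pi' : Matrix (Fin n) (Fin n) F,
      Pi' = ((P⁻¹ : GL (Fin n) F) : Matrix (Fin n) (Fin n) F) := ⟨_, rfl⟩
  have hPP : Pm * Pi' = 1 := by rw [hPm, hPi, ← Units.val_mul, mul_inv_cancel, Units.val_one]
  have hPP' : Pi' * Pm = 1 := by rw [hPm, hPi, ← Units.val_mul, inv_mul_cancel, Units.val_one]
  obtain ⟨R, hR⟩ : ∃ R : Matrix (Fin n) (Fin t → Fin m) F, R = Pm.submatrix id e.symm := ⟨_, rfl⟩
  obtain ⟨Ri, hRi⟩ : ∃ Ri : Matrix (Fin t → Fin m) (Fin n) F, Ri = Pi'.submatrix e.symm id := ⟨_, rfl⟩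
  have hRRi : R * Ri = 1 := by
    rw [hR, hRi, Matrix.submatrix_mul_equiv, hPP, Matrix.submatrix_id_id]
  have hRiR : Ri * R = 1 := by
    have h1 := Matrix.submatrix_mul_equiv Pi' Pm e.symm (Equiv.refl _) e.symm
    simp only [Equiv.coe_refl] at h1
    rw [hR, hRi, h1, hPP', Matrix.submatrix_one_equiv]
  have hfac : ∀ (i : Fin t) (x : Matrix (Fin m) (Fin m) F), fac m t e P i x = R * pA m t i x * Ri := by
    intro i x
    have h1 : Pm = R.submatrix id e := by
      ext a b; simp [hR]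
    have h2 : Pi' = Ri.submatrix e id := by
      ext a b; simp [hRi]
    have h3 : Cfsg.Agent.Lib.Helper61.AschU.pureAt m t i x = pA m t i x := rfl
    unfold fac
    rw [← hPm, ← hPi, h3, Matrix.reindex_apply, Equiv.symm_symm, h1, h2, Matrix.submatrix_mul_equiv,
      Matrix.submatrix_mul_equiv, Matrix.submatrix_id_id]
  obtain ⟨B, c₀, hc₀, hcore⟩ := core (Nat.lt_of_lt_of_le Nat.zero_lt_one hm) φ hφq hφ2 θ₀ hθ₀ R Ri hRRi hRiR
    (by
      intro i x
      obtain ⟨y, hy⟩ := hadj i x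
      refine ⟨y, ?_⟩
      intro u v
      rw [← hfac, ← hfac]
      exact hy u v)
  obtain ⟨b, hb⟩ : ∃ b : GL (Fin n) F, b = glReindex e.symm (Cfsg.Agent.Lib.Helper04.Asch.ptGL B) := ⟨_, rfl⟩
  have hbval : (b : Matrix (Fin n) (Fin n) F)
      = (PT (fun i => (B i : Matrix (Fin m) (Fin m) F))).submatrix e e := by
    rw [hb]; rfl
  refine ⟨P * b, ⟨c₀, hc₀, ?_⟩, ?_⟩
  · intro x y
    have hvec : ∀ z : (Fin t → Fin m) → F, ((P * b : GL (Fin n) F) : Matrix (Fin n) (Fin n) F) *ᵥ (z ∘ e)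
        = (R * PT (fun i => (B i : Matrix (Fin m) (Fin m) F))) *ᵥ z := by
      intro z
      rw [Units.val_mul, hbval, ← hPm, ← Matrix.mulVec_mulVec, ← Matrix.mulVec_mulVec, hR,
        Matrix.submatrix_mulVec_equiv, Matrix.submatrix_mulVec_equiv]
      simp [Function.comp_assoc]
    have hgram : ∀ a b : Fin m, gramMatrix (hermForm m F q) a b = if a = b then 1 else 0 := by
      intro a b
      unfold gramMatrix hermForm
      by_cases hab : a = b
      · subst hab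
        simp [Pi.single_apply, hq0]
      · simp [Pi.single_apply, hq0, hab, Ne.symm hab]
    rw [hvec, hvec, herm_rect φ hφq, hcore]
    simp only [hgram, Finset.prod_ite_zero, Finset.mem_univ, forall_const, Finset.prod_const_one]
    rw [Matrix.smul_mulVec, Matrix.one_mulVec, dotProduct_smul, smul_eq_mul]
    congr 1
    unfold dotProduct
    apply Finset.sum_congr rfl
    intro a _
    rw [Finset.sum_eq_single a]
    · simp [hφq]
    · intro b' _ hb'
      have : ¬ ∀ i, a i = b' i := fun h => hb' (funext h).symm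
      simp [this]
    · intro h; exact absurd (Finset.mem_univ a) h
  · intro g hg
    have h1 := hK hg
    unfold tensorWreathSubgroup at h1 ⊢
    rw [Subgroup.mem_map] at h1 ⊢
    obtain ⟨h, hh, rfl⟩ := h1
    have hbW : b ∈ (tensorWreathStandard m t F).map (glReindex e.symm).toMonoidHom := by
      rw [hb]
      exact Subgroup.mem_map_of_mem _ (Subgroup.subset_closure
        (Or.inl (Cfsg.Agent.Lib.Helper04.Asch.ptGL_isPureTensor B)))
    refine ⟨b⁻¹ * h * b, Subgroup.mul_mem _ (Subgroup.mul_mem _ (Subgroup.inv_mem _ hbW) hh) hbW, ?_⟩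
    show MulAut.conj (P * b) (b⁻¹ * h * b) = MulAut.conj P h
    rw [MulAut.conj_apply, MulAut.conj_apply]
    group

end main

end Cfsg.Agent.Lib.Helper22.AschU
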