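import Mathlib

/-!
# K-S1421-P (helper22): iSup of normal `q`-subgroups over a finite set of primes

* `core` : every element `y` of `⨆ q ∈ T, Y q` has order divisible only by primes `r ∈ T`, and
  `y ^ (orderOf y / r) ∈ Y r` for such `r`.
* `exists_pow_mem_of_mem_iSup` (P), `prime_mem_of_dvd_card_iSup` (P').
-/

set_option autoImplicit false

namespace Cfsg.Agent.Lib.Helper22.BG1211

variable {G : Type*} [Group G] [Finite G]

omit [Finite G] in
/-- two normal subgroups of `E` (inside `E`) of coprime prime-power orders commute elementwise -/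
theorem commute_of_pgroups (E A B : Subgroup G) (hAE : A ≤ E) (hBE : B ≤ E)
    (hAn : E ≤ Subgroup.normalizer (A : Set G)) (hBn : E ≤ Subgroup.normalizer (B : Set G))
    {p q : ℕ} (hpq : p ≠ q) (hp : p.Prime) (hq : q.Prime)
    (hA : IsPGroup p A) (hB : IsPGroup q B)
    {a b : G} (ha : a ∈ A) (hb : b ∈ B) : a * b = b * a := by
  have hdis : Disjoint A B := by
    have := Fact.mk hp
    have := Fact.mk hq
    exact IsPGroup.disjoint_of_ne p q hpq A B hA hB
  have h1 : a * b * a⁻¹ * b⁻¹ ∈ A := by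
    have : b * a⁻¹ * b⁻¹ ∈ A := by
      have h := (Subgroup.mem_normalizer_iff.mp (hAn (hBE hb))) a⁻¹
      exact h.mp (A.inv_mem ha)
    have h2 := A.mul_mem ha this
    simpa [mul_assoc] using h2
  have h2 : a * b * a⁻¹ * b⁻¹ ∈ B := by
    have : a * b * a⁻¹ ∈ B := (Subgroup.mem_normalizer_iff.mp (hBn (hAE ha))) b |>.mp hb
    exact B.mul_mem this (B.inv_mem hb)
  have h3 : a * b * a⁻¹ * b⁻¹ = 1 := by
    have := Subgroup.disjoint_def.mp hdis h1 h2
    exact this
  calc a * b = a * b * a⁻¹ * b⁻¹ * (b * a) := by group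
    _ = b * a := by rw [h3, one_mul]

omit [Finite G] in
/-- **core**: primes dividing the order of an element of `⨆ q ∈ T, Y q` lie in `T`, and the
corresponding prime-order power lies in the matching `Y r`. -/
theorem core (E : Subgroup G) (Y : ℕ → Subgroup G) (T : Finset ℕ) :
    (∀ q ∈ T, Y q ≤ E) → (∀ q ∈ T, E ≤ Subgroup.normalizer (Y q : Set G)) →
    (∀ q ∈ T, q.Prime ∧ IsPGroup q (Y q)) →
    ∀ y ∈ ⨆ q ∈ T, Y q, ∀ r : ℕ, r.Prime → r ∣ orderOf y →
      r ∈ T ∧ y ^ (orderOf y / r) ∈ Y r := by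
  classical
  induction T using Finset.induction_on with
  | empty =>
    intro _ _ _ y hy r hr hdvd
    simp only [Finset.notMem_empty, iSup_false, iSup_bot, Subgroup.mem_bot] at hy
    subst hy
    rw [orderOf_one] at hdvd
    exact absurd (Nat.dvd_one.mp hdvd) hr.ne_one
  | insert q T' hqT' ih =>
    intro hYE hYn hYq y hy r hr hdvd
    have ih' := ih (fun q' hq' => hYE q' (Finset.mem_insert_of_mem hq'))
      (fun q' hq' => hYn q' (Finset.mem_insert_of_mem hq'))
      (fun q' hq' => hYq q' (Finset.mem_insert_of_mem hq'))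
    set N : Subgroup G := ⨆ q' ∈ T', Y q' with hN
    have hqmem : q ∈ insert q T' := Finset.mem_insert_self q T'
    have hqp : q.Prime := (hYq q hqmem).1
    have hNE : N ≤ E := iSup₂_le fun q' hq' => hYE q' (Finset.mem_insert_of_mem hq')
    have hNnorm : N ≤ Subgroup.normalizer (Y q : Set G) := hNE.trans (hYn q hqmem)
    rw [Finset.iSup_insert, sup_comm] at hy
    have hy' : y ∈ ((N ⊔ Y q : Subgroup G) : Set G) := hy
    rw [Subgroup.coe_mul_of_left_le_normalizer_right N (Y q) hNnorm] at hy'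
    obtain ⟨b, hb, a, ha, rfl⟩ := Set.mem_mul.mp hy'
    have hb' : b ∈ N := hb
    have ha' : a ∈ Y q := ha
    -- `N` centralizes `Y q`
    have hNcen : N ≤ Subgroup.centralizer (Y q : Set G) := by
      refine iSup₂_le fun q' hq' => ?_
      intro c hc
      rw [Subgroup.mem_centralizer_iff]
      intro a' ha'
      have hne : q ≠ q' := fun h => hqT' (h ▸ hq')
      have hq'mem : q' ∈ insert q T' := Finset.mem_insert_of_mem hq'
      exact commute_of_pgroups E (Y q) (Y q') (hYE q hqmem) (hYE q' hq'mem) (hYn q hqmem)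
        (hYn q' hq'mem) hne hqp (hYq q' hq'mem).1 (hYq q hqmem).2 (hYq q' hq'mem).2 ha' hc
    have hcomm : Commute b a := by
      have := (Subgroup.mem_centralizer_iff.mp (hNcen hb')) a ha'
      exact this.symm
    -- orders
    obtain ⟨k, hk⟩ := (hYq q hqmem).2 ⟨a, ha'⟩
    have hak : a ^ q ^ k = 1 := by
      have := congrArg Subtype.val hk
      simpa using this
    have hm_dvd : orderOf a ∣ q ^ k := orderOf_dvd_of_pow_eq_one hak
    have hq_nb : ¬ q ∣ orderOf b := fun h => hqT' (ih' b hb' q hqp h).1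
    have hcop : (orderOf b).Coprime (orderOf a) := by
      have h1 : (orderOf b).Coprime (q ^ k) :=
        Nat.Coprime.pow_right k ((Nat.Prime.coprime_iff_not_dvd hqp).mpr hq_nb).symm
      exact Nat.Coprime.coprime_dvd_right hm_dvd h1
    have hord : orderOf (b * a) = orderOf b * orderOf a :=
      hcomm.orderOf_mul_eq_mul_orderOf_of_coprime hcop
    rw [hord] at hdvd ⊢
    by_cases hrq : r = q
    · subst hrq
      refine ⟨hqmem, ?_⟩
      have hrm : r ∣ orderOf a := by
        rcases (Nat.Prime.dvd_mul hr).mp hdvd with h | h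
        · exact absurd h hq_nb
        · exact h
      rw [Nat.mul_div_assoc _ hrm, hcomm.mul_pow, pow_mul, pow_orderOf_eq_one, one_pow, one_mul]
      exact Subgroup.pow_mem _ ha' _
    · have hr_m : ¬ r ∣ orderOf a := by
        intro h
        have := (Nat.prime_dvd_prime_iff_eq hr hqp).mp (hr.dvd_of_dvd_pow (h.trans hm_dvd))
        exact hrq this
      have hr_nb : r ∣ orderOf b := by
        rcases (Nat.Prime.dvd_mul hr).mp hdvd with h | h
        · exact h
        · exact absurd h hr_m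
      obtain ⟨hrT', hbr⟩ := ih' b hb' r hr hr_nb
      refine ⟨Finset.mem_insert_of_mem hrT', ?_⟩
      rw [← Nat.div_mul_right_comm hr_nb, hcomm.mul_pow, pow_mul, mul_comm (orderOf b / r),
        pow_mul a, pow_orderOf_eq_one, one_pow, mul_one]
      exact Subgroup.pow_mem _ hbr _

/-- **(P)** -/
theorem exists_pow_mem_of_mem_iSup (E : Subgroup G) (T : Finset ℕ) (Y : ℕ → Subgroup G)
    (hYE : ∀ q ∈ T, Y q ≤ E) (hYn : ∀ q ∈ T, E ≤ Subgroup.normalizer (Y q : Set G))
    (hYq : ∀ q ∈ T, q.Prime ∧ IsPGroup q (Y q))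
    {y : G} (hy : y ∈ ⨆ q ∈ T, Y q) (hy1 : y ≠ 1) :
    ∃ q ∈ T, ∃ j : ℕ, y ^ j ∈ Y q ∧ y ^ j ≠ 1 := by
  have hne : orderOf y ≠ 1 := fun h => hy1 (orderOf_eq_one_iff.mp h)
  obtain ⟨r, hr, hdvd⟩ := Nat.exists_prime_and_dvd hne
  obtain ⟨hrT, hmem⟩ := core E Y T hYE hYn hYq y hy r hr hdvd
  have hpos : 0 < orderOf y := orderOf_pos y
  refine ⟨r, hrT, orderOf y / r, hmem, ?_⟩
  apply pow_ne_one_of_lt_orderOf
  · exact (Nat.div_pos (Nat.le_of_dvd hpos hdvd) hr.pos).ne'
  · exact Nat.div_lt_self hpos hr.one_lt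

/-- **(P')** -/
theorem prime_mem_of_dvd_card_iSup (E : Subgroup G) (T : Finset ℕ) (Y : ℕ → Subgroup G)
    (hYE : ∀ q ∈ T, Y q ≤ E) (hYn : ∀ q ∈ T, E ≤ Subgroup.normalizer (Y q : Set G))
    (hYq : ∀ q ∈ T, q.Prime ∧ IsPGroup q (Y q))
    {r : ℕ} (hr : r.Prime) (hrd : r ∣ Nat.card ↥(⨆ q ∈ T, Y q)) : r ∈ T := by
  have := Fact.mk hr
  obtain ⟨g, hg⟩ := exists_prime_orderOf_dvd_card' r hrd
  have hg' : orderOf (g : G) = r := by rw [Subgroup.orderOf_coe]; exact hg
  exact (core E Y T hYE hYn hYq (g : G) g.2 r hr (hg' ▸ dvd_rfl)).1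

end Cfsg.Agent.Lib.Helper22.BG1211
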