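import Mathlib

/-!
# BG 14.2 (T-X), keystone 143011 K-TX-11 `normalizer_of_derived_cent` (pure group theory)

`E` normalizes `S`, `⁅E,E⁆` centralizes `S`, `T ≤ E`: `E` normalizes `D := S ⊓ C(T)`; if `D` is cyclic then
`E` normalizes every subgroup of `D`.
-/

set_option autoImplicit false

namespace Cfsg.Agent.Lib.Helper22.BG142

open scoped commutatorElement

/-- in a finite cyclic group, two subgroups of the same order are equal -/
theorem eq_of_card_eq_of_isCyclic' {T : Type*} [Group T] [Finite T] [IsCyclic T]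
    (A B : Subgroup T) (h : Nat.card A = Nat.card B) : A = B := by
  classical
  have : Fintype T := Fintype.ofFinite T
  set n := Nat.card A with hn
  have hn0 : 0 < n := Nat.card_pos
  have hF : (Finset.univ.filter (fun a : T => a ^ n = 1)).card ≤ n := IsCyclic.card_pow_eq_one_le hn0
  have key : ∀ C : Subgroup T, Nat.card C = n →
      (Finset.univ.filter (fun a : T => a ∈ C)) = Finset.univ.filter (fun a : T => a ^ n = 1) := by
    intro C hC
    apply Finset.eq_of_subset_of_card_le
    · intro a ha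
      rw [Finset.mem_filter] at ha ⊢
      refine ⟨ha.1, ?_⟩
      have : (⟨a, ha.2⟩ : C) ^ Nat.card C = 1 := pow_card_eq_one'
      rw [hC] at this
      exact congrArg Subtype.val this
    · refine hF.trans (le_of_eq ?_)
      rw [← hC, Nat.card_eq_fintype_card, Fintype.card_subtype]
  have hA := key A rfl
  have hB := key B h.symm
  ext a
  have h1 : a ∈ Finset.univ.filter (fun a : T => a ∈ A) ↔ a ∈ Finset.univ.filter (fun a : T => a ∈ B) := by
    rw [hA, hB]
  simpa using h1

/-- in a cyclic subgroup `T` of a finite group, two subgroups of `T` of the same order are equal -/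
theorem eq_of_le_cyclic' {G : Type*} [Group G] [Finite G] {T A B : Subgroup G}
    (hT : IsCyclic ↥T) (hA : A ≤ T) (hB : B ≤ T) (h : Nat.card A = Nat.card B) : A = B := by
  have h1 : Nat.card (A.subgroupOf T) = Nat.card (B.subgroupOf T) := by
    rw [Nat.card_congr (Subgroup.subgroupOfEquivOfLe hA).toEquiv,
      Nat.card_congr (Subgroup.subgroupOfEquivOfLe hB).toEquiv, h]
  have h2 := eq_of_card_eq_of_isCyclic' _ _ h1
  rw [Subgroup.subgroupOf_inj, inf_of_le_left hA, inf_of_le_left hB] at h2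
  exact h2

variable {G : Type*} [Group G] [Finite G]

omit [Finite G] in
/-- `E` maps `D = S ⊓ C(T)` into itself by conjugation -/
theorem conj_mem_inf_centralizer {E S T : Subgroup G}
    (hES : E ≤ Subgroup.normalizer (S : Set G))
    (hder : ⁅E, E⁆ ≤ Subgroup.centralizer (S : Set G)) (hTE : T ≤ E) {e d : G} (he : e ∈ E)
    (hd : d ∈ S ⊓ Subgroup.centralizer (T : Set G)) :
    e * d * e⁻¹ ∈ S ⊓ Subgroup.centralizer (T : Set G) := by
  have hdS : d ∈ S := hd.1
  have hdC : d ∈ Subgroup.centralizer (T : Set G) := hd.2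
  refine Subgroup.mem_inf.mpr ⟨(Subgroup.mem_normalizer_iff.mp (hES he) d).mp hdS, ?_⟩
  rw [Subgroup.mem_centralizer_iff]
  intro x hx
  -- `c = ⁅x⁻¹, e⁻¹⁆` centralizes `S`
  have hxE : x ∈ E := hTE hx
  have hc : ⁅x⁻¹, e⁻¹⁆ ∈ Subgroup.centralizer (S : Set G) :=
    hder (Subgroup.commutator_mem_commutator (E.inv_mem hxE) (E.inv_mem he))
  have h1 : d * ⁅x⁻¹, e⁻¹⁆ = ⁅x⁻¹, e⁻¹⁆ * d := (Subgroup.mem_centralizer_iff.mp hc) d hdS
  have h2 : x * d = d * x := (Subgroup.mem_centralizer_iff.mp hdC) x hx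
  -- `e⁻¹ x e = x c`
  have h3 : e⁻¹ * x * e = x * ⁅x⁻¹, e⁻¹⁆ := by
    rw [commutatorElement_def]; group
  have h4 : (e⁻¹ * x * e) * d = d * (e⁻¹ * x * e) := by
    rw [h3, mul_assoc, ← h1, ← mul_assoc, h2, mul_assoc]
  calc x * (e * d * e⁻¹) = e * ((e⁻¹ * x * e) * d) * e⁻¹ := by group
    _ = e * (d * (e⁻¹ * x * e)) * e⁻¹ := by rw [h4]
    _ = e * d * e⁻¹ * x := by group

/-- KEYSTONE 143011  K-TX-11  `normalizer_of_derived_cent` -/
theorem normalizer_of_derived_cent {E S T P : Subgroup G}
    (hES : E ≤ Subgroup.normalizer (S : Set G))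
    (hder : ⁅E, E⁆ ≤ Subgroup.centralizer (S : Set G)) (hTE : T ≤ E)
    (hD : IsCyclic ↥(S ⊓ Subgroup.centralizer (T : Set G)))
    (hPD : P ≤ S ⊓ Subgroup.centralizer (T : Set G)) :
    E ≤ Subgroup.normalizer (P : Set G) := by
  intro e he
  -- the conjugate of `P` by `e`
  have hmap : P.map (MulAut.conj e).toMonoidHom = P := by
    apply eq_of_le_cyclic' hD _ hPD
    · exact Nat.card_congr
        (P.equivMapOfInjective (MulAut.conj e).toMonoidHom (MulAut.conj e).injective).symm.toEquiv
    · rintro y ⟨d, hd, rfl⟩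
      simpa [MulAut.conj_apply] using conj_mem_inf_centralizer hES hder hTE he (hPD hd)
  rw [Subgroup.mem_normalizer_iff]
  intro h
  constructor
  · intro hh
    have : e * h * e⁻¹ ∈ P.map (MulAut.conj e).toMonoidHom := ⟨h, hh, by simp [MulAut.conj_apply]⟩
    rwa [hmap] at this
  · intro hh
    rw [← hmap] at hh
    obtain ⟨d, hd, hde⟩ := hh
    have : d = h := by
      have h5 : e * d * e⁻¹ = e * h * e⁻¹ := by simpa [MulAut.conj_apply] using hde
      have := congrArg (fun z => e⁻¹ * z * e) h5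
      simpa [mul_assoc] using this
    rwa [← this]

end Cfsg.Agent.Lib.Helper22.BG142
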