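import Mathlib
import Cfsg.Agent.S1414
import Cfsg.Agent.S1417
import Cfsg.Agent.S1423
import Cfsg.Agent.Lib.Helper13.BG127
import Cfsg.Agent.Lib.Helper13.BG12B
import Cfsg.Agent.Lib.Helper81.PSolvable
import Cfsg.Agent.Lib.Helper71.BG11a

/-!
# K-1436 leaf D (S1436, BG 14.4(d)): `σ(N) ∩ π(M) ⊆ β(N)` for the support `N` of `x ∈ M_σ#`
-/

set_option autoImplicit false
set_option linter.unusedSectionVars false
set_option linter.unusedVariables false
set_option linter.style.haveILetI false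

namespace Cfsg.Agent.Lib.Helper22.BG1436

open Cfsg Subgroup
open scoped Pointwise

variable {G : Type*} [Group G] [Finite G]

/-- an element lying in two subgroups of coprime orders is trivial -/
theorem eq_one_of_mem_of_coprime {H K : Subgroup G} {g : G} (hH : g ∈ H) (hK : g ∈ K)
    (hc : (Nat.card H).Coprime (Nat.card K)) : g = 1 := by
  have h1 := Subgroup.orderOf_dvd_natCard H hH
  have h2 := Subgroup.orderOf_dvd_natCard K hK
  exact orderOf_eq_one_iff.mp ((Nat.Coprime.coprime_dvd_left h1 hc).eq_one_of_dvd h2)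

/-- a `q`-subgroup lies in every normal subgroup of index prime to `q` -/
theorem le_of_isPGroup_of_not_dvd_index {L : Type*} [Group L] [Finite L] {q : ℕ} (hq : q.Prime)
    (K : Subgroup L) [K.Normal] (hK : ¬ q ∣ K.index) {Q : Subgroup L} (hQ : IsPGroup q Q) :
    Q ≤ K := by
  rw [← Subgroup.relIndex_eq_one]
  have h1 : K.relIndex Q ∣ K.index := Subgroup.relIndex_dvd_index_of_normal _ _
  have h2 : K.relIndex Q ∣ Nat.card Q := Subgroup.relIndex_dvd_card _ _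
  have : Fact q.Prime := ⟨hq⟩
  obtain ⟨n, hn⟩ := IsPGroup.iff_card.mp hQ
  rw [hn] at h2
  obtain ⟨j, _, hj⟩ := (Nat.dvd_prime_pow hq).mp h2
  rcases Nat.eq_zero_or_pos j with rfl | hjpos
  · simpa using hj
  · exfalso
    apply hK
    rw [hj] at h1
    exact (dvd_pow_self q hjpos.ne').trans h1

theorem centralizer_singleton_le_zpowers (x : G) :
    centralizer ({x} : Set G) ≤ centralizer ((zpowers x : Subgroup G) : Set G) := by
  intro g hg
  rw [Subgroup.mem_centralizer_iff] at hg ⊢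
  intro y hy
  obtain ⟨k, rfl⟩ := Subgroup.mem_zpowers_iff.mp hy
  have hc : Commute x g := hg x (Set.mem_singleton x)
  exact (hc.zpow_left k).eq

/-- STEP: the prime `q = o(x)` is smaller than `p`. -/
theorem lt_of_not_mem_beta (hG : IsMinSimpleOddOrder G) {N : Subgroup G} (hN : IsCoatom N)
    (hnil : Group.IsNilpotent (sigmaCore N)) {q : ℕ} (hqN : q ∈ tau2 N)
    {p : ℕ} (hp : p ∈ sigma N) (hpq : p ≠ q) (hβ : p ∉ beta N) : q < p := by
  classical
  have hpp : p.Prime := hp.1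
  have hqq : q.Prime := hqN.1
  have : Fact p.Prime := ⟨hpp⟩
  have : Fact q.Prime := ⟨hqq⟩
  have hpN : p ∣ Nat.card N := hp.2.1
  obtain ⟨A, hAN, hAel, hAcard⟩ := Cfsg.Agent.Lib.Helper13.BG12.exists_elemAb_sq_of_tau2 hqN
  have hd : sigmaCore N ⊓ centralizer (A : Set G) = ⊥ :=
    (Cfsg.Agent.S1417.result hG N hN q hqN A ⟨hAN, hAel, hAcard⟩).2.2.2.1
  have hAq : IsPGroup q A := IsPGroup.of_card hAcard
  -- the prime bound from S1414
  have h14 := ((Cfsg.Agent.S1414.result hG N hN).2.2.2.2 p hpp hpN hβ).2.2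
  by_contra hlt
  have hqd : ¬ q ∣ (pPrimeCore p ↥N).index := by
    intro hdvd
    have := h14 q hqq hdvd
    omega
  have hWn : (pPrimeCore p ↥N).Normal := Cfsg.Agent.Lib.Helper81.pPrimeCore_normal p
  have hAW : A.subgroupOf N ≤ pPrimeCore p ↥N :=
    le_of_isPGroup_of_not_dvd_index hqq _ hqd hAq.comap_subtype
  have hWc : (Nat.card (pPrimeCore p ↥N)).Coprime p :=
    Cfsg.Agent.Lib.Helper81.card_pPrimeCore_coprime p
  -- the Sylow `p`-subgroup of `N_σ`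
  obtain ⟨S0⟩ : Nonempty (Sylow p ↥(sigmaCore N)) := inferInstance
  haveI : Group.IsNilpotent ↥(sigmaCore N) := hnil
  have hS0n : (S0 : Subgroup ↥(sigmaCore N)).Normal := inferInstance
  have hSmem : ∀ y : G, ∀ hy : y ∈ sigmaCore N, (∃ j : ℕ, y ^ p ^ j = 1) →
      (⟨y, hy⟩ : ↥(sigmaCore N)) ∈ (S0 : Subgroup ↥(sigmaCore N)) := by
    intro y hy ⟨j, hj⟩
    have hz : IsPGroup p (zpowers (⟨y, hy⟩ : ↥(sigmaCore N))) := by
      rintro ⟨z, hz⟩
      obtain ⟨k, rfl⟩ := Subgroup.mem_zpowers_iff.mp hz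
      refine ⟨j, Subtype.ext (Subtype.ext ?_)⟩
      simp only [Subgroup.coe_pow, Subgroup.coe_zpow, Subgroup.coe_one]
      rw [← zpow_natCast, ← zpow_mul, mul_comm, zpow_mul, zpow_natCast, hj, one_zpow]
    obtain ⟨Q', hQ'⟩ := hz.exists_le_sylow
    haveI := Sylow.unique_of_normal S0 hS0n
    have hQS : Q' = S0 := Subsingleton.elim _ _
    rw [← hQS]
    exact hQ' (mem_zpowers _)
  -- a nontrivial element of `S0`
  have hpσ : p ∣ Nat.card (sigmaCore N) := by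
    have h1 : ¬ p ∣ (sigmaCore N).index := Cfsg.Agent.Lib.Helper71.BG11.sigmaCore_index hG hN hp
    have h2 : p ∣ Nat.card G := hpN.trans (Subgroup.card_subgroup_dvd_card N)
    rw [← Subgroup.card_mul_index (sigmaCore N)] at h2
    rcases (Nat.Prime.dvd_mul hpp).1 h2 with h | h
    · exact h
    · exact absurd h h1
  have hS0ne : (S0 : Subgroup ↥(sigmaCore N)) ≠ ⊥ := Sylow.ne_bot_of_dvd_card S0 hpσ
  obtain ⟨⟨s, hs⟩, hs1⟩ := (Subgroup.ne_bot_iff_exists_ne_one).1 hS0ne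
  have hs1' : s ≠ 1 := fun h => hs1 (Subtype.ext h)
  obtain ⟨sG, hsσ⟩ := s
  have hsN : sG ∈ N := Cfsg.Agent.Lib.Helper71.BG11.sigmaCore_le N hsσ
  obtain ⟨j, hj⟩ := S0.2 ⟨⟨sG, hsσ⟩, hs⟩
  have hj' : sG ^ p ^ j = 1 := by
    have := congrArg (fun z : ↥(S0 : Subgroup ↥(sigmaCore N)) => ((z : ↥(sigmaCore N)) : G)) hj
    simpa using this
  obtain ⟨n, hn⟩ := IsPGroup.iff_card.mp S0.2
  have hcent : sG ∈ centralizer (A : Set G) := by
    rw [Subgroup.mem_centralizer_iff]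
    intro a ha
    have haN : a ∈ N := hAN ha
    have ht : a * sG * a⁻¹ ∈ sigmaCore N :=
      (Subgroup.mem_normalizer_iff.mp
        (Cfsg.Agent.Lib.Helper71.BG11.le_normalizer_sigmaCore N haN) sG).1 hsσ
    have htp : (a * sG * a⁻¹) ^ p ^ j = 1 := by
      rw [conj_pow, hj']; group
    have htS := hSmem _ ht ⟨j, htp⟩
    have hcS : (⟨a * sG * a⁻¹, ht⟩ : ↥(sigmaCore N)) * (⟨sG, hsσ⟩ : ↥(sigmaCore N))⁻¹ ∈
        (S0 : Subgroup ↥(sigmaCore N)) := mul_mem htS (inv_mem hs)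
    have hc1 : a * sG * a⁻¹ * sG⁻¹ ∈
        (S0 : Subgroup ↥(sigmaCore N)).map (sigmaCore N).subtype :=
      ⟨_, hcS, rfl⟩
    have haW : (⟨a, haN⟩ : ↥N) ∈ pPrimeCore p ↥N := hAW (by
      rw [Subgroup.mem_subgroupOf]; exact ha)
    have hcW : (⟨a, haN⟩ : ↥N) * ((⟨sG, hsN⟩ : ↥N) * (⟨a, haN⟩ : ↥N)⁻¹ * (⟨sG, hsN⟩ : ↥N)⁻¹) ∈
        pPrimeCore p ↥N := mul_mem haW (hWn.conj_mem _ (inv_mem haW) _)
    have hc2 : a * sG * a⁻¹ * sG⁻¹ ∈ (pPrimeCore p ↥N).map N.subtype :=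
      ⟨_, hcW, by simp [mul_assoc]⟩
    have hcop : (Nat.card ((S0 : Subgroup ↥(sigmaCore N)).map (sigmaCore N).subtype)).Coprime
        (Nat.card ((pPrimeCore p ↥N).map N.subtype)) := by
      rw [Subgroup.card_map_of_injective (sigmaCore N).subtype_injective,
        Subgroup.card_map_of_injective N.subtype_injective, hn]
      exact Nat.Coprime.pow_left n hWc.symm
    have h1 := eq_one_of_mem_of_coprime hc1 hc2 hcop
    calc a * sG = (a * sG * a⁻¹ * sG⁻¹) * (sG * a) := by group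
      _ = sG * a := by rw [h1, one_mul]
  have : sG ∈ sigmaCore N ⊓ centralizer (A : Set G) := ⟨hsσ, hcent⟩
  rw [hd, Subgroup.mem_bot] at this
  exact hs1' (Subtype.ext this)

/-- STEP: an element of order `p` of `M` centralizing an `M`-conjugate of `x`. -/
theorem exists_order_p_commuting (hG : IsMinSimpleOddOrder G) {M : Subgroup G} (hM : IsCoatom M)
    {x : G} (hx : x ∈ sigmaCore M) {q : ℕ} (hq : q.Prime) (hxq : orderOf x = q)
    (hqβ : q ∉ beta M) {p : ℕ} (hpp : p.Prime) (hqp : q < p) (hpM : p ∣ Nat.card M)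
    (hpσ : p ∉ sigma M) :
    ∃ m ∈ M, ∃ c ∈ M, orderOf c = p ∧ (m * x * m⁻¹) * c = c * (m * x * m⁻¹) := by
  classical
  have : Fact p.Prime := ⟨hpp⟩
  have : Fact q.Prime := ⟨hq⟩
  have hxM : x ∈ M := Cfsg.Agent.Lib.Helper71.BG11.sigmaCore_le M hx
  have hqM : q ∣ Nat.card M := by
    rw [← hxq]; exact Subgroup.orderOf_dvd_natCard M hxM
  have h14 := ((Cfsg.Agent.S1414.result hG M hM).2.2.2.2 q hq hqM hqβ).2.2
  have hpd : ¬ p ∣ (pPrimeCore q ↥M).index := by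
    intro hdvd
    have := h14 p hpp hdvd
    omega
  obtain ⟨Qx, P, hQP⟩ :=
    Cfsg.Agent.Lib.Helper81.exists_sylow_normalizes_of_not_dvd_index (G := ↥M) q p hpd
  set xM : ↥M := ⟨x, hxM⟩ with hxMdef
  have hoxM : orderOf xM = q := by
    rw [← Subgroup.orderOf_coe]; exact hxq
  have hz : IsPGroup q (zpowers xM) := by
    apply IsPGroup.of_card (n := 1)
    rw [Nat.card_zpowers, hoxM, pow_one]
  obtain ⟨Q', hQ'⟩ := hz.exists_le_sylow
  obtain ⟨m, hm⟩ := MulAction.exists_smul_eq ↥M Q' Qx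
  have hx' : m * xM * m⁻¹ ∈ (Qx : Subgroup ↥M) := by
    have h1 : (MulAut.conj m) • xM ∈ (MulAut.conj m) • (Q' : Subgroup ↥M) :=
      Subgroup.smul_mem_pointwise_smul _ _ _ (hQ' (mem_zpowers xM))
    rw [← Sylow.coe_subgroup_smul, hm] at h1
    simpa [MulAut.smul_def] using h1
  have hnorm := hQP hx'
  -- an element of order `p` in `P`
  have hPne : (P : Subgroup ↥M) ≠ ⊥ := Sylow.ne_bot_of_dvd_card P hpM
  have hpP : p ∣ Nat.card (P : Subgroup ↥M) := by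
    obtain ⟨n, hn⟩ := IsPGroup.iff_card.mp P.2
    rw [hn]
    rcases Nat.eq_zero_or_pos n with rfl | hpos
    · exfalso
      apply hPne
      rw [pow_zero] at hn
      exact (Subgroup.card_eq_one).1 hn
    · exact dvd_pow_self p hpos.ne'
  obtain ⟨c, hc⟩ := exists_prime_orderOf_dvd_card' p hpP
  have hcP : (c : ↥M) ∈ (P : Subgroup ↥M) := c.2
  have hoc : orderOf ((c : ↥M) : G) = p := by
    rw [Subgroup.orderOf_coe, Subgroup.orderOf_coe]; exact hc
  refine ⟨(m : G), m.2, ((c : ↥M) : G), (c : ↥M).2, hoc, ?_⟩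
  -- the commutator lies in `P` and in `M_σ`
  have hconj : (m * xM * m⁻¹) * (c : ↥M) * (m * xM * m⁻¹)⁻¹ ∈ (P : Subgroup ↥M) :=
    (Subgroup.mem_normalizer_iff.mp hnorm (c : ↥M)).1 hcP
  have hcomP : (m * xM * m⁻¹) * (c : ↥M) * (m * xM * m⁻¹)⁻¹ * (c : ↥M)⁻¹ ∈ (P : Subgroup ↥M) :=
    mul_mem hconj (inv_mem hcP)
  have hx'σ : (m : G) * x * (m : G)⁻¹ ∈ sigmaCore M :=
    (Subgroup.mem_normalizer_iff.mp
      (Cfsg.Agent.Lib.Helper71.BG11.le_normalizer_sigmaCore M m.2) x).1 hx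
  have hcx'σ : ((c : ↥M) : G) * ((m : G) * x * (m : G)⁻¹)⁻¹ * ((c : ↥M) : G)⁻¹ ∈ sigmaCore M :=
    (Subgroup.mem_normalizer_iff.mp
      (Cfsg.Agent.Lib.Helper71.BG11.le_normalizer_sigmaCore M (c : ↥M).2) _).1 (inv_mem hx'σ)
  have hcomσ : ((m : G) * x * (m : G)⁻¹) * ((c : ↥M) : G) * ((m : G) * x * (m : G)⁻¹)⁻¹ *
      ((c : ↥M) : G)⁻¹ ∈ sigmaCore M := by
    have := mul_mem hx'σ hcx'σ
    simpa [mul_assoc] using this
  have hcomP' : ((m : G) * x * (m : G)⁻¹) * ((c : ↥M) : G) * ((m : G) * x * (m : G)⁻¹)⁻¹ *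
      ((c : ↥M) : G)⁻¹ ∈ (P : Subgroup ↥M).map M.subtype := ⟨_, hcomP, by simp [hxMdef]⟩
  have hcop : (Nat.card ((P : Subgroup ↥M).map M.subtype)).Coprime (Nat.card (sigmaCore M)) := by
    obtain ⟨n, hn⟩ := IsPGroup.iff_card.mp P.2
    rw [Subgroup.card_map_of_injective M.subtype_injective, hn]
    apply Nat.Coprime.pow_left
    rw [Nat.Prime.coprime_iff_not_dvd hpp]
    intro hd
    exact hpσ (Cfsg.Agent.Lib.Helper71.BG11.sigmaCore_pi hG hM hpp hd)
  have h1 := eq_one_of_mem_of_coprime hcomP' hcomσ hcop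
  set x' := (m : G) * x * (m : G)⁻¹ with hx'def
  set cG := ((c : ↥M) : G) with hcGdef
  calc x' * cG = (x' * cG * x'⁻¹ * cG⁻¹) * (cG * x') := by group
    _ = cG * x' := by rw [h1, one_mul]

theorem mem_beta (hG : IsMinSimpleOddOrder G) {M N : Subgroup G} (hM : IsCoatom M) (hN : IsCoatom N) {x : G}
    (hx : x ∈ sigmaCore M) (hx1 : x ≠ 1) (hxM : ¬ centralizer ({x} : Set G) ≤ M) (hxN : centralizer ({x} : Set G) ≤ N)
    (hnil : Group.IsNilpotent (sigmaCore N)) (hcompl : IsComplIn (M ⊓ N) (sigmaCore N) N)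
    (hdisj : ∀ p : ℕ, p ∈ sigma N → p ∉ sigma M)
    (hq : (orderOf x).Prime) (hqN : orderOf x ∈ tau2 N)
    {p : ℕ} (hp : p ∈ sigma N) (hpM : p ∣ Nat.card M) : p ∈ beta N := by
  classical
  by_contra hβ
  have hpp : p.Prime := hp.1
  have : Fact p.Prime := ⟨hpp⟩
  have : Fact (orderOf x).Prime := ⟨hq⟩
  have hxM' : x ∈ M := Cfsg.Agent.Lib.Helper71.BG11.sigmaCore_le M hx
  -- `q ∈ σ(M)`
  have hqσ : orderOf x ∈ sigma M :=
    Cfsg.Agent.Lib.Helper71.BG11.sigmaCore_pi hG hM hq (Subgroup.orderOf_dvd_natCard _ hx)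
  have hpσ : p ∉ sigma M := hdisj p hp
  have hpq : p ≠ orderOf x := fun h => hpσ (h ▸ hqσ)
  -- `q ∉ β(M)`
  have hqβ : orderOf x ∉ beta M := by
    intro hb
    obtain ⟨P0⟩ : Nonempty (Sylow (orderOf x) ↥(sigmaCore M)) := inferInstance
    have h := (Cfsg.Agent.S1423.result hG M hM (orderOf x) hqσ (zpowers x)
      (zpowers_le.mpr hxM') (Nat.card_zpowers x) P0 (Or.inl hb)).1.1
    exact hxM ((centralizer_singleton_le_zpowers x).trans h)
  have hlt : orderOf x < p := lt_of_not_mem_beta hG hN hnil hqN hp hpq hβ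
  obtain ⟨m, hmM, c, hcM, hoc, hcomm⟩ :=
    exists_order_p_commuting hG hM hx hq rfl hqβ hpp hlt hpM hpσ
  -- `c' = m⁻¹ c m` centralizes `x`
  set c' := m⁻¹ * c * m with hc'def
  have hc'x : c' ∈ centralizer ({x} : Set G) := by
    rw [Subgroup.mem_centralizer_iff]
    intro y hy
    rw [Set.mem_singleton_iff] at hy
    subst hy
    have h2 : m⁻¹ * ((m * y * m⁻¹) * c) * m = m⁻¹ * (c * (m * y * m⁻¹)) * m := by rw [hcomm]
    rw [hc'def]
    calc y * (m⁻¹ * c * m) = m⁻¹ * ((m * y * m⁻¹) * c) * m := by group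
      _ = m⁻¹ * (c * (m * y * m⁻¹)) * m := h2
      _ = m⁻¹ * c * m * y := by group
  have hc'N : c' ∈ N := hxN hc'x
  have hc'M : c' ∈ M := mul_mem (mul_mem (inv_mem hmM) hcM) hmM
  have hoc' : orderOf c' = p := by
    have h3 : c' = MulAut.conj m⁻¹ c := by
      rw [hc'def, MulAut.conj_apply, inv_inv]
    rw [h3, MulEquiv.orderOf_eq]
    exact hoc
  have hz : IsPGroup p (zpowers c') := by
    apply IsPGroup.of_card (n := 1)
    rw [Nat.card_zpowers, hoc', pow_one]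
  have hle : zpowers c' ≤ sigmaCore N :=
    Cfsg.Agent.Lib.Helper13.BG127.pgroup_le_sigmaCore hG hN hp (zpowers_le.mpr hc'N) hz
  have hmem : c' ∈ (M ⊓ N) ⊓ sigmaCore N := ⟨⟨hc'M, hc'N⟩, hle (mem_zpowers c')⟩
  rw [hcompl.2.2.1, Subgroup.mem_bot] at hmem
  rw [hmem, orderOf_one] at hoc'
  exact hpp.one_lt.ne hoc'

end Cfsg.Agent.Lib.Helper22.BG1436
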