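import Mathlib
import Cfsg.Agent.S1351
import Cfsg.Agent.S1352
import Cfsg.Agent.S1359
import Cfsg.Agent.Lib.Helper97.BG1366O
import Cfsg.Agent.Lib.Helper32.BG147P2
import Cfsg.Agent.Lib.Helper71.BG11a

/-!
K-153 pack (S1438 = BG Corollary 15.3, architect helper32), leaf 143803 K-153-C `comm_of_centralizes`:
a `(σ(M) ∪ κ(M))'`-subgroup `X` of `C_M(H)`, `1 ≠ H ≤ M_σ`, is commutative.
-/

set_option autoImplicit false

namespace Cfsg.Agent.Lib.Helper22.BG153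

open Cfsg

variable {G : Type*} [Group G] [Finite G]

/-- 143803 K-153-C -/
theorem comm_of_centralizes (hG : IsMinSimpleOddOrder G) {M H X : Subgroup G}
    (hM : IsCoatom M) (hH : H ≤ sigmaCore M) (hH1 : H ≠ ⊥)
    (hXM : X ≤ M) (hXH : X ≤ Subgroup.centralizer (H : Set G))
    (hXσ : ∀ p : ℕ, p.Prime → p ∣ Nat.card X → p ∉ sigma M)
    (hXκ : ∀ p : ℕ, p.Prime → p ∣ Nat.card X → p ∉ kappa M) :
    ∀ a ∈ X, ∀ b ∈ X, a * b = b * a := by
  obtain ⟨⟨K, hK⟩, hKcyc⟩ := Cfsg.Agent.S1351.result hG M hM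
  have hKc := hKcyc K hK
  obtain ⟨U, hKU⟩ := (Cfsg.Agent.S1352.result hG M hM K hKc hK).1
  have hUhall := Cfsg.Agent.Lib.Helper32.BG147P.isPiHallOf_U_aux hG hM hKU
  have hs : Group.IsSolvable ↥M := hG.2.2.2 M hM.1
  obtain ⟨m, hmM, hXU⟩ := Cfsg.Agent.Lib.Helper97.BG1366.exists_cj_ge_of_hall hs hUhall hXM
    (fun p hp hpX => ⟨hp, hXκ p hp hpX, hXσ p hp hpX⟩)
  have hcomm := Cfsg.Agent.S1359.result hG M hM K U hKU
  obtain ⟨⟨y, hyH⟩, hy1'⟩ := (Subgroup.ne_bot_iff_exists_ne_one).mp hH1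
  have hy1 : y ≠ 1 := fun h => hy1' (Subtype.ext h)
  have hnorm := Cfsg.Agent.Lib.Helper71.BG11.le_normalizer_sigmaCore M
  have key : ∀ a ∈ X, m⁻¹ * a * m ∈ Subgroup.closure ((U : Set G) ∩ sigmaHat M) := by
    intro a ha
    apply Subgroup.subset_closure
    constructor
    · obtain ⟨u, hu, hua⟩ := hXU ha
      have h1 : m⁻¹ * a * m = u := by
        rw [← hua]
        simp only [MulEquiv.coe_toMonoidHom, MulAut.conj_apply]
        group
      rw [h1]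
      exact hu
    · refine ⟨M.mul_mem (M.mul_mem (M.inv_mem hmM) (hXM ha)) hmM, m⁻¹ * y * m, ?_, ?_, ?_⟩
      · have h1 := (Subgroup.mem_normalizer_iff.mp (hnorm (M.inv_mem hmM)) y).mp (hH hyH)
        simpa using h1
      · intro h0
        apply hy1
        have h2 : y = m * (m⁻¹ * y * m) * m⁻¹ := by group
        rw [h2, h0]
        group
      · have h3 : a * y = y * a := by
          have := (Subgroup.mem_centralizer_iff.mp (hXH ha)) y hyH
          exact this.symm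
        calc m⁻¹ * a * m * (m⁻¹ * y * m) = m⁻¹ * (a * y) * m := by group
          _ = m⁻¹ * (y * a) * m := by rw [h3]
          _ = m⁻¹ * y * m * (m⁻¹ * a * m) := by group
  intro a ha b hb
  have h1 := key a ha
  have h2 := key b hb
  have h3 : (⟨m⁻¹ * a * m, h1⟩ : Subgroup.closure ((U : Set G) ∩ sigmaHat M)) * ⟨m⁻¹ * b * m, h2⟩
      = ⟨m⁻¹ * b * m, h2⟩ * ⟨m⁻¹ * a * m, h1⟩ := hcomm.is_comm.comm _ _
  have h4 : m⁻¹ * a * m * (m⁻¹ * b * m) = m⁻¹ * b * m * (m⁻¹ * a * m) := congrArg Subtype.val h3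
  calc a * b = m * (m⁻¹ * a * m * (m⁻¹ * b * m)) * m⁻¹ := by group
    _ = m * (m⁻¹ * b * m * (m⁻¹ * a * m)) * m⁻¹ := by rw [h4]
    _ = b * a := by group

end Cfsg.Agent.Lib.Helper22.BG153
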