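import Mathlib
import Cfsg.Prelude.Def_Blocks
import Cfsg.Agent.Lib.Helper22.PrincipalSection
import Cfsg.Agent.Lib.Helper42.PPrimeCore
import Cfsg.Agent.Lib.Helper83.Quotient
import Cfsg.Agent.Lib.Helper83.SecondOrth
import Cfsg.Agent.Lib.Helper81.BlockPart
import Cfsg.Agent.S0939

set_option autoImplicit false
set_option linter.unusedSectionVars false
set_option linter.style.haveILetI false

namespace Cfsg.Agent.Lib.Helper22

open Cfsg
open Cfsg.Agent.Lib.Helper21 Cfsg.Agent.Lib.Helper82 Cfsg.Agent.Lib.Helper83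
open scoped ComplexConjugate

section
variable {G : Type*} [Group G] [Finite G]

/-- `c ↦ Θ (z * c)` is a class function on the centralizer of `z`, for a class function `Θ`. -/
theorem isClassFunction_shift_of_classFunction {Θ : G → ℂ} (hΘ : IsClassFunction G Θ) (z : G) :
    IsClassFunction (Subgroup.centralizer ({z} : Set G))
      (fun c : Subgroup.centralizer ({z} : Set G) => Θ (z * (c : G))) := by
  intro c c'
  have hc' : z * (c' : G) = (c' : G) * z := (Subgroup.mem_centralizer_iff.1 c'.2) z rfl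
  have h1 : z * ((c' * c * c'⁻¹ : Subgroup.centralizer ({z} : Set G)) : G) =
      (c' : G) * (z * (c : G)) * (c' : G)⁻¹ := by
    push_cast
    calc z * ((c' : G) * (c : G) * (c' : G)⁻¹) = (z * (c' : G)) * (c : G) * (c' : G)⁻¹ := by group
      _ = ((c' : G) * z) * (c : G) * (c' : G)⁻¹ := by rw [hc']
      _ = (c' : G) * (z * (c : G)) * (c' : G)⁻¹ := by group
  change Θ (z * ((c' * c * c'⁻¹ : Subgroup.centralizer ({z} : Set G)) : G)) = Θ (z * (c : G))
  rw [h1]
  exact hΘ _ _

end

section
variable {H : Type*} [Group H] [Finite H]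

open Classical in
/-- The principal block idempotent of a `p`-nilpotent group is the average over `O_{p'}`. -/
theorem blockCoeff_principal_of_index (p : ℕ) [Fact p.Prime] (M : Ideal AlgInt)
    (hM : IsPModular p M) (hnc : ∃ k : ℕ, (Cfsg.pPrimeCore p H).index = p ^ k) (k : H) :
    blockCoeff (principalBlock M H) k =
      if k ∈ Cfsg.pPrimeCore p H then (Nat.card (Cfsg.pPrimeCore p H) : ℂ)⁻¹ else 0 := by
  let _ : Fintype H := Fintype.ofFinite H
  let _ : Fintype (IrrCharacter H) := Fintype.ofFinite _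
  haveI : (Cfsg.pPrimeCore p H).Normal := Cfsg.Agent.Lib.Helper42.pPrimeCore_normal p H
  let _ : Fintype (H ⧸ Cfsg.pPrimeCore p H) := Fintype.ofFinite _
  let _ : Fintype (IrrCharacter (H ⧸ Cfsg.pPrimeCore p H)) := Fintype.ofFinite _
  have hpb := Cfsg.Agent.S0939.result p M hM hnc
  unfold blockCoeff
  rw [finsum_mem_eq_sum_ite]
  have hmem : ∀ χ : IrrCharacter H, χ ∈ Cfsg.principalBlock M H ↔
      ∀ n ∈ Cfsg.pPrimeCore p H, (χ : H → ℂ) n = (χ : H → ℂ) 1 := by
    intro χ; rw [hpb]; rfl
  have h1 : ∀ χ : IrrCharacter H,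
      (if χ ∈ Cfsg.principalBlock M H then (χ : H → ℂ) 1 * conj ((χ : H → ℂ) k) else 0) =
      (if (∀ n ∈ Cfsg.pPrimeCore p H, (χ : H → ℂ) n = (χ : H → ℂ) 1)
        then (χ : H → ℂ) 1 * conj ((χ : H → ℂ) k) else 0) := by
    intro χ
    by_cases h : ∀ n ∈ Cfsg.pPrimeCore p H, (χ : H → ℂ) n = (χ : H → ℂ) 1
    · rw [if_pos ((hmem χ).2 h), if_pos h]
    · rw [if_neg (fun h' => h ((hmem χ).1 h')), if_neg h]
  rw [Finset.sum_congr rfl (fun χ _ => h1 χ), ← Finset.sum_filter,
    ← Finset.sum_subtype_eq_sum_filter, Finset.subtype_univ,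
    ← Equiv.sum_comp (irrQuotientEquiv (Cfsg.pPrimeCore p H))]
  have h3 : ∀ ψ : IrrCharacter (H ⧸ Cfsg.pPrimeCore p H),
      ((irrQuotientEquiv (Cfsg.pPrimeCore p H) ψ : IrrCharacter H) : H → ℂ) 1 *
        conj (((irrQuotientEquiv (Cfsg.pPrimeCore p H) ψ : IrrCharacter H) : H → ℂ) k) =
      (ψ : H ⧸ Cfsg.pPrimeCore p H → ℂ) 1 *
        conj ((ψ : H ⧸ Cfsg.pPrimeCore p H → ℂ) (QuotientGroup.mk k)) := by
    intro ψ
    rw [irrQuotientEquiv_apply, irrQuotientEquiv_apply]
    rfl
  rw [Finset.sum_congr rfl (fun ψ _ => h3 ψ), second_orthogonality]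
  have hcardH : (Nat.card H : ℂ) = (Nat.card (Cfsg.pPrimeCore p H) : ℂ) *
      ((Cfsg.pPrimeCore p H).index : ℂ) := by
    rw [← Subgroup.card_mul_index (Cfsg.pPrimeCore p H)]; push_cast; rfl
  have hU0 : (Nat.card (Cfsg.pPrimeCore p H) : ℂ) ≠ 0 := by exact_mod_cast Nat.card_pos.ne'
  have hI0 : ((Cfsg.pPrimeCore p H).index : ℂ) ≠ 0 := by
    have : (Cfsg.pPrimeCore p H).index ≠ 0 := Subgroup.index_ne_zero_of_finite
    exact_mod_cast this
  by_cases hk : k ∈ Cfsg.pPrimeCore p H
  · have hk1 : (QuotientGroup.mk k : H ⧸ Cfsg.pPrimeCore p H) = 1 :=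
      (QuotientGroup.eq_one_iff k).2 hk
    rw [if_pos hk, hk1, if_pos (IsConj.refl 1)]
    have hc1 : Subgroup.centralizer ({(1 : H ⧸ Cfsg.pPrimeCore p H)} : Set (H ⧸ Cfsg.pPrimeCore p H))
        = ⊤ := by
      ext g; simp [Subgroup.mem_centralizer_iff]
    rw [hc1, Subgroup.card_top, ← Subgroup.index_eq_card, hcardH]
    field_simp
  · have hk1 : ¬ IsConj (1 : H ⧸ Cfsg.pPrimeCore p H) (QuotientGroup.mk k) := by
      intro h
      apply hk
      rw [← QuotientGroup.eq_one_iff]
      exact isConj_one_right.1 h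
    rw [if_neg hk, if_neg hk1, mul_zero]

end

section
universe u
variable {H : Type u} [Group H] [Fintype H] [Fintype (IrrCharacter H)]

theorem classInner_sum_left {ι : Type*} (s : Finset ι) (a : ι → ℂ) (F : ι → H → ℂ) (ψ : H → ℂ) :
    classInner (fun c => ∑ i ∈ s, a i * F i c) ψ = ∑ i ∈ s, a i * classInner (F i) ψ := by
  unfold classInner
  simp only [Finset.sum_mul, Finset.mul_sum]
  rw [Finset.sum_comm]
  apply Finset.sum_congr rfl
  intro i _
  apply Finset.sum_congr rfl
  intro c _
  ring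

open Classical in
theorem blockPart_sum_left {ι : Type*} (b : Set (IrrCharacter H)) (s : Finset ι) (a : ι → ℂ)
    (F : ι → H → ℂ) (y : H) :
    blockPart b (fun c => ∑ i ∈ s, a i * F i c) y = ∑ i ∈ s, a i * blockPart b (F i) y := by
  rw [Cfsg.Agent.Lib.Helper81.blockPart_apply, finsum_mem_eq_sum_ite]
  simp only [classInner_sum_left]
  have h1 : ∀ i ∈ s, a i * blockPart b (F i) y =
      ∑ χ : IrrCharacter H, if χ ∈ b then a i * classInner (F i) (χ : H → ℂ) * (χ : H → ℂ) y
        else 0 := by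
    intro i _
    rw [Cfsg.Agent.Lib.Helper81.blockPart_apply, finsum_mem_eq_sum_ite, Finset.mul_sum]
    apply Finset.sum_congr rfl
    intro χ _
    split_ifs
    · ring
    · rw [mul_zero]
  rw [Finset.sum_congr rfl h1, Finset.sum_comm]
  apply Finset.sum_congr rfl
  intro χ _
  split_ifs
  · rw [Finset.sum_mul]
  · simp

end

section
universe u
variable {G : Type u} [Group G] [Fintype G] [Fintype (IrrCharacter G)]

open Classical in
/-- Principal block column formula at a `p`-element with `p`-nilpotent centralizer. -/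
theorem principal_column_formula (p : ℕ) [Fact p.Prime] (M : Ideal AlgInt) (hM : IsPModular p M)
    (z : G) (hz : ∃ k : ℕ, orderOf z = p ^ k)
    [Fintype (Subgroup.centralizer ({z} : Set G))]
    (hnc : ∃ k : ℕ, (Cfsg.pPrimeCore p (Subgroup.centralizer ({z} : Set G))).index = p ^ k)
    (Θ : G → ℂ) (hΘ : IsClassFunction G Θ) :
    ∑ χ : IrrCharacter G, (if χ ∈ principalBlock M G then
        classInner Θ (χ : G → ℂ) * (χ : G → ℂ) z else 0) =
      (Nat.card (Cfsg.pPrimeCore p (Subgroup.centralizer ({z} : Set G))) : ℂ)⁻¹ *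
        ∑ k : Subgroup.centralizer ({z} : Set G),
          if k ∈ Cfsg.pPrimeCore p (Subgroup.centralizer ({z} : Set G)) then Θ (z * (k : G))
            else 0 := by
  let _ : Fintype (IrrCharacter (Subgroup.centralizer ({z} : Set G))) := Fintype.ofFinite _
  set f : Subgroup.centralizer ({z} : Set G) → ℂ := fun c => Θ (z * (c : G)) with hf
  have hfc := isClassFunction_shift_of_classFunction hΘ z
  have e1 : blockPart (principalBlock M (Subgroup.centralizer ({z} : Set G))) f 1 =
      (Nat.card (Cfsg.pPrimeCore p (Subgroup.centralizer ({z} : Set G))) : ℂ)⁻¹ *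
        ∑ k : Subgroup.centralizer ({z} : Set G),
          if k ∈ Cfsg.pPrimeCore p (Subgroup.centralizer ({z} : Set G)) then Θ (z * (k : G))
            else 0 := by
    rw [Cfsg.Agent.Lib.Helper81.blockPart_eq_sum _ hfc 1, Finset.mul_sum]
    apply Finset.sum_congr rfl
    intro k _
    rw [blockCoeff_principal_of_index p M hM hnc k, mul_one]
    split_ifs
    · rfl
    · rw [zero_mul, mul_zero]
  have e2 : blockPart (principalBlock M (Subgroup.centralizer ({z} : Set G))) f 1 =
      ∑ χ : IrrCharacter G, (if χ ∈ principalBlock M G then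
        classInner Θ (χ : G → ℂ) * (χ : G → ℂ) z else 0) := by
    have hexp : f = fun c : Subgroup.centralizer ({z} : Set G) =>
        ∑ χ ∈ (Finset.univ : Finset (IrrCharacter G)), classInner Θ (χ : G → ℂ) *
          (fun c : Subgroup.centralizer ({z} : Set G) => (χ : G → ℂ) (z * (c : G))) c := by
      funext c
      have := congrFun (classFunction_eq_sum_irr hΘ) (z * (c : G))
      rw [hf]
      simp only
      rw [this]
      simp [Finset.sum_apply]
    rw [hexp, blockPart_sum_left]
    apply Finset.sum_congr rfl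
    intro χ _
    rw [blockPart_principal_shift hM z hz χ 1 (by
      rw [orderOf_one]; exact (Fact.out : p.Prime).not_dvd_one)]
    split_ifs
    · simp
    · rw [mul_zero]
  rw [← e2, e1]

end

end Cfsg.Agent.Lib.Helper22
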