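import Cfsg.Agent.Lib.Helper22.InvolutionShift
import Cfsg.Agent.Lib.Helper22.ColumnFormula
import Cfsg.Agent.Lib.Helper22.KleinFourSylow
import Cfsg.Agent.Lib.Helper22.KleinFourBlock
import Cfsg.Agent.Lib.Helper05.CharBasic

set_option autoImplicit false
set_option linter.unusedSectionVars false
set_option linter.style.haveILetI false

namespace Cfsg.Agent.Lib.Helper22

open Cfsg
open Cfsg.Agent.Lib.Helper21 Cfsg.Agent.Lib.Helper82 Cfsg.Agent.Lib.Helper83
open scoped ComplexConjugate

section
variable {G : Type*} [Group G] [Fintype G]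

open Classical in
theorem sum_invConv_centralizer (P : Sylow 2 G) (hK : IsKleinFour (P : Subgroup G)) (J : G)
    (hJ : J ∈ (P : Subgroup G)) (hJ2 : orderOf J = 2)
    [Fintype (Subgroup.centralizer ({J} : Set G))] :
    (∑ k : Subgroup.centralizer ({J} : Set G),
        if k ∈ Cfsg.pPrimeCore 2 (Subgroup.centralizer ({J} : Set G)) then
          invConv (J * (k : G)) else 0) *
      (Nat.card (Subgroup.centralizer ((P : Subgroup G) : Set G)) : ℂ) ^ 2 =
      2 * (Nat.card (Subgroup.centralizer ({J} : Set G)) : ℂ) ^ 2 := by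
  classical
  have : Fact (Nat.Prime 2) := ⟨Nat.prime_two⟩
  have hJ1 : J ≠ 1 := by
    intro h; rw [h, orderOf_one] at hJ2; norm_num at hJ2
  obtain ⟨hle, hidx, hfour⟩ := kleinFour_centralizer_facts P hK J hJ hJ1
  have hsq : ∀ t ∈ (P : Subgroup G), t * t = 1 := by
    intro t ht
    have := IsKleinFour.mul_self (⟨t, ht⟩ : (P : Subgroup G))
    exact congrArg Subtype.val this
  have hcomm : ∀ s ∈ (P : Subgroup G), ∀ t ∈ (P : Subgroup G), s * t = t * s := by
    intro s hs t ht
    have := mul_comm_of_exponent_two (IsKleinFour.exponent_two (G := (P : Subgroup G)))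
      (⟨s, hs⟩ : (P : Subgroup G)) ⟨t, ht⟩
    exact congrArg Subtype.val this
  have hfour' : ∀ t ∈ (P : Subgroup G), ∀ t' ∈ (P : Subgroup G), t ≠ 1 → t ≠ J → t' ≠ 1 →
      t' ≠ J → t' ≠ t → t' = t * J := by
    intro t ht t' ht' h1 h2 h3 h4 h5
    have := IsKleinFour.eq_mul_of_ne_all (G := (P : Subgroup G)) (x := ⟨t, ht⟩) (y := ⟨J, hJ⟩)
      (z := ⟨t', ht'⟩) (fun h => h1 (congrArg Subtype.val h)) (fun h => hJ1 (congrArg Subtype.val h))
      (fun h => h2 (congrArg Subtype.val h)) (fun h => h3 (congrArg Subtype.val h))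
      (fun h => h5 (congrArg Subtype.val h)) (fun h => h4 (congrArg Subtype.val h))
    exact congrArg Subtype.val this
  obtain ⟨t, htP, ht1, htJ⟩ : ∃ t ∈ (P : Subgroup G), t ≠ 1 ∧ t ≠ J := by
    by_contra hcon
    push Not at hcon
    let _ : Fintype (P : Subgroup G) := Fintype.ofFinite _
    have hcard : Fintype.card (P : Subgroup G) = 4 := IsKleinFour.card_four'
    have hsub : (Finset.univ : Finset (P : Subgroup G)) ⊆ {1, ⟨J, hJ⟩} := by
      intro x _
      by_cases hx : (x : G) = 1
      · have : x = 1 := Subtype.ext hx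
        rw [this]; simp
      · have : x = ⟨J, hJ⟩ := Subtype.ext (hcon x x.2 hx)
        rw [this]; simp
    have h1 := Finset.card_le_card hsub
    rw [Finset.card_univ, hcard] at h1
    have h2 : ({1, ⟨J, hJ⟩} : Finset (P : Subgroup G)).card ≤ 2 := Finset.card_le_two
    omega
  let Q : Sylow 2 (Subgroup.centralizer ({J} : Set G)) := P.subtype hle
  have hQmem : ∀ x : Subgroup.centralizer ({J} : Set G),
      x ∈ (Q : Subgroup (Subgroup.centralizer ({J} : Set G))) ↔ (x : G) ∈ (P : Subgroup G) := by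
    intro x
    change x ∈ (P : Subgroup G).subgroupOf _ ↔ _
    rw [Subgroup.mem_subgroupOf]
  have hJH : J ∈ Subgroup.centralizer ({J} : Set G) := hle hJ
  have hcount := involution_pair_count Q (⟨J, hJH⟩ : Subgroup.centralizer ({J} : Set G))
    (⟨t, hle htP⟩ : Subgroup.centralizer ({J} : Set G)) ((hQmem _).2 hJ) ((hQmem _).2 htP)
    (by
      intro q hq
      have hqP := (hQmem q).1 hq
      by_cases h1 : (q : G) = 1
      · left; exact Subtype.ext h1
      by_cases h2 : (q : G) = J
      · right; left; exact Subtype.ext h2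
      by_cases h3 : (q : G) = t
      · right; right; left; exact Subtype.ext h3
      · right; right; right
        apply Subtype.ext
        have := hfour' t htP q hqP ht1 htJ h1 h2 h3
        rw [this]
        exact hcomm t htP J hJ)
    (fun h => hJ1 (congrArg Subtype.val h)) (fun h => ht1 (congrArg Subtype.val h))
    (fun h => htJ (congrArg Subtype.val h)) (Subtype.ext (hsq J hJ)) (Subtype.ext (hsq t htP))
    (by
      intro x
      apply Subtype.ext
      exact (Subgroup.mem_centralizer_iff.1 x.2) J rfl)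
    hidx hfour
  have hCle : Subgroup.centralizer ((P : Subgroup G) : Set G) ≤
      Subgroup.centralizer ({J} : Set G) := by
    apply Subgroup.centralizer_le
    intro x hx
    rw [Set.mem_singleton_iff] at hx
    rw [hx]; exact hJ
  have hCeq : Subgroup.centralizer
      ((Q : Subgroup (Subgroup.centralizer ({J} : Set G))) : Set (Subgroup.centralizer ({J} : Set G))) =
      (Subgroup.centralizer ((P : Subgroup G) : Set G)).subgroupOf
        (Subgroup.centralizer ({J} : Set G)) := by
    ext x
    rw [Subgroup.mem_subgroupOf, Subgroup.mem_centralizer_iff, Subgroup.mem_centralizer_iff]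
    constructor
    · intro h q hq
      have := h ⟨q, hle hq⟩ ((hQmem _).2 hq)
      exact congrArg Subtype.val this
    · intro h q hq
      apply Subtype.ext
      exact h q ((hQmem q).1 hq)
  have hcard : Nat.card (Subgroup.centralizer
      ((Q : Subgroup (Subgroup.centralizer ({J} : Set G))) : Set (Subgroup.centralizer ({J} : Set G)))) =
      Nat.card (Subgroup.centralizer ((P : Subgroup G) : Set G)) := by
    rw [hCeq]; exact Nat.card_congr (Subgroup.subgroupOfEquivOfLe hCle).toEquiv
  have hsum : ∀ k : Subgroup.centralizer ({J} : Set G),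
      (if k ∈ Cfsg.pPrimeCore 2 (Subgroup.centralizer ({J} : Set G)) then
          invConv (J * (k : G)) else 0) =
      (if k ∈ Cfsg.pPrimeCore 2 (Subgroup.centralizer ({J} : Set G)) then
          invConv ((⟨J, hJH⟩ : Subgroup.centralizer ({J} : Set G)) * k) else 0) := by
    intro k
    by_cases hk : k ∈ Cfsg.pPrimeCore 2 (Subgroup.centralizer ({J} : Set G))
    · rw [if_pos hk, if_pos hk]
      apply invConv_centralizer_shift J hJ2 k
      intro h2
      rw [Subgroup.orderOf_coe] at h2
      have hco := Cfsg.Agent.Lib.Helper42.pPrimeCore_card_coprime 2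
        (Subgroup.centralizer ({J} : Set G))
      have h1 : orderOf k ∣ Nat.card (Cfsg.pPrimeCore 2 (Subgroup.centralizer ({J} : Set G))) := by
        have := orderOf_dvd_natCard
          (⟨k, hk⟩ : Cfsg.pPrimeCore 2 (Subgroup.centralizer ({J} : Set G)))
        rwa [Subgroup.orderOf_mk] at this
      have := Nat.Coprime.eq_one_of_dvd hco.symm (h2.trans h1)
      norm_num at this
    · rw [if_neg hk, if_neg hk]
  rw [Finset.sum_congr rfl (fun k _ => hsum k), ← hcard]
  exact hcount

end

section
universe u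
variable {G : Type u} [Group G] [Fintype G]

/-- Coefficient of `χ` in `invConv`, times `χ J`, when all involutions are conjugate to `J`. -/
theorem classInner_invConv_mul (J : G) (hJ2 : orderOf J = 2)
    (hone : ∀ s : G, orderOf s = 2 → IsConj J s) (χ : IrrCharacter G) (e : ℤ)
    (he : (χ : G → ℂ) J = (e : ℂ)) :
    classInner (invConv (G := G)) (χ : G → ℂ) * (χ : G → ℂ) J =
      (Nat.card G : ℂ) * (e : ℂ) ^ 3 /
        ((Nat.card (Subgroup.centralizer ({J} : Set G)) : ℂ) ^ 2 * (χ : G → ℂ) 1) := by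
  have hS := sum_invInd_mul_of_conj J hJ2 hone χ
  have hc0 : (Nat.card (Subgroup.centralizer ({J} : Set G)) : ℂ) ≠ 0 := by
    exact_mod_cast Nat.card_pos.ne'
  have hG0 : (Nat.card G : ℂ) ≠ 0 := by exact_mod_cast Nat.card_pos.ne'
  have hS' : (∑ v : G, invInd v * (χ : G → ℂ) v) =
      (Nat.card G : ℂ) * (e : ℂ) / (Nat.card (Subgroup.centralizer ({J} : Set G)) : ℂ) := by
    rw [eq_div_iff hc0, hS, he]
  rw [classInner_invConv, hS', he, ← charDegree_cast (IrrCharacter_isCharacter χ)]
  simp only [map_div₀, map_mul, map_natCast, map_intCast]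
  have hx0 : (charDegree (χ : G → ℂ) : ℂ) ≠ 0 := by
    have := irr_charDegree_pos χ
    exact_mod_cast this.ne'
  field_simp

open Classical in
theorem sum_principal_four [Fintype (IrrCharacter G)] (M : Ideal AlgInt)
    (χ₁ χ₂ χ₃ : IrrCharacter G)
    (hB : principalBlock M G = {χ : IrrCharacter G | (χ : G → ℂ) = (fun _ => 1) ∨ χ = χ₁ ∨
      χ = χ₂ ∨ χ = χ₃})
    (hdist : (χ₁ : G → ℂ) ≠ (fun _ => 1) ∧ (χ₂ : G → ℂ) ≠ (fun _ => 1) ∧
      (χ₃ : G → ℂ) ≠ (fun _ => 1) ∧ χ₁ ≠ χ₂ ∧ χ₁ ≠ χ₃ ∧ χ₂ ≠ χ₃) (F : IrrCharacter G → ℂ) :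
    ∑ χ : IrrCharacter G, (if χ ∈ principalBlock M G then F χ else 0) =
      F ⟨fun _ => 1, Cfsg.Agent.Lib.Helper05.isIrrCharacter_one⟩ + F χ₁ + F χ₂ + F χ₃ := by
  set e1 : IrrCharacter G := ⟨fun _ => 1, Cfsg.Agent.Lib.Helper05.isIrrCharacter_one⟩ with he1
  obtain ⟨h1, h2, h3, h12, h13, h23⟩ := hdist
  have hfilter : Finset.univ.filter (fun χ : IrrCharacter G => χ ∈ principalBlock M G) =
      {e1, χ₁, χ₂, χ₃} := by
    ext χ
    rw [Finset.mem_filter, hB]
    simp only [Finset.mem_univ, true_and, Set.mem_ofPred_eq, Finset.mem_insert,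
      Finset.mem_singleton]
    constructor
    · rintro (h | h)
      · left; exact Subtype.ext h
      · right; exact h
    · rintro (h | h)
      · left; rw [h]
      · right; exact h
  rw [← Finset.sum_filter, hfilter, Finset.sum_insert, Finset.sum_insert, Finset.sum_insert,
    Finset.sum_singleton]
  · ring
  · simp only [Finset.mem_singleton]; exact h23
  · simp only [Finset.mem_insert, Finset.mem_singleton, not_or]; exact ⟨h12, h13⟩
  · simp only [Finset.mem_insert, Finset.mem_singleton, not_or]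
    refine ⟨fun h => h1 ?_, fun h => h2 ?_, fun h => h3 ?_⟩
    · rw [← h]
    · rw [← h]
    · rw [← h]

end

end Cfsg.Agent.Lib.Helper22
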