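import Mathlib

set_option autoImplicit false

/-!
# S4460 pack K-CD3: endgame of the coprime case (Mathlib only)

If `G' ≤ N` and the derived subgroup of `N` is commutative then `G''' = 1`.
-/

namespace Cfsg.Agent.Lib.Helper22.CD3

universe u

variable {G : Type u} [Group G]

theorem derivedSeries_two_le_of_commutator_le (N : Subgroup G) (hle : commutator G ≤ N) :
    derivedSeries G 2 ≤ ⁅N, N⁆ := by
  have h1 : derivedSeries G 1 = commutator G := by
    rw [derivedSeries_succ, derivedSeries_zero, commutator_def]
  rw [derivedSeries_succ, h1]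
  exact Subgroup.commutator_mono hle hle

/-- `G' ≤ N` and `[N, N]` commutative (as a subgroup of `G`) give `G''' = 1`. -/
theorem d3_of_commutator_le_of_comm' (N : Subgroup G) (hle : commutator G ≤ N)
    (hN : ∀ a ∈ ⁅N, N⁆, ∀ b ∈ ⁅N, N⁆, a * b = b * a) : derivedSeries G 3 = ⊥ := by
  have h2 := derivedSeries_two_le_of_commutator_le N hle
  rw [derivedSeries_succ, Subgroup.commutator_eq_bot_iff_le_centralizer]
  intro a ha
  rw [Subgroup.mem_centralizer_iff]
  intro b hb
  exact hN b (h2 hb) a (h2 ha)

/-- the same with the hypothesis on the derived subgroup of the group `↥N`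
(the shape produced by `comm_commutator_of_twoDeg` / `Helper97.TwoDeg.comm_commutator`). -/
theorem d3_of_commutator_le_of_comm (N : Subgroup G) (hle : commutator G ≤ N)
    (hN : ∀ a ∈ commutator N, ∀ b ∈ commutator N, a * b = b * a) : derivedSeries G 3 = ⊥ := by
  apply d3_of_commutator_le_of_comm' N hle
  have hmap : ⁅N, N⁆ = (commutator N).map N.subtype := by
    rw [commutator_def, Subgroup.map_commutator, ← MonoidHom.range_eq_map, Subgroup.range_subtype]
  intro a ha b hb
  rw [hmap] at ha hb
  obtain ⟨a', ha', rfl⟩ := ha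
  obtain ⟨b', hb', rfl⟩ := hb
  have := hN a' ha' b' hb'
  exact congrArg Subtype.val this

end Cfsg.Agent.Lib.Helper22.CD3
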