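import Mathlib

set_option autoImplicit false
set_option linter.unusedSectionVars false
set_option linter.style.haveILetI false

namespace Cfsg.Agent.Lib.Helper22

section
variable {G : Type*} [Group G]

/-- If `P ⊔ C_G(P) = ⊤` then `P` is normal. -/
theorem normal_of_sup_centralizer_eq_top (P : Subgroup G)
    (hG : P ⊔ Subgroup.centralizer (P : Set G) = ⊤) : P.Normal := by
  have h1 : P ≤ Subgroup.normalizer (P : Set G) := Subgroup.le_normalizer
  have h2 : Subgroup.centralizer (P : Set G) ≤ Subgroup.normalizer (P : Set G) :=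
    Subgroup.centralizer_le_normalizer _
  have h3 : Subgroup.normalizer (P : Set G) = ⊤ := by
    rw [eq_top_iff, ← hG]; exact sup_le h1 h2
  exact Subgroup.normalizer_eq_top_iff.1 h3

/-- If `P ⊔ C_G(P) = ⊤` then every element is a product `u * c`. -/
theorem exists_mul_of_sup_centralizer_eq_top (P : Subgroup G)
    (hG : P ⊔ Subgroup.centralizer (P : Set G) = ⊤) (g : G) :
    ∃ u ∈ P, ∃ c ∈ Subgroup.centralizer (P : Set G), g = u * c := by
  haveI := normal_of_sup_centralizer_eq_top P hG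
  have hg : g ∈ P ⊔ Subgroup.centralizer (P : Set G) := by rw [hG]; exact Subgroup.mem_top g
  rw [Subgroup.mem_sup_of_normal_left] at hg
  obtain ⟨u, hu, c, hc, h⟩ := hg
  exact ⟨u, hu, c, hc, h.symm⟩

/-- Conjugation on `P` by any element is conjugation by an element of `P`. -/
theorem exists_conj_eq_of_sup_centralizer_eq_top (P : Subgroup G)
    (hG : P ⊔ Subgroup.centralizer (P : Set G) = ⊤) (g : G) :
    ∃ u ∈ P, ∀ w ∈ P, g * w * g⁻¹ = u * w * u⁻¹ := by
  obtain ⟨u, hu, c, hc, rfl⟩ := exists_mul_of_sup_centralizer_eq_top P hG g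
  refine ⟨u, hu, fun w hw => ?_⟩
  have hcw : w * c = c * w := (Subgroup.mem_centralizer_iff.1 hc) w hw
  calc u * c * w * (u * c)⁻¹ = u * (c * w) * c⁻¹ * u⁻¹ := by group
    _ = u * (w * c) * c⁻¹ * u⁻¹ := by rw [hcw]
    _ = u * w * u⁻¹ := by group

end

section
variable {G : Type*} [Group G] [Finite G]

/-- `p`-regular elements centralize `P` when `P ⊔ C_G(P) = ⊤` and `P` is a `p`-group. -/
theorem mem_centralizer_of_pRegular (p : ℕ) [Fact p.Prime] (P : Subgroup G) (hP : IsPGroup p P)
    (hG : P ⊔ Subgroup.centralizer (P : Set G) = ⊤) (y : G) (hy : ¬ p ∣ orderOf y) :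
    y ∈ Subgroup.centralizer (P : Set G) := by
  have hp : p.Prime := Fact.out
  obtain ⟨u, hu, hconj⟩ := exists_conj_eq_of_sup_centralizer_eq_top P hG y
  haveI := normal_of_sup_centralizer_eq_top P hG
  -- powers
  have hpow : ∀ n : ℕ, ∀ w ∈ P, y ^ n * w * (y ^ n)⁻¹ = u ^ n * w * (u ^ n)⁻¹ := by
    intro n
    induction n with
    | zero => intro w _; simp
    | succ n ih =>
      intro w hw
      have h1 : y ^ (n + 1) * w * (y ^ (n + 1))⁻¹ = y * (y ^ n * w * (y ^ n)⁻¹) * y⁻¹ := by
        rw [pow_succ']; group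
      have hmem : u ^ n * w * (u ^ n)⁻¹ ∈ P :=
        P.mul_mem (P.mul_mem (P.pow_mem hu n) hw) (P.inv_mem (P.pow_mem hu n))
      rw [h1, ih w hw, hconj _ hmem, pow_succ']
      group
  obtain ⟨k, hk⟩ := hP ⟨u, hu⟩
  have huk : u ^ p ^ k = 1 := by
    have := congrArg Subtype.val hk
    simpa using this
  have hyk : y ^ p ^ k ∈ Subgroup.centralizer (P : Set G) := by
    rw [Subgroup.mem_centralizer_iff]
    intro w hw
    have := hpow (p ^ k) w hw
    rw [huk] at this
    simp only [one_mul, inv_one, mul_one] at this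
    calc w * y ^ p ^ k = (y ^ p ^ k * w * (y ^ p ^ k)⁻¹) * y ^ p ^ k := by rw [this]
      _ = y ^ p ^ k * w := by group
  -- y is a power of y ^ p ^ k
  have hco : Nat.Coprime (p ^ k) (orderOf y) :=
    Nat.Coprime.pow_left k ((Nat.Prime.coprime_iff_not_dvd hp).2 hy)
  have hz : y ∈ Subgroup.zpowers (y ^ p ^ k) := by
    obtain ⟨m, hm⟩ := exists_pow_eq_self_of_coprime hco
    exact ⟨m, by simp only [zpow_natCast]; exact hm⟩
  exact (Subgroup.zpowers_le.2 hyk) hz

end

end Cfsg.Agent.Lib.Helper22
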