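import Mathlib
import Cfsg.Prelude.Def_Blocks
import Cfsg.Agent.Lib.Helper22.CentralProduct
import Cfsg.Agent.Lib.Helper83.Central
import Cfsg.Agent.Lib.Helper83.Completeness
import Cfsg.Agent.Lib.Helper83.CharBasic
import Cfsg.Agent.Lib.Helper83.Linear
import Cfsg.Agent.Lib.Helper83.Orthogonality
import Cfsg.Agent.Lib.Helper04.IndFun

/-!
# Characters of a central product `G = P C_G(P)`

If `G = P C_G(P)` then every irreducible character `χ` of `G` factorizes on products:
`χ (u c) = λ(u) χ(c) / λ(1)` for a suitable irreducible character `λ` of `P`.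
-/

set_option autoImplicit false
set_option linter.unusedSectionVars false
set_option linter.style.haveILetI false

namespace Cfsg.Agent.Lib.Helper22

open Cfsg
open scoped ComplexConjugate
open Cfsg.Agent.Lib.Helper83

section
variable {G : Type*} [Group G]

/-- When `G = P C_G(P)`, the extension by zero of a class function of `P` is a class function of
`G`. -/
theorem isClassFunction_extendByZero_of_sup_centralizer (P : Subgroup G)
    (hG : P ⊔ Subgroup.centralizer (P : Set G) = ⊤) {f : P → ℂ} (hf : IsClassFunction P f) :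
    IsClassFunction G (extendByZero P f) := by
  have hN : P.Normal := normal_of_sup_centralizer_eq_top P hG
  intro g h
  by_cases hg : g ∈ P
  · obtain ⟨u, hu, hconj⟩ := exists_conj_eq_of_sup_centralizer_eq_top P hG h
    have h1 : h * g * h⁻¹ = u * g * u⁻¹ := hconj g hg
    have hmem : u * g * u⁻¹ ∈ P := P.mul_mem (P.mul_mem hu hg) (P.inv_mem hu)
    rw [h1, Cfsg.Agent.Lib.Helper04.extendByZero_apply_of_mem P f _ hmem,
      Cfsg.Agent.Lib.Helper04.extendByZero_apply_of_mem P f _ hg]
    exact hf ⟨g, hg⟩ ⟨u, hu⟩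
  · have hng : h * g * h⁻¹ ∉ P := by
      intro hc
      apply hg
      have h2 := hN.conj_mem _ hc h⁻¹
      have h3 : h⁻¹ * (h * g * h⁻¹) * h⁻¹⁻¹ = g := by group
      rwa [h3] at h2
    rw [Cfsg.Agent.Lib.Helper04.extendByZero_apply_not_mem P f _ hng,
      Cfsg.Agent.Lib.Helper04.extendByZero_apply_not_mem P f _ hg]

/-- Convolution of a class function with the conjugate of an irreducible character. -/
theorem irr_sum_conj_mul_classFunction {H : Type*} [Group H] [Fintype H] (lam : IrrCharacter H)
    {f : H → ℂ} (hf : IsClassFunction H f) (u : H) :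
    ∑ v : H, conj ((lam : H → ℂ) v) * f (u * v) =
      (lam : H → ℂ) u * (∑ v : H, conj ((lam : H → ℂ) v) * f v) / (lam : H → ℂ) 1 := by
  have hlamc : IsCharacter H (lam : H → ℂ) := IrrCharacter_isCharacter lam
  have hc : IsClassFunction H (fun w => f w⁻¹) := by
    intro g h
    have : (h * g * h⁻¹)⁻¹ = h * g⁻¹ * h⁻¹ := by group
    simp only [this]
    exact hf g⁻¹ h
  have key := irr_sum_classFunction_mul lam hc u
  have h1 : ∑ w : H, f w⁻¹ * (lam : H → ℂ) (u * w) = ∑ v : H, conj ((lam : H → ℂ) v) * f (u * v) := by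
    apply Fintype.sum_equiv ((Equiv.mulLeft u).trans (Equiv.inv H))
    intro w
    simp only [Equiv.trans_apply, Equiv.coe_mulLeft, Equiv.inv_apply]
    rw [char_inv hlamc, Complex.conj_conj]
    have h2 : u * (u * w)⁻¹ = u * w⁻¹ * u⁻¹ := by group
    rw [h2, hf w⁻¹ u, mul_comm]
  have h2 : ∑ w : H, f w⁻¹ * (lam : H → ℂ) w = ∑ v : H, conj ((lam : H → ℂ) v) * f v := by
    apply Fintype.sum_equiv (Equiv.inv H)
    intro w
    simp only [Equiv.inv_apply]
    rw [char_inv hlamc, Complex.conj_conj, mul_comm]
  rw [h1, h2] at key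
  exact key

end

section
variable {G : Type*} [Group G] [Finite G]

/-- **Factorization of characters of a central product.** If `G = P C_G(P)` and `χ` is an
irreducible character of `G`, there is an irreducible character `λ` of `P` such that
`χ (u c) λ(1) = λ(u) χ(c)` for all `u ∈ P`, `c ∈ C_G(P)`. -/
theorem exists_irr_factor (P : Subgroup G)
    (hG : P ⊔ Subgroup.centralizer (P : Set G) = ⊤) (χ : IrrCharacter G) :
    ∃ lam : IrrCharacter P, ∀ (u : P) (c : G), c ∈ Subgroup.centralizer (P : Set G) →
      (χ : G → ℂ) ((u : G) * c) * (lam : P → ℂ) 1 = (lam : P → ℂ) u * (χ : G → ℂ) c := by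
  classical
  let _ : Fintype G := Fintype.ofFinite G
  let _ : Fintype P := Fintype.ofFinite P
  have hχc : IsCharacter G (χ : G → ℂ) := IrrCharacter_isCharacter χ
  -- the restriction is a nonzero class function of `P`
  set r : P → ℂ := fun w => (χ : G → ℂ) (w : G) with hr
  have hrc : IsClassFunction P r := by
    intro g h
    simp only [hr]
    have := isClassFunction_irr χ (g : G) (h : G)
    simpa using this
  have hχ1 : (χ : G → ℂ) 1 ≠ 0 := irr_degree_ne_zero χ
  have hr1 : r 1 ≠ 0 := by simpa [hr] using hχ1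
  obtain ⟨lam, hlam⟩ : ∃ lam : IrrCharacter P, classInner r (lam : P → ℂ) ≠ 0 := by
    by_contra hcon
    push Not at hcon
    have := eq_zero_of_classInner_irr_eq_zero hrc hcon
    exact hr1 (by rw [this]; rfl)
  refine ⟨lam, ?_⟩
  have hlam1 : (lam : P → ℂ) 1 ≠ 0 := irr_degree_ne_zero lam
  set S : ℂ := ∑ w : P, conj ((lam : P → ℂ) w) * (χ : G → ℂ) (w : G) with hS
  have hS0 : S ≠ 0 := by
    intro h0
    apply hlam
    rw [classInner_def]
    have : ∑ g : P, r g * conj ((lam : P → ℂ) g) = S := by
      rw [hS]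
      exact Finset.sum_congr rfl fun w _ => by rw [mul_comm]
    rw [this, h0, mul_zero]
  have hcl : IsClassFunction G (extendByZero P (fun w => conj ((lam : P → ℂ) w))) := by
    apply isClassFunction_extendByZero_of_sup_centralizer P hG
    intro g h
    simp only [isClassFunction_irr lam g h]
  have star : ∀ g : G, ∑ w : P, conj ((lam : P → ℂ) w) * (χ : G → ℂ) (g * (w : G)) =
      (χ : G → ℂ) g * S / (χ : G → ℂ) 1 := by
    intro g
    have := irr_sum_classFunction_mul χ hcl g
    rw [Cfsg.Agent.Lib.Helper04.sum_extendByZero_mul P _ (fun x => (χ : G → ℂ) (g * x)),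
      Cfsg.Agent.Lib.Helper04.sum_extendByZero_mul P _ (χ : G → ℂ)] at this
    exact this
  intro u c hc
  have hcomm : ∀ w : P, (w : G) * c = c * (w : G) :=
    fun w => (Subgroup.mem_centralizer_iff.1 hc) w w.2
  set f : P → ℂ := fun w => (χ : G → ℂ) ((w : G) * c) with hf
  have hfc : IsClassFunction P f := by
    intro g h
    simp only [hf]
    have h1 : ((h * g * h⁻¹ : P) : G) * c = (h : G) * ((g : G) * c) * (h : G)⁻¹ := by
      push_cast
      have := hcomm h⁻¹
      push_cast at this
      calc (h : G) * (g : G) * (h : G)⁻¹ * c = (h : G) * (g : G) * ((h : G)⁻¹ * c) := by group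
        _ = (h : G) * (g : G) * (c * (h : G)⁻¹) := by rw [this]
        _ = (h : G) * ((g : G) * c) * (h : G)⁻¹ := by group
    rw [h1]
    exact isClassFunction_irr χ _ _
  have h2 := irr_sum_conj_mul_classFunction lam hfc u
  have h3 : ∑ v : P, conj ((lam : P → ℂ) v) * f (u * v) =
      (χ : G → ℂ) ((u : G) * c) * S / (χ : G → ℂ) 1 := by
    rw [← star ((u : G) * c)]
    apply Finset.sum_congr rfl
    intro v _
    simp only [hf]
    congr 2
    push_cast
    rw [mul_assoc, hcomm v, ← mul_assoc]
  have h4 : ∑ v : P, conj ((lam : P → ℂ) v) * f v = (χ : G → ℂ) c * S / (χ : G → ℂ) 1 := by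
    rw [← star c]
    apply Finset.sum_congr rfl
    intro v _
    simp only [hf]
    rw [hcomm v]
  rw [h3, h4] at h2
  field_simp at h2
  exact h2

end

end Cfsg.Agent.Lib.Helper22
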