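import Mathlib
import Cfsg.Prelude.Def_Blocks
import Cfsg.Agent.Lib.Helper22.CentralProduct
import Cfsg.Agent.Lib.Helper22.CentralFactor
import Cfsg.Agent.Lib.Helper22.DefectConj
import Cfsg.Agent.Lib.Helper82.BlockBasic
import Cfsg.Agent.Lib.Helper82.BlockOrthFull
import Cfsg.Agent.Lib.Helper82.Subsection
import Cfsg.Agent.Lib.Helper83.SecondOrth
import Cfsg.Agent.Lib.Helper83.Decompose
import Cfsg.Agent.S0924

/-!
# Blocks with defect group `P` when `G = P C_G(P)`: counting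

The number of characters in such a block is `k(P)` times the number of its members
having `P` in the kernel.
-/

set_option autoImplicit false
set_option linter.unusedSectionVars false
set_option linter.style.haveILetI false

namespace Cfsg.Agent.Lib.Helper22

open Cfsg
open scoped ComplexConjugate
open Cfsg.Agent.Lib.Helper83 Cfsg.Agent.Lib.Helper82

section
variable {G : Type*} [Group G] [Finite G] {p : ℕ} [Fact p.Prime] {M : Ideal AlgInt}

/-- If `G = P C_G(P)` then `P` is the only defect group of a block with defect group `P`. -/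
theorem defectGroup_eq_of_sup_centralizer (hM : IsPModular p M) (P : Subgroup G)
    (hG : P ⊔ Subgroup.centralizer (P : Set G) = ⊤) {B : Set (IrrCharacter G)}
    (hB : IsPBlock M B) (hD : IsDefectGroup p M B P) {D : Subgroup G}
    (hD' : IsDefectGroup p M B D) : D = P := by
  have hN : P.Normal := normal_of_sup_centralizer_eq_top P hG
  obtain ⟨t, rfl⟩ := IsDefectGroup.exists_conj hM hB hD hD'
  ext x
  rw [Subgroup.mem_map]
  constructor
  · rintro ⟨y, hy, rfl⟩
    exact hN.conj_mem y hy t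
  · intro hx
    refine ⟨t⁻¹ * x * t⁻¹⁻¹, hN.conj_mem x hx t⁻¹, ?_⟩
    simp [MulAut.conj_apply]
    group

/-- Members of the block vanish at elements whose `p`-part is outside `P`. -/
theorem apply_eq_zero_of_ppart_not_mem (hM : IsPModular p M) (P : Subgroup G)
    (hG : P ⊔ Subgroup.centralizer (P : Set G) = ⊤) {B : Set (IrrCharacter G)}
    (hB : IsPBlock M B) (hD : IsDefectGroup p M B P) {χ : IrrCharacter G} (hχ : χ ∈ B)
    {g x : G} (hx : IsPPart p g x) (hxP : x ∉ P) : (χ : G → ℂ) g = 0 := by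
  have hprime : M.IsPrime := hM.2.1.isPrime
  apply Cfsg.Agent.S0924.result p M hM χ g x hx
  intro D hDD
  rw [← IsPBlock.eq_blockOf hprime hB hχ] at hDD
  rw [defectGroup_eq_of_sup_centralizer hM P hG hB hD hDD]
  exact hxP


/-- Elements of a `p`-group have `p`-power order. -/
theorem exists_orderOf_eq_of_isPGroup {P : Subgroup G} (hP : IsPGroup p P) (u : P) :
    ∃ k : ℕ, orderOf (u : G) = p ^ k := by
  obtain ⟨k, hk⟩ := hP u
  have h1 : (u : G) ^ p ^ k = 1 := by
    have := congrArg Subtype.val hk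
    simpa using this
  have hp : p.Prime := Fact.out
  obtain ⟨j, _, hj⟩ := (Nat.dvd_prime_pow hp).1 (orderOf_dvd_of_pow_eq_one h1)
  exact ⟨j, hj⟩

/-- **Block orthogonality** in the central product: for `1 ≠ u ∈ P` and `p`-regular `s, s'`,
`∑_{χ ∈ B} χ(u s) conj χ(s') = 0`. -/
theorem sum_block_mul_regular_eq_zero
    (hM : IsPModular p M) (P : Subgroup G) (hP : IsPGroup p P)
    (hG : P ⊔ Subgroup.centralizer (P : Set G) = ⊤) {B : Set (IrrCharacter G)}
    (hB : IsPBlock M B) (Bf : Finset (IrrCharacter G)) (hBf : ∀ χ, χ ∈ Bf ↔ χ ∈ B)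
    (u : P) (hu : u ≠ 1) {s s' : G} (hs : ¬ p ∣ orderOf s)
    (hs' : ¬ p ∣ orderOf s') :
    ∑ χ ∈ Bf, (χ : G → ℂ) ((u : G) * s) * conj ((χ : G → ℂ) s') = 0 := by
  classical
  let _ : Fintype G := Fintype.ofFinite G
  obtain ⟨χ₀, rfl⟩ := hB
  have hsC : s ∈ Subgroup.centralizer (P : Set G) := mem_centralizer_of_pRegular p P hP hG s hs
  have hcomm : Commute (u : G) s := (Subgroup.mem_centralizer_iff.1 hsC) u u.2
  have hx : IsPPart p ((u : G) * s) (u : G) :=
    isPPart_mul (exists_orderOf_eq_of_isPGroup hP u) hs hcomm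
  have hy : IsPPart p (s'⁻¹)⁻¹ (1 : G) := by
    rw [inv_inv]
    exact ⟨s', one_mul s', Commute.one_left s', ⟨0, by rw [orderOf_one, pow_zero]⟩, hs'⟩
  have hne : ¬ IsConj (u : G) 1 := by
    intro h
    rw [isConj_comm, isConj_one_right] at h
    exact hu (Subtype.ext h)
  have key := sum_block_mul_eq_zero_of_not_isConj hM χ₀ ((u : G) * s) s'⁻¹ (u : G) 1 hx hy hne
  rw [finsum_mem_eq_finite_toFinset_sum _ (Set.toFinite _)] at key
  rw [← key]
  apply Finset.sum_congr
  · ext χ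
    simp [hBf]
  · intro χ _
    rw [char_inv (IrrCharacter_isCharacter χ)]


/-- Decomposition of a sum over `G` into `p`-parts in `P` and `p`-regular parts, for a function
vanishing at the elements whose `p`-part lies outside `P`. -/
theorem sum_eq_sum_mul_regular [Fintype G] (P : Subgroup G) [Fintype P] (hP : IsPGroup p P)
    (hG : P ⊔ Subgroup.centralizer (P : Set G) = ⊤) (S : Finset G)
    (hS : ∀ s, s ∈ S ↔ ¬ p ∣ orderOf s) (F : G → ℂ)
    (hF : ∀ g x, IsPPart p g x → x ∉ P → F g = 0) :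
    ∑ g : G, F g = ∑ u : P, ∑ s ∈ S, F ((u : G) * s) := by
  classical
  have hp : p.Prime := Fact.out
  have hcomm : ∀ (u : P) (s : G), ¬ p ∣ orderOf s → Commute (u : G) s := by
    intro u s hs
    have hsC : s ∈ Subgroup.centralizer (P : Set G) := mem_centralizer_of_pRegular p P hP hG s hs
    exact (Subgroup.mem_centralizer_iff.1 hsC) u u.2
  rw [← Finset.sum_product' (Finset.univ : Finset P) S (fun u s => F ((u : G) * s))]
  symm
  apply Finset.sum_of_injOn (fun x : P × G => (x.1 : G) * x.2)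
  · rintro ⟨u, s⟩ hus ⟨u', s'⟩ hus' h
    simp only [Finset.coe_product, Finset.coe_univ, Set.mem_prod, Set.mem_univ, true_and,
      Finset.mem_coe] at hus hus'
    have hs := (hS s).1 hus
    have hs' := (hS s').1 hus'
    simp only at h
    have h1 : IsPPart p ((u : G) * s) (u : G) :=
      isPPart_mul (exists_orderOf_eq_of_isPGroup hP u) hs (hcomm u s hs)
    have h2 : IsPPart p ((u : G) * s) (u' : G) := by
      rw [h]
      exact isPPart_mul (exists_orderOf_eq_of_isPGroup hP u') hs' (hcomm u' s' hs')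
    have huu : (u : G) = u' := isPPart_unique hp h1 h2
    have hu : u = u' := Subtype.ext huu
    subst hu
    have hss : s = s' := mul_left_cancel h
    rw [hss]
  · intro x _
    exact Finset.mem_coe.2 (Finset.mem_univ _)
  · intro g _ hg
    obtain ⟨x, hx⟩ := exists_isPPart hp g (orderOf_pos g)
    apply hF g x hx
    intro hxP
    apply hg
    obtain ⟨y, hxy, _, _, hy⟩ := hx
    refine ⟨(⟨x, hxP⟩, y), ?_, hxy⟩
    simp only [Finset.coe_product, Finset.coe_univ, Set.mem_prod, Set.mem_univ, true_and,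
      Finset.mem_coe]
    exact (hS y).2 hy
  · intro x _
    rfl


/-- First orthogonality as a sum. -/
theorem sum_irr_mul_conj_irr {H : Type*} [Group H] [Fintype H] (ν μ : IrrCharacter H)
    [Decidable (ν = μ)] :
    ∑ u : H, (ν : H → ℂ) u * conj ((μ : H → ℂ) u) = if ν = μ then (Nat.card H : ℂ) else 0 := by
  have h := irr_orthonormal ν μ
  rw [classInner_def] at h
  have hc : (Nat.card H : ℂ) ≠ 0 := card_ne_zero_complex
  have h2 : ∑ u : H, (ν : H → ℂ) u * conj ((μ : H → ℂ) u) =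
      (Nat.card H : ℂ) * ((Nat.card H : ℂ)⁻¹ * ∑ u : H, (ν : H → ℂ) u * conj ((μ : H → ℂ) u)) := by
    field_simp
  rw [h2, h]
  split_ifs <;> simp

/-- The fibre sums of the block over the irreducible characters of `P`. -/
theorem card_mul_sum_fiber (hM : IsPModular p M) (P : Subgroup G) [Fintype P] (hP : IsPGroup p P)
    (hG : P ⊔ Subgroup.centralizer (P : Set G) = ⊤) {B : Set (IrrCharacter G)}
    (hB : IsPBlock M B) (Bf : Finset (IrrCharacter G)) (hBf : ∀ χ, χ ∈ Bf ↔ χ ∈ B)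
    (lam : IrrCharacter G → IrrCharacter P)
    (hlam : ∀ (χ : IrrCharacter G) (u : P) (c : G), c ∈ Subgroup.centralizer (P : Set G) →
      (χ : G → ℂ) ((u : G) * c) * (lam χ : P → ℂ) 1 = (lam χ : P → ℂ) u * (χ : G → ℂ) c)
    {s s' : G} (hs : ¬ p ∣ orderOf s) (hs' : ¬ p ∣ orderOf s') (μ : IrrCharacter P)
    [DecidablePred fun χ => lam χ = μ] :
    (Nat.card P : ℂ) * ∑ χ ∈ Bf.filter (fun χ => lam χ = μ),
        (χ : G → ℂ) s * conj ((χ : G → ℂ) s') =
      ((μ : P → ℂ) 1) ^ 2 * ∑ χ ∈ Bf, (χ : G → ℂ) s * conj ((χ : G → ℂ) s') := by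
  classical
  have hsC : s ∈ Subgroup.centralizer (P : Set G) := mem_centralizer_of_pRegular p P hP hG s hs
  have hμ1 : (μ : P → ℂ) 1 ≠ 0 := irr_degree_ne_zero μ
  set T : ℂ := ∑ u : P, (∑ χ ∈ Bf, (χ : G → ℂ) ((u : G) * s) * conj ((χ : G → ℂ) s')) *
      conj ((μ : P → ℂ) u) with hT
  have ha : T = (∑ χ ∈ Bf, (χ : G → ℂ) s * conj ((χ : G → ℂ) s')) * (μ : P → ℂ) 1 := by
    rw [hT, Finset.sum_eq_single (1 : P)]
    · rw [char_one_conj (IrrCharacter_isCharacter μ)]
      simp only [Subgroup.coe_one, one_mul]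
    · intro u _ hu
      rw [sum_block_mul_regular_eq_zero hM P hP hG hB Bf hBf u hu hs hs', zero_mul]
    · intro h
      exact absurd (Finset.mem_univ _) h
  have hb : T = (Nat.card P : ℂ) / (μ : P → ℂ) 1 * ∑ χ ∈ Bf.filter (fun χ => lam χ = μ),
      (χ : G → ℂ) s * conj ((χ : G → ℂ) s') := by
    have h1 : ∀ u : P, ∀ χ : IrrCharacter G, (χ : G → ℂ) ((u : G) * s) =
        (lam χ : P → ℂ) u * (χ : G → ℂ) s / (lam χ : P → ℂ) 1 := by
      intro u χ
      have h0 : (lam χ : P → ℂ) 1 ≠ 0 := irr_degree_ne_zero (lam χ)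
      rw [eq_div_iff h0]
      exact hlam χ u s hsC
    have h2 : T = ∑ χ ∈ Bf, (χ : G → ℂ) s * conj ((χ : G → ℂ) s') / (lam χ : P → ℂ) 1 *
        ∑ u : P, (lam χ : P → ℂ) u * conj ((μ : P → ℂ) u) := by
      rw [hT]
      simp only [Finset.sum_mul, Finset.mul_sum]
      rw [Finset.sum_comm]
      apply Finset.sum_congr rfl
      intro χ _
      apply Finset.sum_congr rfl
      intro u _
      rw [h1 u χ]
      ring
    rw [h2, Finset.mul_sum, Finset.sum_filter]
    apply Finset.sum_congr rfl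
    intro χ _
    rw [sum_irr_mul_conj_irr]
    split_ifs with h
    · rw [h]; ring
    · rw [mul_zero]
  have hc : (∑ χ ∈ Bf, (χ : G → ℂ) s * conj ((χ : G → ℂ) s')) * (μ : P → ℂ) 1 =
      (Nat.card P : ℂ) / (μ : P → ℂ) 1 * ∑ χ ∈ Bf.filter (fun χ => lam χ = μ),
      (χ : G → ℂ) s * conj ((χ : G → ℂ) s') := by rw [← ha, hb]
  field_simp at hc
  linear_combination -hc


/-- Summing the squares of the block over a coset `P s` of a `p`-regular element. -/
theorem sum_sum_block_mul_regular (hM : IsPModular p M) (P : Subgroup G) [Fintype P]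
    [Fintype (IrrCharacter P)] (hP : IsPGroup p P)
    (hG : P ⊔ Subgroup.centralizer (P : Set G) = ⊤) {B : Set (IrrCharacter G)}
    (hB : IsPBlock M B) (Bf : Finset (IrrCharacter G)) (hBf : ∀ χ, χ ∈ Bf ↔ χ ∈ B)
    (lam : IrrCharacter G → IrrCharacter P)
    (hlam : ∀ (χ : IrrCharacter G) (u : P) (c : G), c ∈ Subgroup.centralizer (P : Set G) →
      (χ : G → ℂ) ((u : G) * c) * (lam χ : P → ℂ) 1 = (lam χ : P → ℂ) u * (χ : G → ℂ) c)
    {s : G} (hs : ¬ p ∣ orderOf s) :
    ∑ u : P, ∑ χ ∈ Bf, (χ : G → ℂ) ((u : G) * s) * conj ((χ : G → ℂ) ((u : G) * s)) =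
      (Nat.card (IrrCharacter P) : ℂ) * ∑ χ ∈ Bf, (χ : G → ℂ) s * conj ((χ : G → ℂ) s) := by
  classical
  have hsC : s ∈ Subgroup.centralizer (P : Set G) := mem_centralizer_of_pRegular p P hP hG s hs
  have hcP : (Nat.card P : ℂ) ≠ 0 := card_ne_zero_complex
  have h1 : ∀ u : P, ∀ χ : IrrCharacter G, (χ : G → ℂ) ((u : G) * s) =
      (lam χ : P → ℂ) u * (χ : G → ℂ) s / (lam χ : P → ℂ) 1 := by
    intro u χ
    have h0 : (lam χ : P → ℂ) 1 ≠ 0 := irr_degree_ne_zero (lam χ)
    rw [eq_div_iff h0]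
    exact hlam χ u s hsC
  -- first sum over `u`
  have h2 : ∑ u : P, ∑ χ ∈ Bf, (χ : G → ℂ) ((u : G) * s) * conj ((χ : G → ℂ) ((u : G) * s)) =
      ∑ χ ∈ Bf, (Nat.card P : ℂ) / ((lam χ : P → ℂ) 1) ^ 2 *
        ((χ : G → ℂ) s * conj ((χ : G → ℂ) s)) := by
    rw [Finset.sum_comm]
    apply Finset.sum_congr rfl
    intro χ _
    have h0 : (lam χ : P → ℂ) 1 ≠ 0 := irr_degree_ne_zero (lam χ)
    have h3 : ∀ u : P, (χ : G → ℂ) ((u : G) * s) * conj ((χ : G → ℂ) ((u : G) * s)) =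
        ((χ : G → ℂ) s * conj ((χ : G → ℂ) s)) / ((lam χ : P → ℂ) 1) ^ 2 *
          ((lam χ : P → ℂ) u * conj ((lam χ : P → ℂ) u)) := by
      intro u
      rw [h1 u χ, map_div₀, map_mul, char_one_conj (IrrCharacter_isCharacter (lam χ))]
      field_simp
    rw [Finset.sum_congr rfl (fun u _ => h3 u), ← Finset.mul_sum, sum_irr_mul_conj_irr,
      if_pos rfl]
    ring
  rw [h2, ← Finset.sum_fiberwise Bf lam]
  have h4 : ∀ μ : IrrCharacter P, ∑ χ ∈ Bf with lam χ = μ, (Nat.card P : ℂ) /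
      ((lam χ : P → ℂ) 1) ^ 2 * ((χ : G → ℂ) s * conj ((χ : G → ℂ) s)) =
      ∑ χ ∈ Bf, (χ : G → ℂ) s * conj ((χ : G → ℂ) s) := by
    intro μ
    have hμ1 : (μ : P → ℂ) 1 ≠ 0 := irr_degree_ne_zero μ
    have h5 : ∑ χ ∈ Bf with lam χ = μ, (Nat.card P : ℂ) /
        ((lam χ : P → ℂ) 1) ^ 2 * ((χ : G → ℂ) s * conj ((χ : G → ℂ) s)) =
        1 / ((μ : P → ℂ) 1) ^ 2 * ((Nat.card P : ℂ) * ∑ χ ∈ Bf with lam χ = μ,
          (χ : G → ℂ) s * conj ((χ : G → ℂ) s)) := by
      rw [Finset.mul_sum, Finset.mul_sum]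
      apply Finset.sum_congr rfl
      intro χ hχ
      rw [(Finset.mem_filter.1 hχ).2]
      ring
    rw [h5, card_mul_sum_fiber hM P hP hG hB Bf hBf lam hlam hs hs μ]
    field_simp
  rw [Finset.sum_congr rfl (fun μ _ => h4 μ), Finset.sum_const, Finset.card_univ, nsmul_eq_mul,
    Nat.card_eq_fintype_card]


/-- For a member of the block with `P` in its kernel, `|G| = |P| ∑_{s p-regular} |θ(s)|²`. -/
theorem card_eq_card_mul_sum_regular (hM : IsPModular p M) [Fintype G] (P : Subgroup G)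
    [Fintype P] (hP : IsPGroup p P)
    (hG : P ⊔ Subgroup.centralizer (P : Set G) = ⊤) {B : Set (IrrCharacter G)}
    (hB : IsPBlock M B) (hD : IsDefectGroup p M B P) (S : Finset G)
    (hS : ∀ s, s ∈ S ↔ ¬ p ∣ orderOf s) (θ : IrrCharacter G) (hθ : θ ∈ B)
    (hker : ∀ x ∈ P, (θ : G → ℂ) x = (θ : G → ℂ) 1) :
    (Nat.card G : ℂ) = (Nat.card P : ℂ) * ∑ s ∈ S, (θ : G → ℂ) s * conj ((θ : G → ℂ) s) := by
  have h1 : ∑ g : G, (θ : G → ℂ) g * conj ((θ : G → ℂ) g) = (Nat.card G : ℂ) := by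
    have h := irr_inner_self θ
    rw [classInner_def] at h
    have hc : (Nat.card G : ℂ) ≠ 0 := card_ne_zero_complex
    field_simp at h
    exact h
  rw [← h1, sum_eq_sum_mul_regular P hP hG S hS
    (fun g => (θ : G → ℂ) g * conj ((θ : G → ℂ) g))]
  · have h2 : ∀ u : P, ∑ s ∈ S, (θ : G → ℂ) ((u : G) * s) * conj ((θ : G → ℂ) ((u : G) * s)) =
        ∑ s ∈ S, (θ : G → ℂ) s * conj ((θ : G → ℂ) s) := by
      intro u
      apply Finset.sum_congr rfl
      intro s _
      rw [char_mul_of_mem_ker (IrrCharacter_isCharacter θ) (hker u u.2) s]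
    rw [Finset.sum_congr rfl (fun u _ => h2 u), Finset.sum_const, Finset.card_univ, nsmul_eq_mul,
      Nat.card_eq_fintype_card]
  · intro g x hx hxP
    rw [apply_eq_zero_of_ppart_not_mem hM P hG hB hD hθ hx hxP, zero_mul]

/-- **Counting a block with defect group `P` when `G = P C_G(P)`.** The number of members of the
block is `k(P)` times the number of members lying in a certain set `B₁` of characters of the block
having `P` in their kernel. -/
theorem card_block_eq_card_conjClasses_mul (hM : IsPModular p M) (P : Subgroup G)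
    (hP : IsPGroup p P) (hG : P ⊔ Subgroup.centralizer (P : Set G) = ⊤)
    {B : Set (IrrCharacter G)} (hB : IsPBlock M B) (hD : IsDefectGroup p M B P) :
    ∃ B₁ : Finset (IrrCharacter G),
      (∀ θ ∈ B₁, θ ∈ B ∧ ∀ x ∈ P, (θ : G → ℂ) x = (θ : G → ℂ) 1) ∧
      Nat.card B = Nat.card (ConjClasses P) * B₁.card := by
  classical
  let _ : Fintype G := Fintype.ofFinite G
  let _ : Fintype P := Fintype.ofFinite P
  let _ : Fintype (IrrCharacter G) := Fintype.ofFinite _
  let _ : Fintype (IrrCharacter P) := Fintype.ofFinite _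
  choose lam hlam using exists_irr_factor P hG
  set Bf : Finset (IrrCharacter G) := Finset.univ.filter (· ∈ B) with hBfdef
  have hBf : ∀ χ, χ ∈ Bf ↔ χ ∈ B := fun χ => by simp [hBfdef]
  set S : Finset G := Finset.univ.filter (fun s => ¬ p ∣ orderOf s) with hSdef
  have hS : ∀ s, s ∈ S ↔ ¬ p ∣ orderOf s := fun s => by simp [hSdef]
  set triv : IrrCharacter P := ⟨fun _ => (1 : ℂ), isIrrCharacter_one⟩ with htriv
  set B₁ : Finset (IrrCharacter G) := Bf.filter (fun χ => lam χ = triv) with hB₁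
  have hB₁ker : ∀ θ ∈ B₁, θ ∈ B ∧ ∀ x ∈ P, (θ : G → ℂ) x = (θ : G → ℂ) 1 := by
    intro θ hθ
    rw [hB₁, Finset.mem_filter] at hθ
    refine ⟨(hBf θ).1 hθ.1, fun x hx => ?_⟩
    have := hlam θ ⟨x, hx⟩ 1 (Subgroup.one_mem _)
    rw [hθ.2] at this
    simpa [htriv] using this
  refine ⟨B₁, hB₁ker, ?_⟩
  set R : ℂ := ∑ s ∈ S, ∑ χ ∈ Bf, (χ : G → ℂ) s * conj ((χ : G → ℂ) s) with hR
  have hcG : (Nat.card G : ℂ) ≠ 0 := card_ne_zero_complex
  have hnorm : ∀ χ : IrrCharacter G, ∑ g : G, (χ : G → ℂ) g * conj ((χ : G → ℂ) g) =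
      (Nat.card G : ℂ) := by
    intro χ
    have h := irr_inner_self χ
    rw [classInner_def] at h
    field_simp at h
    exact h
  -- (i)
  have hi : (Bf.card : ℂ) * (Nat.card G : ℂ) = (Nat.card (IrrCharacter P) : ℂ) * R := by
    have h1 : (Bf.card : ℂ) * (Nat.card G : ℂ) =
        ∑ g : G, ∑ χ ∈ Bf, (χ : G → ℂ) g * conj ((χ : G → ℂ) g) := by
      rw [Finset.sum_comm, Finset.sum_congr rfl (fun χ _ => hnorm χ), Finset.sum_const,
        nsmul_eq_mul]
    rw [h1, sum_eq_sum_mul_regular P hP hG S hS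
      (fun g => ∑ χ ∈ Bf, (χ : G → ℂ) g * conj ((χ : G → ℂ) g))]
    · rw [Finset.sum_comm, hR, Finset.mul_sum]
      apply Finset.sum_congr rfl
      intro s hs
      exact sum_sum_block_mul_regular hM P hP hG hB Bf hBf lam hlam ((hS s).1 hs)
    · intro g x hx hxP
      apply Finset.sum_eq_zero
      intro χ hχ
      rw [apply_eq_zero_of_ppart_not_mem hM P hG hB hD ((hBf χ).1 hχ) hx hxP, zero_mul]
  -- (ii)
  have hii : (B₁.card : ℂ) * (Nat.card G : ℂ) = R := by
    have h1 : (B₁.card : ℂ) * (Nat.card G : ℂ) = ∑ θ ∈ B₁, (Nat.card P : ℂ) *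
        ∑ s ∈ S, (θ : G → ℂ) s * conj ((θ : G → ℂ) s) := by
      rw [← nsmul_eq_mul, ← Finset.sum_const]
      apply Finset.sum_congr rfl
      intro θ hθ
      exact card_eq_card_mul_sum_regular hM P hP hG hB hD S hS θ (hB₁ker θ hθ).1 (hB₁ker θ hθ).2
    rw [h1, ← Finset.mul_sum, Finset.sum_comm, hR, Finset.mul_sum]
    apply Finset.sum_congr rfl
    intro s hs
    have := card_mul_sum_fiber hM P hP hG hB Bf hBf lam hlam ((hS s).1 hs) ((hS s).1 hs) triv
    rw [this]
    simp [htriv]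
  have hfin : (Bf.card : ℂ) = (Nat.card (IrrCharacter P) : ℂ) * (B₁.card : ℂ) := by
    apply mul_right_cancel₀ hcG
    rw [hi, ← hii]
    ring
  have hcardB : Nat.card B = Bf.card := by
    rw [Nat.card_congr (Equiv.subtypeEquivRight (fun χ => (hBf χ).symm)),
      Nat.card_eq_fintype_card, Fintype.card_coe]
  rw [hcardB, ← card_irr_eq_card_conjClasses]
  exact_mod_cast hfin

end

end Cfsg.Agent.Lib.Helper22
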