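import Mathlib
import Cfsg.Prelude.Def_Blocks
import Cfsg.Agent.Lib.Helper22.CentralProduct
import Cfsg.Agent.Lib.Helper22.CentralDefectCount
import Cfsg.Agent.Lib.Helper22.BlockRegular
import Cfsg.Agent.Lib.Helper22.DefectConj
import Cfsg.Agent.Lib.Helper21.QuotBlock
import Cfsg.Agent.Lib.Helper82.DefectZero
import Cfsg.Agent.Lib.Helper83.Quotient

/-!
# Blocks with defect group `P` when `G = P C_G(P)`: the canonical character

Degree and uniqueness of the member of the block with `P` in its kernel.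
-/

set_option autoImplicit false
set_option linter.unusedSectionVars false
set_option linter.style.haveILetI false

namespace Cfsg.Agent.Lib.Helper22

open Cfsg
open scoped ComplexConjugate
open Cfsg.Agent.Lib.Helper83 Cfsg.Agent.Lib.Helper82 Cfsg.Agent.Lib.Helper21

section
universe u
variable {G : Type u} [Group G] [Finite G] {p : ℕ} [Fact p.Prime] {M : Ideal AlgInt}

/-- For a `p`-regular element `g` of `G = P C_G(P)`, anything commuting with `g` modulo `P`
commutes with `g`. -/
theorem preCentralizer_le_centralizer_of_pRegular (P : Subgroup G) [P.Normal] (hP : IsPGroup p P)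
    (hG : P ⊔ Subgroup.centralizer (P : Set G) = ⊤) {g : G} (hg : ¬ p ∣ orderOf g) :
    preCentralizer P g ≤ Subgroup.centralizer ({g} : Set G) := by
  have hp : p.Prime := Fact.out
  have hN : P.Normal := inferInstance
  intro x hx
  rw [preCentralizer, Subgroup.mem_comap, Subgroup.mem_centralizer_iff] at hx
  have h1 := hx _ (Set.mem_singleton _)
  rw [QuotientGroup.mk'_apply, ← QuotientGroup.mk_mul, ← QuotientGroup.mk_mul,
    QuotientGroup.eq] at h1
  -- n := (g x)⁻¹ (x g) ∈ P, x g = g x n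
  set n : G := (g * x)⁻¹ * (x * g) with hn
  set n' : G := x * n * x⁻¹ with hn'
  have hn'P : n' ∈ P := hN.conj_mem n h1 x
  have hconj : x * g * x⁻¹ = g * n' := by
    rw [hn', hn]; group
  have hgC : g ∈ Subgroup.centralizer (P : Set G) := mem_centralizer_of_pRegular p P hP hG g hg
  have hcomm : Commute g n' := ((Subgroup.mem_centralizer_iff.1 hgC) n' hn'P).symm
  have hord : orderOf (g * n') = orderOf g := by
    rw [← hconj]
    exact orderOf_conj' x g
  have hpow : n' ^ orderOf g = 1 := by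
    have h2 : (g * n') ^ orderOf g = 1 := by rw [← hord, pow_orderOf_eq_one]
    rw [hcomm.mul_pow, pow_orderOf_eq_one, one_mul] at h2
    exact h2
  obtain ⟨k, hk⟩ := exists_orderOf_eq_of_isPGroup hP ⟨n', hn'P⟩
  simp only at hk
  have hdvd : p ^ k ∣ orderOf g := by
    rw [← hk]
    exact orderOf_dvd_of_pow_eq_one hpow
  have hk0 : k = 0 := by
    by_contra hk0
    exact hg ((dvd_pow_self p hk0).trans hdvd)
  rw [hk0, pow_zero, orderOf_eq_one_iff] at hk
  rw [hk, mul_one] at hconj
  rw [Subgroup.mem_centralizer_iff]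
  intro h hh
  rw [Set.mem_singleton_iff] at hh
  subst hh
  calc h * x = (x * h * x⁻¹) * x := by rw [hconj]
    _ = x * h := by group

/-- The class ratio of a `p`-regular element is `1`. -/
theorem classRatio_eq_one_of_pRegular (P : Subgroup G) [P.Normal] (hP : IsPGroup p P)
    (hG : P ⊔ Subgroup.centralizer (P : Set G) = ⊤) {g : G} (hg : ¬ p ∣ orderOf g) :
    classRatio P g = 1 := by
  rw [classRatio, Subgroup.relIndex_eq_one]
  exact preCentralizer_le_centralizer_of_pRegular P hP hG hg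

/-- Every `p`-regular element of `G ⧸ N` is the image of a `p`-regular element of `G`. -/
theorem exists_pRegular_lift (N : Subgroup G) [N.Normal] (q : G ⧸ N) (hq : ¬ p ∣ orderOf q) :
    ∃ g : G, ¬ p ∣ orderOf g ∧ (QuotientGroup.mk g : G ⧸ N) = q := by
  have hp : p.Prime := Fact.out
  obtain ⟨g₀, rfl⟩ := QuotientGroup.mk_surjective q
  obtain ⟨x, y, hxy, hc, ⟨k, hk⟩, hy⟩ := exists_isPPart hp g₀ (orderOf_pos g₀)
  have hco : Nat.Coprime (p ^ k) (orderOf (QuotientGroup.mk g₀ : G ⧸ N)) :=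
    Nat.Coprime.pow_left k ((Nat.Prime.coprime_iff_not_dvd hp).2 hq)
  obtain ⟨j, hj⟩ := exists_pow_eq_self_of_coprime hco
  refine ⟨(y ^ p ^ k) ^ j, ?_, ?_⟩
  · intro hdvd
    apply hy
    have h1 : orderOf ((y ^ p ^ k) ^ j) ∣ orderOf y := by
      rw [← pow_mul]
      exact orderOf_pow_dvd _
    exact hdvd.trans h1
  · have h2 : g₀ ^ p ^ k = y ^ p ^ k := by
      rw [← hxy, hc.mul_pow, ← hk, pow_orderOf_eq_one, one_mul]
    rw [QuotientGroup.mk_pow, ← h2, QuotientGroup.mk_pow]
    exact hj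


/-- A member of a block with normal defect group `P` having `P` in its kernel has degree with
`p`-part `|G : P|_p`. -/
theorem factorization_charDegree_of_ker (hM : IsPModular p M) (P : Subgroup G) [P.Normal]
    {B : Set (IrrCharacter G)} (hB : IsPBlock M B) (hD : IsDefectGroup p M B P)
    (θ : IrrCharacter G) (hθ : θ ∈ B) (hker : ∀ x ∈ P, (θ : G → ℂ) x = (θ : G → ℂ) 1) :
    (charDegree (θ : G → ℂ)).factorization p = P.index.factorization p := by
  have hp : p.Prime := Fact.out
  apply le_antisymm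
  · have hdvd := irr_charDegree_dvd_index θ P hker
    have hidx : P.index ≠ 0 := Subgroup.index_ne_zero_of_finite
    have hdeg : charDegree (θ : G → ℂ) ≠ 0 := (irr_charDegree_pos θ).ne'
    exact (Nat.factorization_le_iff_dvd hdeg hidx).2 hdvd p
  · have hcard := IsDefectGroup.card_eq hM hB hD
    have hmul := Subgroup.card_mul_index P
    have hidx : P.index ≠ 0 := Subgroup.index_ne_zero_of_finite
    have hPc : Nat.card P ≠ 0 := Nat.card_pos.ne'
    have hfac : (Nat.card G).factorization p =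
        (Nat.card P).factorization p + P.index.factorization p := by
      rw [← hmul, Nat.factorization_mul hPc hidx]
      rfl
    have hPfac : (Nat.card P).factorization p = blockDefect p B := by
      rw [hcard, Nat.Prime.factorization_pow hp]
      simp
    have hle : sInf ((fun ψ : IrrCharacter G => (charDegree (ψ : G → ℂ)).factorization p) '' B) ≤
        (charDegree (θ : G → ℂ)).factorization p := Nat.sInf_le ⟨θ, hθ, rfl⟩
    rw [hPfac] at hfac
    unfold blockDefect at hfac
    omega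

/-- **Uniqueness of the canonical character.** Two members of a block with defect group `P`,
`G = P C_G(P)`, both having `P` in the kernel, are equal. -/
theorem eq_of_ker_of_sup_centralizer (hM : IsPModular p M) (P : Subgroup G)
    (hP : IsPGroup p P) (hG : P ⊔ Subgroup.centralizer (P : Set G) = ⊤)
    {B : Set (IrrCharacter G)} (hB : IsPBlock M B) (hD : IsDefectGroup p M B P)
    (θ₁ θ₂ : IrrCharacter G) (h₁ : θ₁ ∈ B) (h₂ : θ₂ ∈ B)
    (hk₁ : ∀ x ∈ P, (θ₁ : G → ℂ) x = (θ₁ : G → ℂ) 1)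
    (hk₂ : ∀ x ∈ P, (θ₂ : G → ℂ) x = (θ₂ : G → ℂ) 1) : θ₁ = θ₂ := by
  classical
  have hp : p.Prime := Fact.out
  have hprime : M.IsPrime := hM.2.1.isPrime
  haveI hN : P.Normal := normal_of_sup_centralizer_eq_top P hG
  let _ : Fintype (G ⧸ P) := Fintype.ofFinite _
  set ψ₁ : IrrCharacter (G ⧸ P) := irrDeflate P ⟨θ₁, hk₁⟩ with hψ₁
  set ψ₂ : IrrCharacter (G ⧸ P) := irrDeflate P ⟨θ₂, hk₂⟩ with hψ₂
  have hinf₁ : (ψ₁ : G ⧸ P → ℂ) ∘ (QuotientGroup.mk : G → G ⧸ P) = (θ₁ : G → ℂ) := by
    funext g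
    exact irrDeflate_apply P ⟨θ₁, hk₁⟩ g
  have hinf₂ : (ψ₂ : G ⧸ P → ℂ) ∘ (QuotientGroup.mk : G → G ⧸ P) = (θ₂ : G → ℂ) := by
    funext g
    exact irrDeflate_apply P ⟨θ₂, hk₂⟩ g
  have hsb : SameBlock M (θ₁ : G → ℂ) (θ₂ : G → ℂ) := IsPBlock.sameBlock hprime hB h₁ h₂
  -- same block in the quotient
  have hsbq : SameBlock M (ψ₁ : G ⧸ P → ℂ) (ψ₂ : G ⧸ P → ℂ) := by
    apply sameBlock_of_forall_regular hM
    intro q hq
    obtain ⟨g, hg, rfl⟩ := exists_pRegular_lift P q hq
    have e₁ := centralChar_inflate P (ψ₁ : G ⧸ P → ℂ) g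
    have e₂ := centralChar_inflate P (ψ₂ : G ⧸ P → ℂ) g
    rw [classRatio_eq_one_of_pRegular P hP hG hg, Nat.cast_one, one_mul, hinf₁] at e₁
    rw [classRatio_eq_one_of_pRegular P hP hG hg, Nat.cast_one, one_mul, hinf₂] at e₂
    rw [← e₁, ← e₂]
    exact hsb g
  -- the block of `ψ₁` is a singleton
  have hdeg : charDegree (ψ₁ : G ⧸ P → ℂ) = charDegree (θ₁ : G → ℂ) := by
    have h1 : (ψ₁ : G ⧸ P → ℂ) 1 = (θ₁ : G → ℂ) 1 := by
      have := irrDeflate_apply P ⟨θ₁, hk₁⟩ 1
      rwa [QuotientGroup.mk_one] at this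
    simp only [charDegree, h1]
  have hfac := factorization_charDegree_of_ker hM P hB hD θ₁ h₁ hk₁
  have hnd : ¬ p ∣ Nat.card (G ⧸ P) / charDegree (ψ₁ : G ⧸ P → ℂ) := by
    rw [hdeg, ← Subgroup.index_eq_card]
    intro hdvd
    have hdvd' := irr_charDegree_dvd_index θ₁ P hk₁
    obtain ⟨k, hk⟩ := hdvd'
    have hdpos : 0 < charDegree (θ₁ : G → ℂ) := irr_charDegree_pos θ₁
    have hidx : P.index ≠ 0 := Subgroup.index_ne_zero_of_finite
    rw [hk, Nat.mul_div_cancel_left _ hdpos] at hdvd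
    have hk0 : k ≠ 0 := by
      rintro rfl
      rw [mul_zero] at hk
      exact hidx hk
    have h3 : P.index.factorization p =
        (charDegree (θ₁ : G → ℂ)).factorization p + k.factorization p := by
      rw [hk, Nat.factorization_mul hdpos.ne' hk0]
      rfl
    have h4 : 0 < k.factorization p := hp.factorization_pos_of_dvd hk0 hdvd
    omega
  have hsing := blockOf_eq_singleton_of_not_dvd hM ψ₁ hnd
  have hmem : ψ₂ ∈ blockOf M (ψ₁ : G ⧸ P → ℂ) := hsbq
  rw [hsing, Set.mem_singleton_iff] at hmem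
  apply Subtype.ext
  rw [← hinf₁, ← hinf₂, hmem]

end

end Cfsg.Agent.Lib.Helper22
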