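import Cfsg.Agent.Lib.Helper60.FHDefs

/-!
# K-S1142-H1: the 2-dimensional representation `(T1, T2 θ)` satisfies the Hecke relations of the
dihedral group of order `2n` and has scalar commutant.
-/

set_option autoImplicit false

open Cfsg.Agent.Lib.Helper60.FH Matrix

namespace Cfsg.Agent.Lib.Helper22.FH

/-! ### generalities on `altL` -/

theorem altL_add_two {M : Type*} [Monoid M] (x y : M) (k : ℕ) :
    altL x y (k + 2) = x * y * altL x y k := by
  rw [altL_succ, altL_succ, mul_assoc]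

theorem altL_two_mul {M : Type*} [Monoid M] (x y : M) (m : ℕ) :
    altL x y (2 * m) = (x * y) ^ m := by
  induction m with
  | zero => simp
  | succ m ih =>
    have : 2 * (m + 1) = 2 * m + 2 := by ring
    rw [this, altL_add_two, ih, pow_succ']

theorem altL_two_mul_add_one {M : Type*} [Monoid M] (x y : M) (m : ℕ) :
    altL x y (2 * m + 1) = x * (y * x) ^ m := by
  rw [altL_succ, altL_two_mul]

/-! ### abstract 2 × 2 computations -/

section abstract
variable (q1 q2 a b d : ℝ)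

/-- the abstract first generator -/
def A1 : Matrix (Fin 2) (Fin 2) ℝ := !![q1, 0; 0, -1]
/-- the abstract second generator -/
def A2 : Matrix (Fin 2) (Fin 2) ℝ := !![a, b; b, d]

theorem A1_transpose : (A1 q1)ᵀ = A1 q1 := by
  ext i j; fin_cases i <;> fin_cases j <;> simp [A1]

theorem A2_transpose : (A2 a b d)ᵀ = A2 a b d := by
  ext i j; fin_cases i <;> fin_cases j <;> simp [A2]

theorem A1_sq : A1 q1 * A1 q1 = q1 • (1 : Matrix (Fin 2) (Fin 2) ℝ) + (q1 - 1) • A1 q1 := by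
  ext i j; fin_cases i <;> fin_cases j <;> simp [A1, Matrix.mul_apply, Fin.sum_univ_two] <;> ring

theorem A2_sq (had : a + d = q2 - 1) (hdet : a * d - b * b = -q2) :
    A2 a b d * A2 a b d = q2 • (1 : Matrix (Fin 2) (Fin 2) ℝ) + (q2 - 1) • A2 a b d := by
  ext i j; fin_cases i <;> fin_cases j <;> simp [A2, Matrix.mul_apply, Fin.sum_univ_two]
  · linear_combination (-1 : ℝ) * hdet + a * had
  · linear_combination b * had
  · linear_combination b * had
  · linear_combination (-1 : ℝ) * hdet + d * had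

theorem R_sq (hdet : a * d - b * b = -q2) :
    (A1 q1 * A2 a b d) * (A1 q1 * A2 a b d) =
      (q1 * a - d) • (A1 q1 * A2 a b d) - (q1 * q2) • (1 : Matrix (Fin 2) (Fin 2) ℝ) := by
  ext i j; fin_cases i <;> fin_cases j <;> simp [A1, A2, Matrix.mul_apply, Fin.sum_univ_two]
  · linear_combination q1 * hdet
  · ring
  · ring
  · linear_combination q1 * hdet

theorem R'_sq (hdet : a * d - b * b = -q2) :
    (A2 a b d * A1 q1) * (A2 a b d * A1 q1) =
      (q1 * a - d) • (A2 a b d * A1 q1) - (q1 * q2) • (1 : Matrix (Fin 2) (Fin 2) ℝ) := by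
  ext i j; fin_cases i <;> fin_cases j <;> simp [A1, A2, Matrix.mul_apply, Fin.sum_univ_two]
  · linear_combination q1 * hdet
  · ring
  · ring
  · linear_combination q1 * hdet

theorem braid3 (q : ℝ) (had : a + d = q - 1) (hdet : a * d - b * b = -q) :
    A1 q * (A2 a b d * A1 q) - A2 a b d * (A1 q * A2 a b d) =
      (q * a - d + q) • (A1 q - A2 a b d) := by
  ext i j; fin_cases i <;> fin_cases j <;> simp [A1, A2, Matrix.mul_apply, Fin.sum_univ_two]
  · linear_combination (-1 : ℝ) * hdet + q * had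
  · ring
  · ring
  · linear_combination q * hdet + q * had

end abstract

/-- powers of a matrix satisfying a quadratic relation -/
theorem pow_succ_of_sq {R : Matrix (Fin 2) (Fin 2) ℝ} {t D : ℝ}
    (hR : R * R = t • R - D • (1 : Matrix (Fin 2) (Fin 2) ℝ)) (p : ℕ → ℝ) (h0 : p 0 = 0)
    (h1 : p 1 = 1) (hrec : ∀ m, p (m + 2) = t * p (m + 1) - D * p m) (m : ℕ) :
    R ^ (m + 1) = p (m + 1) • R - (D * p m) • (1 : Matrix (Fin 2) (Fin 2) ℝ) := by
  induction m with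
  | zero => simp [h0, h1]
  | succ m ih =>
    rw [pow_succ, ih, sub_mul, smul_mul_assoc, smul_mul_assoc, one_mul, hR, hrec m]
    module


/-! ### the concrete representation -/

section concrete
variable {q1 q2 : ℝ} (hq1 : 0 < q1) (hq2 : 0 < q2) {θ : ℝ} (hθ0 : 0 < θ) (hθ1 : θ < Real.pi)
include hq1 hq2

theorem Qr_pos : 0 < Qr q1 q2 := Real.sqrt_pos.mpr (mul_pos hq1 hq2)

theorem Qr_sq : Qr q1 q2 * Qr q1 q2 = q1 * q2 :=
  Real.mul_self_sqrt (mul_pos hq1 hq2).le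

include hθ0 hθ1

theorem sin_theta_pos : 0 < Real.sin θ := Real.sin_pos_of_pos_of_lt_pi hθ0 hθ1

omit hq1 hq2 in
theorem cos_sq_lt_one : Real.cos θ ^ 2 < 1 := by
  have h := Real.sin_sq_add_cos_sq θ
  have hs : 0 < Real.sin θ := Real.sin_pos_of_pos_of_lt_pi hθ0 hθ1
  nlinarith [sq_pos_of_pos hs]

omit hq1 hq2 in
theorem cos_lt_one' : Real.cos θ < 1 := by
  have h := cos_sq_lt_one hθ0 hθ1
  nlinarith

omit hq1 hq2 in
theorem neg_one_lt_cos' : -1 < Real.cos θ := by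
  have h := cos_sq_lt_one hθ0 hθ1
  nlinarith

theorem kap_num_pos : 0 < 2 * Qr q1 q2 * Real.cos θ + q1 + q2 := by
  have hQ := Qr_pos hq1 hq2
  have hQ2 := Qr_sq hq1 hq2
  have hc := neg_one_lt_cos' hθ0 hθ1
  -- q1 + q2 - 2Q ≥ 0 since (q1+q2)^2 ≥ 4 q1 q2 = (2Q)^2
  have h1 : 2 * Qr q1 q2 ≤ q1 + q2 := by
    nlinarith [sq_nonneg (q1 - q2), sq_nonneg (q1 + q2 - 2 * Qr q1 q2)]
  nlinarith

theorem one_sub_kap_num_pos : 0 < q1 * q2 + 1 - 2 * Qr q1 q2 * Real.cos θ := by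
  have hQ := Qr_pos hq1 hq2
  have hQ2 := Qr_sq hq1 hq2
  have hc := cos_lt_one' hθ0 hθ1
  nlinarith [sq_nonneg (Qr q1 q2 - 1)]

theorem kap_pos : 0 < kap q1 q2 θ := by
  unfold kap
  have := kap_num_pos hq1 hq2 hθ0 hθ1
  positivity

theorem one_sub_kap : 1 - kap q1 q2 θ =
    (q1 * q2 + 1 - 2 * Qr q1 q2 * Real.cos θ) / ((q1 + 1) * (q2 + 1)) := by
  unfold kap
  have h1 : q1 + 1 ≠ 0 := by positivity
  have h2 : q2 + 1 ≠ 0 := by positivity
  field_simp
  ring

theorem one_sub_kap_pos : 0 < 1 - kap q1 q2 θ := by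
  rw [one_sub_kap hq1 hq2 hθ0 hθ1]
  have := one_sub_kap_num_pos hq1 hq2 hθ0 hθ1
  positivity

theorem sig_pos : 0 < sig q1 q2 θ := by
  unfold sig
  exact Real.sqrt_pos.mpr (mul_pos (kap_pos hq1 hq2 hθ0 hθ1) (one_sub_kap_pos hq1 hq2 hθ0 hθ1))

theorem sig_sq : sig q1 q2 θ * sig q1 q2 θ = kap q1 q2 θ * (1 - kap q1 q2 θ) := by
  unfold sig
  exact Real.mul_self_sqrt
    (mul_pos (kap_pos hq1 hq2 hθ0 hθ1) (one_sub_kap_pos hq1 hq2 hθ0 hθ1)).le

omit hθ0 hθ1 in
theorem kap_mul : (q1 + 1) * (q2 + 1) * kap q1 q2 θ = 2 * Qr q1 q2 * Real.cos θ + q1 + q2 := by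
  unfold kap
  have h1 : q1 + 1 ≠ 0 := by positivity
  have h2 : q2 + 1 ≠ 0 := by positivity
  field_simp

omit hq1 hq2 hθ0 hθ1 in
theorem T1_eq : T1 q1 = A1 q1 := rfl

omit hq1 hq2 hθ0 hθ1 in
theorem T2_eq : T2 q1 q2 θ = A2 ((q2 + 1) * kap q1 q2 θ - 1) ((q2 + 1) * sig q1 q2 θ)
    ((q2 + 1) * (1 - kap q1 q2 θ) - 1) := rfl

omit hq1 hq2 hθ0 hθ1 in
theorem had_T2 : ((q2 + 1) * kap q1 q2 θ - 1) + ((q2 + 1) * (1 - kap q1 q2 θ) - 1) = q2 - 1 := by
  ring

theorem hdet_T2 : ((q2 + 1) * kap q1 q2 θ - 1) * ((q2 + 1) * (1 - kap q1 q2 θ) - 1) -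
    ((q2 + 1) * sig q1 q2 θ) * ((q2 + 1) * sig q1 q2 θ) = -q2 := by
  have h := sig_sq hq1 hq2 hθ0 hθ1
  linear_combination (-(q2 + 1) ^ 2) * h

omit hθ0 hθ1 in
theorem htr_T2 : q1 * ((q2 + 1) * kap q1 q2 θ - 1) - ((q2 + 1) * (1 - kap q1 q2 θ) - 1) =
    2 * Qr q1 q2 * Real.cos θ := by
  have h := kap_mul hq1 hq2 (θ := θ)
  linear_combination h

/-- `pseq 0 = 0` -/
theorem pseq_zero : pseq q1 q2 θ 0 = 0 := by
  simp [pseq]

theorem pseq_one : pseq q1 q2 θ 1 = 1 := by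
  have hQ := (Qr_pos hq1 hq2).ne'
  have hs := (sin_theta_pos hq1 hq2 hθ0 hθ1).ne'
  simp only [pseq, pow_one, Nat.cast_one, one_mul]
  exact div_self (mul_ne_zero hQ hs)

omit hq1 hq2 hθ0 hθ1 in
theorem sin_rec (m : ℕ) : Real.sin (((m + 2 : ℕ) : ℝ) * θ) =
    2 * Real.cos θ * Real.sin (((m + 1 : ℕ) : ℝ) * θ) - Real.sin ((m : ℝ) * θ) := by
  have e1 : ((m + 2 : ℕ) : ℝ) * θ = ((m + 1 : ℕ) : ℝ) * θ + θ := by push_cast; ring
  have e2 : (m : ℝ) * θ = ((m + 1 : ℕ) : ℝ) * θ - θ := by push_cast; ring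
  rw [e1, e2, Real.sin_add, Real.sin_sub]
  ring

theorem pseq_rec (m : ℕ) : pseq q1 q2 θ (m + 2) =
    (2 * Qr q1 q2 * Real.cos θ) * pseq q1 q2 θ (m + 1) - (q1 * q2) * pseq q1 q2 θ m := by
  have hQ := (Qr_pos hq1 hq2).ne'
  have hs := (sin_theta_pos hq1 hq2 hθ0 hθ1).ne'
  have hQ2 := Qr_sq hq1 hq2
  unfold pseq
  rw [sin_rec, ← hQ2]
  field_simp
  ring

end concrete


theorem theta_pos {n j : ℕ} (hj : 1 ≤ j) (hjn : 2 * j < n) : 0 < theta n j := by
  unfold theta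
  have hn : (0 : ℝ) < n := by exact_mod_cast (by omega : 0 < n)
  have hj' : (0 : ℝ) < j := by exact_mod_cast (by omega : 0 < j)
  have := Real.pi_pos
  positivity

theorem theta_lt_pi {n j : ℕ} (hj : 1 ≤ j) (hjn : 2 * j < n) : theta n j < Real.pi := by
  unfold theta
  have hn : (0 : ℝ) < n := by exact_mod_cast (by omega : 0 < n)
  have hjn' : (2 : ℝ) * j < n := by exact_mod_cast hjn
  rw [div_lt_iff₀ hn]
  have := Real.pi_pos
  nlinarith

/-- `K-S1142-H1` -/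
theorem rep_rel (q1 q2 : ℝ) (hq1 : 0 < q1) (hq2 : 0 < q2) (n j : ℕ) (hj : 1 ≤ j) (hjn : 2 * j < n)
    (hodd : Odd n → q1 = q2) :
    Rel q1 q2 n (T1 q1) (T2 q1 q2 (theta n j)) ∧
    ∀ Z : Matrix (Fin 2) (Fin 2) ℝ, Z * T1 q1 = T1 q1 * Z →
      Z * T2 q1 q2 (theta n j) = T2 q1 q2 (theta n j) * Z → ∃ c : ℝ, Z = c • 1 := by
  have hθ0 : 0 < theta n j := theta_pos hj hjn
  have hθ1 : theta n j < Real.pi := theta_lt_pi hj hjn
  have hnθ : (n : ℝ) * theta n j = 2 * Real.pi * j := by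
    unfold theta
    have hn : (n : ℝ) ≠ 0 := by exact_mod_cast (by omega : n ≠ 0)
    field_simp
  generalize hθ : theta n j = θ at *
  have had := had_T2 (q1 := q1) (q2 := q2) (θ := θ)
  have hdet := hdet_T2 hq1 hq2 hθ0 hθ1
  have htr := htr_T2 hq1 hq2 (θ := θ)
  have hsig := sig_pos hq1 hq2 hθ0 hθ1
  have hp0 := pseq_zero hq1 hq2 hθ0 hθ1
  have hp1 := pseq_one hq1 hq2 hθ0 hθ1
  have hprec := pseq_rec hq1 hq2 hθ0 hθ1
  have hQ := Qr_pos hq1 hq2
  have hs := sin_theta_pos hq1 hq2 hθ0 hθ1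
  rw [T1_eq, T2_eq]
  generalize ha : (q2 + 1) * kap q1 q2 θ - 1 = a at *
  generalize hb : (q2 + 1) * sig q1 q2 θ = b at *
  generalize hd : (q2 + 1) * (1 - kap q1 q2 θ) - 1 = d at *
  have hb0 : b ≠ 0 := by
    rw [← hb]; have : 0 < q2 + 1 := by linarith
    positivity
  have hR := R_sq q1 q2 a b d hdet
  have hR' := R'_sq q1 q2 a b d hdet
  rw [htr] at hR hR'
  have hpowR := pow_succ_of_sq hR (pseq q1 q2 θ) hp0 hp1 hprec
  have hpowR' := pow_succ_of_sq hR' (pseq q1 q2 θ) hp0 hp1 hprec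
  refine ⟨⟨A1_transpose q1, A2_transpose a b d, A1_sq q1, A2_sq q2 a b d had hdet, ?_⟩, ?_⟩
  · -- braid relation
    rcases Nat.even_or_odd' n with ⟨m, rfl | rfl⟩
    · -- n = 2 m
      obtain ⟨m', rfl⟩ : ∃ m', m = m' + 1 := ⟨m - 1, by omega⟩
      rw [altL_two_mul, altL_two_mul, hpowR, hpowR']
      have hsin : Real.sin (((m' + 1 : ℕ) : ℝ) * θ) = 0 := by
        have h2 : ((m' + 1 : ℕ) : ℝ) * θ = (j : ℝ) * Real.pi := by
          have : ((2 * (m' + 1) : ℕ) : ℝ) * θ = 2 * Real.pi * j := hnθ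
          push_cast at this ⊢
          linarith
        rw [h2, Real.sin_nat_mul_pi]
      have hpz : pseq q1 q2 θ (m' + 1) = 0 := by
        unfold pseq; rw [hsin]; simp
      rw [hpz]; simp
    · -- n = 2 m + 1
      have hq : q1 = q2 := hodd ⟨m, rfl⟩
      subst hq
      obtain ⟨m', rfl⟩ : ∃ m', m = m' + 1 := ⟨m - 1, by omega⟩
      rw [altL_two_mul_add_one, altL_two_mul_add_one, hpowR, hpowR']
      have hb3 := braid3 a b d q1 had hdet
      rw [htr] at hb3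
      have hQq : Qr q1 q1 = q1 := by
        unfold Qr; exact Real.sqrt_mul_self hq1.le
      -- the coefficient vanishes
      have hcoef : pseq q1 q1 θ (m' + 1 + 1) + q1 * pseq q1 q1 θ (m' + 1) = 0 := by
        have hα : Real.sin ((j : ℝ) * Real.pi) = 0 := Real.sin_nat_mul_pi j
        have e1 : ((m' + 1 + 1 : ℕ) : ℝ) * θ = (j : ℝ) * Real.pi + θ / 2 := by
          have : ((2 * (m' + 1) + 1 : ℕ) : ℝ) * θ = 2 * Real.pi * j := hnθ
          push_cast at this ⊢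
          linarith
        have e2 : ((m' + 1 : ℕ) : ℝ) * θ = (j : ℝ) * Real.pi - θ / 2 := by
          have : ((2 * (m' + 1) + 1 : ℕ) : ℝ) * θ = 2 * Real.pi * j := hnθ
          push_cast at this ⊢
          linarith
        unfold pseq
        rw [e1, e2, Real.sin_add, Real.sin_sub, hα, hQq]
        have hq1' : q1 ≠ 0 := hq1.ne'
        have hs' : Real.sin θ ≠ 0 := hs.ne'
        field_simp
        ring
      have hrec' := hprec m'
      rw [hQq] at hb3 hrec'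
      have key : A1 q1 * (pseq q1 q1 θ (m' + 1) • (A2 a b d * A1 q1) -
            (q1 * q1 * pseq q1 q1 θ m') • (1 : Matrix (Fin 2) (Fin 2) ℝ)) -
          A2 a b d * (pseq q1 q1 θ (m' + 1) • (A1 q1 * A2 a b d) -
            (q1 * q1 * pseq q1 q1 θ m') • (1 : Matrix (Fin 2) (Fin 2) ℝ)) =
          (pseq q1 q1 θ (m' + 1 + 1) + q1 * pseq q1 q1 θ (m' + 1)) • (A1 q1 - A2 a b d) := by
        rw [mul_sub, mul_sub, mul_smul_comm, mul_smul_comm, mul_smul_comm, mul_smul_comm, mul_one,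
          mul_one]
        have e3 : A1 q1 * (A2 a b d * A1 q1) =
            A2 a b d * (A1 q1 * A2 a b d) + (2 * q1 * Real.cos θ + q1) • (A1 q1 - A2 a b d) := by
          rw [← hb3]; abel
        rw [e3, hrec']
        module
      rw [hcoef, zero_smul] at key
      exact sub_eq_zero.mp key
  · -- commutant
    intro Z h1 h2
    have h01 := congrFun (congrFun h1 0) 1
    have h10 := congrFun (congrFun h1 1) 0
    have g01 := congrFun (congrFun h2 0) 1
    simp [A1, Matrix.mul_apply, Fin.sum_univ_two] at h01 h10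
    simp [A2, Matrix.mul_apply, Fin.sum_univ_two] at g01
    have z01 : Z 0 1 = 0 := by
      have : (q1 + 1) * Z 0 1 = 0 := by linarith
      rcases mul_eq_zero.mp this with h | h
      · linarith
      · exact h
    have z10 : Z 1 0 = 0 := by
      have : (q1 + 1) * Z 1 0 = 0 := by linarith
      rcases mul_eq_zero.mp this with h | h
      · linarith
      · exact h
    have z00 : Z 0 0 = Z 1 1 := by
      rw [z01] at g01
      have : b * (Z 0 0 - Z 1 1) = 0 := by linarith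
      rcases mul_eq_zero.mp this with h | h
      · exact absurd h hb0
      · linarith
    refine ⟨Z 0 0, ?_⟩
    ext i k
    fin_cases i <;> fin_cases k <;> simp [z01, z10, z00]

end Cfsg.Agent.Lib.Helper22.FH
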