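import Mathlib

/-!
# Groups all of whose proper subgroups have a normal Sylow `p`-subgroup

The group-theoretic part of the Feit–Thompson reduction: structure of a finite group with abelian
Sylow `p`-subgroups which is not `p`-closed while all its proper subgroups are.
-/

set_option autoImplicit false
set_option linter.unusedSectionVars false
set_option linter.style.haveILetI false

namespace Cfsg.Agent.Lib.Helper22

open scoped Pointwise

universe u
variable {G : Type u} [Group G]

/-- `x` is a `p`-element: some `p`-power of it is `1`. -/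
def IsPElt (p : ℕ) (x : G) : Prop := ∃ k : ℕ, x ^ p ^ k = 1

theorem isPElt_one (p : ℕ) : IsPElt p (1 : G) := ⟨0, by simp⟩

theorem IsPElt.inv {p : ℕ} {x : G} (h : IsPElt p x) : IsPElt p x⁻¹ := by
  obtain ⟨k, hk⟩ := h
  exact ⟨k, by rw [inv_pow, hk, inv_one]⟩

theorem IsPElt.conj {p : ℕ} {x : G} (h : IsPElt p x) (g : G) : IsPElt p (g * x * g⁻¹) := by
  obtain ⟨k, hk⟩ := h
  exact ⟨k, by rw [conj_pow, hk, mul_one, mul_inv_cancel]⟩

theorem isPElt_of_mem {p : ℕ} {P : Subgroup G} (hP : IsPGroup p P) {x : G} (hx : x ∈ P) :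
    IsPElt p x := by
  obtain ⟨k, hk⟩ := hP ⟨x, hx⟩
  refine ⟨k, ?_⟩
  have := congrArg Subtype.val hk
  simpa using this

/-- The `p`-elements of the subgroup `L` are closed under products (so they form the unique Sylow
`p`-subgroup of `L`). -/
def PClosedIn (p : ℕ) (L : Subgroup G) : Prop :=
  ∀ x ∈ L, ∀ y ∈ L, IsPElt p x → IsPElt p y → IsPElt p (x * y)

/-- The subgroup of `p`-elements of a `p`-closed subgroup. -/
def pElts (p : ℕ) (L : Subgroup G) (h : PClosedIn p L) : Subgroup G where
  carrier := {x | x ∈ L ∧ IsPElt p x}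
  mul_mem' := fun ⟨ha, ha'⟩ ⟨hb, hb'⟩ => ⟨mul_mem ha hb, h _ ha _ hb ha' hb'⟩
  one_mem' := ⟨one_mem _, isPElt_one p⟩
  inv_mem' := fun ⟨ha, ha'⟩ => ⟨inv_mem ha, ha'.inv⟩

theorem mem_pElts {p : ℕ} {L : Subgroup G} (h : PClosedIn p L) {x : G} :
    x ∈ pElts p L h ↔ x ∈ L ∧ IsPElt p x := Iff.rfl

theorem isPGroup_pElts {p : ℕ} {L : Subgroup G} (h : PClosedIn p L) :
    IsPGroup p (pElts p L h) := by
  rintro ⟨x, hx⟩
  obtain ⟨k, hk⟩ := hx.2
  exact ⟨k, Subtype.ext (by simpa using hk)⟩

/-- In a `p`-closed subgroup `L` containing the Sylow `p`-subgroup `P` of `G`, all `p`-elements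
lie in `P`. -/
theorem PClosedIn.mem_sylow {p : ℕ} {L : Subgroup G} (h : PClosedIn p L) (P : Sylow p G)
    (hPL : (P : Subgroup G) ≤ L) {x : G} (hx : x ∈ L) (hxp : IsPElt p x) :
    x ∈ (P : Subgroup G) := by
  have h1 : (P : Subgroup G) ≤ pElts p L h := fun y hy => ⟨hPL hy, isPElt_of_mem P.isPGroup' hy⟩
  have h2 := P.is_maximal' (isPGroup_pElts h) h1
  rw [← h2]
  exact ⟨hx, hxp⟩

section Finite

variable [Finite G] {p : ℕ} [Fact p.Prime]

theorem exists_sylow_mem {x : G} (hx : IsPElt p x) : ∃ Q : Sylow p G, x ∈ (Q : Subgroup G) := by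
  have h1 : IsPGroup p (Subgroup.zpowers x) := by
    obtain ⟨k, hk⟩ := hx
    rintro ⟨y, hy⟩
    obtain ⟨j, rfl⟩ := Subgroup.mem_zpowers_iff.1 hy
    refine ⟨k, Subtype.ext ?_⟩
    simp only [SubmonoidClass.mk_pow, Subgroup.coe_one]
    rw [← zpow_natCast, ← zpow_mul, mul_comm, zpow_mul, zpow_natCast, hk, one_zpow]
  obtain ⟨Q, hQ⟩ := h1.exists_le_sylow
  exact ⟨Q, hQ (Subgroup.mem_zpowers x)⟩

/-- A normal Sylow subgroup contains all `p`-elements, so the group is `p`-closed. -/
theorem pClosedIn_top_of_normal (P : Sylow p G) (hP : (P : Subgroup G).Normal) :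
    PClosedIn p (⊤ : Subgroup G) := by
  have hall : ∀ x : G, IsPElt p x → x ∈ (P : Subgroup G) := by
    intro x hx
    obtain ⟨Q, hQ⟩ := exists_sylow_mem hx
    obtain ⟨g, hg⟩ := MulAction.exists_smul_eq G P Q
    have h1 : (Q : Subgroup G) = (P : Subgroup G) := by
      rw [← hg, Sylow.smul_def, Sylow.pointwise_smul_def]
      exact Subgroup.Normal.conj_smul_eq_self g (P : Subgroup G)
    rw [← h1]
    exact hQ
  intro x _ y _ hx hy
  exact isPElt_of_mem P.isPGroup' (mul_mem (hall x hx) (hall y hy))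

/-- In a `p`-closed group every Sylow `p`-subgroup is normal. -/
theorem normal_of_pClosedIn_top (h : PClosedIn p (⊤ : Subgroup G)) (P : Sylow p G) :
    (P : Subgroup G).Normal := by
  haveI : Subsingleton (Sylow p G) := by
    constructor
    intro Q R
    apply Sylow.ext
    apply le_antisymm
    · intro x hx
      exact h.mem_sylow R le_top (Subgroup.mem_top x) (isPElt_of_mem Q.isPGroup' hx)
    · intro x hx
      exact h.mem_sylow Q le_top (Subgroup.mem_top x) (isPElt_of_mem R.isPGroup' hx)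
  exact Sylow.normal_of_subsingleton P

/-- A finite group with abelian Sylow `p`-subgroups which is not `p`-closed although all its
proper subgroups are. -/
structure MinNonPClosed (p : ℕ) (G : Type u) [Group G] : Prop where
  proper : ∀ L : Subgroup G, L ≠ ⊤ → PClosedIn p L
  not_closed : ¬ PClosedIn p (⊤ : Subgroup G)
  abelian : ∀ P : Sylow p G, ∀ x ∈ (P : Subgroup G), ∀ y ∈ (P : Subgroup G), x * y = y * x

namespace MinNonPClosed

variable (hG : MinNonPClosed p G)
include hG

/-- Two distinct Sylow `p`-subgroups intersect in the centre. -/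
theorem mem_center_of_mem_inf {P Q : Sylow p G} (hPQ : P ≠ Q) {d : G}
    (hdP : d ∈ (P : Subgroup G)) (hdQ : d ∈ (Q : Subgroup G)) : d ∈ Subgroup.center G := by
  by_contra hd
  have hC : Subgroup.centralizer ({d} : Set G) ≠ ⊤ := by
    intro h
    apply hd
    rw [Subgroup.mem_center_iff]
    intro g
    have hg : g ∈ Subgroup.centralizer ({d} : Set G) := by rw [h]; exact Subgroup.mem_top g
    exact (Subgroup.mem_centralizer_iff.1 hg d rfl).symm
  have hcl := hG.proper _ hC
  have hP : (P : Subgroup G) ≤ Subgroup.centralizer ({d} : Set G) := by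
    intro y hy
    rw [Subgroup.mem_centralizer_iff]
    intro h hh
    rw [Set.mem_singleton_iff] at hh
    rw [hh]
    exact hG.abelian P d hdP y hy
  have hQ : (Q : Subgroup G) ≤ Subgroup.centralizer ({d} : Set G) := by
    intro y hy
    rw [Subgroup.mem_centralizer_iff]
    intro h hh
    rw [Set.mem_singleton_iff] at hh
    rw [hh]
    exact hG.abelian Q d hdQ y hy
  apply hPQ
  apply Sylow.ext
  apply le_antisymm
  · intro x hx
    exact hcl.mem_sylow Q hQ (hP hx) (isPElt_of_mem P.isPGroup' hx)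
  · intro x hx
    exact hcl.mem_sylow P hP (hQ hx) (isPElt_of_mem Q.isPGroup' hx)

/-- There is more than one Sylow `p`-subgroup. -/
theorem exists_ne (P : Sylow p G) : ∃ Q : Sylow p G, Q ≠ P := by
  by_contra hne
  push Not at hne
  apply hG.not_closed
  intro x _ y _ hx hy
  obtain ⟨Q, hQ⟩ := exists_sylow_mem hx
  obtain ⟨R, hR⟩ := exists_sylow_mem hy
  rw [hne Q] at hQ
  rw [hne R] at hR
  exact isPElt_of_mem P.isPGroup' (mul_mem hQ hR)

/-- No proper normal subgroup contains a Sylow `p`-subgroup. -/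
theorem eq_top_of_normal_of_le (P : Sylow p G) (N : Subgroup G) (hN : N.Normal)
    (hPN : (P : Subgroup G) ≤ N) : N = ⊤ := by
  by_contra hne
  have hcl := hG.proper N hne
  have hall : ∀ x : G, IsPElt p x → x ∈ N := by
    intro x hx
    obtain ⟨Q, hQ⟩ := exists_sylow_mem hx
    obtain ⟨g, hg⟩ := MulAction.exists_smul_eq G P Q
    rw [← hg, Sylow.smul_def, Sylow.pointwise_smul_def] at hQ
    obtain ⟨u, hu, rfl⟩ := hQ
    exact hN.conj_mem u (hPN hu) g
  apply hG.not_closed
  intro x _ y _ hx hy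
  exact hcl x (hall x hx) y (hall y hy) hx hy

/-- If the Sylow `p`-subgroup `P` meets the centre trivially, the centralizer of a non-central
element meets at most one conjugate of `P` non-trivially. -/
theorem map_conj_eq_of_centralizer_inf_ne_bot (P : Sylow p G)
    (hZ : (P : Subgroup G) ⊓ Subgroup.center G = ⊥) (g : G) (hg : g ∉ Subgroup.center G)
    (a b : G)
    (ha : Subgroup.centralizer ({g} : Set G) ⊓
      (P : Subgroup G).map (MulAut.conj a).toMonoidHom ≠ ⊥)
    (hb : Subgroup.centralizer ({g} : Set G) ⊓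
      (P : Subgroup G).map (MulAut.conj b).toMonoidHom ≠ ⊥) :
    (P : Subgroup G).map (MulAut.conj a).toMonoidHom
      = (P : Subgroup G).map (MulAut.conj b).toMonoidHom := by
  have hC : Subgroup.centralizer ({g} : Set G) ≠ ⊤ := by
    intro h
    apply hg
    rw [Subgroup.mem_center_iff]
    intro x
    have hx : x ∈ Subgroup.centralizer ({g} : Set G) := by rw [h]; exact Subgroup.mem_top x
    exact (Subgroup.mem_centralizer_iff.1 hx g rfl).symm
  have hcl := hG.proper _ hC
  obtain ⟨R, hR⟩ := (isPGroup_pElts hcl).exists_le_sylow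
  have key : ∀ c : G, Subgroup.centralizer ({g} : Set G) ⊓
      (P : Subgroup G).map (MulAut.conj c).toMonoidHom ≠ ⊥ →
      (P : Subgroup G).map (MulAut.conj c).toMonoidHom = (R : Subgroup G) := by
    intro c hc
    obtain ⟨⟨u, hu⟩, hu1⟩ := (Subgroup.ne_bot_iff_exists_ne_one).1 hc
    have hu1' : u ≠ 1 := fun h => hu1 (Subtype.ext h)
    have huC : u ∈ Subgroup.centralizer ({g} : Set G) := hu.1
    have huQ : u ∈ ((c • P : Sylow p G) : Subgroup G) := by
      rw [Sylow.smul_def, Sylow.pointwise_smul_def]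
      exact hu.2
    have hup : IsPElt p u := isPElt_of_mem (c • P : Sylow p G).isPGroup' huQ
    have huR : u ∈ (R : Subgroup G) := hR ⟨huC, hup⟩
    have hQR : (c • P : Sylow p G) = R := by
      by_contra hne
      have hcen := hG.mem_center_of_mem_inf hne huQ huR
      obtain ⟨v, hv, hvu⟩ := hu.2
      have hvu' : c * v * c⁻¹ = u := hvu
      have hv' : v = u := by
        have h1 : v = c⁻¹ * u * c := by rw [← hvu']; group
        rw [h1, (Subgroup.mem_center_iff.1 hcen c⁻¹), mul_assoc, inv_mul_cancel, mul_one]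
      have : u ∈ (P : Subgroup G) ⊓ Subgroup.center G := ⟨hv' ▸ hv, hcen⟩
      rw [hZ, Subgroup.mem_bot] at this
      exact hu1' this
    rw [← hQR, Sylow.smul_def, Sylow.pointwise_smul_def]
    rfl
  rw [key a ha, key b hb]

/-- If a Sylow `p`-subgroup meets the centre non-trivially then the group has a normal
`p`-complement. -/
theorem exists_normal_pComplement (P : Sylow p G)
    (hZ : (P : Subgroup G) ⊓ Subgroup.center G ≠ ⊥) :
    ∃ M : Subgroup G, M.Normal ∧ ¬ p ∣ Nat.card M ∧ ∃ a : ℕ, M.index = p ^ a := by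
  classical
  have hp : p.Prime := Fact.out
  letI : CommGroup ↥(P : Subgroup G) :=
    { (inferInstance : Group ↥(P : Subgroup G)) with
      mul_comm := fun x y => Subtype.ext (hG.abelian P x x.2 y y.2) }
  set V : G →* ↥(P : Subgroup G) := MonoidHom.transfer (MonoidHom.id ↥(P : Subgroup G)) with hV
  -- the transfer is injective on `P ∩ Z(G)`
  have hinj : ∀ z ∈ (P : Subgroup G) ⊓ Subgroup.center G, z ∈ V.ker → z = 1 := by
    intro z hz hker
    have key : ∀ (k : ℕ) (g₀ : G), g₀⁻¹ * z ^ k * g₀ ∈ (P : Subgroup G) →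
        g₀⁻¹ * z ^ k * g₀ = z ^ k := by
      intro k g₀ _
      have hc : z ^ k ∈ Subgroup.center G := pow_mem hz.2 k
      rw [mul_assoc, ← (Subgroup.mem_center_iff.1 hc g₀), ← mul_assoc, inv_mul_cancel, one_mul]
    have h1 := MonoidHom.transfer_eq_pow (MonoidHom.id ↥(P : Subgroup G)) z key
    rw [MonoidHom.mem_ker] at hker
    rw [← hV, hker] at h1
    have h2 : z ^ (P : Subgroup G).index = 1 := by
      have := congrArg Subtype.val h1
      simpa using this.symm
    obtain ⟨k, hk⟩ := isPElt_of_mem P.isPGroup' hz.1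
    have hcop : Nat.Coprime (p ^ k) (P : Subgroup G).index :=
      Nat.Coprime.pow_left k ((Nat.Prime.coprime_iff_not_dvd hp).2 P.not_dvd_index)
    have h3 : orderOf z ∣ Nat.gcd (p ^ k) (P : Subgroup G).index :=
      Nat.dvd_gcd (orderOf_dvd_of_pow_eq_one hk) (orderOf_dvd_of_pow_eq_one h2)
    rw [hcop.gcd_eq_one, Nat.dvd_one, orderOf_eq_one_iff] at h3
    exact h3
  have hMne : V.ker ≠ ⊤ := by
    intro htop
    apply hZ
    rw [eq_bot_iff]
    intro z hz
    rw [Subgroup.mem_bot]
    exact hinj z hz (by rw [htop]; exact Subgroup.mem_top z)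
  have hcl := hG.proper _ hMne
  -- the `p`-elements of the kernel form a normal `p`-subgroup, hence lie in all Sylow subgroups
  have hall : ∀ x ∈ V.ker, IsPElt p x → x = 1 := by
    intro x hx hxp
    have hxR : ∀ R : Sylow p G, x ∈ (R : Subgroup G) := by
      intro R
      obtain ⟨R₀, hR₀⟩ := (isPGroup_pElts hcl).exists_le_sylow
      obtain ⟨g, hg⟩ := MulAction.exists_smul_eq G R₀ R
      have h1 : g⁻¹ * x * g ∈ pElts p V.ker hcl := by
        refine ⟨?_, ?_⟩
        · have := (inferInstance : V.ker.Normal).conj_mem x hx g⁻¹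
          rwa [inv_inv] at this
        · have := hxp.conj g⁻¹
          rwa [inv_inv] at this
      have h2 : g⁻¹ * x * g ∈ (R₀ : Subgroup G) := hR₀ h1
      rw [← hg, Sylow.smul_def, Sylow.pointwise_smul_def]
      refine ⟨g⁻¹ * x * g, h2, ?_⟩
      change g * (g⁻¹ * x * g) * g⁻¹ = x
      group
    obtain ⟨Q, hQ⟩ := hG.exists_ne P
    have hcen := hG.mem_center_of_mem_inf hQ (hxR Q) (hxR P)
    exact hinj x ⟨hxR P, hcen⟩ hx
  refine ⟨V.ker, inferInstance, ?_, ?_⟩
  · intro hdvd
    haveI : Fintype ↥V.ker := Fintype.ofFinite _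
    rw [Nat.card_eq_fintype_card] at hdvd
    obtain ⟨x, hx⟩ := exists_prime_orderOf_dvd_card p hdvd
    have hx1 : (x : G) = 1 := by
      apply hall x x.2
      refine ⟨1, ?_⟩
      have h5 : x ^ p = 1 := by
        have h6 := pow_orderOf_eq_one x
        rwa [hx] at h6
      rw [pow_one, ← Subgroup.coe_pow, h5, Subgroup.coe_one]
    have : x = 1 := Subtype.ext hx1
    rw [this, orderOf_one] at hx
    exact hp.one_lt.ne hx
  · rw [Subgroup.index_ker]
    obtain ⟨n, hn⟩ := IsPGroup.exists_card_eq P.isPGroup'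
    have h1 : Nat.card ↥V.range ∣ Nat.card ↥(P : Subgroup G) := Subgroup.card_subgroup_dvd_card _
    rw [hn] at h1
    obtain ⟨a, -, ha⟩ := (Nat.dvd_prime_pow hp).1 h1
    exact ⟨a, ha⟩

end MinNonPClosed

end Finite

end Cfsg.Agent.Lib.Helper22
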