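import Mathlib
import Cfsg.Prelude.Def_Blocks
import Cfsg.Prelude.Def_Local
import Cfsg.Agent.S0898
import Cfsg.Agent.Lib.Helper79.ItoE
import Cfsg.Agent.Lib.Helper79.TIPSolvC
import Cfsg.Agent.Lib.Helper21.LinearChar
import Cfsg.Agent.Lib.Helper12.PSolvExt
import Cfsg.Agent.Lib.Helper22.MinNonPClosed

/-!
# The Feit–Thompson reduction for linear groups of small degree

A finite group with a faithful character of degree `n`, `n + 1 < p`, has a normal Sylow
`p`-subgroup as soon as `(n + 1) ^ 2 ≤ p` or all its subgroups of order not divisible by `p ^ 2`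
have one.
-/

set_option autoImplicit false
set_option linter.unusedSectionVars false
set_option linter.style.haveILetI false

namespace Cfsg.Agent.Lib.Helper22

open Cfsg

universe u

theorem isPSolvable_of_subsingleton (p : ℕ) (X : Type*) [Group X] [Subsingleton X] :
    IsPSolvable p X :=
  ⟨0, fun _ => ⊥, rfl, Subsingleton.elim _ _, fun _ _ _ => le_rfl, fun _ => inferInstance,
    fun i => i.elim0⟩

variable {G : Type u} [Group G] [Finite G] {p : ℕ} [Fact p.Prime]

theorem isPSolvable_of_normal_pComplement (M : Subgroup G) [M.Normal] (hM : ¬ p ∣ Nat.card M)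
    (a : ℕ) (ha : M.index = p ^ a) : IsPSolvable p G := by
  have hp : p.Prime := Fact.out
  apply Cfsg.Agent.Lib.Helper12.PSolvExt.isPSolvable_of_normal_chain M ⊤ le_top
    ((Nat.Prime.coprime_iff_not_dvd hp).2 hM).symm
    ⟨a, by rw [Subgroup.relIndex_top_right]; exact ha⟩
  haveI : Subsingleton (G ⧸ (⊤ : Subgroup G)) := QuotientGroup.subsingleton_quotient_top
  exact isPSolvable_of_subsingleton p _

/-- The inductive step: a group all of whose proper subgroups are `p`-closed, with a faithful
character of small degree, is `p`-closed. -/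
theorem pClosedIn_top_of_proper (hprop : ∀ L : Subgroup G, L ≠ ⊤ → PClosedIn p L)
    {χ : G → ℂ} (hχ : IsCharacter G χ) (hf : ∀ g : G, χ g = χ 1 → g = 1) (n : ℕ)
    (hn : charDegree χ = n) (hnp : n + 1 < p)
    (hAB : (n + 1) ^ 2 ≤ p ∨ (¬ p ^ 2 ∣ Nat.card G → PClosedIn p (⊤ : Subgroup G))) :
    PClosedIn p (⊤ : Subgroup G) := by
  classical
  have hp : p.Prime := Fact.out
  by_contra hnc
  have hab : ∀ P : Sylow p G, ∀ x ∈ (P : Subgroup G), ∀ y ∈ (P : Subgroup G), x * y = y * x :=
    fun P => Cfsg.Agent.Lib.Helper79.ITO.abelian_of_small_degree (P : Subgroup G) P.isPGroup'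
      hχ hf (by omega)
  have hG : MinNonPClosed p G := ⟨hprop, hnc, hab⟩
  obtain ⟨P⟩ : Nonempty (Sylow p G) := inferInstance
  have hnn : ¬ (P : Subgroup G).Normal := fun h => hnc (pClosedIn_top_of_normal P h)
  by_cases hZ : (P : Subgroup G) ⊓ Subgroup.center G = ⊥
  · -- the Feit–Thompson inequality
    haveI : Fintype G := Fintype.ofFinite G
    haveI : Fintype ↥(P : Subgroup G) := Fintype.ofFinite _
    -- a non-trivial commutator
    have hnab : ∃ a b : G, a * b ≠ b * a := by
      by_contra hcomm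
      push Not at hcomm
      apply hnn
      constructor
      intro x hx g
      rw [hcomm g x, mul_assoc, mul_inv_cancel, mul_one]
      exact hx
    obtain ⟨a, b, hab'⟩ := hnab
    have hc1 : a * b * a⁻¹ * b⁻¹ ≠ 1 := by
      intro h
      apply hab'
      have : a * b = (a * b * a⁻¹ * b⁻¹) * (b * a) := by group
      rw [this, h, one_mul]
    have hχc : χ (a * b * a⁻¹ * b⁻¹) ≠ χ 1 := fun h => hc1 (hf _ h)
    obtain ⟨ψ, hψne, hψc⟩ := Cfsg.Agent.Lib.Helper79.TIPS.exists_constituent_ne hχ hχc
    have hψchar : IsCharacter G (ψ : G → ℂ) := Cfsg.Agent.Lib.Helper83.IrrCharacter_isCharacter ψ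
    have hψ1 : (ψ : G → ℂ) 1 ≠ 1 := by
      intro h1
      apply hψc
      have hm := Cfsg.Agent.Lib.Helper21.linear_char_mul hψchar h1
      have hinv : ∀ x : G, (ψ : G → ℂ) x * (ψ : G → ℂ) x⁻¹ = 1 := by
        intro x
        rw [← hm, mul_inv_cancel, h1]
      rw [hm, hm, hm, h1]
      calc (ψ : G → ℂ) a * (ψ : G → ℂ) b * (ψ : G → ℂ) a⁻¹ * (ψ : G → ℂ) b⁻¹
          = ((ψ : G → ℂ) a * (ψ : G → ℂ) a⁻¹) * ((ψ : G → ℂ) b * (ψ : G → ℂ) b⁻¹) := by ring
        _ = 1 := by rw [hinv, hinv, one_mul]
    have hdle : charDegree (ψ : G → ℂ) ≤ n := by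
      rw [← hn]
      exact Cfsg.Agent.Lib.Helper79.TIPS.charDegree_le_of_constituent hχ ψ.2 hψne
    have hFT := Cfsg.Agent.S0898.part2 (P : Subgroup G) (hab P) hZ
      (fun g hg a b ha hb => hG.map_conj_eq_of_centralizer_inf_ne_bot P hZ g hg a b ha hb)
      ψ hψ1 (fun M hM hPM => hG.eq_top_of_normal_of_le P M hM hPM)
    have hre : ((ψ : G → ℂ) 1).re = (charDegree (ψ : G → ℂ) : ℝ) := by
      rw [← Cfsg.Agent.Lib.Helper83.charDegree_cast hψchar]
      simp
    rw [hre] at hFT
    have hlt : Nat.card ↥(P : Subgroup G) < (n + 1) ^ 2 := by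
      have h1 : (Nat.card ↥(P : Subgroup G) : ℝ) < ((n : ℝ) + 1) ^ 2 := by
        have h2 : (1 + (charDegree (ψ : G → ℂ) : ℝ)) ^ 2 ≤ ((n : ℝ) + 1) ^ 2 := by
          have h3 : (charDegree (ψ : G → ℂ) : ℝ) ≤ (n : ℝ) := by exact_mod_cast hdle
          have h4 : (0 : ℝ) ≤ (charDegree (ψ : G → ℂ) : ℝ) := by positivity
          nlinarith
        linarith
      exact_mod_cast h1
    -- the order of `P`
    have hcard : Nat.card ↥(P : Subgroup G) = p ^ (Nat.card G).factorization p :=
      Sylow.card_eq_multiplicity P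
    have hk1 : 1 ≤ (Nat.card G).factorization p := by
      by_contra h0
      have h0' : (Nat.card G).factorization p = 0 := by omega
      rw [h0', pow_zero] at hcard
      obtain ⟨Q, hQ⟩ := hG.exists_ne P
      apply hQ
      have hQc : Nat.card ↥(Q : Subgroup G) = 1 := by
        rw [Sylow.card_eq_multiplicity Q, h0', pow_zero]
      apply Sylow.ext
      rw [(Subgroup.card_eq_one).1 hQc, (Subgroup.card_eq_one).1 hcard]
    rcases hAB with hA | hB
    · have h1 : p ≤ Nat.card ↥(P : Subgroup G) := by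
        rw [hcard]
        calc p = p ^ 1 := (pow_one p).symm
          _ ≤ p ^ (Nat.card G).factorization p := Nat.pow_le_pow_right hp.pos hk1
      omega
    · apply hnc
      apply hB
      intro hdvd
      have h2 : 2 ≤ (Nat.card G).factorization p :=
        (hp.pow_dvd_iff_le_factorization Nat.card_pos.ne').1 hdvd
      have h3 : p ^ 2 ≤ Nat.card ↥(P : Subgroup G) := by
        rw [hcard]
        exact Nat.pow_le_pow_right hp.pos h2
      have h4 : (n + 1) ^ 2 < p ^ 2 := Nat.pow_lt_pow_left hnp (by norm_num)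
      omega
  · -- a normal `p`-complement: Itô's theorem
    obtain ⟨M, hMn, hMp, a, ha⟩ := hG.exists_normal_pComplement P hZ
    haveI := hMn
    have hsolv : IsPSolvable p G := isPSolvable_of_normal_pComplement M hMp a ha
    have h := Cfsg.Agent.Lib.Helper79.ITO.ito_main p hsolv hχ hf (by omega) P hnn
    omega

omit [Finite G] [Fact p.Prime] in
theorem isPElt_subtype_iff (L : Subgroup G) (x : L) : IsPElt p x ↔ IsPElt p (x : G) := by
  constructor
  · rintro ⟨k, hk⟩
    refine ⟨k, ?_⟩
    have := congrArg Subtype.val hk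
    simpa using this
  · rintro ⟨k, hk⟩
    exact ⟨k, Subtype.ext (by simpa using hk)⟩

omit [Finite G] [Fact p.Prime] in
/-- `p`-closedness of the group `↥L` is `p`-closedness of the subgroup `L`. -/
theorem pClosedIn_of_top_subtype (L : Subgroup G) (h : PClosedIn p (⊤ : Subgroup L)) :
    PClosedIn p L := by
  intro x hx y hy hxp hyp
  have h1 := h ⟨x, hx⟩ (Subgroup.mem_top _) ⟨y, hy⟩ (Subgroup.mem_top _)
    ((isPElt_subtype_iff L ⟨x, hx⟩).2 hxp) ((isPElt_subtype_iff L ⟨y, hy⟩).2 hyp)
  exact (isPElt_subtype_iff L (⟨x, hx⟩ * ⟨y, hy⟩)).1 h1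

omit [Finite G] [Fact p.Prime] in
theorem pClosedIn_of_map_subtype (L : Subgroup G) (K : Subgroup L)
    (h : PClosedIn p (K.map L.subtype)) : PClosedIn p K := by
  intro x hx y hy hxp hyp
  have h1 := h (x : G) ⟨x, hx, rfl⟩ (y : G) ⟨y, hy, rfl⟩ ((isPElt_subtype_iff L x).1 hxp)
    ((isPElt_subtype_iff L y).1 hyp)
  exact (isPElt_subtype_iff L (x * y)).2 h1

/-- **Feit–Thompson reduction.** -/
theorem pClosedIn_top_of_faithful_aux (p n : ℕ) [Fact p.Prime] (hnp : n + 1 < p) :
    ∀ (m : ℕ) (H : Type u) [Group H] [Finite H], Nat.card H = m →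
      ∀ (χ : H → ℂ), IsCharacter H χ → (∀ g : H, χ g = χ 1 → g = 1) → charDegree χ = n →
      ((n + 1) ^ 2 ≤ p ∨ ∀ K : Subgroup H, ¬ p ^ 2 ∣ Nat.card K → PClosedIn p K) →
      PClosedIn p (⊤ : Subgroup H) := by
  intro m
  induction m using Nat.strong_induction_on with
  | _ m ih =>
    intro H _ _ hm χ hχ hf hdeg hAB
    apply pClosedIn_top_of_proper (p := p) ?_ hχ hf n hdeg hnp ?_
    · intro L hL
      apply pClosedIn_of_top_subtype
      have hlt : Nat.card L < m := by
        rw [← hm, ← Subgroup.card_mul_index L]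
        have h1 : L.index ≠ 1 := fun h => hL (Subgroup.index_eq_one.1 h)
        have h0 : L.index ≠ 0 := Subgroup.index_ne_zero_of_finite
        have hc : 0 < Nat.card L := Nat.card_pos
        have h2 : 2 ≤ L.index := by omega
        nlinarith
      apply ih (Nat.card L) hlt L rfl (fun h : L => χ (h : H))
        (Cfsg.Agent.Lib.Helper05.isCharacter_restrict L hχ)
      · intro g hg
        have := hf (g : H) hg
        exact Subtype.ext this
      · exact hdeg
      · rcases hAB with hA | hB
        · exact Or.inl hA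
        · right
          intro K hK
          apply pClosedIn_of_map_subtype
          apply hB
          rw [Nat.card_congr (K.equivMapOfInjective L.subtype L.subtype_injective).symm.toEquiv]
          exact hK
    · rcases hAB with hA | hB
      · exact Or.inl hA
      · right
        intro h2
        apply hB ⊤
        rw [Subgroup.card_top]
        exact h2

/-- A finite group with a faithful character of degree `n` has a normal Sylow `p`-subgroup if
`(n + 1) ^ 2 ≤ p`, or if `n + 1 < p` and all subgroups of order not divisible by `p ^ 2` have a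
normal Sylow `p`-subgroup. -/
theorem sylow_normal_of_faithful_small_degree {H : Type u} [Group H] [Finite H] (p : ℕ)
    [Fact p.Prime] {χ : H → ℂ} (hχ : IsCharacter H χ) (hf : ∀ g : H, χ g = χ 1 → g = 1) (n : ℕ)
    (hn : charDegree χ = n)
    (h : (n + 1) ^ 2 ≤ p ∨ (n + 1 < p ∧ ∀ K : Subgroup H, ¬ p ^ 2 ∣ Nat.card K →
      ∀ Q : Sylow p K, (Q : Subgroup K).Normal)) (P : Sylow p H) : (P : Subgroup H).Normal := by
  have hp : p.Prime := Fact.out
  have hnp : n + 1 < p := by
    rcases h with hA | hB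
    · have h1 : 1 < p := hp.one_lt
      nlinarith
    · exact hB.1
  apply normal_of_pClosedIn_top
  apply pClosedIn_top_of_faithful_aux p n hnp (Nat.card H) H rfl χ hχ hf hn
  rcases h with hA | hB
  · exact Or.inl hA
  · right
    intro K hK
    apply pClosedIn_of_top_subtype
    obtain ⟨Q⟩ : Nonempty (Sylow p K) := inferInstance
    exact pClosedIn_top_of_normal Q (hB.2 K hK Q)

end Cfsg.Agent.Lib.Helper22
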