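import Mathlib
import Cfsg.Agent.Lib.Helper01.Coprime
import Cfsg.Agent.Lib.Helper75.S3Lift

/-!
# K-S5293-A (for helper88's S5293): adjusting an automorphism so that it fixes the commutators
`x⁻¹ h(x)`.
-/

set_option autoImplicit false

namespace Cfsg.Agent.Lib.Helper22.Foc

variable {X : Type*} [Group X]

/-- the elements of `A` fixing `Q` pointwise -/
def fixQ (Q : Subgroup X) (A : Subgroup (MulAut X)) : Subgroup (MulAut X) where
  carrier := {a | a ∈ A ∧ ∀ x ∈ Q, a x = x}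
  one_mem' := ⟨A.one_mem, fun _ _ => rfl⟩
  mul_mem' := by
    rintro a b ⟨ha, ha'⟩ ⟨hb, hb'⟩
    refine ⟨A.mul_mem ha hb, fun x hx => ?_⟩
    rw [MulAut.mul_apply, hb' x hx, ha' x hx]
  inv_mem' := by
    rintro a ⟨ha, ha'⟩
    refine ⟨A.inv_mem ha, fun x hx => ?_⟩
    have := ha' x hx
    rw [MulAut.inv_apply, MulEquiv.symm_apply_eq]
    exact this.symm

/-- the elements of `A` acting trivially on the left cosets of `Q` -/
def trivQ (Q : Subgroup X) (A : Subgroup (MulAut X)) : Subgroup (MulAut X) where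
  carrier := {a | a ∈ A ∧ ∀ x, x⁻¹ * a x ∈ Q}
  one_mem' := ⟨A.one_mem, fun x => by simp⟩
  mul_mem' := by
    rintro a b ⟨ha, ha'⟩ ⟨hb, hb'⟩
    refine ⟨A.mul_mem ha hb, fun x => ?_⟩
    rw [MulAut.mul_apply]
    have h1 := hb' x
    have h2 := ha' (b x)
    have : x⁻¹ * a (b x) = (x⁻¹ * b x) * ((b x)⁻¹ * a (b x)) := by group
    rw [this]
    exact Q.mul_mem h1 h2
  inv_mem' := by
    rintro a ⟨ha, ha'⟩
    refine ⟨A.inv_mem ha, fun x => ?_⟩
    have h1 := ha' (a⁻¹ x)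
    rw [MulAut.apply_inv_self] at h1
    have : x⁻¹ * a⁻¹ x = ((a⁻¹ x)⁻¹ * x)⁻¹ := by group
    rw [this]
    exact Q.inv_mem h1

variable {Q : Subgroup X} {A : Subgroup (MulAut X)}

theorem mem_fixQ {a : MulAut X} : a ∈ fixQ Q A ↔ a ∈ A ∧ ∀ x ∈ Q, a x = x := Iff.rfl
theorem mem_trivQ {a : MulAut X} : a ∈ trivQ Q A ↔ a ∈ A ∧ ∀ x, x⁻¹ * a x ∈ Q := Iff.rfl

/-- `A` normalizes `fixQ` -/
theorem conj_mem_fixQ (hAQ : ∀ a ∈ A, ∀ x ∈ Q, a x ∈ Q) {a r : MulAut X} (ha : a ∈ A)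
    (hr : r ∈ fixQ Q A) : a * r * a⁻¹ ∈ fixQ Q A := by
  refine ⟨A.mul_mem (A.mul_mem ha hr.1) (A.inv_mem ha), fun x hx => ?_⟩
  have h1 : a⁻¹ x ∈ Q := hAQ _ (A.inv_mem ha) x hx
  rw [MulAut.mul_apply, MulAut.mul_apply, hr.2 _ h1, MulAut.apply_inv_self]

/-- `A` normalizes `trivQ` -/
theorem conj_mem_trivQ (hAQ : ∀ a ∈ A, ∀ x ∈ Q, a x ∈ Q) {a t : MulAut X} (ha : a ∈ A)
    (ht : t ∈ trivQ Q A) : a * t * a⁻¹ ∈ trivQ Q A := by
  refine ⟨A.mul_mem (A.mul_mem ha ht.1) (A.inv_mem ha), fun x => ?_⟩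
  have h1 := ht.2 (a⁻¹ x)
  have h2 := hAQ a ha _ h1
  rw [map_mul, map_inv, MulAut.apply_inv_self] at h2
  rw [MulAut.mul_apply, MulAut.mul_apply]
  exact h2

/-- the stability group of the chain `1 ≤ Q ≤ X` inside `A` -/
def stabQ (Q : Subgroup X) (A : Subgroup (MulAut X)) : Subgroup (MulAut X) := fixQ Q A ⊓ trivQ Q A

theorem conj_mem_stabQ (hAQ : ∀ a ∈ A, ∀ x ∈ Q, a x ∈ Q) {a k : MulAut X} (ha : a ∈ A)
    (hk : k ∈ stabQ Q A) : a * k * a⁻¹ ∈ stabQ Q A :=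
  ⟨conj_mem_fixQ hAQ ha hk.1, conj_mem_trivQ hAQ ha hk.2⟩

theorem le_normalizer_stabQ (hAQ : ∀ a ∈ A, ∀ x ∈ Q, a x ∈ Q) :
    A ≤ Subgroup.normalizer (stabQ Q A : Set (MulAut X)) := by
  intro a ha
  rw [Subgroup.mem_normalizer_iff]
  intro k
  constructor
  · exact fun hk => conj_mem_stabQ hAQ ha hk
  · intro hk
    have := conj_mem_stabQ hAQ (A.inv_mem ha) hk
    have e : a⁻¹ * (a * k * a⁻¹) * a⁻¹⁻¹ = k := by group
    rwa [e] at this

/-- commutators of `trivQ` with `fixQ` lie in `stabQ` -/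
theorem comm_mem_stabQ (hAQ : ∀ a ∈ A, ∀ x ∈ Q, a x ∈ Q) {t r : MulAut X}
    (ht : t ∈ trivQ Q A) (hr : r ∈ fixQ Q A) : t * r * t⁻¹ * r⁻¹ ∈ stabQ Q A := by
  constructor
  · exact (fixQ Q A).mul_mem (conj_mem_fixQ hAQ ht.1 hr) ((fixQ Q A).inv_mem hr)
  · have h1 : r * t⁻¹ * r⁻¹ ∈ trivQ Q A := conj_mem_trivQ hAQ hr.1 ((trivQ Q A).inv_mem ht)
    have e : t * r * t⁻¹ * r⁻¹ = t * (r * t⁻¹ * r⁻¹) := by group
    rw [e]
    exact (trivQ Q A).mul_mem ht h1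

/-- powers of an element of the stability group -/
theorem stab_pow_apply {k : MulAut X} (hk : k ∈ stabQ Q A) (j : ℕ) (x : X) :
    (k ^ j) x = x * (x⁻¹ * k x) ^ j := by
  induction j with
  | zero => simp
  | succ j ih =>
    rw [pow_succ', MulAut.mul_apply, ih, map_mul, map_pow, hk.1.2 _ (hk.2.2 x), pow_succ',
      ← mul_assoc, mul_inv_cancel_left]

/-- the stability group is a `p`-group when `Q` is -/
theorem isPGroup_stabQ [Finite X] {p : ℕ} [Fact p.Prime] (hQ : IsPGroup p Q) :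
    IsPGroup p (stabQ Q A) := by
  obtain ⟨e, he⟩ := hQ.exists_card_eq
  rintro ⟨k, hk⟩
  refine ⟨e, ?_⟩
  apply Subtype.ext
  rw [Subgroup.coe_pow, Subgroup.coe_one]
  apply MulEquiv.ext
  intro x
  change (k ^ (p ^ e)) x = x
  rw [stab_pow_apply hk, ← he]
  have : (⟨x⁻¹ * k x, hk.2.2 x⟩ : Q) ^ Nat.card Q = 1 := pow_card_eq_one'
  have h2 := congrArg Subtype.val this
  rw [Subgroup.coe_pow, Subgroup.coe_one] at h2
  change (x⁻¹ * k x) ^ Nat.card Q = 1 at h2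
  rw [h2, mul_one]


open scoped Pointwise in
/-- Glauberman's lemma step: some element of the coset `stabQ * b` commutes with `h` -/
theorem exists_commuting [Finite X] {p : ℕ} [Fact p.Prime] (hQ : IsPGroup p Q)
    (hAQ : ∀ a ∈ A, ∀ x ∈ Q, a x ∈ Q) {h b : MulAut X} (hh : h ∈ fixQ Q A) (hb : b ∈ trivQ Q A)
    {n : ℕ} (hn : h ^ n = 1) (hnp : n.Coprime p) :
    ∃ k ∈ stabQ Q A, (k * b) * h = h * (k * b) := by
  have hKp : IsPGroup p (stabQ Q A) := isPGroup_stabQ hQ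
  obtain ⟨e, he⟩ := hKp.exists_card_eq
  have hHcard : Nat.card (Subgroup.zpowers h) = orderOf h := Nat.card_zpowers h
  have hord : (orderOf h).Coprime p :=
    Nat.Coprime.coprime_dvd_left (orderOf_dvd_of_pow_eq_one hn) hnp
  have hcop : (Nat.card (stabQ Q A)).Coprime (Nat.card (Subgroup.zpowers h)) := by
    rw [he, hHcard]
    exact Nat.Coprime.pow_left e hord.symm
  have hHle : Subgroup.zpowers h ≤ fixQ Q A := (Subgroup.zpowers_le).mpr hh
  have hAN : Subgroup.zpowers h ≤ Subgroup.normalizer (stabQ Q A : Set (MulAut X)) :=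
    (Subgroup.zpowers_le).mpr (le_normalizer_stabQ hAQ hh.1)
  have hsolv : Group.IsSolvable (stabQ Q A) := by
    haveI : Group.IsNilpotent (stabQ Q A) := hKp.isNilpotent
    exact IsNilpotent.to_isSolvable
  obtain ⟨n₀, hn₀, hconj⟩ := Cfsg.Agent.Lib.Helper01.exists_mul_inv_normalizes hAN hcop
    (Or.inl hsolv) b⁻¹ (by
      intro a ha
      rw [inv_inv]
      exact comm_mem_stabQ hAQ hb (hHle ha))
  rw [inv_inv] at hconj
  refine ⟨n₀, hn₀, ?_⟩
  set b' := n₀ * b with hb'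
  have hb't : b' ∈ trivQ Q A := (trivQ Q A).mul_mem hn₀.2 hb
  have h1 : b' * h * b'⁻¹ ∈ Subgroup.zpowers h := by
    have : MulAut.conj b' • h ∈ MulAut.conj b' • Subgroup.zpowers h :=
      Subgroup.smul_mem_pointwise_smul _ _ _ (Subgroup.mem_zpowers h)
    rw [hconj] at this
    simpa [MulAut.smul_def] using this
  have h2 : b' * h * b'⁻¹ * h⁻¹ ∈ Subgroup.zpowers h :=
    (Subgroup.zpowers h).mul_mem h1 ((Subgroup.zpowers h).inv_mem (Subgroup.mem_zpowers h))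
  have h3 : b' * h * b'⁻¹ * h⁻¹ ∈ stabQ Q A := comm_mem_stabQ hAQ hb't hh
  have hbot : stabQ Q A ⊓ Subgroup.zpowers h = ⊥ := Subgroup.inf_eq_bot_of_coprime hcop
  have h4 : b' * h * b'⁻¹ * h⁻¹ ∈ stabQ Q A ⊓ Subgroup.zpowers h := ⟨h3, h2⟩
  rw [hbot, Subgroup.mem_bot] at h4
  have : b' * h = (b' * h * b'⁻¹ * h⁻¹) * (h * b') := by group
  rw [this, h4, one_mul]


/-- powers of two automorphisms agreeing on the invariant subgroup `Q` agree on `Q` -/
theorem pow_agree_on_Q {b b' : MulAut X} (hbQ : ∀ x ∈ Q, b x ∈ Q)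
    (hagree : ∀ x ∈ Q, b' x = b x) (j : ℕ) :
    ∀ x ∈ Q, (b' ^ j) x = (b ^ j) x ∧ (b ^ j) x ∈ Q := by
  induction j with
  | zero => intro x hx; simpa using hx
  | succ j ih =>
    intro x hx
    obtain ⟨h1, h2⟩ := ih x hx
    rw [pow_succ', pow_succ', MulAut.mul_apply, MulAut.mul_apply, h1, hagree _ h2]
    exact ⟨rfl, hbQ _ h2⟩

theorem pow_pow_fix {c : MulAut X} (hc : ∀ x ∈ Q, c x = x) (t : ℕ) : ∀ x ∈ Q, (c ^ t) x = x := by
  induction t with
  | zero => intro x _; simp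
  | succ t ih =>
    intro x hx
    rw [pow_succ', MulAut.mul_apply, ih x hx, hc x hx]

/-- if `b ^ m` fixes `Q` pointwise, `b ^ j` on `Q` only depends on `j % m` -/
theorem pow_mod_on_Q {b : MulAut X} (hbQ : ∀ x ∈ Q, b x ∈ Q) {m : ℕ}
    (hm : ∀ x ∈ Q, (b ^ m) x = x) (j : ℕ) : ∀ x ∈ Q, (b ^ j) x = (b ^ (j % m)) x := by
  intro x hx
  have hQ' : (b ^ (j % m)) x ∈ Q := (pow_agree_on_Q hbQ (fun _ _ => rfl) (j % m) x hx).2
  conv_lhs => rw [← Nat.div_add_mod j m, pow_add, pow_mul, MulAut.mul_apply]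
  exact pow_pow_fix hm (j / m) _ hQ'

/-- the subgroup generated by the `y⁻¹ β(y)` -/
def commSub (β : MulAut X) : Subgroup X := Subgroup.closure {c | ∃ y : X, c = y⁻¹ * β y}

theorem commSub_le {β : MulAut X} (hβQ : ∀ x, x⁻¹ * β x ∈ Q) : commSub β ≤ Q := by
  unfold commSub
  rw [Subgroup.closure_le]
  rintro _ ⟨y, rfl⟩
  exact hβQ y

theorem commSub_normal (β : MulAut X) : (commSub β).Normal := by
  constructor
  intro n hn g
  unfold commSub at hn ⊢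
  induction hn using Subgroup.closure_induction with
  | mem c hc =>
    obtain ⟨y, rfl⟩ := hc
    have e : g * (y⁻¹ * β y) * g⁻¹ =
        ((y * g⁻¹)⁻¹ * β (y * g⁻¹)) * ((g⁻¹)⁻¹ * β (g⁻¹))⁻¹ := by
      rw [map_mul]; group
    rw [e]
    exact Subgroup.mul_mem _ (Subgroup.subset_closure ⟨_, rfl⟩)
      (Subgroup.inv_mem _ (Subgroup.subset_closure ⟨_, rfl⟩))
  | one => simp
  | mul a b _ _ iha ihb =>
    have e : g * (a * b) * g⁻¹ = (g * a * g⁻¹) * (g * b * g⁻¹) := by group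
    rw [e]; exact Subgroup.mul_mem _ iha ihb
  | inv a _ iha =>
    have e : g * a⁻¹ * g⁻¹ = (g * a * g⁻¹)⁻¹ := by group
    rw [e]; exact Subgroup.inv_mem _ iha

theorem commSub_map (β : MulAut X) {n : X} (hn : n ∈ commSub β) : β n ∈ commSub β := by
  unfold commSub at hn ⊢
  induction hn using Subgroup.closure_induction with
  | mem c hc =>
    obtain ⟨y, rfl⟩ := hc
    rw [map_mul, map_inv]
    exact Subgroup.subset_closure ⟨β y, rfl⟩
  | one => rw [map_one]; exact Subgroup.one_mem _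
  | mul a b _ _ iha ihb => rw [map_mul]; exact Subgroup.mul_mem _ iha ihb
  | inv a _ iha => rw [map_inv]; exact Subgroup.inv_mem _ iha

theorem commSub_pow_map (β : MulAut X) (j : ℕ) {n : X} (hn : n ∈ commSub β) :
    (β ^ j) n ∈ commSub β := by
  induction j with
  | zero => simpa using hn
  | succ j ih => rw [pow_succ', MulAut.mul_apply]; exact commSub_map β ih

theorem commSub_pow_mem (β : MulAut X) (j : ℕ) (x : X) : x⁻¹ * (β ^ j) x ∈ commSub β := by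
  induction j with
  | zero => simp
  | succ j ih =>
    rw [pow_succ', MulAut.mul_apply]
    have e : x⁻¹ * β ((β ^ j) x) = (x⁻¹ * (β ^ j) x) * (((β ^ j) x)⁻¹ * β ((β ^ j) x)) := by group
    rw [e]
    exact Subgroup.mul_mem _ ih (Subgroup.subset_closure ⟨_, rfl⟩)

/-- coprime action: `β` fixes all `x⁻¹ h(x)` -/
theorem fix_commutator [Finite X] {p : ℕ} [Fact p.Prime] (hX : IsPGroup p X) {β h : MulAut X}
    {m : ℕ} (hβm : β ^ m = 1) (hmp : m.Coprime p) (hβQ : ∀ x, x⁻¹ * β x ∈ Q)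
    (hhQ : ∀ x ∈ Q, h x = x) (hcomm : β * h = h * β) (x : X) :
    β (x⁻¹ * h x) = x⁻¹ * h x := by
  obtain ⟨e, he⟩ := hX.exists_card_eq
  have hord : (orderOf β).Coprime p :=
    Nat.Coprime.coprime_dvd_left (orderOf_dvd_of_pow_eq_one hβm) hmp
  have hcop : (Nat.card (Subgroup.zpowers β)).Coprime (Nat.card X) := by
    rw [Nat.card_zpowers, he]
    exact Nat.Coprime.pow_right e hord
  have hsolv : Group.IsSolvable X := by
    haveI : Group.IsNilpotent X := hX.isNilpotent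
    exact IsNilpotent.to_isSolvable
  haveI := commSub_normal β
  have hpow : ∀ a : Subgroup.zpowers β, ∃ j : ℕ, (a : MulAut X) = β ^ j := by
    intro a
    have := (mem_powers_iff_mem_zpowers (x := β) (y := (a : MulAut X))).mpr a.2
    obtain ⟨j, hj⟩ := this
    exact ⟨j, hj.symm⟩
  obtain ⟨c, hc, hcN⟩ := Cfsg.Agent.Lib.Helper75.S3Lift.exists_fixed_in_coset
    (A := Subgroup.zpowers β) (G := X) hcop hsolv (commSub β)
    (by
      intro a n hn
      obtain ⟨j, hj⟩ := hpow a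
      change (a : MulAut X) n ∈ commSub β
      rw [hj]
      exact commSub_pow_map β j hn)
    x
    (by
      intro a
      obtain ⟨j, hj⟩ := hpow a
      change x⁻¹ * (a : MulAut X) x ∈ commSub β
      rw [hj]
      exact commSub_pow_mem β j x)
  have hβc : β c = c := hc ⟨β, Subgroup.mem_zpowers β⟩
  -- `x = q * c` with `q ∈ commSub β`
  have hq : x * c⁻¹ ∈ commSub β := by
    have h1 : c * (x⁻¹ * c)⁻¹ * c⁻¹ ∈ commSub β :=
      (commSub_normal β).conj_mem _ (Subgroup.inv_mem _ hcN) c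
    have e : c * (x⁻¹ * c)⁻¹ * c⁻¹ = x * c⁻¹ := by group
    rwa [e] at h1
  have hhq : h (x * c⁻¹) = x * c⁻¹ := hhQ _ (commSub_le hβQ hq)
  have e1 : x⁻¹ * h x = c⁻¹ * h c := by
    have hx : x = (x * c⁻¹) * c := by group
    conv_lhs => rw [hx, map_mul, hhq]
    group
  rw [e1, map_mul, map_inv, hβc]
  have : β (h c) = h (β c) := by
    have := congrArg (fun f : MulAut X => f c) hcomm
    simpa [MulAut.mul_apply] using this
  rw [this, hβc]

end Cfsg.Agent.Lib.Helper22.Foc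

namespace Cfsg.Agent.Lib.Helper22

open Cfsg.Agent.Lib.Helper22.Foc

/-- K-S5293-A -/
theorem exists_aut_fix_commutator {X : Type*} [Group X] [Finite X] {p : ℕ} [Fact p.Prime] (hX : IsPGroup p X)
    (Q : Subgroup X) (A : Subgroup (MulAut X))
    (hAQ : ∀ a ∈ A, ∀ x ∈ Q, a x ∈ Q)
    {h b : MulAut X} (hh : h ∈ A) (hb : b ∈ A)
    (hhQ : ∀ x ∈ Q, h x = x) (hbQ : ∀ x : X, x⁻¹ * b x ∈ Q)
    {n m : ℕ} (hn : h ^ n = 1) (hnp : n.Coprime p) (hm : ∀ x ∈ Q, (b ^ m) x = x) (hmp : m.Coprime p) :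
    ∃ b' ∈ A, (∀ x ∈ Q, b' x = b x) ∧ ∀ x : X, b' (x⁻¹ * h x) = x⁻¹ * h x := by
  have hQp : IsPGroup p Q := hX.to_subgroup Q
  have hhf : h ∈ fixQ Q A := ⟨hh, hhQ⟩
  have hbt : b ∈ trivQ Q A := ⟨hb, hbQ⟩
  obtain ⟨k, hk, hcomm⟩ := exists_commuting hQp hAQ hhf hbt hn hnp
  set b₁ := k * b with hb₁
  have hb₁t : b₁ ∈ trivQ Q A := (trivQ Q A).mul_mem hk.2 hbt
  have hbQ' : ∀ x ∈ Q, b x ∈ Q := hAQ b hb
  have hagree : ∀ x ∈ Q, b₁ x = b x := by
    intro x hx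
    rw [hb₁, MulAut.mul_apply]
    exact hk.1.2 _ (hbQ' x hx)
  -- `b₁ ^ m` lies in the stability group
  have hb₁m : b₁ ^ m ∈ stabQ Q A := by
    refine ⟨⟨A.pow_mem hb₁t.1 m, fun x hx => ?_⟩, (trivQ Q A).pow_mem hb₁t m⟩
    rw [(pow_agree_on_Q hbQ' hagree m x hx).1]
    exact hm x hx
  obtain ⟨e, he⟩ := (isPGroup_stabQ (A := A) hQp) ⟨b₁ ^ m, hb₁m⟩
  have he' : (b₁ ^ m) ^ (p ^ e) = 1 := by
    have := congrArg Subtype.val he
    simpa using this
  have hcop : m.Coprime (p ^ e) := Nat.Coprime.pow_right e hmp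
  obtain ⟨u, hu1, hu0⟩ := Nat.chineseRemainder hcop 1 0
  obtain ⟨t, ht⟩ := (Nat.modEq_zero_iff_dvd).mp hu0
  set β := b₁ ^ u with hβ
  have hβm : β ^ m = 1 := by
    rw [hβ, ← pow_mul, mul_comm, pow_mul, ht, pow_mul, he', one_pow]
  have hβA : β ∈ A := A.pow_mem hb₁t.1 u
  have hβt : β ∈ trivQ Q A := (trivQ Q A).pow_mem hb₁t u
  have hβQ : ∀ x ∈ Q, β x = b x := by
    intro x hx
    rw [hβ, (pow_agree_on_Q hbQ' hagree u x hx).1, pow_mod_on_Q hbQ' hm u x hx]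
    have h1 : b x = (b ^ (1 % m)) x := by
      have := pow_mod_on_Q hbQ' hm 1 x hx
      rwa [pow_one] at this
    rw [h1]
    have : u % m = 1 % m := hu1
    rw [this]
  have hβcomm : β * h = h * β := by
    have : Commute b₁ h := hcomm
    exact (this.pow_left u).eq
  refine ⟨β, hβA, hβQ, fun x => ?_⟩
  exact fix_commutator hX hβm hmp hβt.2 hhQ hβcomm x

end Cfsg.Agent.Lib.Helper22
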