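import Cfsg.Agent.Lib.Helper22.KleinFourSylow

set_option autoImplicit false
set_option linter.unusedSectionVars false
set_option linter.style.haveILetI false

namespace Cfsg.Agent.Lib.Helper22

open Cfsg
open Cfsg.Agent.Lib.Helper82

section
variable {G : Type*} [Group G] [Finite G]

theorem four_mul_odd_factorization (g₀ : ℕ) (hg₀ : Odd g₀) : (4 * g₀).factorization 2 = 2 := by
  have h0 : g₀ ≠ 0 := by rintro rfl; simp at hg₀
  rw [Nat.factorization_mul (by norm_num) h0, Finsupp.add_apply,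
    Nat.factorization_eq_zero_of_not_dvd (n := g₀) (by
      rw [← even_iff_two_dvd, Nat.not_even_iff_odd]; exact hg₀), add_zero]
  have : (4 : ℕ) = 2 ^ 2 := by norm_num
  rw [this, Nat.Prime.factorization_pow Nat.prime_two]
  simp

/-- 2-elements of the normalizer of a Sylow 2-subgroup lie in it. -/
theorem mem_sylow_of_mem_normalizer {p : ℕ} [Fact p.Prime] (P : Sylow p G) (g : G)
    (hg : g ∈ Subgroup.normalizer ((P : Subgroup G) : Set G)) (hk : ∃ k : ℕ, orderOf g = p ^ k) :
    g ∈ (P : Subgroup G) := by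
  obtain ⟨k, hk⟩ := hk
  have hgp : IsPGroup p (Subgroup.zpowers g) :=
    IsPGroup.of_card (n := k) (by rw [Nat.card_zpowers, hk])
  have hle : Subgroup.zpowers g ≤ Subgroup.normalizer ((P : Subgroup G) : Set G) := by
    rw [Subgroup.zpowers_le]; exact hg
  have hsup : IsPGroup p (Subgroup.zpowers g ⊔ (P : Subgroup G) : Subgroup G) :=
    IsPGroup.to_sup_of_normal_right' hgp P.2 hle
  have heq := P.is_maximal' hsup le_sup_right
  rw [← heq]
  exact Subgroup.mem_sup_left (Subgroup.mem_zpowers g)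

/-- Every `p`-element is conjugate into a given Sylow `p`-subgroup. -/
theorem exists_conj_mem_sylow {p : ℕ} [Fact p.Prime] (P : Sylow p G) (s : G)
    (hk : ∃ k : ℕ, orderOf s = p ^ k) : ∃ g : G, g * s * g⁻¹ ∈ (P : Subgroup G) := by
  obtain ⟨k, hk⟩ := hk
  have hgp : IsPGroup p (Subgroup.zpowers s) :=
    IsPGroup.of_card (n := k) (by rw [Nat.card_zpowers, hk])
  obtain ⟨Q, hQ⟩ := hgp.exists_le_sylow
  obtain ⟨g, hg⟩ := MulAction.exists_smul_eq G Q P
  refine ⟨g, ?_⟩
  rw [← hg]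
  have hsQ : s ∈ (Q : Subgroup G) := hQ (Subgroup.mem_zpowers s)
  rw [Sylow.coe_subgroup_smul]
  exact Subgroup.smul_mem_pointwise_smul s (MulAut.conj g) Q hsQ

end

theorem eq_of_mul_two_pow_eq (c k g₀ : ℕ) (hc : Nat.Coprime c 2) (hg₀ : Odd g₀)
    (h : c * 2 ^ k = 4 * g₀) : c = g₀ := by
  have hg2 : Nat.Coprime g₀ 2 := Nat.coprime_two_right.2 hg₀
  apply Nat.dvd_antisymm
  · have h4 : Nat.Coprime c 4 := by
      have : (4 : ℕ) = 2 ^ 2 := by norm_num
      rw [this]; exact Nat.Coprime.pow_right 2 hc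
    exact h4.dvd_of_dvd_mul_left (Dvd.intro _ h)
  · have h4 : Nat.Coprime g₀ (2 ^ k) := Nat.Coprime.pow_right k hg2
    exact h4.dvd_of_dvd_mul_right (Dvd.intro_left _ h.symm)

theorem orderOf_conj_eq {X : Type*} [Group X] (g x : X) : orderOf (g * x * g⁻¹) = orderOf x :=
  (MulAut.conj g).orderOf_eq x

theorem orderOf_eq_of_isConj {X : Type*} [Group X] {x y : X} (h : IsConj x y) :
    orderOf x = orderOf y := by
  obtain ⟨g, hg⟩ := isConj_iff.1 h
  rw [← hg, orderOf_conj_eq]

theorem commute_of_sq_commute_of_odd {X : Type*} [Group X] (s t : X) (hs : ¬ 2 ∣ orderOf s)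
    (h : Commute (s ^ 2) t) : Commute s t := by
  have hodd : Odd (orderOf s) := Nat.odd_iff.2 (by omega)
  obtain ⟨k, hk⟩ := hodd
  have h8 : s = (s ^ 2) ^ (k + 1) := by
    rw [← pow_mul, show 2 * (k + 1) = orderOf s + 1 by omega, pow_succ, pow_orderOf_eq_one,
      one_mul]
  rw [h8]; exact h.pow_left _

section
variable {G : Type*} [Group G] [Finite G]

/-- A group of order `4 g₀` (`g₀` odd) without normal `2`-complement: the Sylow `2`-subgroup is
Klein four and all involutions are conjugate. -/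
theorem four_sylow_no_complement (g₀ : ℕ) (hg₀ : Odd g₀) (hG : Nat.card G = 4 * g₀)
    (hnc : ¬ ∃ N : Subgroup G, N.Normal ∧ Nat.card N = g₀) (P : Sylow 2 G) (J : G)
    (hJ : J ∈ (P : Subgroup G)) (hJ2 : orderOf J = 2) :
    IsKleinFour (P : Subgroup G) ∧ ∀ s : G, orderOf s = 2 → IsConj J s := by
  classical
  have : Fact (Nat.Prime 2) := ⟨Nat.prime_two⟩
  have hcard : Nat.card (P : Subgroup G) = 4 := by
    rw [Sylow.card_eq_multiplicity P, hG, four_mul_odd_factorization g₀ hg₀]; norm_num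
  have hcomm : ∀ a b : (P : Subgroup G), a * b = b * a :=
    (IsPGroup.isMulCommutative_of_card_eq_prime_sq (p := 2) (by rw [hcard]; norm_num)).is_comm.comm
  have hcomm' : ∀ a ∈ (P : Subgroup G), ∀ b ∈ (P : Subgroup G), a * b = b * a := by
    intro a ha b hb
    exact congrArg Subtype.val (hcomm ⟨a, ha⟩ ⟨b, hb⟩)
  -- the normalizer does not centralize
  have hN : ¬ Subgroup.normalizer ((P : Subgroup G) : Set G) ≤
      Subgroup.centralizer ((P : Subgroup G) : Set G) := by
    intro h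
    obtain ⟨k, hk⟩ := exists_index_pPrimeCore_of_normalizer_le P h
    apply hnc
    refine ⟨Cfsg.pPrimeCore 2 G, Cfsg.Agent.Lib.Helper42.pPrimeCore_normal 2 G, ?_⟩
    have hco := Cfsg.Agent.Lib.Helper42.pPrimeCore_card_coprime 2 G
    have hmul := Subgroup.card_mul_index (Cfsg.pPrimeCore 2 G)
    rw [hk, hG] at hmul
    exact eq_of_mul_two_pow_eq _ k g₀ hco hg₀ hmul
  obtain ⟨g, hgN, hgC⟩ := SetLike.not_le_iff_exists.1 hN
  rw [Subgroup.mem_centralizer_iff] at hgC
  push Not at hgC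
  obtain ⟨t₀, ht₀P, ht₀⟩ := hgC
  -- decompose g
  obtain ⟨u, hu⟩ := exists_isPPart Nat.prime_two g (orderOf_pos g)
  have huz := IsPPart.mem_zpowers Nat.prime_two hu
  obtain ⟨s, hus, hcs, hu2, hs2⟩ := hu
  have hzle : Subgroup.zpowers g ≤ Subgroup.normalizer ((P : Subgroup G) : Set G) := by
    rw [Subgroup.zpowers_le]; exact hgN
  have huN := hzle huz
  have hsN : s ∈ Subgroup.normalizer ((P : Subgroup G) : Set G) := by
    have : s = u⁻¹ * g := by rw [← hus]; group
    rw [this]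
    exact Subgroup.mul_mem _ (Subgroup.inv_mem _ huN) hgN
  have huP : u ∈ (P : Subgroup G) := mem_sylow_of_mem_normalizer P u huN hu2
  have hst : t₀ * s ≠ s * t₀ := by
    intro h
    apply ht₀
    rw [← hus, ← mul_assoc, hcomm' t₀ ht₀P u huP, mul_assoc, h, mul_assoc]
  -- the three conjugates
  have hconjP : ∀ x ∈ (P : Subgroup G), s * x * s⁻¹ ∈ (P : Subgroup G) := fun x hx =>
    (Subgroup.mem_normalizer_iff.1 hsN x).1 hx
  set t₁ := s * t₀ * s⁻¹ with ht₁
  set t₂ := s * t₁ * s⁻¹ with ht₂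
  have ht₁P : t₁ ∈ (P : Subgroup G) := hconjP t₀ ht₀P
  have ht₂P : t₂ ∈ (P : Subgroup G) := hconjP t₁ ht₁P
  have h01 : t₀ ≠ 1 := by rintro h; exact hst (by rw [h, one_mul, mul_one])
  have h11 : t₁ ≠ 1 := by
    intro h
    apply h01
    have : t₀ = s⁻¹ * t₁ * s := by rw [ht₁]; group
    rw [this, h]; group
  have h21 : t₂ ≠ 1 := by
    intro h
    apply h11
    have : t₁ = s⁻¹ * t₂ * s := by rw [ht₂]; group
    rw [this, h]; group
  have h10 : t₁ ≠ t₀ := by
    intro h
    apply hst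
    calc t₀ * s = t₁ * s := by rw [h]
      _ = s * t₀ := by rw [ht₁]; group
  have h21' : t₂ ≠ t₁ := by
    intro h
    apply h10
    have e1 : t₁ = s⁻¹ * t₂ * s := by rw [ht₂]; group
    have e0 : t₀ = s⁻¹ * t₁ * s := by rw [ht₁]; group
    rw [e1, h, ← e0]
  have h20 : t₂ ≠ t₀ := by
    intro h
    apply hst
    have hc : Commute (s ^ 2) t₀ := by
      change s ^ 2 * t₀ = t₀ * s ^ 2
      calc s ^ 2 * t₀ = t₂ * s ^ 2 := by rw [ht₂, ht₁, pow_two]; group
        _ = t₀ * s ^ 2 := by rw [h]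
    exact (commute_of_sq_commute_of_odd s t₀ hs2 hc).eq.symm
  -- P = {1, t₀, t₁, t₂}
  let _ : Fintype (P : Subgroup G) := Fintype.ofFinite _
  have hall : ∀ x ∈ (P : Subgroup G), x = 1 ∨ x = t₀ ∨ x = t₁ ∨ x = t₂ := by
    intro x hx
    let S : Finset (P : Subgroup G) := {1, ⟨t₀, ht₀P⟩, ⟨t₁, ht₁P⟩, ⟨t₂, ht₂P⟩}
    have hS : S.card = 4 := by
      rw [Finset.card_insert_of_notMem, Finset.card_insert_of_notMem,
        Finset.card_insert_of_notMem, Finset.card_singleton]
      · simp only [Finset.mem_singleton, Subtype.mk.injEq]; exact fun h => h21' h.symm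
      · simp only [Finset.mem_insert, Finset.mem_singleton, Subtype.mk.injEq, not_or]
        exact ⟨fun h => h10 h.symm, fun h => h20 h.symm⟩
      · simp only [Finset.mem_insert, Finset.mem_singleton, not_or]
        refine ⟨fun h => h01 (congrArg Subtype.val h).symm, fun h => h11 (congrArg Subtype.val h).symm,
          fun h => h21 (congrArg Subtype.val h).symm⟩
    have hSu : S = Finset.univ := by
      apply Finset.eq_univ_of_card
      rw [hS, ← Nat.card_eq_fintype_card, hcard]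
    have hxS : (⟨x, hx⟩ : (P : Subgroup G)) ∈ S := by rw [hSu]; exact Finset.mem_univ _
    simp only [S, Finset.mem_insert, Finset.mem_singleton] at hxS
    rcases hxS with h | h | h | h
    · left; exact congrArg Subtype.val h
    · right; left; exact congrArg Subtype.val h
    · right; right; left; exact congrArg Subtype.val h
    · right; right; right; exact congrArg Subtype.val h
  have hconj0 : ∀ x ∈ (P : Subgroup G), x ≠ 1 → IsConj t₀ x := by
    intro x hx hx1
    rcases hall x hx with h | h | h | h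
    · exact absurd h hx1
    · rw [h]
    · rw [h]; exact isConj_iff.2 ⟨s, rfl⟩
    · rw [h]; exact isConj_iff.2 ⟨s ^ 2, by rw [ht₂, ht₁, pow_two]; group⟩
  have hJ1 : J ≠ 1 := by
    intro h; rw [h, orderOf_one] at hJ2; norm_num at hJ2
  have hconjJ : ∀ x ∈ (P : Subgroup G), x ≠ 1 → IsConj J x := fun x hx hx1 =>
    (hconj0 J hJ hJ1).symm.trans (hconj0 x hx hx1)
  refine ⟨?_, ?_⟩
  · haveI : Nontrivial (P : Subgroup G) := ⟨⟨⟨J, hJ⟩, 1, fun h => hJ1 (congrArg Subtype.val h)⟩⟩
    refine ⟨hcard, ?_⟩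
    rw [Monoid.exponent_eq_prime_iff Nat.prime_two]
    intro x hx
    rw [← Subgroup.orderOf_coe, ← orderOf_eq_of_isConj (hconjJ x x.2 (fun h => hx (Subtype.ext h)))]
    exact hJ2
  · intro x hx
    obtain ⟨g, hg⟩ := exists_conj_mem_sylow P x ⟨1, by rw [hx, pow_one]⟩
    have hne : g * x * g⁻¹ ≠ 1 := by
      intro h
      have h2 := orderOf_conj_eq g x
      rw [h, orderOf_one, hx] at h2
      norm_num at h2
    have h1 := hconjJ _ hg hne
    exact h1.trans (isConj_iff.2 ⟨g⁻¹, by group⟩)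

end

end Cfsg.Agent.Lib.Helper22
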