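import Cfsg.Agent.Lib.Helper37.G2InvDefs
import Cfsg.Agent.Lib.Helper86.G2InvZ
import Cfsg.Agent.Lib.Helper26.G2InvC2

/-!
# K-G2I leaf B2a (S2177): involutions `x7(t) x8(t8) z`, `t ≠ 0`, are conjugate to `x9(1)`
-/

set_option autoImplicit false
set_option linter.unusedSectionVars false
set_option linter.unusedVariables false

namespace Cfsg.Agent.Lib.Helper22.G2Inv

open Cfsg.Agent.Lib.Helper37.G2Inv

variable {F : Type*} [Field F] [CharP F 2] {G : Type*} [Group G] (D : UData F G)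

/-! ### formulas used -/

theorem c97 (c t : F) : D.x 9 c * D.x 7 t * (D.x 9 c)⁻¹ = D.x 7 t * D.x 10 (c * t) := by
  rw [D.r79 t c, mul_assoc (D.x 7 t), D.c910 c (t * c), mul_comm t c]
  group

theorem c87 (c t : F) :
    D.x 8 c * D.x 7 t * (D.x 8 c)⁻¹ = D.x 7 t * (D.x 10 (t ^ 2 * c) * D.x 11 (t * c ^ 2)) :=
  Cfsg.Agent.Lib.Helper26.G2Inv.c87 D c t

theorem z_mul (α β γ α' β' γ' : F) : D.z α β γ * D.z α' β' γ' = D.z (α + α') (β + β') (γ + γ') :=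
  Cfsg.Agent.Lib.Helper86.G2Inv.z_mul D α β γ α' β' γ'

theorem z_conj6 (c α β γ : F) : D.x 6 c * D.z α β γ * (D.x 6 c)⁻¹ = D.z α β (γ + c * β) :=
  Cfsg.Agent.Lib.Helper86.G2Inv.z_conj6 D c α β γ

theorem z_conj8 (c α β γ : F) : D.x 8 c * D.z α β γ * (D.x 8 c)⁻¹ = D.z α β (γ + c * α) :=
  Cfsg.Agent.Lib.Helper86.G2Inv.z_conj8 D c α β γ

theorem z_conj9 (c α β γ : F) : D.x 9 c * D.z α β γ * (D.x 9 c)⁻¹ = D.z α β γ :=
  Cfsg.Agent.Lib.Helper86.G2Inv.z_conj9 D c α β γ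

theorem inv7z (t α β γ : F) (h : D.x 7 t * D.z α β γ * (D.x 7 t * D.z α β γ) = 1) : t * α = 0 := by
  have h1 : D.x 7 t * D.z α β γ * (D.x 7 t * D.z α β γ) =
      (D.x 7 t * D.z α β γ * (D.x 7 t)⁻¹) * D.z α β γ := by
    rw [D.x_inv]; group
  rw [h1, Cfsg.Agent.Lib.Helper86.G2Inv.z_conj7, Cfsg.Agent.Lib.Helper86.G2Inv.z_mul,
    Cfsg.Agent.Lib.Helper86.G2Inv.z_eq_one_iff] at h
  obtain ⟨-, h2, -⟩ := h
  have e : β + t * α + β = t * α := by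
    rw [add_comm β (t * α), add_assoc, CharTwo.add_self_eq_zero, add_zero]
  rw [e] at h2
  exact h2

/-- `x6(c)` inverts `W = x8 x9 x10` when the `x11` terms cancel -/
theorem conj6_W (c a b d : F) (h : c * d + a * b = 0) :
    D.x 6 c * (D.x 10 d * (D.x 9 b * D.x 8 a)) * (D.x 6 c)⁻¹ = D.x 8 a * (D.x 9 b * D.x 10 d) := by
  have s1 : D.x 6 c * D.x 10 d = D.x 10 d * (D.x 11 (c * d) * D.x 6 c) :=
    Cfsg.Agent.Lib.Helper86.G2Inv.swap610 D c d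
  have s2 : D.x 6 c * D.x 9 b = D.x 9 b * D.x 6 c := D.c69 c b
  have s3 : D.x 6 c * D.x 8 a = D.x 8 a * D.x 6 c := D.c68 c a
  have s4 : D.x 9 b * D.x 8 a = D.x 8 a * D.x 9 b * D.x 11 (a * b) := D.r89 a b
  have k1 : Commute (D.x 10 d) (D.x 8 a * D.x 9 b) :=
    Commute.mul_right (D.c810 a d).symm (D.c910 b d).symm
  have k2 : Commute (D.x 11 (c * d)) (D.x 8 a * D.x 9 b) :=
    Commute.mul_right (D.c811 a (c * d)).symm (D.c911 b (c * d)).symm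
  calc D.x 6 c * (D.x 10 d * (D.x 9 b * D.x 8 a)) * (D.x 6 c)⁻¹
      = (D.x 6 c * D.x 10 d) * (D.x 9 b * D.x 8 a) * (D.x 6 c)⁻¹ := by group
    _ = D.x 10 d * D.x 11 (c * d) * ((D.x 6 c * D.x 9 b) * D.x 8 a) * (D.x 6 c)⁻¹ := by
        rw [s1]; group
    _ = D.x 10 d * D.x 11 (c * d) * (D.x 9 b * (D.x 6 c * D.x 8 a)) * (D.x 6 c)⁻¹ := by
        rw [s2]; group
    _ = D.x 10 d * D.x 11 (c * d) * (D.x 9 b * D.x 8 a) := by rw [s3]; group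
    _ = D.x 10 d * (D.x 11 (c * d) * (D.x 8 a * D.x 9 b)) * D.x 11 (a * b) := by rw [s4]; group
    _ = D.x 10 d * ((D.x 8 a * D.x 9 b) * D.x 11 (c * d)) * D.x 11 (a * b) := by rw [k2.eq]
    _ = (D.x 10 d * (D.x 8 a * D.x 9 b)) * (D.x 11 (c * d) * D.x 11 (a * b)) := by group
    _ = (D.x 8 a * D.x 9 b) * D.x 10 d * (D.x 11 (c * d) * D.x 11 (a * b)) := by rw [k1.eq]
    _ = D.x 8 a * (D.x 9 b * D.x 10 d) := by rw [D.add, h, D.x_zero]; group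

theorem c67 (c t : F) : D.x 6 c * D.x 7 t * (D.x 6 c)⁻¹ =
    D.x 7 t * (D.x 8 (c * t) * (D.x 9 (c * t ^ 2) * D.x 10 (c * t ^ 3))) := by
  have hr := D.r67 c t
  have e : (D.x 8 (c * t) * (D.x 9 (c * t ^ 2) * D.x 10 (c * t ^ 3)))⁻¹ =
      D.x 10 (c * t ^ 3) * (D.x 9 (c * t ^ 2) * D.x 8 (c * t)) := by
    rw [mul_inv_rev, mul_inv_rev, D.x_inv, D.x_inv, D.x_inv, mul_assoc]
  have h1 : D.x 6 c * D.x 7 t =
      D.x 7 t * (D.x 6 c * (D.x 10 (c * t ^ 3) * (D.x 9 (c * t ^ 2) * D.x 8 (c * t)))) := by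
    rw [← e]
    calc D.x 6 c * D.x 7 t
        = (D.x 6 c * D.x 7 t * (D.x 8 (c * t) * (D.x 9 (c * t ^ 2) * D.x 10 (c * t ^ 3)))) *
            (D.x 8 (c * t) * (D.x 9 (c * t ^ 2) * D.x 10 (c * t ^ 3)))⁻¹ := by group
      _ = D.x 7 t * D.x 6 c * (D.x 8 (c * t) * (D.x 9 (c * t ^ 2) * D.x 10 (c * t ^ 3)))⁻¹ := by
          rw [← hr]
      _ = _ := by group
  have hz : c * (c * t ^ 3) + c * t * (c * t ^ 2) = 0 := by
    have : c * (c * t ^ 3) + c * t * (c * t ^ 2) = 2 * (c ^ 2 * t ^ 3) := by ring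
    rw [this, CharTwo.two_eq_zero, zero_mul]
  calc D.x 6 c * D.x 7 t * (D.x 6 c)⁻¹
      = D.x 7 t * (D.x 6 c * (D.x 10 (c * t ^ 3) * (D.x 9 (c * t ^ 2) * D.x 8 (c * t))) *
          (D.x 6 c)⁻¹) := by rw [h1]; group
    _ = _ := by rw [conj6_W D c (c * t) (c * t ^ 2) (c * t ^ 3) hz]

/-! ### small facts -/

theorem z_zero : D.z 0 0 0 = 1 := by
  unfold UData.z
  rw [D.x_zero, D.x_zero, D.x_zero, one_mul, one_mul]

theorem x9_eq_z (a : F) : D.x 9 a = D.z a 0 0 := by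
  unfold UData.z
  rw [D.x_zero, D.x_zero, mul_one, mul_one]

theorem x10_eq_z (a : F) : D.x 10 a = D.z 0 a 0 := by
  unfold UData.z
  rw [D.x_zero, D.x_zero, mul_one, one_mul]

theorem x11_eq_z (a : F) : D.x 11 a = D.z 0 0 a := by
  unfold UData.z
  rw [D.x_zero, D.x_zero, one_mul, one_mul]

/-- conjugation is multiplicative -/
theorem cj_mul (h a b : G) : h * (a * b) * h⁻¹ = (h * a * h⁻¹) * (h * b * h⁻¹) := by group

/-- `z * x8 = x8 * z'` -/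
theorem z_mul_x8 (s α β γ : F) : D.z α β γ * D.x 8 s = D.x 8 s * D.z α β (γ + s * α) := by
  have h := z_conj8 D s α β γ
  rw [D.x_inv] at h
  -- x8 z x8 = z'  ⇒  z x8 = x8 z'
  calc D.z α β γ * D.x 8 s = (D.x 8 s * D.x 8 s) * (D.z α β γ * D.x 8 s) := by rw [D.x_sq, one_mul]
    _ = D.x 8 s * (D.x 8 s * D.z α β γ * D.x 8 s) := by group
    _ = D.x 8 s * D.z α β (γ + s * α) := by rw [h]

theorem good_x7 (t : F) (ht : t ≠ 0) : D.Good (D.x 7 t) := by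
  obtain ⟨g, hg⟩ := D.w7_9 t
  obtain ⟨g', hg'⟩ := D.torus9 t ht
  refine ⟨g' * g, Or.inr ?_⟩
  have e : g' * g * D.x 7 t * (g' * g)⁻¹ = g' * (g * D.x 7 t * g⁻¹) * g'⁻¹ := by group
  rw [e, hg, hg']

/-- step 5: `x7(t) x10(t²e)` -/
theorem good_step5 (t e : F) (ht : t ≠ 0) : D.Good (D.x 7 t * D.z 0 (t ^ 2 * e) 0) := by
  apply D.good_of_conj (D.x 9 (t * e))
  rw [cj_mul, c97, z_conj9, mul_assoc, x10_eq_z, z_mul]
  have e1 : t * e * t + t ^ 2 * e = 0 := by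
    have : t * e * t + t ^ 2 * e = 2 * (t ^ 2 * e) := by ring
    rw [this, CharTwo.two_eq_zero, zero_mul]
  try simp only [add_zero]
  rw [e1, z_zero, mul_one]
  exact good_x7 D t ht

/-- step 4: `x7(t) x11(γ)` -/
theorem good_step4 (t γ : F) (ht : t ≠ 0) : D.Good (D.x 7 t * D.z 0 0 γ) := by
  obtain ⟨e, he⟩ := D.sqrt (γ / t)
  apply D.good_of_conj (D.x 8 e)
  rw [cj_mul, c87, z_conj8, mul_assoc, x10_eq_z, x11_eq_z, z_mul, z_mul]
  have e1 : t * e ^ 2 + (γ + e * 0) = 0 := by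
    have h2 : e ^ 2 = γ / t := by rw [pow_two]; exact he
    rw [h2, mul_zero, add_zero, mul_div_cancel₀ _ ht, CharTwo.add_self_eq_zero]
  try simp only [add_zero, zero_add]
  rw [e1]
  exact good_step5 D t e ht

/-- step 3: `x7(t) x10(β) x11(γ)` -/
theorem good_step3 (t β γ : F) (ht : t ≠ 0) : D.Good (D.x 7 t * D.z 0 β γ) := by
  apply D.good_of_conj (D.x 9 (β / t))
  rw [cj_mul, c97, z_conj9, mul_assoc, x10_eq_z, z_mul]
  have e1 : β / t * t + β = 0 := by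
    rw [div_mul_cancel₀ _ ht, CharTwo.add_self_eq_zero]
  try simp only [add_zero, zero_add]
  rw [e1]
  exact good_step4 D t γ ht

theorem good_78z (t t8 α β γ : F) (ht : t ≠ 0)
    (h : D.x 7 t * (D.x 8 t8 * D.z α β γ) * (D.x 7 t * (D.x 8 t8 * D.z α β γ)) = 1) :
    D.Good (D.x 7 t * (D.x 8 t8 * D.z α β γ)) := by
  set c : F := t8 / t with hc
  -- the conjugate by `x6(c)`
  have hconj : ∃ α' β' γ' : F, D.x 6 c * (D.x 7 t * (D.x 8 t8 * D.z α β γ)) * (D.x 6 c)⁻¹ =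
      D.x 7 t * D.z α' β' γ' := by
    refine ⟨c * t ^ 2 + α, c * t ^ 3 + β, 0 + t8 * (c * t ^ 2) + (γ + c * β), ?_⟩
    rw [cj_mul, cj_mul, c67, z_conj6]
    have h68 : D.x 6 c * D.x 8 t8 * (D.x 6 c)⁻¹ = D.x 8 t8 := by
      rw [D.c68, mul_assoc, mul_inv_cancel, mul_one]
    rw [h68]
    have e9 : D.x 9 (c * t ^ 2) * D.x 10 (c * t ^ 3) = D.z (c * t ^ 2) (c * t ^ 3) 0 := by
      unfold UData.z
      rw [D.x_zero, mul_one]
    rw [e9]
    have e8 : c * t + t8 = 0 := by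
      rw [hc, div_mul_cancel₀ _ ht, CharTwo.add_self_eq_zero]
    calc D.x 7 t * (D.x 8 (c * t) * D.z (c * t ^ 2) (c * t ^ 3) 0) * (D.x 8 t8 * D.z α β (γ + c * β))
        = D.x 7 t * (D.x 8 (c * t) * (D.z (c * t ^ 2) (c * t ^ 3) 0 * D.x 8 t8) * D.z α β (γ + c * β)) := by
          group
      _ = D.x 7 t * (D.x 8 (c * t) * (D.x 8 t8 * D.z (c * t ^ 2) (c * t ^ 3) (0 + t8 * (c * t ^ 2))) *
            D.z α β (γ + c * β)) := by rw [z_mul_x8]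
      _ = D.x 7 t * ((D.x 8 (c * t) * D.x 8 t8) * (D.z (c * t ^ 2) (c * t ^ 3) (0 + t8 * (c * t ^ 2)) *
            D.z α β (γ + c * β))) := by group
      _ = D.x 7 t * D.z (c * t ^ 2 + α) (c * t ^ 3 + β) (0 + t8 * (c * t ^ 2) + (γ + c * β)) := by
          rw [D.add, e8, D.x_zero, one_mul, z_mul]
  obtain ⟨α', β', γ', hc'⟩ := hconj
  apply D.good_of_conj (D.x 6 c)
  rw [hc']
  -- the conjugate is an involution
  have hinv : D.x 7 t * D.z α' β' γ' * (D.x 7 t * D.z α' β' γ') = 1 := by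
    rw [← hc']
    set u := D.x 7 t * (D.x 8 t8 * D.z α β γ) with hu
    calc D.x 6 c * u * (D.x 6 c)⁻¹ * (D.x 6 c * u * (D.x 6 c)⁻¹)
        = D.x 6 c * (u * u) * (D.x 6 c)⁻¹ := by group
      _ = 1 := by rw [h]; group
  have hα : α' = 0 := by
    have := inv7z D t α' β' γ' hinv
    rcases mul_eq_zero.mp this with h0 | h0
    · exact absurd h0 ht
    · exact h0
  rw [hα]
  exact good_step3 D t β' γ' ht

end Cfsg.Agent.Lib.Helper22.G2Inv
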