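import Mathlib
import Cfsg.Agent.Lib.Helper38.HallAlt.Defs

/-!
# K-HA-P5 (keystone 253810, architect helper38): no subgroup of order 20 in the alternating group of degree 5
-/

set_option autoImplicit false

namespace Cfsg.Agent.Lib.Helper22.HallAlt

open Cfsg Cfsg.Agent.Lib.Helper38.HallAlt

/-- a simple group of order `> (index)!` has no proper subgroup of that index: here the alternating group of degree 5 has no
subgroup of order 20 (index 3). -/
theorem false_of_card_twenty {α : Type} [Finite α] (H : Subgroup (Equiv.Perm α)) (hHA : H ≤ altSub α)
    (hn : Nat.card α = 5) (hcard : Nat.card H = 20) : False := by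
  classical
  have : Fintype α := Fintype.ofFinite α
  rw [altSub_eq] at hHA
  have hcard5 : Fintype.card α = 5 := by rw [← Nat.card_eq_fintype_card]; exact hn
  have hsimple : IsSimpleGroup (alternatingGroup α) := alternatingGroup.isSimpleGroup (by rw [hn])
  have hnt : Nontrivial α := by
    rw [← Fintype.one_lt_card_iff_nontrivial, hcard5]; norm_num
  have hA : Nat.card (alternatingGroup α) = 60 := by
    have h := two_mul_nat_card_alternatingGroup (α := α)
    rw [Nat.card_perm, hn] at h
    have h5 : Nat.factorial 5 = 120 := by decide
    omega
  set K : Subgroup (alternatingGroup α) := H.subgroupOf (alternatingGroup α) with hK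
  have hKcard : Nat.card K = 20 := by
    rw [← hcard]
    exact Nat.card_congr (Subgroup.subgroupOfEquivOfLe hHA).toEquiv
  have hidx : K.index = 3 := by
    have := K.card_mul_index
    rw [hKcard, hA] at this
    omega
  have hcore : K.normalCore = ⊥ ∨ K.normalCore = ⊤ :=
    (Subgroup.normalCore_normal K).eq_bot_or_eq_top
  rcases hcore with h | h
  · have hker : (MulAction.toPermHom (alternatingGroup α) (alternatingGroup α ⧸ K)).ker = ⊥ := by
      rw [← Subgroup.normalCore_eq_ker, h]
    have hinj := (MonoidHom.ker_eq_bot_iff _).mp hker
    have hle : Nat.card (alternatingGroup α) ≤ Nat.card (Equiv.Perm (alternatingGroup α ⧸ K)) :=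
      Nat.card_le_card_of_injective _ hinj
    rw [hA, Nat.card_perm, ← Subgroup.index_eq_card, hidx] at hle
    have h3 : Nat.factorial 3 = 6 := by decide
    omega
  · have hKtop : K = ⊤ := top_le_iff.mp (h ▸ Subgroup.normalCore_le K)
    rw [hKtop, Subgroup.index_top] at hidx
    omega

end Cfsg.Agent.Lib.Helper22.HallAlt
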