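import Mathlib
import Cfsg.Prelude.Def_HallClasses
import Cfsg.Agent.Lib.Helper06.HallSym.Defs
import Cfsg.Agent.Lib.Helper38.HallAlt.Defs

/-!
# K-HB-T4 (keystone 253820, HallAlt pack part 2): extension of a Hall subgroup of `Alt` to `Sym`
in the trivial cases
-/

set_option autoImplicit false
open Cfsg

namespace Cfsg.Agent.Lib.Helper22.HallAlt
open Cfsg.Agent.Lib.Helper06.HallSym Cfsg.Agent.Lib.Helper38.HallAlt

/-- the alternating group has index two as soon as there are two points -/
theorem altSub_index_of_two_le {α : Type} [Finite α] (h : 2 ≤ Nat.card α) :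
    (altSub α).index = 2 := by
  classical
  let _ := Fintype.ofFinite α
  have : Nontrivial α := by
    rw [← Finite.one_lt_card_iff_nontrivial]; omega
  rw [altSub_eq]
  exact alternatingGroup.index_eq_two

/-- a prime dividing the order of the symmetric group is at most the degree -/
theorem prime_le_of_dvd_card_perm {α : Type} [Finite α] {p : ℕ} (hp : p.Prime)
    (h : p ∣ Nat.card (Equiv.Perm α)) : p ≤ Nat.card α := by
  rw [Nat.card_perm] at h
  exact (Nat.Prime.dvd_factorial hp).mp h

/-- **K-HB-T4** (253820). -/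
theorem exists_ext_of_triv (π : Set ℕ) (h2 : 2 ∈ π) {α : Type} [Finite α]
    (hT : Triv π (Nat.card α))
    (H : Subgroup (Equiv.Perm α)) (hH : AltHall π H) :
    ∃ M₀ : Subgroup (Equiv.Perm α), IsPiHall π M₀ ∧ M₀ ⊓ altSub α = H ∧
      (2 ≤ Nat.card α → ¬ M₀ ≤ altSub α) := by
  obtain ⟨hHA, hHpi, hHidx⟩ := hH
  rcases Nat.lt_or_ge (Nat.card α) 2 with hn | hn
  · -- the symmetric group is trivial
    have hsubα : Subsingleton α := by
      rw [← Finite.card_le_one_iff_subsingleton]; omega
    have hsub : Subsingleton (Equiv.Perm α) := inferInstance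
    have hsub' : Subsingleton (Subgroup (Equiv.Perm α)) := inferInstance
    have hc1 : Nat.card (Equiv.Perm α) = 1 := Nat.card_eq_one_iff_unique.mpr ⟨hsub, ⟨1⟩⟩
    refine ⟨⊤, ⟨?_, ?_⟩, Subsingleton.elim _ _, fun h => by omega⟩
    · intro p hp hd
      rw [Subgroup.card_top, hc1] at hd
      exact absurd (Nat.dvd_one.mp hd) hp.one_lt.ne'
    · intro p hp _ hd
      rw [Subgroup.index_top] at hd
      exact absurd (Nat.dvd_one.mp hd) hp.one_lt.ne'
  · rcases hT with hT | hT
    · -- `2` is the only prime of `π` up to the degree: Sylow 2-subgroups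
      have honly : ∀ p : ℕ, p.Prime → p ≤ Nat.card α → p ∈ π → p = 2 :=
        fun p hp hpn hpπ => hT p 2 hp Nat.prime_two hpn hn hpπ h2
      have hH2 : IsPGroup 2 H := by
        have hcardH : ∀ p : ℕ, p.Prime → p ∣ Nat.card H → p = 2 := fun p hp hd =>
          honly p hp (prime_le_of_dvd_card_perm hp (hd.trans (Subgroup.card_subgroup_dvd_card H)))
            (hHpi p hp hd)
        have hc : Nat.card H = 2 ^ (Nat.card H).primeFactorsList.length :=
          Nat.eq_prime_pow_of_unique_prime_dvd Nat.card_pos.ne'
            (fun {d} hd hdd => hcardH d hd hdd)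
        exact IsPGroup.of_card hc
      have : Fact (Nat.Prime 2) := ⟨Nat.prime_two⟩
      obtain ⟨P, hHP⟩ := hH2.exists_le_sylow
      have hPidx : ¬ 2 ∣ (P : Subgroup (Equiv.Perm α)).index := P.not_dvd_index
      refine ⟨P, ⟨?_, ?_⟩, ?_, ?_⟩
      · intro p hp hd
        obtain ⟨k, hk⟩ := IsPGroup.iff_card.mp P.2
        rw [hk] at hd
        have : p = 2 := (Nat.prime_dvd_prime_iff_eq hp Nat.prime_two).mp (hp.dvd_of_dvd_pow hd)
        rw [this]; exact h2
      · intro p hp hpπ hd
        by_cases hpn : p ≤ Nat.card α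
        · have : p = 2 := honly p hp hpn hpπ
          rw [this] at hd
          exact hPidx hd
        · exact hpn (prime_le_of_dvd_card_perm hp (hd.trans (Subgroup.index_dvd_card _)))
      · apply le_antisymm _ (le_inf hHP hHA)
        rw [← Subgroup.relIndex_eq_one]
        have hmul : H.relIndex ((P : Subgroup (Equiv.Perm α)) ⊓ altSub α) *
            ((P : Subgroup (Equiv.Perm α)) ⊓ altSub α).relIndex (altSub α) =
            H.relIndex (altSub α) :=
          Subgroup.relIndex_mul_relIndex H _ _ (le_inf hHP hHA) inf_le_right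
        have h2n : ¬ 2 ∣ H.relIndex (altSub α) := hHidx 2 Nat.prime_two h2
        have h2n' : ¬ 2 ∣ H.relIndex ((P : Subgroup (Equiv.Perm α)) ⊓ altSub α) := by
          intro hd
          apply h2n
          rw [← hmul]
          exact Dvd.dvd.mul_right hd _
        have hPA : IsPGroup 2 ↥((P : Subgroup (Equiv.Perm α)) ⊓ altSub α) :=
          P.2.to_le inf_le_left
        obtain ⟨k, hk⟩ := hPA.index (H.subgroupOf ((P : Subgroup (Equiv.Perm α)) ⊓ altSub α))
        have hk' : H.relIndex ((P : Subgroup (Equiv.Perm α)) ⊓ altSub α) = 2 ^ k := hk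
        rw [hk'] at h2n' ⊢
        rcases Nat.eq_zero_or_pos k with hk0 | hk0
        · rw [hk0, pow_zero]
        · exact absurd (dvd_pow_self 2 hk0.ne') h2n'
      · intro _ hPA
        have h1 := Subgroup.relIndex_mul_index hPA
        rw [altSub_index_of_two_le hn] at h1
        apply hPidx
        rw [← h1]
        exact Dvd.intro_left _ rfl
    · -- all primes up to the degree lie in `π`
      refine ⟨⊤, ⟨?_, ?_⟩, ?_, ?_⟩
      · intro p hp hd
        rw [Subgroup.card_top] at hd
        exact hT p hp (prime_le_of_dvd_card_perm hp hd)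
      · intro p hp _ hd
        rw [Subgroup.index_top] at hd
        exact absurd (Nat.dvd_one.mp hd) hp.one_lt.ne'
      · rw [top_inf_eq]
        apply le_antisymm _ hHA
        rw [← Subgroup.relIndex_eq_one]
        by_contra hne
        obtain ⟨p, hp, hpd⟩ := Nat.exists_prime_and_dvd hne
        have hpn : p ≤ Nat.card α := prime_le_of_dvd_card_perm hp
          ((hpd.trans (Subgroup.relIndex_dvd_card H (altSub α))).trans
            (Subgroup.card_subgroup_dvd_card (altSub α)))
        exact hHidx p hp (hT p hp hpn) hpd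
      · intro _ hle
        have h1 := altSub_index_of_two_le hn
        rw [top_le_iff.mp hle, Subgroup.index_top] at h1
        omega

end Cfsg.Agent.Lib.Helper22.HallAlt
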