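import Mathlib

set_option autoImplicit false

/-!
Automorphisms of odd order of a homocyclic 2-group of rank two.
-/

namespace Cfsg.Agent.Lib.Helper22

section ZModPart

theorem two_mul_eq_zero_iff' (n j : ℕ) (hn : n = 2 * j) (hj : 0 < j) (a : ZMod n) :
    2 * a = 0 ↔ a = 0 ∨ a = (j : ZMod n) := by
  have : NeZero n := ⟨by omega⟩
  constructor
  · intro h
    have h1 : ((2 * a.val : ℕ) : ZMod n) = 0 := by
      push_cast
      rw [ZMod.natCast_zmod_val]
      exact h
    rw [ZMod.natCast_eq_zero_iff] at h1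
    have h1' : 2 * j ∣ 2 * a.val := by rw [← hn]; exact h1
    have h2 : j ∣ a.val := Nat.dvd_of_mul_dvd_mul_left (by norm_num) h1'
    obtain ⟨c, hc⟩ := h2
    have hlt : a.val < n := ZMod.val_lt a
    have hc2 : c < 2 := by
      by_contra hcon
      have hcon' : 2 ≤ c := by omega
      have : j * 2 ≤ j * c := Nat.mul_le_mul_left _ hcon'
      omega
    have ha : a = ((a.val : ℕ) : ZMod n) := (ZMod.natCast_zmod_val a).symm
    interval_cases c
    · left
      rw [ha, hc]; simp
    · right
      rw [ha, hc]; simp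
  · rintro (h | h)
    · rw [h, mul_zero]
    · rw [h]
      have : (2 : ZMod n) * (j : ZMod n) = ((2 * j : ℕ) : ZMod n) := by
        push_cast
        ring
      rw [this, ← hn]
      exact ZMod.natCast_self _

theorem half_ne_zero' (n j : ℕ) (hn : n = 2 * j) (hj : 0 < j) : (j : ZMod n) ≠ 0 := by
  rw [Ne, ZMod.natCast_eq_zero_iff]
  intro h
  have := Nat.le_of_dvd hj h
  omega

theorem card_T0' (n j : ℕ) (hn : n = 2 * j) (hj : 0 < j) :
    Nat.card {x : ZMod n × ZMod n // x ≠ 0 ∧ 2 • x = 0} = 3 := by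
  classical
  have : NeZero n := ⟨by omega⟩
  rw [Nat.card_eq_fintype_card, Fintype.card_subtype]
  set h : ZMod n := (j : ZMod n) with hh
  have h0 : h ≠ 0 := half_ne_zero' n j hn hj
  have h0' : (0 : ZMod n) ≠ h := Ne.symm h0
  have key : ∀ a : ZMod n, 2 * a = 0 ↔ a = 0 ∨ a = h := two_mul_eq_zero_iff' n j hn hj
  rw [Finset.card_eq_three]
  refine ⟨(h, 0), (0, h), (h, h), ?_, ?_, ?_, ?_⟩
  · simp [Prod.ext_iff, h0]
  · simp [Prod.ext_iff, h0']
  · simp [Prod.ext_iff, h0']
  · ext ⟨a, b⟩
    have e2 : (2 : ℕ) • ((a, b) : ZMod n × ZMod n) = (2 * a, 2 * b) := by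
      simp [two_smul, two_mul]
    simp only [Finset.mem_filter, Finset.mem_univ, true_and, Finset.mem_insert,
      Finset.mem_singleton, e2, Prod.ext_iff, Prod.fst_zero, Prod.snd_zero, ne_eq, key]
    constructor
    · rintro ⟨hne, (ha | ha), (hb | hb)⟩ <;> simp_all
    · rintro (⟨ha, hb⟩ | ⟨ha, hb⟩ | ⟨ha, hb⟩) <;> simp_all

theorem card_T0 (m : ℕ) (hm : 1 ≤ m) :
    Nat.card {x : ZMod (2 ^ m) × ZMod (2 ^ m) // x ≠ 0 ∧ 2 • x = 0} = 3 := by
  obtain ⟨k, rfl⟩ : ∃ k, m = k + 1 := ⟨m - 1, by omega⟩
  exact card_T0' (2 ^ (k + 1)) (2 ^ k) (pow_succ' 2 k) (by positivity)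

end ZModPart

section AutPart

variable {P : Type*} [Group P]

theorem pow_apply_of_fix (α : MulAut P) (t : P) (ht : α t = t) (i : ℕ) : (α ^ i) t = t := by
  induction i with
  | zero => simp
  | succ i ih => rw [pow_succ, MulAut.mul_apply, ht, ih]

/-- An automorphism of odd order of a commutative 2-group fixing all involutions is trivial. -/
theorem aut_eq_one_of_fix_involutions (hcomm : ∀ a b : P, a * b = b * a) (hP : IsPGroup 2 P)
    (α : MulAut P) (k : ℕ) (hk : Odd k) (hαk : α ^ k = 1)
    (hfix : ∀ x : P, x ^ 2 = 1 → α x = x) : α = 1 := by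
  have key : ∀ j : ℕ, ∀ x : P, x ^ (2 ^ j) = 1 → α x = x := by
    intro j
    induction j with
    | zero =>
      intro x hx
      rw [pow_zero, pow_one] at hx
      rw [hx, map_one]
    | succ j ih =>
      intro x hx
      have hx2 : (x ^ 2) ^ (2 ^ j) = 1 := by
        rw [← pow_mul, ← pow_succ']; exact hx
      have h1 : α (x ^ 2) = x ^ 2 := ih _ hx2
      rw [map_pow] at h1
      obtain ⟨t, ht⟩ : ∃ t, t = α x * x⁻¹ := ⟨_, rfl⟩
      have ht2 : t ^ 2 = 1 := by
        rw [ht, Commute.mul_pow (hcomm _ _), h1, inv_pow, mul_inv_cancel]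
      have hαt : α t = t := hfix t ht2
      have hαx : α x = t * x := by rw [ht, inv_mul_cancel_right]
      have hiter : ∀ i : ℕ, (α ^ i) x = t ^ i * x := by
        intro i
        induction i with
        | zero => simp
        | succ i ihi =>
          rw [pow_succ, MulAut.mul_apply, hαx, map_mul, ihi, pow_apply_of_fix α t hαt,
            pow_succ', mul_assoc]
      have hk1 := hiter k
      rw [hαk, MulAut.one_apply] at hk1
      have htk : t ^ k = 1 := by
        have := congrArg (· * x⁻¹) hk1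
        simp only [mul_inv_cancel, mul_inv_cancel_right] at this
        exact this.symm
      obtain ⟨r, hr⟩ := hk
      have ht1 : t = 1 := by
        rw [hr, pow_add, pow_mul, ht2, one_pow, one_mul, pow_one] at htk
        exact htk
      rw [hαx, ht1, one_mul]
  ext x
  obtain ⟨j, hj⟩ := hP x
  exact key j x hj

/-- The involutions of `P`. -/
abbrev Invol (P : Type*) [Group P] : Type _ := {x : P // x ≠ 1 ∧ x ^ 2 = 1}

instance involAction (A : Subgroup (MulAut P)) : MulAction A (Invol P) where
  smul α t := ⟨(α : MulAut P) t.1, by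
    constructor
    · intro h
      apply t.2.1
      have : (α : MulAut P) t.1 = (α : MulAut P) 1 := by rw [h, map_one]
      exact (α : MulAut P).injective this
    · rw [← map_pow, t.2.2, map_one]⟩
  one_smul t := by
    apply Subtype.ext
    show ((1 : A) : MulAut P) t.1 = t.1
    simp
  mul_smul α β t := by
    apply Subtype.ext
    show ((α * β : A) : MulAut P) t.1 = (α : MulAut P) ((β : MulAut P) t.1)
    simp

theorem involAction_coe (A : Subgroup (MulAut P)) (α : A) (t : Invol P) :
    ((α • t : Invol P) : P) = (α : MulAut P) t.1 := rfl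

theorem faithful_invol (hcomm : ∀ a b : P, a * b = b * a) (hP : IsPGroup 2 P)
    (A : Subgroup (MulAut P)) (hA : Odd (Nat.card A)) (α : A)
    (hα : ∀ t : Invol P, α • t = t) : α = 1 := by
  apply Subtype.ext
  apply aut_eq_one_of_fix_involutions hcomm hP (α : MulAut P) (Nat.card A) hA
  · have h := pow_card_eq_one' (G := A) (x := α)
    have := congrArg (fun a : A => (a : MulAut P)) h
    simpa only [SubmonoidClass.coe_pow, OneMemClass.coe_one] using this
  · intro x hx
    by_cases h1 : x = 1
    · rw [h1, map_one]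
    · have := hα ⟨x, h1, hx⟩
      exact congrArg Subtype.val this

theorem card_odd_aut [Finite P] (hcomm : ∀ a b : P, a * b = b * a) (hP : IsPGroup 2 P)
    (hT : Nat.card (Invol P) = 3)
    (A : Subgroup (MulAut P)) (hA : Odd (Nat.card A)) : Nat.card A = 1 ∨ Nat.card A = 3 := by
  have : Finite (Invol P) := inferInstance
  let φ : A →* Equiv.Perm (Invol P) := MulAction.toPermHom A (Invol P)
  have hφ : Function.Injective φ := by
    rw [injective_iff_map_eq_one]
    intro α hα
    apply faithful_invol hcomm hP A hA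
    intro t
    have := congrArg (fun σ : Equiv.Perm (Invol P) => σ t) hα
    simpa [φ] using this
  have hdvd : Nat.card A ∣ 6 := by
    have := Subgroup.card_dvd_of_injective φ hφ
    rw [Nat.card_perm, hT] at this
    exact this
  have hle : Nat.card A ≤ 6 := Nat.le_of_dvd (by norm_num) hdvd
  obtain ⟨r, hr⟩ := hA
  interval_cases h : Nat.card A <;> omega

/-- If `A` has order three, all involutions are fixed by `A` as soon as one is. -/
theorem all_fixed_of_one_fixed [Finite P]
    (hT : Nat.card (Invol P) = 3)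
    (A : Subgroup (MulAut P)) (h3 : Nat.card A = 3) (t : Invol P)
    (htmem : t ∈ MulAction.fixedPoints A (Invol P)) :
    ∀ s : Invol P, s ∈ MulAction.fixedPoints A (Invol P) := by
  have : Fact (Nat.Prime 3) := ⟨by norm_num⟩
  have hAp : IsPGroup 3 A := IsPGroup.of_card (n := 1) (by rw [h3]; norm_num)
  have hmod := hAp.card_modEq_card_fixedPoints (Invol P)
  rw [hT] at hmod
  have hle : Nat.card (MulAction.fixedPoints A (Invol P)) ≤ 3 := by
    rw [← hT]
    exact Nat.card_le_card_of_injective _ Subtype.val_injective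
  have hpos : 0 < Nat.card (MulAction.fixedPoints A (Invol P)) := by
    rw [Nat.card_pos_iff]
    exact ⟨⟨⟨_, htmem⟩⟩, inferInstance⟩
  have hcard : Nat.card (MulAction.fixedPoints A (Invol P)) = 3 := by
    have := hmod
    unfold Nat.ModEq at this
    interval_cases h : Nat.card (MulAction.fixedPoints A (Invol P)) <;> simp_all
  have hinj : Function.Injective (Subtype.val : MulAction.fixedPoints A (Invol P) → Invol P) :=
    Subtype.val_injective
  have hbij : Function.Bijective (Subtype.val : MulAction.fixedPoints A (Invol P) → Invol P) :=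
    hinj.bijective_of_nat_card_le (by rw [hcard, hT])
  intro s
  obtain ⟨⟨s', hs'⟩, rfl⟩ := hbij.2 s
  exact hs'

/-- In a nontrivial 2-group element fixed by `α` there is an involution fixed by `α`. -/
theorem exists_fixed_involution (hP : IsPGroup 2 P) (α : MulAut P) (z : P) (hz : z ≠ 1)
    (hfix : α z = z) : ∃ t : P, t ≠ 1 ∧ t ^ 2 = 1 ∧ α t = t := by
  have hex : ∃ k : ℕ, z ^ 2 ^ k = 1 := hP z
  classical
  set k := Nat.find hex with hk
  have hk1 : z ^ 2 ^ k = 1 := Nat.find_spec hex
  have hk0 : k ≠ 0 := by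
    intro h0
    rw [h0, pow_zero, pow_one] at hk1
    exact hz hk1
  obtain ⟨k', hk'⟩ := Nat.exists_eq_succ_of_ne_zero hk0
  refine ⟨z ^ 2 ^ k', ?_, ?_, ?_⟩
  · intro h
    have : k ≤ k' := Nat.find_min' hex h
    omega
  · rw [← pow_mul, ← pow_succ, ← Nat.succ_eq_add_one, ← hk']
    exact hk1
  · rw [map_pow, hfix]

theorem fixed_by_group_of_fixed_by_elt
    (A : Subgroup (MulAut P)) (h3 : Nat.card A = 3) (α : MulAut P) (hα : α ∈ A) (hα1 : α ≠ 1)
    (t : Invol P) (htfix : α t.1 = t.1) : t ∈ MulAction.fixedPoints A (Invol P) := by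
  have : Fact (Nat.Prime 3) := ⟨by norm_num⟩
  have hgen : Subgroup.zpowers (⟨α, hα⟩ : A) = ⊤ :=
    zpowers_eq_top_of_prime_card h3 (by
      intro h
      apply hα1
      exact congrArg Subtype.val h)
  rw [MulAction.mem_fixedPoints]
  intro β
  have hβ : β ∈ Subgroup.zpowers (⟨α, hα⟩ : A) := by rw [hgen]; trivial
  obtain ⟨i, rfl⟩ := Subgroup.mem_zpowers_iff.mp hβ
  have hα_fix : (⟨α, hα⟩ : A) • t = t := by
    apply Subtype.ext
    exact htfix
  have hstab : (⟨α, hα⟩ : A) ∈ MulAction.stabilizer A t := hα_fix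
  exact (MulAction.stabilizer A t).zpow_mem hstab i

theorem no_fixed_of_card_three [Finite P] (hcomm : ∀ a b : P, a * b = b * a) (hP : IsPGroup 2 P)
    (hT : Nat.card (Invol P) = 3)
    (A : Subgroup (MulAut P)) (h3 : Nat.card A = 3) (α : MulAut P) (hα : α ∈ A) (hα1 : α ≠ 1)
    (z : P) (hz : z ≠ 1) : α z ≠ z := by
  intro hfix
  have hA : Odd (Nat.card A) := by rw [h3]; decide
  obtain ⟨t, ht1, ht2, htfix⟩ := exists_fixed_involution hP α z hz hfix
  have htmem : (⟨t, ht1, ht2⟩ : Invol P) ∈ MulAction.fixedPoints A (Invol P) :=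
    fixed_by_group_of_fixed_by_elt A h3 α hα hα1 ⟨t, ht1, ht2⟩ htfix
  have hall := all_fixed_of_one_fixed hT A h3 _ htmem
  apply hα1
  have := faithful_invol hcomm hP A hA ⟨α, hα⟩ (fun s => by
    have := hall s
    rw [MulAction.mem_fixedPoints] at this
    exact this _)
  exact congrArg Subtype.val this

end AutPart

section Transport

variable {P : Type*} [Group P]

theorem comm_of_equiv_zmod (m : ℕ)
    (e : P ≃* Multiplicative (ZMod (2 ^ m) × ZMod (2 ^ m))) (a b : P) : a * b = b * a := by
  apply e.injective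
  rw [map_mul, map_mul, mul_comm]

theorem card_invol_of_equiv_zmod (m : ℕ) (hm : 1 ≤ m)
    (e : P ≃* Multiplicative (ZMod (2 ^ m) × ZMod (2 ^ m))) : Nat.card (Invol P) = 3 := by
  rw [← card_T0 m hm]
  refine Nat.card_congr ⟨fun x => ⟨Multiplicative.toAdd (e x.1), ?_, ?_⟩,
    fun y => ⟨e.symm (Multiplicative.ofAdd y.1), ?_, ?_⟩, ?_, ?_⟩
  · intro h
    apply x.2.1
    apply e.injective
    rw [map_one]
    exact Multiplicative.toAdd.injective h
  · have := x.2.2
    have h2 : (e x.1) ^ 2 = 1 := by rw [← map_pow, this, map_one]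
    have := congrArg Multiplicative.toAdd h2
    simpa using this
  · intro h
    apply y.2.1
    have := congrArg e h
    rw [e.apply_symm_apply, map_one] at this
    exact Multiplicative.ofAdd.injective this
  · apply e.injective
    rw [map_pow, e.apply_symm_apply, map_one, ← ofAdd_nsmul, y.2.2]
    rfl
  · intro x
    apply Subtype.ext
    simp
  · intro y
    apply Subtype.ext
    simp

end Transport

end Cfsg.Agent.Lib.Helper22
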