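import Cfsg.Agent.Lib.Helper83.Central
import Cfsg.Agent.Lib.Helper83.SecondOrth
import Cfsg.Agent.Lib.Helper83.Completeness
import Cfsg.Agent.Lib.Helper22.FourSylow

set_option autoImplicit false
set_option linter.unusedSectionVars false
set_option linter.style.haveILetI false

namespace Cfsg.Agent.Lib.Helper22

open Cfsg
open Cfsg.Agent.Lib.Helper83
open scoped ComplexConjugate

open Classical in
/-- Indicator function of the set of involutions. -/
noncomputable def invInd {G : Type*} [Group G] (g : G) : ℂ := if orderOf g = 2 then 1 else 0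

/-- Number of ways of writing `w` as a product of two involutions. -/
noncomputable def invConv {G : Type*} [Group G] [Fintype G] (w : G) : ℂ :=
  ∑ u : G, invInd u * invInd (u⁻¹ * w)

section
universe u
variable {G : Type u} [Group G]

theorem isClassFunction_invInd : IsClassFunction G (invInd (G := G)) := by
  intro g h
  unfold invInd
  rw [orderOf_conj_eq]

theorem conj_invInd (g : G) : conj (invInd g) = invInd g := by
  unfold invInd
  split_ifs <;> simp

variable [Fintype G]

theorem isClassFunction_invConv : IsClassFunction G (invConv (G := G)) := by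
  intro g h
  unfold invConv
  rw [← Equiv.sum_comp (MulAut.conj h).toEquiv]
  apply Finset.sum_congr rfl
  intro u _
  have e1 : (MulAut.conj h).toEquiv u = h * u * h⁻¹ := rfl
  rw [e1, isClassFunction_invInd u h]
  have e2 : (h * u * h⁻¹)⁻¹ * (h * g * h⁻¹) = h * (u⁻¹ * g) * h⁻¹ := by group
  rw [e2, isClassFunction_invInd (u⁻¹ * g) h]

theorem classInner_invConv (χ : IrrCharacter G) :
    classInner (invConv (G := G)) (χ : G → ℂ) =
      (Nat.card G : ℂ)⁻¹ * conj ((∑ v : G, invInd v * (χ : G → ℂ) v) *
        (∑ v : G, invInd v * (χ : G → ℂ) v) / (χ : G → ℂ) 1) := by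
  unfold classInner
  congr 1
  set S := ∑ v : G, invInd v * (χ : G → ℂ) v with hS
  have h1 : ∀ u : G, ∑ w : G, invInd u * invInd (u⁻¹ * w) * conj ((χ : G → ℂ) w) =
      conj (invInd u * (χ : G → ℂ) u) * conj (S / (χ : G → ℂ) 1) := by
    intro u
    rw [← map_mul, mul_assoc, ← mul_div_assoc, hS,
      ← irr_sum_classFunction_mul χ isClassFunction_invInd u, map_mul, map_sum, conj_invInd,
      Finset.mul_sum, ← Equiv.sum_comp (Equiv.mulLeft u)]
    apply Finset.sum_congr rfl
    intro v _
    rw [Equiv.coe_mulLeft, inv_mul_cancel_left, map_mul, conj_invInd, mul_assoc]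
  calc ∑ g : G, invConv g * conj ((χ : G → ℂ) g)
      = ∑ g : G, ∑ u : G, invInd u * invInd (u⁻¹ * g) * conj ((χ : G → ℂ) g) := by
        unfold invConv; simp only [Finset.sum_mul]
    _ = ∑ u : G, ∑ g : G, invInd u * invInd (u⁻¹ * g) * conj ((χ : G → ℂ) g) := Finset.sum_comm
    _ = ∑ u : G, conj (invInd u * (χ : G → ℂ) u) * conj (S / (χ : G → ℂ) 1) :=
        Finset.sum_congr rfl (fun u _ => h1 u)
    _ = conj (S * S / (χ : G → ℂ) 1) := by
        rw [← Finset.sum_mul, ← map_sum, ← map_mul, ← hS, mul_div_assoc]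

theorem sum_invInd_mul_of_conj (J : G) (hJ2 : orderOf J = 2)
    (hone : ∀ s : G, orderOf s = 2 → IsConj J s) (χ : IrrCharacter G) :
    (∑ v : G, invInd v * (χ : G → ℂ) v) * (Nat.card (Subgroup.centralizer ({J} : Set G)) : ℂ) =
      (Nat.card G : ℂ) * (χ : G → ℂ) J := by
  classical
  have h1 : ∀ v : G, invInd v * (χ : G → ℂ) v = if IsConj J v then (χ : G → ℂ) J else 0 := by
    intro v
    unfold invInd
    by_cases hv : orderOf v = 2
    · rw [if_pos hv, if_pos (hone v hv), one_mul]
      obtain ⟨g, hg⟩ := isConj_iff.1 (hone v hv)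
      rw [← hg]; exact isClassFunction_irr χ J g
    · rw [if_neg hv, zero_mul, if_neg]
      intro hc
      exact hv (by rw [← orderOf_eq_of_isConj hc]; exact hJ2)
  rw [Finset.sum_congr rfl (fun v _ => h1 v), ← Finset.sum_filter, Finset.sum_const,
    ← card_centralizer_mul_card_conj J, nsmul_eq_mul]
  have h2 : Nat.card {x : G // IsConj J x} = (Finset.univ.filter (fun v => IsConj J v)).card := by
    rw [Nat.card_eq_fintype_card, Fintype.card_subtype]
  rw [h2]
  push_cast
  ring

end

end Cfsg.Agent.Lib.Helper22
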