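import Cfsg.Agent.Lib.Helper22.InvolutionConv
import Cfsg.Agent.Lib.Helper42.PPrimeCore
import Cfsg.Agent.S0947

set_option autoImplicit false
set_option linter.unusedSectionVars false
set_option linter.style.haveILetI false

namespace Cfsg.Agent.Lib.Helper22

open Cfsg
open Cfsg.Agent.Lib.Helper83
open scoped ComplexConjugate

attribute [local instance] Cfsg.Agent.Lib.Helper42.pPrimeCore_normal

section
variable {X : Type*} [Group X] [Finite X]

theorem not_mem_pPrimeCore_of_orderOf_eq (p : ℕ) [Fact p.Prime] (u : X) (hu : orderOf u = p) :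
    u ∉ Cfsg.pPrimeCore p X := by
  intro huU
  have hp : p.Prime := Fact.out
  have hco := Cfsg.Agent.Lib.Helper42.pPrimeCore_card_coprime p X
  have h1 : orderOf u ∣ Nat.card (Cfsg.pPrimeCore p X) := by
    have := orderOf_dvd_natCard (⟨u, huU⟩ : Cfsg.pPrimeCore p X)
    rwa [Subgroup.orderOf_mk] at this
  rw [hu] at h1
  exact hp.one_lt.ne' (Nat.Coprime.eq_one_of_dvd hco.symm h1)

theorem quotient_pPrimeCore_comm (hidx : ∃ k : ℕ, (Cfsg.pPrimeCore 2 X).index = 2 ^ k)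
    (hfour : 2 ^ (Nat.card X).factorization 2 = 4) :
    ∀ a b : X ⧸ Cfsg.pPrimeCore 2 X, a * b = b * a := by
  have : Fact (Nat.Prime 2) := ⟨Nat.prime_two⟩
  obtain ⟨k, hk⟩ := hidx
  have hk2 := Cfsg.Agent.S0947.factorization_card_of_index 2 k hk
  rw [hk2] at hfour
  have hcard : Nat.card (X ⧸ Cfsg.pPrimeCore 2 X) = 2 ^ 2 := by
    rw [← Subgroup.index_eq_card, hk, hfour]; norm_num
  exact (IsPGroup.isMulCommutative_of_card_eq_prime_sq (p := 2) hcard).is_comm.comm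

end

section
variable {X : Type*} [Group X] [Fintype X]

open Classical in
/-- Number of involutions in the coset of `t` modulo `O_{2'}`. -/
theorem card_involutions_coset (Q : Sylow 2 X) (z t : X) (htQ : t ∈ (Q : Subgroup X))
    (hall : ∀ q ∈ (Q : Subgroup X), q = 1 ∨ q = z ∨ q = t ∨ q = z * t)
    (hz1 : z ≠ 1) (ht1 : t ≠ 1) (htz : t ≠ z) (hzz : z * z = 1) (htt : t * t = 1)
    (hzc : ∀ x : X, z * x = x * z)
    (hcomm : ∀ a b : X ⧸ Cfsg.pPrimeCore 2 X, a * b = b * a) :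
    (∑ v : X, if orderOf v = 2 ∧ (v : X ⧸ Cfsg.pPrimeCore 2 X) = (t : X ⧸ Cfsg.pPrimeCore 2 X)
        then (1 : ℂ) else 0) *
      (Nat.card (Subgroup.centralizer ((Q : Subgroup X) : Set X)) : ℂ) = (Nat.card X : ℂ) := by
  classical
  have : Fact (Nat.Prime 2) := ⟨Nat.prime_two⟩
  have hzt1 : z * t ≠ 1 := by
    intro h
    apply htz
    calc t = z * (z * t) := by rw [← mul_assoc, hzz, one_mul]
      _ = z := by rw [h, mul_one]
  have hztzt : (z * t) * (z * t) = 1 := by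
    calc (z * t) * (z * t) = z * (t * z) * t := by group
      _ = z * (z * t) * t := by rw [hzc t]
      _ = (z * z) * (t * t) := by group
      _ = 1 := by rw [hzz, htt, one_mul]
  have hord : ∀ q ∈ (Q : Subgroup X), q ≠ 1 → orderOf q = 2 := by
    intro q hq hq1
    rcases hall q hq with h | h | h | h
    · exact absurd h hq1
    · rw [h]; exact orderOf_eq_prime (by rw [pow_two]; exact hzz) hz1
    · rw [h]; exact orderOf_eq_prime (by rw [pow_two]; exact htt) ht1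
    · rw [h]; exact orderOf_eq_prime (by rw [pow_two]; exact hztzt) hzt1
  have hQU : ∀ q ∈ (Q : Subgroup X), q ∈ Cfsg.pPrimeCore 2 X → q = 1 := by
    intro q hq hqU
    by_contra hq1
    exact not_mem_pPrimeCore_of_orderOf_eq 2 q (hord q hq hq1) hqU
  have ht2 : orderOf t = 2 := hord t htQ ht1
  -- characterisation of the summand
  have hiff : ∀ v : X, (orderOf v = 2 ∧
      (v : X ⧸ Cfsg.pPrimeCore 2 X) = (t : X ⧸ Cfsg.pPrimeCore 2 X)) ↔ IsConj t v := by
    intro v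
    constructor
    · rintro ⟨hv2, hvt⟩
      obtain ⟨h, hh⟩ := exists_conj_mem_sylow Q v ⟨1, by rw [hv2, pow_one]⟩
      have e1 : ((h * v * h⁻¹ : X) : X ⧸ Cfsg.pPrimeCore 2 X) = (t : X ⧸ Cfsg.pPrimeCore 2 X) := by
        rw [QuotientGroup.mk_mul, QuotientGroup.mk_mul, hcomm (h : X ⧸ Cfsg.pPrimeCore 2 X),
          QuotientGroup.mk_inv, mul_inv_cancel_right, hvt]
      have e2 : (h * v * h⁻¹)⁻¹ * t ∈ Cfsg.pPrimeCore 2 X := QuotientGroup.eq.1 e1
      have e3 := hQU _ (Subgroup.mul_mem _ (Subgroup.inv_mem _ hh) htQ) e2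
      have e4 : t = h * v * h⁻¹ := by
        calc t = (h * v * h⁻¹) * ((h * v * h⁻¹)⁻¹ * t) := by group
          _ = h * v * h⁻¹ := by rw [e3, mul_one]
      rw [e4]
      exact isConj_iff.2 ⟨h⁻¹, by group⟩
    · intro hc
      refine ⟨by rw [← orderOf_eq_of_isConj hc]; exact ht2, ?_⟩
      obtain ⟨g, hg⟩ := isConj_iff.1 hc
      rw [← hg, QuotientGroup.mk_mul, QuotientGroup.mk_mul, hcomm (g : X ⧸ Cfsg.pPrimeCore 2 X),
        QuotientGroup.mk_inv, mul_inv_cancel_right]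
  have hcent : Subgroup.centralizer ((Q : Subgroup X) : Set X) =
      Subgroup.centralizer ({t} : Set X) := by
    apply le_antisymm
    · apply Subgroup.centralizer_le
      intro x hx
      rw [Set.mem_singleton_iff] at hx
      rw [hx]; exact htQ
    · intro c hc
      have hct : t * c = c * t := (Subgroup.mem_centralizer_iff.1 hc) t rfl
      rw [Subgroup.mem_centralizer_iff]
      intro q hq
      rcases hall q hq with h | h | h | h
      · rw [h, one_mul, mul_one]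
      · rw [h]; exact hzc c
      · rw [h]; exact hct
      · rw [h, mul_assoc, hct, ← mul_assoc, hzc c, mul_assoc]
  rw [hcent, ← card_centralizer_mul_card_conj t]
  have h2 : Nat.card {x : X // IsConj t x} = (Finset.univ.filter (fun v => IsConj t v)).card := by
    rw [Nat.card_eq_fintype_card, Fintype.card_subtype]
  rw [h2, Finset.sum_congr rfl (fun v _ => if_congr (hiff v) rfl rfl), ← Finset.sum_filter,
    Finset.sum_const, nsmul_eq_mul, mul_one]
  push_cast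
  ring

end

section
variable {X : Type*} [Group X] [Finite X]

theorem eq_one_of_mem_sylow_of_mem_pPrimeCore (p : ℕ) [Fact p.Prime] (Q : Sylow p X) (q : X)
    (hq : q ∈ (Q : Subgroup X)) (hqU : q ∈ Cfsg.pPrimeCore p X) : q = 1 := by
  have hco := Cfsg.Agent.Lib.Helper42.pPrimeCore_card_coprime p X
  obtain ⟨k, hk⟩ := Q.2 ⟨q, hq⟩
  have h1 : orderOf q ∣ p ^ k := by
    apply orderOf_dvd_of_pow_eq_one
    have := congrArg Subtype.val hk
    simpa using this
  have h2 : orderOf q ∣ Nat.card (Cfsg.pPrimeCore p X) := by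
    have := orderOf_dvd_natCard (⟨q, hqU⟩ : Cfsg.pPrimeCore p X)
    rwa [Subgroup.orderOf_mk] at this
  have hco' : Nat.Coprime (p ^ k) (Nat.card (Cfsg.pPrimeCore p X)) := (hco.symm).pow_left k
  have := Nat.Coprime.eq_one_of_dvd (Nat.Coprime.coprime_dvd_left h1 hco') h2
  exact orderOf_eq_one_iff.1 this

end

section
variable {X : Type*} [Group X] [Fintype X]

open Classical in
/-- Counting pairs of involutions with product in `z O_{2'}(X)`, for a central involution `z`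
in a Klein four Sylow `2`-subgroup. -/
theorem involution_pair_count (Q : Sylow 2 X) (z t : X) (hzQ : z ∈ (Q : Subgroup X))
    (htQ : t ∈ (Q : Subgroup X))
    (hall : ∀ q ∈ (Q : Subgroup X), q = 1 ∨ q = z ∨ q = t ∨ q = z * t)
    (hz1 : z ≠ 1) (ht1 : t ≠ 1) (htz : t ≠ z) (hzz : z * z = 1) (htt : t * t = 1)
    (hzc : ∀ x : X, z * x = x * z)
    (hidx : ∃ k : ℕ, (Cfsg.pPrimeCore 2 X).index = 2 ^ k)
    (hfour : 2 ^ (Nat.card X).factorization 2 = 4) :
    (∑ k : X, if k ∈ Cfsg.pPrimeCore 2 X then invConv (z * k) else 0) *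
      (Nat.card (Subgroup.centralizer ((Q : Subgroup X) : Set X)) : ℂ) ^ 2 =
      2 * (Nat.card X : ℂ) ^ 2 := by
  classical
  have : Fact (Nat.Prime 2) := ⟨Nat.prime_two⟩
  have hcomm := quotient_pPrimeCore_comm hidx hfour
  let _ : Fintype (X ⧸ Cfsg.pPrimeCore 2 X) := Fintype.ofFinite _
  have hzt1 : z * t ≠ 1 := by
    intro h
    apply htz
    calc t = z * (z * t) := by rw [← mul_assoc, hzz, one_mul]
      _ = z := by rw [h, mul_one]
  have hztzt : (z * t) * (z * t) = 1 := by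
    calc (z * t) * (z * t) = z * (t * z) * t := by group
      _ = z * (z * t) * t := by rw [hzc t]
      _ = (z * z) * (t * t) := by group
      _ = 1 := by rw [hzz, htt, one_mul]
  have hztQ : z * t ∈ (Q : Subgroup X) := Subgroup.mul_mem _ hzQ htQ
  have hzinv : z⁻¹ = z := inv_eq_of_mul_eq_one_left hzz
  have htinv : t⁻¹ = t := inv_eq_of_mul_eq_one_left htt
  have hQU := eq_one_of_mem_sylow_of_mem_pPrimeCore 2 Q
  set cnt : X ⧸ Cfsg.pPrimeCore 2 X → ℂ := fun b =>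
    ∑ v : X, if orderOf v = 2 ∧ (v : X ⧸ Cfsg.pPrimeCore 2 X) = b then (1 : ℂ) else 0 with hcnt
  -- the two coset counts
  have hA := card_involutions_coset Q z t htQ hall hz1 ht1 htz hzz htt hzc hcomm
  have hB := card_involutions_coset Q z (z * t) hztQ (by
      intro q hq
      rcases hall q hq with h | h | h | h
      · left; exact h
      · right; left; exact h
      · right; right; right; rw [h, ← mul_assoc, hzz, one_mul]
      · right; right; left; exact h) hz1 hzt1 (by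
      intro h
      apply ht1
      calc t = z⁻¹ * (z * t) := by group
        _ = 1 := by rw [h, inv_mul_cancel]) hzz hztzt hzc hcomm
  change cnt (t : X ⧸ Cfsg.pPrimeCore 2 X) * _ = _ at hA
  change cnt ((z * t : X) : X ⧸ Cfsg.pPrimeCore 2 X) * _ = _ at hB
  -- Step 1
  have hinner : ∀ u : X, ∑ k : X, (if k ∈ Cfsg.pPrimeCore 2 X then invInd (u⁻¹ * (z * k)) else 0) =
      cnt ((u : X ⧸ Cfsg.pPrimeCore 2 X)⁻¹ * (z : X ⧸ Cfsg.pPrimeCore 2 X)) := by
    intro u
    rw [← Equiv.sum_comp (Equiv.mulLeft (z⁻¹ * u))]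
    apply Finset.sum_congr rfl
    intro v _
    rw [Equiv.coe_mulLeft]
    have e : u⁻¹ * (z * (z⁻¹ * u * v)) = v := by group
    rw [e]
    unfold invInd
    have hiff : z⁻¹ * u * v ∈ Cfsg.pPrimeCore 2 X ↔
        (v : X ⧸ Cfsg.pPrimeCore 2 X) = (u : X ⧸ Cfsg.pPrimeCore 2 X)⁻¹ *
          (z : X ⧸ Cfsg.pPrimeCore 2 X) := by
      rw [← QuotientGroup.mk_inv, ← QuotientGroup.mk_mul, eq_comm, QuotientGroup.eq]
      have : (u⁻¹ * z)⁻¹ * v = z⁻¹ * u * v := by group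
      rw [this]
    by_cases h1 : z⁻¹ * u * v ∈ Cfsg.pPrimeCore 2 X
    · rw [if_pos h1]
      by_cases h2 : orderOf v = 2
      · rw [if_pos h2, if_pos ⟨h2, hiff.1 h1⟩]
      · rw [if_neg h2, if_neg (fun h => h2 h.1)]
    · rw [if_neg h1, if_neg (fun h => h1 (hiff.2 h.2))]
  have hN : ∑ k : X, (if k ∈ Cfsg.pPrimeCore 2 X then invConv (z * k) else 0) =
      ∑ u : X, invInd u * cnt ((u : X ⧸ Cfsg.pPrimeCore 2 X)⁻¹ *
        (z : X ⧸ Cfsg.pPrimeCore 2 X)) := by
    unfold invConv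
    have h0 : ∀ k : X, (if k ∈ Cfsg.pPrimeCore 2 X then
        ∑ u : X, invInd u * invInd (u⁻¹ * (z * k)) else 0) =
        ∑ u : X, invInd u * (if k ∈ Cfsg.pPrimeCore 2 X then invInd (u⁻¹ * (z * k)) else 0) := by
      intro k
      split_ifs
      · rfl
      · simp
    rw [Finset.sum_congr rfl (fun k _ => h0 k), Finset.sum_comm]
    apply Finset.sum_congr rfl
    intro u _
    rw [← Finset.mul_sum, hinner u]
  -- Step 2
  have hN2 : ∑ u : X, invInd u * cnt ((u : X ⧸ Cfsg.pPrimeCore 2 X)⁻¹ *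
        (z : X ⧸ Cfsg.pPrimeCore 2 X)) =
      ∑ b : X ⧸ Cfsg.pPrimeCore 2 X, cnt b * cnt (b⁻¹ * (z : X ⧸ Cfsg.pPrimeCore 2 X)) := by
    have h0 : ∀ b : X ⧸ Cfsg.pPrimeCore 2 X,
        cnt b * cnt (b⁻¹ * (z : X ⧸ Cfsg.pPrimeCore 2 X)) =
        ∑ u : X, (if orderOf u = 2 ∧ (u : X ⧸ Cfsg.pPrimeCore 2 X) = b then
          cnt (b⁻¹ * (z : X ⧸ Cfsg.pPrimeCore 2 X)) else 0) := by
      intro b
      change (∑ v : X, if orderOf v = 2 ∧ (v : X ⧸ Cfsg.pPrimeCore 2 X) = b then (1 : ℂ) else 0) *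
        cnt (b⁻¹ * (z : X ⧸ Cfsg.pPrimeCore 2 X)) = _
      rw [Finset.sum_mul]
      apply Finset.sum_congr rfl
      intro u _
      rw [ite_mul, one_mul, zero_mul]
    rw [Finset.sum_congr rfl (fun b _ => h0 b), Finset.sum_comm]
    apply Finset.sum_congr rfl
    intro u _
    unfold invInd
    by_cases h2 : orderOf u = 2
    · simp only [h2, true_and, if_true, one_mul]
      rw [Finset.sum_ite_eq Finset.univ (u : X ⧸ Cfsg.pPrimeCore 2 X)
        (fun b => cnt (b⁻¹ * (z : X ⧸ Cfsg.pPrimeCore 2 X)))]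
      simp
    · simp [h2]
  -- Step 3
  have hF4 : ∀ v : X, orderOf v = 2 →
      (v : X ⧸ Cfsg.pPrimeCore 2 X) = (z : X ⧸ Cfsg.pPrimeCore 2 X) ∨
      (v : X ⧸ Cfsg.pPrimeCore 2 X) = (t : X ⧸ Cfsg.pPrimeCore 2 X) ∨
      (v : X ⧸ Cfsg.pPrimeCore 2 X) = ((z * t : X) : X ⧸ Cfsg.pPrimeCore 2 X) := by
    intro v hv2
    obtain ⟨h, hh⟩ := exists_conj_mem_sylow Q v ⟨1, by rw [hv2, pow_one]⟩
    have e1 : ((h * v * h⁻¹ : X) : X ⧸ Cfsg.pPrimeCore 2 X) =
        (v : X ⧸ Cfsg.pPrimeCore 2 X) := by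
      rw [QuotientGroup.mk_mul, QuotientGroup.mk_mul, hcomm (h : X ⧸ Cfsg.pPrimeCore 2 X),
        QuotientGroup.mk_inv, mul_inv_cancel_right]
    have hne : h * v * h⁻¹ ≠ 1 := by
      intro h1
      have h2 := orderOf_conj_eq h v
      rw [h1, orderOf_one, hv2] at h2
      norm_num at h2
    rcases hall _ hh with h1 | h1 | h1 | h1
    · exact absurd h1 hne
    · left; rw [← e1, h1]
    · right; left; rw [← e1, h1]
    · right; right; rw [← e1, h1]
  have hzero : ∀ b : X ⧸ Cfsg.pPrimeCore 2 X,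
      b ≠ (z : X ⧸ Cfsg.pPrimeCore 2 X) → b ≠ (t : X ⧸ Cfsg.pPrimeCore 2 X) →
      b ≠ ((z * t : X) : X ⧸ Cfsg.pPrimeCore 2 X) → cnt b = 0 := by
    intro b h1 h2 h3
    rw [hcnt]
    apply Finset.sum_eq_zero
    intro v _
    rw [if_neg]
    rintro ⟨hv2, hvb⟩
    rcases hF4 v hv2 with h | h | h
    · exact h1 (hvb.symm.trans h)
    · exact h2 (hvb.symm.trans h)
    · exact h3 (hvb.symm.trans h)
  have hone : cnt 1 = 0 := by
    rw [hcnt]
    apply Finset.sum_eq_zero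
    intro v _
    rw [if_neg]
    rintro ⟨hv2, hvb⟩
    exact not_mem_pPrimeCore_of_orderOf_eq 2 v hv2 ((QuotientGroup.eq_one_iff v).1 hvb)
  -- distinctness
  have hd1 : (z : X ⧸ Cfsg.pPrimeCore 2 X) ≠ (t : X ⧸ Cfsg.pPrimeCore 2 X) := by
    intro h
    have := hQU _ (Subgroup.mul_mem _ (Subgroup.inv_mem _ hzQ) htQ) (QuotientGroup.eq.1 h)
    apply htz
    calc t = z * (z⁻¹ * t) := by group
      _ = z := by rw [this, mul_one]
  have hd2 : (z : X ⧸ Cfsg.pPrimeCore 2 X) ≠ ((z * t : X) : X ⧸ Cfsg.pPrimeCore 2 X) := by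
    intro h
    have := hQU _ (Subgroup.mul_mem _ (Subgroup.inv_mem _ hzQ) hztQ) (QuotientGroup.eq.1 h)
    apply ht1
    calc t = z⁻¹ * (z * t) := by group
      _ = 1 := this
  have hd3 : (t : X ⧸ Cfsg.pPrimeCore 2 X) ≠ ((z * t : X) : X ⧸ Cfsg.pPrimeCore 2 X) := by
    intro h
    have := hQU _ (Subgroup.mul_mem _ (Subgroup.inv_mem _ htQ) hztQ) (QuotientGroup.eq.1 h)
    apply hz1
    calc z = t * (t⁻¹ * (z * t)) * t⁻¹ := by group
      _ = 1 := by rw [this]; group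
  -- Step 4
  have hN3 : ∑ b : X ⧸ Cfsg.pPrimeCore 2 X, cnt b * cnt (b⁻¹ * (z : X ⧸ Cfsg.pPrimeCore 2 X)) =
      2 * (cnt (t : X ⧸ Cfsg.pPrimeCore 2 X) *
        cnt ((z * t : X) : X ⧸ Cfsg.pPrimeCore 2 X)) := by
    let S : Finset (X ⧸ Cfsg.pPrimeCore 2 X) :=
      {(z : X ⧸ Cfsg.pPrimeCore 2 X), (t : X ⧸ Cfsg.pPrimeCore 2 X),
        ((z * t : X) : X ⧸ Cfsg.pPrimeCore 2 X)}
    rw [← Finset.sum_subset (Finset.subset_univ S) (by
      intro b _ hb
      simp only [S, Finset.mem_insert, Finset.mem_singleton, not_or] at hb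
      rw [hzero b hb.1 hb.2.1 hb.2.2, zero_mul])]
    rw [Finset.sum_insert (by
        simp only [Finset.mem_insert, Finset.mem_singleton, not_or]; exact ⟨hd1, hd2⟩),
      Finset.sum_insert (by simp only [Finset.mem_singleton]; exact hd3), Finset.sum_singleton]
    have e1 : (z : X ⧸ Cfsg.pPrimeCore 2 X)⁻¹ * (z : X ⧸ Cfsg.pPrimeCore 2 X) = 1 :=
      inv_mul_cancel _
    have e2 : (t : X ⧸ Cfsg.pPrimeCore 2 X)⁻¹ * (z : X ⧸ Cfsg.pPrimeCore 2 X) =
        ((z * t : X) : X ⧸ Cfsg.pPrimeCore 2 X) := by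
      rw [← QuotientGroup.mk_inv, ← QuotientGroup.mk_mul, htinv, ← hzc t]
    have e3 : ((z * t : X) : X ⧸ Cfsg.pPrimeCore 2 X)⁻¹ * (z : X ⧸ Cfsg.pPrimeCore 2 X) =
        (t : X ⧸ Cfsg.pPrimeCore 2 X) := by
      rw [← QuotientGroup.mk_inv, ← QuotientGroup.mk_mul]
      congr 1
      rw [mul_inv_rev, htinv, hzinv, mul_assoc, hzz, mul_one]
    rw [e1, e2, e3, hone, mul_zero, zero_add]
    ring
  rw [hN, hN2, hN3]
  have : 2 * (cnt (t : X ⧸ Cfsg.pPrimeCore 2 X) *
      cnt ((z * t : X) : X ⧸ Cfsg.pPrimeCore 2 X)) *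
      (Nat.card (Subgroup.centralizer ((Q : Subgroup X) : Set X)) : ℂ) ^ 2 =
      2 * ((cnt (t : X ⧸ Cfsg.pPrimeCore 2 X) *
        (Nat.card (Subgroup.centralizer ((Q : Subgroup X) : Set X)) : ℂ)) *
      (cnt ((z * t : X) : X ⧸ Cfsg.pPrimeCore 2 X) *
        (Nat.card (Subgroup.centralizer ((Q : Subgroup X) : Set X)) : ℂ))) := by ring
  rw [this, hA, hB]
  ring

end

end Cfsg.Agent.Lib.Helper22
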