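import Cfsg.Agent.Lib.Helper22.InvolutionCount

set_option autoImplicit false
set_option linter.unusedSectionVars false
set_option linter.style.haveILetI false

namespace Cfsg.Agent.Lib.Helper22

open Cfsg
open Cfsg.Agent.Lib.Helper83
open scoped ComplexConjugate

section
variable {G : Type*} [Group G]

/-- If `u` and `u⁻¹ * (J * k)` are involutions, where `J` is an involution commuting with the
odd order element `k`, then `u` centralizes `J`. -/
theorem commute_of_involution_factor (J k u : G) (hJ2 : orderOf J = 2) (hJk : J * k = k * J)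
    (hk : ¬ 2 ∣ orderOf k) (hu : orderOf u = 2) (hv : orderOf (u⁻¹ * (J * k)) = 2) :
    J * u = u * J := by
  have hJJ : J ^ 2 = 1 := by rw [← hJ2]; exact pow_orderOf_eq_one J
  have huu : u ^ 2 = 1 := by rw [← hu]; exact pow_orderOf_eq_one u
  have hvv : (u⁻¹ * (J * k)) ^ 2 = 1 := by rw [← hv]; exact pow_orderOf_eq_one _
  have hJinv : J⁻¹ = J := by
    apply inv_eq_of_mul_eq_one_left; rw [← pow_two]; exact hJJ
  have huinv : u⁻¹ = u := by
    apply inv_eq_of_mul_eq_one_left; rw [← pow_two]; exact huu
  set w := J * k with hw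
  -- u inverts w
  have hinv : u * w * u⁻¹ = w⁻¹ := by
    have h1 : u⁻¹ * w * (u⁻¹ * w) = 1 := by rw [← pow_two]; exact hvv
    rw [huinv] at h1 ⊢
    -- u w u w = 1
    have h2 : u * w * u = w⁻¹ := by
      calc u * w * u = (u * w * (u * w)) * w⁻¹ := by group
        _ = w⁻¹ := by rw [h1, one_mul]
    exact h2
  -- J is a power of w
  have hodd : Odd (orderOf k) := Nat.odd_iff.2 (by omega)
  obtain ⟨j, hj⟩ := hodd
  have hcomm : Commute J k := hJk
  have hwm : w ^ orderOf k = J := by
    rw [hw, hcomm.mul_pow, pow_orderOf_eq_one, mul_one, hj, pow_succ, pow_mul, hJJ, one_pow,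
      one_mul]
  have h3 : u * J * u⁻¹ = J := by
    calc u * J * u⁻¹ = u * w ^ orderOf k * u⁻¹ := by rw [hwm]
      _ = (u * w * u⁻¹) ^ orderOf k := (conj_pow).symm
      _ = (w⁻¹) ^ orderOf k := by rw [hinv]
      _ = (w ^ orderOf k)⁻¹ := inv_pow _ _
      _ = J := by rw [hwm, hJinv]
  calc J * u = (u * J * u⁻¹) * u := by rw [h3]
    _ = u * J := by group

variable [Fintype G]

open Classical in
/-- `invConv` at `J * k` computed inside the centralizer of `J`. -/
theorem invConv_centralizer_shift (J : G) (hJ2 : orderOf J = 2)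
    [Fintype (Subgroup.centralizer ({J} : Set G))]
    (k : Subgroup.centralizer ({J} : Set G)) (hk : ¬ 2 ∣ orderOf (k : G)) :
    invConv (J * (k : G)) =
      invConv ((⟨J, Subgroup.mem_centralizer_iff.2 (fun h hh => by
        rw [Set.mem_singleton_iff] at hh; rw [hh])⟩ : Subgroup.centralizer ({J} : Set G)) * k) := by
  unfold invConv
  have hJk : J * (k : G) = (k : G) * J := (Subgroup.mem_centralizer_iff.1 k.2) J rfl
  have hvanish : ∀ u : G, u ∉ Subgroup.centralizer ({J} : Set G) →
      invInd u * invInd (u⁻¹ * (J * (k : G))) = 0 := by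
    intro u hu
    unfold invInd
    by_cases h1 : orderOf u = 2
    · by_cases h2 : orderOf (u⁻¹ * (J * (k : G))) = 2
      · exfalso
        apply hu
        rw [Subgroup.mem_centralizer_iff]
        intro h hh
        rw [Set.mem_singleton_iff] at hh
        rw [hh]
        exact commute_of_involution_factor J k u hJ2 hJk hk h1 h2
      · rw [if_neg h2, mul_zero]
    · rw [if_neg h1, zero_mul]
  rw [← Finset.sum_subset (Finset.subset_univ
    (Finset.univ.filter (fun u : G => u ∈ Subgroup.centralizer ({J} : Set G)))) (by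
      intro u _ hu
      rw [Finset.mem_filter] at hu
      exact hvanish u (fun h => hu ⟨Finset.mem_univ _, h⟩))]
  rw [Finset.sum_subtype (Finset.univ.filter (fun u : G => u ∈ Subgroup.centralizer ({J} : Set G)))
    (p := fun u => u ∈ Subgroup.centralizer ({J} : Set G)) (by intro x; simp)]
  apply Finset.sum_congr rfl
  intro u _
  have e1 : invInd (u : G) = invInd u := by
    unfold invInd; rw [Subgroup.orderOf_coe]
  have e2 : invInd ((u : G)⁻¹ * (J * (k : G))) = invInd (u⁻¹ * ((⟨J, Subgroup.mem_centralizer_iff.2 (fun h hh => by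
        rw [Set.mem_singleton_iff] at hh; rw [hh])⟩ : Subgroup.centralizer ({J} : Set G)) * k)) := by
    unfold invInd
    rw [← Subgroup.orderOf_coe]
    rfl
  rw [e1, e2]

end

end Cfsg.Agent.Lib.Helper22
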