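import Mathlib
import Cfsg.Agent.S0032

/-!
# Group-side facts for K-S3779-AL (associated Lie ring of a group with a fixed-point-free
automorphism of prime order); standalone lemmas, no dependence on the graded construction.
-/

set_option autoImplicit false

namespace Cfsg.Agent.Lib.Helper22.KK

/-- a finite group with a fixed point free automorphism `α`, `α ^ p = 1`, has order `≡ 1 mod p` -/
theorem card_modEq_one {G : Type*} [Group G] [Finite G] (p : ℕ) (hp : p.Prime) (α : MulAut G)
    (hα : α ^ p = 1) (hfpf : ∀ g : G, α g = g → g = 1) : Nat.card G ≡ 1 [MOD p] := by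
  haveI : Fact p.Prime := ⟨hp⟩
  have hP : IsPGroup p (Subgroup.zpowers α) := by
    rintro ⟨g, hg⟩
    obtain ⟨k, rfl⟩ := Subgroup.mem_zpowers_iff.mp hg
    refine ⟨1, ?_⟩
    apply Subtype.ext
    simp only [pow_one, Subgroup.coe_pow, Subgroup.coe_one]
    rw [← zpow_natCast, ← zpow_mul, mul_comm, zpow_mul, zpow_natCast, hα, one_zpow]
  have h := hP.card_modEq_card_fixedPoints G
  have hfix : MulAction.fixedPoints (Subgroup.zpowers α) G = {1} := by
    ext g
    simp only [MulAction.mem_fixedPoints, Set.mem_singleton_iff]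
    constructor
    · intro hg
      exact hfpf g (hg ⟨α, Subgroup.mem_zpowers α⟩)
    · rintro rfl
      rintro ⟨β, hβ⟩
      exact map_one β
  rw [hfix] at h
  simpa using h

/-- hence the order is prime to `p` -/
theorem card_coprime {G : Type*} [Group G] [Finite G] (p : ℕ) (hp : p.Prime) (α : MulAut G)
    (hα : α ^ p = 1) (hfpf : ∀ g : G, α g = g → g = 1) : (Nat.card G).Coprime p := by
  have h := card_modEq_one p hp α hα hfpf
  rw [Nat.coprime_comm, hp.coprime_iff_not_dvd]
  intro hd
  have h0 : Nat.card G ≡ 0 [MOD p] := (Nat.modEq_zero_iff_dvd).mpr hd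
  have h1 : (1 : ℕ) ≡ 0 [MOD p] := h.symm.trans h0
  have := (Nat.modEq_zero_iff_dvd).mp h1
  exact hp.one_lt.ne' (Nat.dvd_one.mp this)

/-- orders of all subgroups and subquotients are prime to `p` -/
theorem card_subgroup_coprime {G : Type*} [Group G] [Finite G] (p : ℕ) (hp : p.Prime) (α : MulAut G)
    (hα : α ^ p = 1) (hfpf : ∀ g : G, α g = g → g = 1) (H : Subgroup G) :
    (Nat.card H).Coprime p :=
  Nat.Coprime.coprime_dvd_left (Subgroup.card_subgroup_dvd_card H) (card_coprime p hp α hα hfpf)

theorem card_quotient_coprime {G : Type*} [Group G] [Finite G] (p : ℕ) (hp : p.Prime) (α : MulAut G)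
    (hα : α ^ p = 1) (hfpf : ∀ g : G, α g = g → g = 1) (H : Subgroup G) (K : Subgroup H) :
    (Nat.card (H ⧸ K)).Coprime p := by
  have h1 : Nat.card (H ⧸ K) ∣ Nat.card H := by
    rw [← Subgroup.index_eq_card]; exact Subgroup.index_dvd_card K
  exact Nat.Coprime.coprime_dvd_left h1 (card_subgroup_coprime p hp α hα hfpf H)

/-- automorphisms preserve the terms of the lower central series -/
theorem lcs_map_mulAut {G : Type*} [Group G] (α : MulAut G) (n : ℕ) {x : G}
    (hx : x ∈ (⊤ : Subgroup G).lowerCentralSeries n) :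
    α x ∈ (⊤ : Subgroup G).lowerCentralSeries n := by
  have hchar : ((⊤ : Subgroup G).lowerCentralSeries n).Characteristic := inferInstance
  have h := Subgroup.characteristic_iff_map_eq.mp hchar α
  rw [← h]
  exact Subgroup.mem_map_of_mem _ hx

theorem lcs_map_mulAut_iff {G : Type*} [Group G] (α : MulAut G) (n : ℕ) {x : G} :
    α x ∈ (⊤ : Subgroup G).lowerCentralSeries n ↔ x ∈ (⊤ : Subgroup G).lowerCentralSeries n := by
  constructor
  · intro h
    have := lcs_map_mulAut α⁻¹ n h
    simpa using this
  · exact lcs_map_mulAut α n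

/-- a fixed point free automorphism of a finite group is fixed point free on `G / γ n`:
if `(α x)⁻¹ * x ∈ γ n` then `x ∈ γ n`. -/
theorem mem_lcs_of_fixed_mod {G : Type*} [Group G] [Finite G] (α : MulAut G)
    (hfpf : ∀ g : G, α g = g → g = 1) (n : ℕ) {x : G}
    (hx : (α x)⁻¹ * x ∈ (⊤ : Subgroup G).lowerCentralSeries n) :
    x ∈ (⊤ : Subgroup G).lowerCentralSeries n := by
  haveI : ((⊤ : Subgroup G).lowerCentralSeries n).Normal := inferInstance
  exact Cfsg.Agent.S0032.result α (fun g hg => hfpf g hg) ((⊤ : Subgroup G).lowerCentralSeries n)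
    (fun g hg => lcs_map_mulAut α n hg) x hx

/-- if the lower central series of a nilpotent group stabilises at `c`, it has reached `⊥` -/
theorem lcs_eq_bot_of_eq_succ {G : Type*} [Group G] (hnil : Group.IsNilpotent G) (c : ℕ)
    (h : (⊤ : Subgroup G).lowerCentralSeries c = (⊤ : Subgroup G).lowerCentralSeries (c + 1)) :
    (⊤ : Subgroup G).lowerCentralSeries c = ⊥ := by
  have hstab : ∀ m, (⊤ : Subgroup G).lowerCentralSeries (c + m) = (⊤ : Subgroup G).lowerCentralSeries c := by
    intro m
    induction m with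
    | zero => rfl
    | succ m ih =>
      rw [← add_assoc, Subgroup.lowerCentralSeries_succ, ih, ← Subgroup.lowerCentralSeries_succ, ← h]
  obtain ⟨n, hn⟩ := nilpotent_iff_lowerCentralSeries.mp hnil
  have h1 : (⊤ : Subgroup G).lowerCentralSeries (c + n) ≤ (⊤ : Subgroup G).lowerCentralSeries n :=
    Subgroup.lowerCentralSeries_antitone _ (Nat.le_add_left n c)
  rw [hstab n, hn] at h1
  exact le_bot_iff.mp h1

/-- multiplication by `p` is bijective on a finite additive group of order prime to `p` -/
theorem nsmul_bijective_of_coprime {A : Type*} [AddCommGroup A] (p : ℕ)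
    (h : (Nat.card A).Coprime p) : Function.Bijective (fun a : A => p • a) :=
  h.nsmul_right_bijective

end Cfsg.Agent.Lib.Helper22.KK
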