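import Cfsg.Agent.Lib.Helper94.LCDefs
import Cfsg.Agent.Lib.Helper66.LCA0

/-!
# S0406, pack K-LC, LEAF A7b (640614): the sign changes `ε` with `8 ∣ Σ ε v` on the even vectors of `L`.
-/

set_option autoImplicit false
open Matrix

namespace Cfsg.Agent.Lib.Helper22.LC

open Cfsg.Agent.Lib.Helper94.LC

/-- LEAF A7a (own copy): every linear functional on a submodule of `(ZMod 2)^24` is a dot product -/
theorem exists_dot_repr' (C : Submodule (ZMod 2) (Fin 24 → ZMod 2)) (φ : C →ₗ[ZMod 2] ZMod 2) :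
    ∃ s : Fin 24 → ZMod 2, ∀ w : C, φ w = ∑ i, s i * (w : Fin 24 → ZMod 2) i := by
  obtain ⟨ψ, hψ⟩ := LinearMap.exists_extend φ
  refine ⟨fun i => ψ (Pi.single i 1), fun w => ?_⟩
  have h1 : φ w = ψ (w : Fin 24 → ZMod 2) := by
    rw [← hψ]; rfl
  rw [h1]
  conv_lhs => rw [← Finset.univ_sum_single (w : Fin 24 → ZMod 2)]
  rw [map_sum]
  apply Finset.sum_congr rfl
  intro i _
  have : (Pi.single i ((w : Fin 24 → ZMod 2) i) : Fin 24 → ZMod 2) =
      ((w : Fin 24 → ZMod 2) i) • (Pi.single i 1 : Fin 24 → ZMod 2) := by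
    rw [← Pi.single_smul, smul_eq_mul, mul_one]
  rw [this, map_smul, smul_eq_mul, mul_comm]

variable (L : AddSubgroup (Fin 24 → ℤ))

/-- in `ZMod 2` the sum of the entries is the weight -/
theorem sum_eq_hammingNorm (w : Fin 24 → ZMod 2) : ∑ i, w i = (hammingNorm w : ZMod 2) := by
  have h : ∀ a : ZMod 2, a = if a ≠ 0 then 1 else 0 := by decide
  have h1 : ∑ i, w i = ∑ i, (if w i ≠ 0 then (1 : ZMod 2) else 0) :=
    Finset.sum_congr rfl (fun i _ => h (w i))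
  rw [h1, Finset.sum_boole]
  rfl

/-- the entries of an even vector `2 y` of `L` have an even sum -/
theorem two_dvd_sum (h4 : ∀ w ∈ codeOf L, 4 ∣ hammingNorm w) (y : Fin 24 → ℤ)
    (hy : (fun i => 2 * y i) ∈ L) : (2 : ℤ) ∣ ∑ i, y i := by
  have hw : (fun i => ((y i : ℤ) : ZMod 2)) ∈ codeOf L := ⟨y, hy, fun i => rfl⟩
  have h1 := h4 _ hw
  have h2 : ((∑ i, y i : ℤ) : ZMod 2) = 0 := by
    rw [Int.cast_sum, sum_eq_hammingNorm (fun i => ((y i : ℤ) : ZMod 2))]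
    rw [ZMod.natCast_eq_zero_iff]
    exact dvd_trans (by norm_num) h1
  exact (ZMod.intCast_zmod_eq_zero_iff_dvd _ 2).mp h2

/-- the half sum of a lift -/
def hs (y : Fin 24 → ℤ) : ℤ := (∑ i, y i) / 2

theorem two_mul_hs (h4 : ∀ w ∈ codeOf L, 4 ∣ hammingNorm w) (y : Fin 24 → ℤ)
    (hy : (fun i => 2 * y i) ∈ L) : 2 * hs y = ∑ i, y i :=
  Int.mul_ediv_cancel' (two_dvd_sum L h4 y hy)

/-- the half sum modulo 2 depends only on the code word -/
theorem hs_congr (h4 : ∀ w ∈ codeOf L, 4 ∣ hammingNorm w)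
    (hA0 : ∀ d : Fin 24 → ℤ, (fun i => 4 * d i) ∈ L → (2 : ℤ) ∣ ∑ i, d i)
    (y y' : Fin 24 → ℤ) (hy : (fun i => 2 * y i) ∈ L) (hy' : (fun i => 2 * y' i) ∈ L)
    (hc : ∀ i, ((y i : ℤ) : ZMod 2) = ((y' i : ℤ) : ZMod 2)) :
    ((hs y : ℤ) : ZMod 2) = ((hs y' : ℤ) : ZMod 2) := by
  -- `y - y' = 2 d`
  have hd : ∀ i, ∃ d : ℤ, y i - y' i = 2 * d := by
    intro i
    have := (ZMod.intCast_eq_intCast_iff_dvd_sub (y' i) (y i) 2).mp (hc i).symm
    exact this
  choose d hd using hd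
  have h4d : (fun i => 4 * d i) ∈ L := by
    have := L.sub_mem hy hy'
    convert this using 1
    funext i
    simp only [Pi.sub_apply]
    rw [← mul_sub, hd i]; ring
  have h2 := hA0 d h4d
  obtain ⟨k, hk⟩ := h2
  have e1 := two_mul_hs L h4 y hy
  have e2 := two_mul_hs L h4 y' hy'
  have e3 : ∑ i, y i - ∑ i, y' i = 2 * ∑ i, d i := by
    rw [← Finset.sum_sub_distrib, Finset.mul_sum]
    exact Finset.sum_congr rfl (fun i _ => hd i)
  have e4 : hs y - hs y' = 2 * k := by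
    have : 2 * (hs y - hs y') = 2 * (2 * k) := by
      rw [mul_sub, e1, e2, e3, hk]
    exact mul_left_cancel₀ (by norm_num) this
  rw [ZMod.intCast_eq_intCast_iff_dvd_sub]
  exact ⟨-k, by push_cast; linarith⟩

/-- a chosen lift of a code word -/
noncomputable def lift (w : codeOf L) : Fin 24 → ℤ := Classical.choose w.2

theorem lift_mem (w : codeOf L) : (fun i => 2 * lift L w i) ∈ L := (Classical.choose_spec w.2).1

theorem lift_cast (w : codeOf L) (i : Fin 24) :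
    (w : Fin 24 → ZMod 2) i = ((lift L w i : ℤ) : ZMod 2) := (Classical.choose_spec w.2).2 i

/-- the functional `φ` on the code -/
noncomputable def phi (h4 : ∀ w ∈ codeOf L, 4 ∣ hammingNorm w)
    (hA0 : ∀ d : Fin 24 → ℤ, (fun i => 4 * d i) ∈ L → (2 : ℤ) ∣ ∑ i, d i) :
    codeOf L →ₗ[ZMod 2] ZMod 2 :=
  AddMonoidHom.toZModLinearMap 2 (AddMonoidHom.mk' (fun w => ((hs (lift L w) : ℤ) : ZMod 2)) (by
    intro a b
    -- `lift a + lift b` is another lift of `a + b`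
    have hab : (fun i => 2 * (lift L a + lift L b) i) ∈ L := by
      have := L.add_mem (lift_mem L a) (lift_mem L b)
      convert this using 1
      funext i; simp [mul_add]
    have h1 := hs_congr L h4 hA0 (lift L (a + b)) (lift L a + lift L b) (lift_mem L (a + b)) hab
      (fun i => by
        rw [← lift_cast L (a + b) i]
        simp only [Pi.add_apply, Int.cast_add, ← lift_cast L a i, ← lift_cast L b i]
        rfl)
    rw [h1]
    have e1 := two_mul_hs L h4 _ (lift_mem L a)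
    have e2 := two_mul_hs L h4 _ (lift_mem L b)
    have e3 := two_mul_hs L h4 _ hab
    have e4 : hs (lift L a + lift L b) = hs (lift L a) + hs (lift L b) := by
      have : 2 * hs (lift L a + lift L b) = 2 * (hs (lift L a) + hs (lift L b)) := by
        rw [e3, mul_add, e1, e2, ← Finset.sum_add_distrib]
        rfl
      exact mul_left_cancel₀ (by norm_num) this
    rw [e4, Int.cast_add]))

theorem phi_apply (h4 : ∀ w ∈ codeOf L, 4 ∣ hammingNorm w)
    (hA0 : ∀ d : Fin 24 → ℤ, (fun i => 4 * d i) ∈ L → (2 : ℤ) ∣ ∑ i, d i) (w : codeOf L) :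
    phi L h4 hA0 w = ((hs (lift L w) : ℤ) : ZMod 2) := rfl

/-- the sign change, from LEAF A0(1) (one direction) as a hypothesis -/
theorem sign_normalize_of (h4 : ∀ w ∈ codeOf L, 4 ∣ hammingNorm w)
    (hA0 : ∀ d : Fin 24 → ℤ, (fun i => 4 * d i) ∈ L → (2 : ℤ) ∣ ∑ i, d i) :
    ∃ ε : Fin 24 → ℤ, (∀ i, ε i = 1 ∨ ε i = -1) ∧
      ∀ v ∈ L, (∀ i, (2 : ℤ) ∣ v i) → (8 : ℤ) ∣ ∑ i, ε i * v i := by
  obtain ⟨s, hs'⟩ := exists_dot_repr' (codeOf L) (phi L h4 hA0)
  refine ⟨fun i => 1 - 2 * ((s i).val : ℤ), fun i => ?_, fun v hv hev => ?_⟩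
  · have h : ∀ a : ZMod 2, a.val = 0 ∨ a.val = 1 := by decide
    beta_reduce
    rcases h (s i) with h | h <;> rw [h] <;> norm_num
  · choose y hy using hev
    have hvy : v = fun i => 2 * y i := funext hy
    have hyL : (fun i => 2 * y i) ∈ L := hvy ▸ hv
    have hw : (fun i => ((y i : ℤ) : ZMod 2)) ∈ codeOf L := ⟨y, hyL, fun i => rfl⟩
    have h1 := hs' ⟨_, hw⟩
    rw [phi_apply] at h1
    have h2 := hs_congr L h4 hA0 (lift L ⟨_, hw⟩) y (lift_mem L ⟨_, hw⟩) hyL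
      (fun i => (lift_cast L ⟨_, hw⟩ i).symm)
    rw [h2] at h1
    -- `2 ∣ hs y - Σ s.val y`
    have h3 : (2 : ℤ) ∣ hs y - ∑ i, ((s i).val : ℤ) * y i := by
      apply (ZMod.intCast_zmod_eq_zero_iff_dvd _ 2).mp
      push_cast
      rw [h1, sub_eq_zero]
      apply Finset.sum_congr rfl
      intro i _
      rw [ZMod.natCast_zmod_val]
    obtain ⟨k, hk⟩ := h3
    have e1 := two_mul_hs L h4 y hyL
    refine ⟨k, ?_⟩
    have e2 : ∑ i, (1 - 2 * ((s i).val : ℤ)) * v i =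
        2 * ∑ i, y i - 4 * ∑ i, ((s i).val : ℤ) * y i := by
      rw [Finset.mul_sum, Finset.mul_sum, ← Finset.sum_sub_distrib]
      apply Finset.sum_congr rfl
      intro i _
      rw [hy i]; ring
    rw [e2, ← e1]
    linear_combination 4 * hk

/-- LEAF A7b (640614) -/
theorem sign_normalize (hL : CoordLattice L) (h4 : ∀ w ∈ codeOf L, 4 ∣ hammingNorm w) :
    ∃ ε : Fin 24 → ℤ, (∀ i, ε i = 1 ∨ ε i = -1) ∧
      ∀ v ∈ L, (∀ i, (2 : ℤ) ∣ v i) → (8 : ℤ) ∣ ∑ i, ε i * v i :=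
  sign_normalize_of L h4 (fun d hd => (Cfsg.Agent.Lib.Helper66.LC.four_mul_mem_iff L hL d).mp hd)

end Cfsg.Agent.Lib.Helper22.LC
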