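import Mathlib
import Cfsg.Prelude.Def_Blocks
import Cfsg.Prelude.Def_BlockRank
import Cfsg.Agent.Lib.Helper82.ContribInt
import Cfsg.Agent.Lib.Helper82.MajorSubsection
import Cfsg.Agent.Lib.Helper21.OsimaApps
import Cfsg.Agent.Lib.Helper04.IndFun
import Cfsg.Agent.Lib.Helper05.FrobMod
import Cfsg.Agent.Lib.Helper22.DefectClass
import Cfsg.Agent.Lib.Helper79.DefectSep
import Cfsg.Agent.Lib.Helper82.DefectZero

/-!
# Non-vanishing of every member of a block on a major subsection

If `(y, b)` is a major subsection of the block `B` (that is `b ^ G = B` and the defect of `b` is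
at least that of `B`), then every `χ ∈ B`, of whatever height, takes a nonzero value at some
element `y c` with `c` a `p`-regular element of `C_G(y)`.
-/

set_option autoImplicit false
set_option linter.unusedSectionVars false
set_option linter.style.haveILetI false

namespace Cfsg.Agent.Lib.Helper22

open Cfsg
open scoped ComplexConjugate
open Cfsg.Agent.Lib.Helper82 Cfsg.Agent.Lib.Helper21 Cfsg.Agent.Lib.Helper83

universe u
variable {G : Type u} [Group G] [Fintype G]

local notation "C[" g "]" => Subgroup.centralizer (singleton g)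

/-- A combination of `p`-power roots of unity with integer coefficients whose sum is prime to
`p` does not lie in the local ideal. -/
theorem not_memLocalIdeal_sum_mul_root {p : ℕ} [Fact p.Prime] {M : Ideal AlgInt}
    (hMp : IsPModular p M) {ι : Type*} [Fintype ι] (c : ι → ℤ) (μ : ι → ℂ) (n : ℕ)
    (hμ : ∀ i, μ i ^ (p ^ n) = 1) (hc : ¬ (p : ℤ) ∣ ∑ i, c i) :
    ¬ MemLocalIdeal M (∑ i, (c i : ℂ) * μ i) := by
  have hM : M.IsPrime := hMp.2.1.isPrime
  have hp : p.Prime := Fact.out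
  intro h0
  apply hc
  rw [← Cfsg.Agent.Lib.Helper82.memLocalIdeal_intCast_iff hMp]
  have hdiff : MemLocalIdeal M (∑ i, (c i : ℂ) * (μ i - 1)) := by
    apply Cfsg.Agent.Lib.Helper82.memLocalIdeal_sum hM
    intro i _
    apply Cfsg.Agent.Lib.Helper82.memLocalIdeal_mul_left hM
      (Cfsg.Agent.Lib.Helper82.memLocalRing_intCast hM (c i))
    have hint : IsIntegral ℤ (μ i) := by
      apply IsIntegral.of_pow (pow_pos hp.pos n)
      rw [hμ i]
      exact isIntegral_one
    exact memLocalIdeal_sub_one_of_pow_eq_one hMp hint n (hμ i)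
  have heq : ((∑ i, c i : ℤ) : ℂ)
      = ∑ i, (c i : ℂ) * μ i - ∑ i, (c i : ℂ) * (μ i - 1) := by
    rw [← Finset.sum_sub_distrib]
    push_cast
    refine Finset.sum_congr rfl fun i _ => ?_
    ring
  rw [heq]
  exact Cfsg.Agent.Lib.Helper82.memLocalIdeal_sub hM h0 hdiff

/-- The class function of `G` induced from the `(y, b)`-part of `χ'` on the `p`-section of `y`,
and its inner products with the irreducible characters. -/
theorem classInner_indFun_contribFun {p : ℕ} [Fact p.Prime] {M : Ideal AlgInt}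
    (hMp : IsPModular p M) (y : G) [Fintype C[y]] [Fintype (IrrCharacter C[y])]
    (ψ₁ : IrrCharacter C[y]) (χ' ψ : IrrCharacter G) :
    classInner (indFun C[y] (shiftFun y
        (contribFun p (blockOf M (ψ₁ : C[y] → ℂ)) y (χ' : G → ℂ)))) (ψ : G → ℂ)
      = contrib p (blockOf M (ψ₁ : C[y] → ℂ)) y (χ' : G → ℂ) (ψ : G → ℂ) := by
  classical
  have hsupp : ∀ c : C[y], p ∣ orderOf c →
      contribFun p (blockOf M (ψ₁ : C[y] → ℂ)) y (χ' : G → ℂ) c = 0 := by
    intro c hc
    unfold contribFun pRegularPart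
    rw [if_neg]
    unfold IsPRegular
    exact not_not.2 hc
  rw [classInner_indFun_shiftFun _ hsupp _ (isClassFunction_irr ψ), contrib_eq_sum hMp ψ₁ χ' ψ,
    contribFun_eq_sum hMp ψ₁ χ', ← secLin_apply, classInner_sum_left]
  refine Finset.sum_congr rfl fun ξ _ => ?_
  rw [classInner_smul_left]
  split_ifs
  · rw [Cfsg.Agent.Lib.Helper83.classInner_conj_symm (secLin p y (ψ : G → ℂ)) (ξ : C[y] → ℂ)]
  · rw [zero_mul]

/-- The values of the `(y, b)`-part of `χ'` on `C_G(y)` are local integers. -/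
theorem memLocalRing_contribFun {p : ℕ} [Fact p.Prime] {M : Ideal AlgInt}
    (hM : M.IsPrime) (y : G) [Fintype C[y]] [Fintype (IrrCharacter C[y])]
    (b : Set (IrrCharacter C[y])) (χ' : IrrCharacter G) (c : C[y]) :
    MemLocalRing M (contribFun p b y (χ' : G → ℂ) c) := by
  classical
  unfold contribFun pRegularPart
  split_ifs
  · rw [blockPart_eq_sum_smul]
    simp only [Finset.sum_apply, Pi.smul_apply, smul_eq_mul]
    apply Cfsg.Agent.Lib.Helper82.memLocalRing_sum hM
    intro ψ _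
    apply Cfsg.Agent.Lib.Helper82.memLocalRing_mul hM
    · split_ifs
      · exact classInner_secFun_memLocalRing hM χ' ψ
      · exact Cfsg.Agent.Lib.Helper82.memLocalRing_zero hM
    · exact Cfsg.Agent.Lib.Helper82.memLocalRing_of_isIntegral hM
        (Cfsg.Agent.Lib.Helper05.isIntegral_of_isCharacter
          (Cfsg.Agent.Lib.Helper82.IsIrrCharacter.isCharacter ψ.2) c)
  · exact Cfsg.Agent.Lib.Helper82.memLocalRing_zero hM

/-- The class function induced from the `(y, b)`-part of `χ'` has local integer values. -/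
theorem memLocalRing_indFun_contribFun {p : ℕ} [Fact p.Prime] {M : Ideal AlgInt}
    (hM : M.IsPrime) (y : G) (hy : ∃ k : ℕ, orderOf y = p ^ k)
    [Fintype C[y]] [Fintype (IrrCharacter C[y])]
    (b : Set (IrrCharacter C[y])) (χ' : IrrCharacter G) (g : G) :
    MemLocalRing M (indFun C[y] (shiftFun y (contribFun p b y (χ' : G → ℂ))) g) := by
  classical
  have hp : p.Prime := Fact.out
  have hφcf : IsClassFunction C[y] (contribFun p b y (χ' : G → ℂ)) :=
    pRegularPart_isClassFunction (blockPart_isClassFunction' b _)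
  have hsupp : ∀ c : C[y], p ∣ orderOf c → contribFun p b y (χ' : G → ℂ) c = 0 := by
    intro c hc
    unfold contribFun pRegularPart
    rw [if_neg]
    unfold IsPRegular
    exact not_not.2 hc
  by_cases hsec : ∃ z : G, IsPPart p g z ∧ IsConj y z
  · obtain ⟨z, ⟨w, hzw, hcomm, hzp, hwreg⟩, hconj⟩ := hsec
    obtain ⟨t, ht⟩ := isConj_iff.1 hconj
    have hcC : t⁻¹ * w * t ∈ C[y] := by
      rw [Subgroup.mem_centralizer_singleton_iff]
      have h1 : z * w = w * z := hcomm
      have hy' : y = t⁻¹ * z * t := by rw [← ht]; group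
      rw [hy']
      calc t⁻¹ * w * t * (t⁻¹ * z * t) = t⁻¹ * (w * z) * t := by group
        _ = t⁻¹ * (z * w) * t := by rw [h1]
        _ = t⁻¹ * z * t * (t⁻¹ * w * t) := by group
    have hord : orderOf (⟨t⁻¹ * w * t, hcC⟩ : C[y]) = orderOf w := by
      rw [← Subgroup.orderOf_coe]
      have h := orderOf_conj' t⁻¹ w
      rwa [inv_inv] at h
    have hgeq : g = t * (y * (t⁻¹ * w * t)) * t⁻¹ := by
      rw [← hzw, ← ht]
      group
    have hcf := Cfsg.Agent.Lib.Helper04.indFun_isClassFunction C[y]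
      (shiftFun y (contribFun p b y (χ' : G → ℂ)))
    rw [hgeq, hcf]
    have happ := indFun_shiftFun_apply hp hy (contribFun p b y (χ' : G → ℂ)) hφcf hsupp
      ⟨t⁻¹ * w * t, hcC⟩ (by rw [hord]; exact hwreg)
    rw [happ]
    exact memLocalRing_contribFun hM y b χ' _
  · push Not at hsec
    rw [indFun_shiftFun_eq_zero hy _ hsupp g hsec]
    exact Cfsg.Agent.Lib.Helper82.memLocalRing_zero hM

/-- **Every member of a block is nonzero somewhere on each major subsection.** -/
theorem exists_apply_ne_zero_of_major {p : ℕ} [Fact p.Prime] {M : Ideal AlgInt}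
    (hMp : IsPModular p M) (y : G) (hy : ∃ k : ℕ, orderOf y = p ^ k)
    (b : Set (IrrCharacter C[y])) (B : Set (IrrCharacter G))
    (hind : IsInducedBlock M C[y] b B) (hdef : blockDefect p B ≤ blockDefect p b)
    (χ : IrrCharacter G) (hχ : χ ∈ B) :
    ∃ c : C[y], ¬ p ∣ orderOf c ∧ (χ : G → ℂ) (y * (c : G)) ≠ 0 := by
  classical
  let _ : Fintype C[y] := Fintype.ofFinite _
  let _ : Fintype (IrrCharacter C[y]) := Fintype.ofFinite _
  let _ : Fintype (IrrCharacter G) := Fintype.ofFinite _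
  have hM : M.IsPrime := hMp.2.1.isPrime
  have hp : p.Prime := Fact.out
  obtain ⟨ψ₁, hb⟩ := hind.1
  obtain ⟨χ₁, hB⟩ := hind.2.1
  obtain ⟨χ', hχ'B, hχ'0⟩ := exists_height_zero (p := p) hM hind.2.1
  subst hb
  obtain ⟨φ, hφ⟩ : ∃ φ : C[y] → ℂ,
    φ = contribFun p (blockOf M (ψ₁ : C[y] → ℂ)) y (χ' : G → ℂ) := ⟨_, rfl⟩
  obtain ⟨f, hf⟩ : ∃ f : G → ℂ, f = indFun C[y] (shiftFun y φ) := ⟨_, rfl⟩
  obtain ⟨F, hF⟩ : ∃ F : G → ℂ, F = fun g => f g⁻¹ := ⟨_, rfl⟩
  have hsupp : ∀ c : C[y], p ∣ orderOf c → φ c = 0 := by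
    intro c hc
    rw [hφ]
    unfold contribFun pRegularPart
    rw [if_neg]
    unfold IsPRegular
    exact not_not.2 hc
  have hfcf : IsClassFunction G f := by
    rw [hf]
    exact Cfsg.Agent.Lib.Helper04.indFun_isClassFunction _ _
  have hFcf : IsClassFunction G F := by
    intro g h
    rw [hF]
    simp only
    rw [mul_inv_rev, mul_inv_rev, inv_inv, ← mul_assoc]
    exact hfcf _ _
  have hFR : ∀ g, MemLocalRing M (F g) := by
    intro g
    rw [hF, hf, hφ]
    exact memLocalRing_indFun_contribFun hM y hy _ χ' g⁻¹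
  have hGne : (Nat.card G : ℂ) ≠ 0 := by
    exact_mod_cast (Nat.card_pos (α := G)).ne'
  -- central character values
  have hω : ∀ ψ : IrrCharacter G, omega F (ψ : G → ℂ)
      = (Nat.card G : ℂ) * classInner f (ψ : G → ℂ) / (ψ : G → ℂ) 1 := by
    intro ψ
    unfold omega classInner
    have hsum : ∑ g, F g * (ψ : G → ℂ) g = ∑ g, f g * conj ((ψ : G → ℂ) g) := by
      rw [← Equiv.sum_comp (Equiv.inv G)]
      apply Finset.sum_congr rfl
      intro g _
      rw [hF]
      simp only [Equiv.inv_apply, inv_inv]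
      rw [char_inv (Cfsg.Agent.Lib.Helper82.IsIrrCharacter.isCharacter ψ.2)]
    rw [hsum]
    field_simp
  -- same block
  have hBχ₁ : ∀ ψ ∈ B, SameBlock M (χ₁ : G → ℂ) (ψ : G → ℂ) := by
    intro ψ hψ
    rw [hB] at hψ
    exact hψ
  have hsb : SameBlock M (χ : G → ℂ) (χ' : G → ℂ) :=
    sameBlock_trans hM (sameBlock_symm (hBχ₁ χ hχ)) (hBχ₁ χ' hχ'B)
  have hcong := omega_sub_memLocalIdeal hM hFcf hFR hsb
  -- the unit
  have hunit : ¬ MemLocalIdeal M (omega F (χ' : G → ℂ)) := by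
    intro hE
    obtain ⟨n, hn⟩ := hy
    have hU : ¬ MemLocalIdeal M (∑ i : IrrCharacter C[y] × IrrCharacter C[y],
        ((contribCoeff p y (blockOf M (ψ₁ : C[y] → ℂ)) χ' χ' i : ℤ) : ℂ) * cenMu y i) := by
      apply not_memLocalIdeal_sum_mul_root hMp _ _ n
      · intro i
        rw [← hn]
        exact cenMu_pow_orderOf y i
      · exact not_dvd_sum_contribCoeff p hMp y _ B hind χ' χ' hχ'B hχ'B hχ'0 hχ'0
    have hUeq := contrib_pow_eq_sum_coeff p y (blockOf M (ψ₁ : C[y] → ℂ)) χ' χ' 1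
    simp only [pow_one] at hUeq
    rw [← hUeq] at hU
    -- degrees
    have hBblock : IsPBlock M B := hind.2.1
    have hsd := Cfsg.Agent.Lib.Helper79.sInf_add_blockDefect (p := p) hM hBblock
    have hs : (charDegree (χ' : G → ℂ)).factorization p
        = sInf ((fun χ : IrrCharacter G => (charDegree (χ : G → ℂ)).factorization p) '' B) := by
      unfold blockHeight at hχ'0
      have h1 := Nat.sub_eq_zero_iff_le.1 hχ'0
      have h2 : sInf ((fun χ : IrrCharacter G => (charDegree (χ : G → ℂ)).factorization p) '' B)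
          ≤ (charDegree (χ' : G → ℂ)).factorization p := Nat.sInf_le ⟨χ', hχ'B, rfl⟩
      exact le_antisymm h1 h2
    obtain ⟨s, hsdef⟩ : ∃ s : ℕ, s = (charDegree (χ' : G → ℂ)).factorization p := ⟨_, rfl⟩
    obtain ⟨a, hadef⟩ : ∃ a : ℕ, a = (Nat.card G).factorization p := ⟨_, rfl⟩
    obtain ⟨db, hdbdef⟩ : ∃ db : ℕ, db = blockDefect p (blockOf M (ψ₁ : C[y] → ℂ)) := ⟨_, rfl⟩
    rw [← hs, ← hsdef, ← hadef] at hsd
    rw [← hdbdef] at hdef hU
    obtain ⟨j, hj⟩ : ∃ j : ℕ, s + db = a + j := ⟨s + db - a, by omega⟩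
    have hχ'1 : ((charDegree (χ' : G → ℂ) : ℕ) : ℂ) = (χ' : G → ℂ) 1 :=
      charDegree_cast (Cfsg.Agent.Lib.Helper82.IsIrrCharacter.isCharacter χ'.2)
    have hχ'ne : (χ' : G → ℂ) 1 ≠ 0 := Cfsg.Agent.Lib.Helper82.IsIrrCharacter.apply_one_ne_zero χ'.2
    have hD0 : charDegree (χ' : G → ℂ) ≠ 0 := by
      intro h0
      rw [h0, Nat.cast_zero] at hχ'1
      exact hχ'ne hχ'1.symm
    have hN0 : Nat.card G ≠ 0 := (Nat.card_pos (α := G)).ne'
    obtain ⟨x', hx'⟩ : ∃ x' : ℕ, x' = charDegree (χ' : G → ℂ) / p ^ s := ⟨_, rfl⟩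
    obtain ⟨g', hg'⟩ : ∃ g' : ℕ, g' = Nat.card G / p ^ a := ⟨_, rfl⟩
    have hDx : charDegree (χ' : G → ℂ) = p ^ s * x' := by
      rw [hx', hsdef]
      exact (Nat.ordProj_mul_ordCompl_eq_self _ p).symm
    have hNg : Nat.card G = p ^ a * g' := by
      rw [hg', hadef]
      exact (Nat.ordProj_mul_ordCompl_eq_self _ p).symm
    have hpg' : ¬ p ∣ g' := by
      rw [hg', hadef]
      exact Nat.not_dvd_ordCompl hp hN0
    -- the identity `E x' p^j = g' U`
    have hpne : (p : ℂ) ≠ 0 := by exact_mod_cast hp.ne_zero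
    have hEq : omega F (χ' : G → ℂ) * (x' : ℂ) * (p : ℂ) ^ j
        = (g' : ℂ) * (((p ^ db : ℕ) : ℂ) *
          contrib p (blockOf M (ψ₁ : C[y] → ℂ)) y (χ' : G → ℂ) (χ' : G → ℂ)) := by
      rw [hω χ', hf, hφ, classInner_indFun_contribFun hMp y ψ₁ χ' χ', ← hχ'1, hDx, hNg]
      have hpa : ((p : ℂ) ^ a) ≠ 0 := pow_ne_zero _ hpne
      have hx0 : (x' : ℂ) ≠ 0 := by
        have : x' ≠ 0 := by
          intro h0
          rw [h0, mul_zero] at hDx
          exact hD0 hDx
        exact_mod_cast this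
      push_cast
      have hpow : (p : ℂ) ^ s * (p : ℂ) ^ db = (p : ℂ) ^ a * (p : ℂ) ^ j := by
        rw [← pow_add, ← pow_add, hj]
      field_simp
      linear_combination (-(g' : ℂ) * contrib p (blockOf M (ψ₁ : C[y] → ℂ)) y (χ' : G → ℂ) (χ' : G → ℂ)) * hpow
    have hL : MemLocalIdeal M (omega F (χ' : G → ℂ) * (x' : ℂ) * (p : ℂ) ^ j) :=
      Cfsg.Agent.Lib.Helper82.memLocalIdeal_mul_right hM
        (Cfsg.Agent.Lib.Helper82.memLocalIdeal_mul_right hM hE
          (Cfsg.Agent.Lib.Helper82.memLocalRing_natCast hM x'))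
        (Cfsg.Agent.Lib.Helper82.memLocalRing_pow hM
          (Cfsg.Agent.Lib.Helper82.memLocalRing_natCast hM p) j)
    rw [hEq] at hL
    have hUR : MemLocalRing M (((p ^ db : ℕ) : ℂ) *
        contrib p (blockOf M (ψ₁ : C[y] → ℂ)) y (χ' : G → ℂ) (χ' : G → ℂ)) := by
      rw [hdbdef, hUeq]
      apply Cfsg.Agent.Lib.Helper82.memLocalRing_sum hM
      intro i _
      apply Cfsg.Agent.Lib.Helper82.memLocalRing_mul hM
        (Cfsg.Agent.Lib.Helper82.memLocalRing_intCast hM _)
      apply Cfsg.Agent.Lib.Helper82.memLocalRing_of_isIntegral hM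
      apply IsIntegral.of_pow (n := orderOf y) (orderOf_pos y)
      rw [cenMu_pow_orderOf]
      exact isIntegral_one
    rcases Cfsg.Agent.Lib.Helper82.memLocalIdeal_of_mul_memLocalIdeal hM
      (Cfsg.Agent.Lib.Helper82.memLocalRing_natCast hM g') hUR hL with h | h
    · exact hpg' ((Cfsg.Agent.Lib.Helper82.memLocalIdeal_natCast_iff hMp g').1 h)
    · exact hU h
  -- conclusion
  have hne : omega F (χ : G → ℂ) ≠ 0 := by
    intro h0
    rw [h0, zero_sub] at hcong
    apply hunit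
    have := Cfsg.Agent.Lib.Helper82.memLocalIdeal_neg hcong
    rwa [neg_neg] at this
  rw [hω χ] at hne
  have hinner : classInner f (χ : G → ℂ) ≠ 0 := by
    intro h
    apply hne
    rw [h, mul_zero, zero_div]
  rw [hf, classInner_indFun_shiftFun φ hsupp _ (isClassFunction_irr χ)] at hinner
  by_contra hall
  push Not at hall
  apply hinner
  have hz : pRegularPart p (secFun y (χ : G → ℂ)) = 0 := by
    funext c
    unfold pRegularPart
    split_ifs with h
    · exact hall c h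
    · rfl
  rw [hz]
  unfold classInner
  simp

/-- **A character which is not of defect zero is nonzero at some element whose `p`-part has
order `p`.** -/
theorem exists_pSingular_apply_ne_zero {p : ℕ} [Fact p.Prime] (χ : IrrCharacter G)
    (hlt : (charDegree (χ : G → ℂ)).factorization p < (Nat.card G).factorization p) :
    ∃ z y : G, orderOf z = p ∧ ¬ p ∣ orderOf y ∧ Commute z y ∧ (χ : G → ℂ) (z * y) ≠ 0 := by
  classical
  have hp : p.Prime := Fact.out
  obtain ⟨M, hMp⟩ := Cfsg.Agent.Lib.Helper82.exists_isPModular p hp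
  have hM : M.IsPrime := hMp.2.1.isPrime
  let _ : Fintype (IrrCharacter G) := Fintype.ofFinite _
  have hB : IsPBlock M (blockOf M (χ : G → ℂ)) := ⟨χ, rfl⟩
  have hχB : χ ∈ blockOf M (χ : G → ℂ) := mem_blockOf_self hM χ
  have hsd := Cfsg.Agent.Lib.Helper79.sInf_add_blockDefect (p := p) hM hB
  have hle : sInf ((fun ψ : IrrCharacter G => (charDegree (ψ : G → ℂ)).factorization p) ''
      blockOf M (χ : G → ℂ)) ≤ (charDegree (χ : G → ℂ)).factorization p :=
    Nat.sInf_le ⟨χ, hχB, rfl⟩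
  have hdpos : 1 ≤ blockDefect p (blockOf M (χ : G → ℂ)) := by omega
  obtain ⟨g₀, hg₀⟩ := exists_isDefectClass (M := M) hM χ
  have hdeq := blockDefect_eq_of_isDefectClass hMp hB hg₀
  obtain ⟨P⟩ : Nonempty (Sylow p C[g₀]) := inferInstance
  have hPcard : Nat.card (P : Subgroup C[g₀]) = p ^ (Nat.card C[g₀]).factorization p :=
    P.card_eq_multiplicity
  have hPnt : Nontrivial (P : Subgroup C[g₀]) := by
    rw [← Finite.one_lt_card_iff_nontrivial, hPcard, ← hdeq]
    exact Nat.one_lt_pow (by omega) hp.one_lt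
  have hcnt : Nontrivial (Subgroup.center (P : Subgroup C[g₀])) :=
    IsPGroup.center_nontrivial P.2
  have hpdvd : p ∣ Nat.card (Subgroup.center (P : Subgroup C[g₀])) := by
    obtain ⟨k, hk⟩ := (IsPGroup.iff_card.1 (P.2.to_subgroup (Subgroup.center _)))
    rw [hk]
    have hk0 : k ≠ 0 := by
      intro h0
      rw [h0, pow_zero] at hk
      have := Finite.one_lt_card_iff_nontrivial.2 hcnt
      omega
    exact dvd_pow_self p hk0
  obtain ⟨x, hx⟩ := exists_prime_orderOf_dvd_card' p hpdvd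
  -- `x` as an element of `C_G(g₀)`
  obtain ⟨x₀, hx₀⟩ : ∃ x₀ : C[g₀], x₀ = ((x : (P : Subgroup C[g₀])) : C[g₀]) := ⟨_, rfl⟩
  have hx₀P : x₀ ∈ (P : Subgroup C[g₀]) := by rw [hx₀]; exact (x : (P : Subgroup C[g₀])).2
  have hx₀Z : ∀ w ∈ (P : Subgroup C[g₀]), x₀ * w = w * x₀ := by
    intro w hw
    have h := Subgroup.mem_center_iff.1 x.2 ⟨w, hw⟩
    have h2 := congrArg (fun t : (P : Subgroup C[g₀]) => (t : C[g₀])) h
    simp only [Subgroup.coe_mul] at h2
    rw [hx₀]
    exact h2.symm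
  have hx₀ord : orderOf (x₀ : G) = p := by
    rw [hx₀, Subgroup.orderOf_coe, Subgroup.orderOf_coe, Subgroup.orderOf_coe]
    exact hx
  obtain ⟨b, hind, hdef⟩ := exists_induced_block_defect_ge hMp χ g₀ hg₀ P x₀ hx₀P hx₀Z
  obtain ⟨c, hcreg, hcne⟩ := exists_apply_ne_zero_of_major hMp (x₀ : G)
    ⟨1, by rw [hx₀ord, pow_one]⟩ b _ hind hdef χ hχB
  refine ⟨(x₀ : G), (c : G), hx₀ord, ?_, ?_, hcne⟩
  · rw [Subgroup.orderOf_coe]
    exact hcreg
  · exact (Subgroup.mem_centralizer_singleton_iff.1 c.2).symm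

end Cfsg.Agent.Lib.Helper22
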