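import Mathlib
import Cfsg.Prelude.Def_Blocks
import Cfsg.Agent.Lib.Helper22.CentralDefectCount
import Cfsg.Agent.Lib.Helper22.DefectConj
import Cfsg.Agent.Lib.Helper82.WeakOrth
import Cfsg.Agent.Lib.Helper82.CharSchur
import Cfsg.Agent.Lib.Helper82.MajorSubsection
import Cfsg.Agent.Lib.Helper83.Decompose
import Cfsg.Agent.Lib.Helper83.CharMisc
import Cfsg.Agent.Lib.Helper84.Clifford

/-!
# Heights in a block with a normal defect group

Tools for Reynolds' theorem: a block with normal defect group `P` has all heights zero iff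
`P` is abelian.
-/

set_option autoImplicit false
set_option linter.unusedSectionVars false
set_option linter.style.haveILetI false

namespace Cfsg.Agent.Lib.Helper22

open Cfsg
open scoped ComplexConjugate
open Cfsg.Agent.Lib.Helper83 Cfsg.Agent.Lib.Helper82

section
universe u
variable {G : Type u} [Group G] [Finite G] {p : ℕ} [Fact p.Prime] {M : Ideal AlgInt}

/-- Every irreducible character of a `p`-subgroup lies under some member of any given block. -/
theorem exists_mem_block_over (hM : IsPModular p M) (P : Subgroup G) (hP : IsPGroup p P)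
    {B : Set (IrrCharacter G)} (hB : IsPBlock M B) [Fintype P] (lam : IrrCharacter P) :
    ∃ χ ∈ B, classInner (fun u : P => (χ : G → ℂ) u) (lam : P → ℂ) ≠ 0 := by
  classical
  let _ : Fintype G := Fintype.ofFinite G
  let _ : Fintype (IrrCharacter G) := Fintype.ofFinite _
  have hprime : M.IsPrime := hM.2.1.isPrime
  by_contra hcon
  push Not at hcon
  obtain ⟨χ₀, rfl⟩ := hB
  set Bf : Finset (IrrCharacter G) := Finset.univ.filter (· ∈ blockOf M (χ₀ : G → ℂ)) with hBf
  have hvan : ∀ u : P, u ≠ 1 →
      ∑ χ ∈ Bf, (χ : G → ℂ) 1 * conj ((χ : G → ℂ) (u : G)) = 0 := by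
    intro u hu
    have hsing : p ∣ orderOf (u : G) := by
      obtain ⟨k, hk⟩ := exists_orderOf_eq_of_isPGroup hP u
      have hk0 : k ≠ 0 := by
        rintro rfl
        rw [pow_zero, orderOf_eq_one_iff] at hk
        exact hu (Subtype.ext hk)
      rw [hk]
      exact dvd_pow_self p hk0
    have h0 := blockCoeff_eq_zero_of_singular hM χ₀ (u : G) hsing
    rw [blockCoeff, finsum_mem_eq_finite_toFinset_sum _ (Set.toFinite _)] at h0
    have hc : (Nat.card G : ℂ)⁻¹ ≠ 0 := inv_ne_zero card_ne_zero_complex
    have h1 := (mul_eq_zero.1 h0).resolve_left hc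
    rw [← h1]
    apply Finset.sum_congr
    · ext χ
      simp [hBf]
    · intros
      rfl
  set T : ℂ := ∑ u : P, (∑ χ ∈ Bf, (χ : G → ℂ) 1 * conj ((χ : G → ℂ) (u : G))) *
    (lam : P → ℂ) u with hT
  have ha : T = 0 := by
    rw [hT]
    simp only [Finset.sum_mul]
    rw [Finset.sum_comm]
    apply Finset.sum_eq_zero
    intro χ hχ
    have hχB : χ ∈ blockOf M (χ₀ : G → ℂ) := by simpa [hBf] using hχ
    have h1 := hcon χ hχB
    rw [classInner_def] at h1
    have h2 : ∑ u : P, (χ : G → ℂ) (u : G) * conj ((lam : P → ℂ) u) = 0 :=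
      (mul_eq_zero.1 h1).resolve_left (inv_ne_zero card_ne_zero_complex)
    have h3 := congrArg conj h2
    simp only [map_sum, map_mul, Complex.conj_conj, map_zero] at h3
    rw [Finset.sum_congr rfl (fun u _ => mul_assoc _ _ _), ← Finset.mul_sum, h3, mul_zero]
  have hb : T = (∑ χ ∈ Bf, (χ : G → ℂ) 1 * conj ((χ : G → ℂ) 1)) * (lam : P → ℂ) 1 := by
    rw [hT, Finset.sum_eq_single (1 : P)]
    · simp only [Subgroup.coe_one]
    · intro u _ hu
      rw [hvan u hu, zero_mul]
    · intro h
      exact absurd (Finset.mem_univ _) h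
  have hpos : ∑ χ ∈ Bf, (χ : G → ℂ) 1 * conj ((χ : G → ℂ) 1) ≠ 0 := by
    have h1 : ∑ χ ∈ Bf, (χ : G → ℂ) 1 * conj ((χ : G → ℂ) 1) =
        ((∑ χ ∈ Bf, (charDegree (χ : G → ℂ)) ^ 2 : ℕ) : ℂ) := by
      push_cast
      apply Finset.sum_congr rfl
      intro χ _
      rw [char_one_conj (IrrCharacter_isCharacter χ), charDegree_cast (IrrCharacter_isCharacter χ)]
      ring
    rw [h1]
    have hχ₀ : χ₀ ∈ Bf := by simp [hBf, mem_blockOf_self hprime χ₀]
    have h2 : 0 < ∑ χ ∈ Bf, (charDegree (χ : G → ℂ)) ^ 2 :=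
      Finset.sum_pos' (fun _ _ => Nat.zero_le _) ⟨χ₀, hχ₀, pow_pos (irr_charDegree_pos χ₀) 2⟩
    exact_mod_cast h2.ne'
  rw [ha] at hb
  exact (mul_ne_zero hpos (irr_degree_ne_zero lam)) hb.symm


/-- The value of an irreducible character at a central element is the degree times an algebraic
integer. -/
theorem irr_apply_central_eq {H : Type*} [Group H] [Finite H] (ξ : IrrCharacter H) {z : H}
    (hz : z ∈ Subgroup.center H) :
    (ξ : H → ℂ) z = centralChar (ξ : H → ℂ) z * (ξ : H → ℂ) 1 := by
  have htop : Subgroup.centralizer ({z} : Set H) = ⊤ := by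
    rw [Subgroup.centralizer_eq_top_iff_subset]
    intro x hx
    rw [Set.mem_singleton_iff] at hx
    subst hx
    exact hz
  have h1 : (ξ : H → ℂ) 1 ≠ 0 := irr_degree_ne_zero ξ
  rw [centralChar, htop, Subgroup.index_top, Nat.cast_one, one_mul, div_mul_cancel₀ _ h1]

/-- If `P` centralizes `g` and every irreducible constituent of the restriction of the character
`χ` to `P` has degree divisible by `m`, then `χ g` is `m` times an algebraic integer. -/
theorem exists_isIntegral_mul_of_constituents_dvd (P : Subgroup G) [Fintype P] {χ : G → ℂ}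
    (hχ : IsCharacter G χ) (g : G) (hPg : P ≤ Subgroup.centralizer ({g} : Set G)) (m : ℕ)
    (hm : ∀ μ : IrrCharacter P, classInner (fun u : P => χ (u : G)) (μ : P → ℂ) ≠ 0 →
      m ∣ charDegree (μ : P → ℂ)) :
    ∃ z : ℂ, IsIntegral ℤ z ∧ χ g = (m : ℂ) * z := by
  classical
  let _ : Fintype G := Fintype.ofFinite G
  set H : Subgroup G := Subgroup.centralizer ({g} : Set G) with hH
  let _ : Fintype H := Fintype.ofFinite H
  let _ : Fintype (IrrCharacter H) := Fintype.ofFinite _
  let _ : Fintype (IrrCharacter P) := Fintype.ofFinite _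
  set χH : H → ℂ := fun h => χ (h : G) with hχH
  have hχHc : IsCharacter H χH := isCharacter_restrict H hχ
  set n : IrrCharacter H → ℕ := fun ξ => irrMult χH ξ with hn
  have hdec : χH = ∑ ξ : IrrCharacter H, (n ξ : ℂ) • (ξ : H → ℂ) := char_eq_sum_irrMult hχHc
  -- restriction of `ξ` to `P`
  set res : IrrCharacter H → P → ℂ := fun ξ u => (ξ : H → ℂ) (Subgroup.inclusion hPg u) with hres
  have hresc : ∀ ξ, IsCharacter P (res ξ) := fun ξ =>
    isCharacter_comp_hom (Subgroup.inclusion hPg) (IrrCharacter_isCharacter ξ)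
  -- the restriction of `χ` to `P`
  have hχP : (fun u : P => χ (u : G)) = ∑ ξ : IrrCharacter H, (n ξ : ℂ) • res ξ := by
    funext u
    have h1 := congrFun hdec (Subgroup.inclusion hPg u)
    simp only [hχH, Subgroup.coe_inclusion] at h1
    rw [h1]
    simp only [Finset.sum_apply, Pi.smul_apply, hres]
  -- degrees
  have hdvd : ∀ ξ : IrrCharacter H, n ξ ≠ 0 → m ∣ charDegree (ξ : H → ℂ) := by
    intro ξ hξ
    have hdecξ : res ξ = ∑ μ : IrrCharacter P, (irrMult (res ξ) μ : ℂ) • (μ : P → ℂ) :=
      char_eq_sum_irrMult (hresc ξ)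
    have hdeg : charDegree (ξ : H → ℂ) =
        ∑ μ : IrrCharacter P, irrMult (res ξ) μ * charDegree (μ : P → ℂ) := by
      have h1 := congrFun hdecξ 1
      simp only [Finset.sum_apply, Pi.smul_apply, smul_eq_mul] at h1
      have h2 : res ξ 1 = (ξ : H → ℂ) 1 := by
        simp only [hres, map_one]
      rw [h2, ← charDegree_cast (IrrCharacter_isCharacter ξ)] at h1
      have h3 : ∀ μ : IrrCharacter P, (irrMult (res ξ) μ : ℂ) * (μ : P → ℂ) 1 =
          ((irrMult (res ξ) μ * charDegree (μ : P → ℂ) : ℕ) : ℂ) := by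
        intro μ
        rw [Nat.cast_mul, charDegree_cast (IrrCharacter_isCharacter μ)]
      rw [Finset.sum_congr rfl (fun μ _ => h3 μ), ← Nat.cast_sum] at h1
      exact_mod_cast h1
    rw [hdeg]
    apply Finset.dvd_sum
    intro μ _
    by_cases hk : irrMult (res ξ) μ = 0
    · rw [hk, zero_mul]
      exact dvd_zero m
    · apply Dvd.dvd.mul_left
      apply hm μ
      rw [hχP, classInner_sum_left]
      simp only [classInner_smul_left]
      have h4 : ∀ ξ' : IrrCharacter H, (n ξ' : ℂ) * classInner (res ξ') (μ : P → ℂ) =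
          ((n ξ' * irrMult (res ξ') μ : ℕ) : ℂ) := by
        intro ξ'
        rw [Nat.cast_mul, irrMult_cast (hresc ξ') μ]
      rw [Finset.sum_congr rfl (fun ξ' _ => h4 ξ'), ← Nat.cast_sum]
      have h5 : 0 < ∑ ξ' : IrrCharacter H, n ξ' * irrMult (res ξ') μ :=
        Finset.sum_pos' (fun _ _ => Nat.zero_le _)
          ⟨ξ, Finset.mem_univ _, Nat.mul_pos (Nat.pos_of_ne_zero hξ) (Nat.pos_of_ne_zero hk)⟩
      exact_mod_cast h5.ne'
  -- the value at `g`
  have hz : centElt g ∈ Subgroup.center H := centElt_mem_center g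
  refine ⟨∑ ξ : IrrCharacter H, (n ξ : ℂ) * (centralChar (ξ : H → ℂ) (centElt g) *
      ((charDegree (ξ : H → ℂ) / m : ℕ) : ℂ)), ?_, ?_⟩
  · apply IsIntegral.sum
    intro ξ _
    apply IsIntegral.mul (isIntegral_natCast _)
    exact IsIntegral.mul (IsIrrCharacter.isIntegral_centralChar ξ.2 _) (isIntegral_natCast _)
  · have h1 : χ g = χH (centElt g) := rfl
    rw [h1, hdec, Finset.mul_sum]
    simp only [Finset.sum_apply, Pi.smul_apply, smul_eq_mul]
    apply Finset.sum_congr rfl
    intro ξ _
    by_cases hξ : n ξ = 0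
    · rw [hξ]
      simp
    · obtain ⟨c, hc⟩ := hdvd ξ hξ
      rw [irr_apply_central_eq ξ hz, ← charDegree_cast (IrrCharacter_isCharacter ξ), hc]
      by_cases hm0 : m = 0
      · subst hm0
        simp
      · rw [Nat.mul_div_cancel_left _ (Nat.pos_of_ne_zero hm0)]
        push_cast
        ring


/-- The least exponent of `p` in the degrees of a block plus the exponent of `p` in the order of a
defect group is the exponent of `p` in `|G|`. -/
theorem sInf_add_factorization_card_defectGroup (hM : IsPModular p M) {B : Set (IrrCharacter G)}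
    (hB : IsPBlock M B) {D : Subgroup G} (hD : IsDefectGroup p M B D) :
    sInf ((fun ψ : IrrCharacter G => (charDegree (ψ : G → ℂ)).factorization p) '' B) +
      (Nat.card D).factorization p = (Nat.card G).factorization p := by
  have hp : p.Prime := Fact.out
  have hprime : M.IsPrime := hM.2.1.isPrime
  have hcard := IsDefectGroup.card_eq hM hB hD
  have hDfac : (Nat.card D).factorization p = blockDefect p B := by
    rw [hcard, Nat.Prime.factorization_pow hp]
    simp
  obtain ⟨χ, hχ⟩ := IsPBlock.nonempty hprime hB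
  have hle : sInf ((fun ψ : IrrCharacter G => (charDegree (ψ : G → ℂ)).factorization p) '' B) ≤
      (charDegree (χ : G → ℂ)).factorization p := Nat.sInf_le ⟨χ, hχ, rfl⟩
  have hle2 : (charDegree (χ : G → ℂ)).factorization p ≤ (Nat.card G).factorization p :=
    (Nat.factorization_le_iff_dvd (irr_charDegree_pos χ).ne' Nat.card_pos.ne').2
      (irr_charDegree_dvd_card χ) p
  rw [hDfac]
  unfold blockDefect
  omega

/-- If the image `D` of a Sylow `p`-subgroup of `C_G(g)`, then the exponents of `p` in `|G : C_G(g)|`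
and in `|D|` add up to the exponent in `|G|`. -/
theorem factorization_index_centralizer_add (g : G)
    (Q : Sylow p (Subgroup.centralizer ({g} : Set G))) :
    (Subgroup.centralizer ({g} : Set G)).index.factorization p +
      (Nat.card ((Q : Subgroup (Subgroup.centralizer ({g} : Set G))).map
        (Subgroup.centralizer ({g} : Set G)).subtype)).factorization p =
      (Nat.card G).factorization p := by
  have hp : p.Prime := Fact.out
  have h1 : Nat.card ((Q : Subgroup (Subgroup.centralizer ({g} : Set G))).map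
      (Subgroup.centralizer ({g} : Set G)).subtype) = Nat.card Q :=
    Subgroup.card_map_of_injective (Subgroup.subtype_injective _)
  have h2 : Nat.card Q = p ^ (Nat.card (Subgroup.centralizer ({g} : Set G))).factorization p :=
    Sylow.card_eq_multiplicity Q
  have h3 := Subgroup.card_mul_index (Subgroup.centralizer ({g} : Set G))
  have hidx : (Subgroup.centralizer ({g} : Set G)).index ≠ 0 := Subgroup.index_ne_zero_of_finite
  have hc : Nat.card (Subgroup.centralizer ({g} : Set G)) ≠ 0 := Nat.card_pos.ne'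
  have h4 : (Nat.card G).factorization p =
      (Nat.card (Subgroup.centralizer ({g} : Set G))).factorization p +
        (Subgroup.centralizer ({g} : Set G)).index.factorization p := by
    rw [← h3, Nat.factorization_mul hc hidx]
    rfl
  rw [h1, h2, Nat.Prime.factorization_pow hp, h4]
  simp
  omega

end

end Cfsg.Agent.Lib.Helper22
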