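import Mathlib
import Cfsg.Prelude.Def_GeometricClasses

/-!
# K-O10m-Y6 (keystone 585006, row S5850, architect helper91)

`q` odd: from one matrix `J`, skew-adjoint for the polar form `B` of `Q`, with `J² = δ ≠ 0` (and `Q` of minus
type) the algebra `K = {a + b J}` is a quadratic field of unitary type, normalised by every `g` with
`g J g⁻¹ = ± J`.  (Odd-characteristic twin of helper81's `O10mY7`; same skeleton.)
-/

set_option autoImplicit false

namespace Cfsg.Agent.Lib.Helper22.O10m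

open Cfsg Cfsg.Geo
open scoped Matrix Kronecker MatrixGroups

section basics

variable {F : Type*} [Field F] {n : ℕ}

local notation "V" => (Fin n → F)
local notation "Mat" => Matrix (Fin n) (Fin n) F

theorem Q_zero {Q : V → F} (hQ : IsNondegenerateQuadraticForm Q) : Q 0 = 0 := by
  have h := hQ.smul 0 0
  simpa using h

theorem Q_add (Q : V → F) (x y : V) : Q (x + y) = QuadraticMap.polar Q x y + Q x + Q y := by
  unfold QuadraticMap.polar
  ring

theorem polar_self_eq {Q : V → F} (hQ : IsNondegenerateQuadraticForm Q) (x : V) :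
    QuadraticMap.polar Q x x = 2 * Q x := by
  unfold QuadraticMap.polar
  have h : x + x = (2 : F) • x := (two_smul F x).symm
  rw [h, hQ.smul]
  ring

/-- a totally singular subspace has at most half the dimension -/
theorem two_mul_finrank_le_of_totallySingular {Q : V → F} (hQ : IsNondegenerateQuadraticForm Q)
    (U : Submodule F V) (hU : IsTotallySingularQuad Q U) : 2 * Module.finrank F U ≤ n := by
  let B : LinearMap.BilinForm F V :=
    LinearMap.mk₂ F (QuadraticMap.polar Q) hQ.polar_bilinear.add_left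
      (fun c x w => by rw [hQ.polar_bilinear.smul_left]; rfl)
      hQ.polar_bilinear.add_right (fun c x w => by rw [hQ.polar_bilinear.smul_right]; rfl)
  have hB : ∀ x y, B x y = QuadraticMap.polar Q x y := fun x y => rfl
  have hN : B.Nondegenerate := by
    constructor
    · intro x hx
      by_contra hx0
      obtain ⟨-, y, hxy⟩ := hQ.nondegenerate x hx0
      exact hxy (hx y)
    · intro y hy
      by_contra hy0
      obtain ⟨⟨x, hxy⟩, -⟩ := hQ.nondegenerate y hy0
      exact hxy (hy x)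
  have hle : U ≤ B.orthogonal U := by
    intro x hx
    rw [LinearMap.BilinForm.mem_orthogonal_iff]
    intro w hw
    show B w x = 0
    rw [hB]
    unfold QuadraticMap.polar
    rw [hU _ (U.add_mem hw hx), hU w hw, hU x hx]
    ring
  have h1 := Submodule.finrank_mono hle
  have h2 := LinearMap.BilinForm.finrank_orthogonal hN U
  rw [Module.finrank_fin_fun] at h2
  have h3 : Module.finrank F U ≤ n := by
    have := Submodule.finrank_le U
    rwa [Module.finrank_fin_fun] at this
  omega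

end basics

section main

variable {F : Type*} [Field F] {n : ℕ}

local notation "V" => (Fin n → F)
local notation "Mat" => Matrix (Fin n) (Fin n) F

theorem mul_formula {J : Mat} {δ : F} (hJ2 : J * J = δ • (1 : Mat)) (a b a' b' : F) :
    (a • (1 : Mat) + b • J) * (a' • (1 : Mat) + b' • J) =
      (a * a' + b * b' * δ) • (1 : Mat) + (a * b' + a' * b) • J := by
  have hexp : (a • (1 : Mat) + b • J) * (a' • (1 : Mat) + b' • J) =
      (a * a') • (1 : Mat) + (a * b') • J + (b * a') • J + (b * b') • (J * J) := by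
    simp only [add_mul, mul_add, smul_mul_assoc, mul_smul_comm, one_mul, mul_one]
    module
  rw [hexp, hJ2]
  module

/-- the algebra `{a + b J}` -/
def quadAlg (J : Mat) (δ : F) (hJ2 : J * J = δ • (1 : Mat)) : Subalgebra F Mat where
  carrier := {k | ∃ a b : F, k = a • (1 : Mat) + b • J}
  mul_mem' := by
    rintro _ _ ⟨a, b, rfl⟩ ⟨a', b', rfl⟩
    exact ⟨_, _, mul_formula hJ2 a b a' b'⟩
  add_mem' := by
    rintro _ _ ⟨a, b, rfl⟩ ⟨a', b', rfl⟩
    exact ⟨a + a', b + b', by module⟩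
  algebraMap_mem' := fun r => ⟨r, 0, by
    rw [zero_smul, add_zero, Algebra.algebraMap_eq_smul_one]⟩

theorem mem_quadAlg (J : Mat) (δ : F) (hJ2 : J * J = δ • (1 : Mat)) (k : Mat) :
    k ∈ quadAlg J δ hJ2 ↔ ∃ a b : F, k = a • (1 : Mat) + b • J := Iff.rfl

theorem lin_mulVec (J : Mat) (a b : F) (x : V) :
    (a • (1 : Mat) + b • J) *ᵥ x = a • x + b • (J *ᵥ x) := by
  rw [Matrix.add_mulVec, Matrix.smul_mulVec, Matrix.smul_mulVec, Matrix.one_mulVec]

/-- `Q (J v) = - δ Q v` -/
theorem Q_J (h2 : (2 : F) ≠ 0) {Q : V → F} (hQ : IsNondegenerateQuadraticForm Q) {J : Mat} {δ : F}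
    (hJ2 : J * J = δ • (1 : Mat))
    (hskew : ∀ u v : V, QuadraticMap.polar Q (J *ᵥ u) v = - QuadraticMap.polar Q u (J *ᵥ v))
    (v : V) : Q (J *ᵥ v) = -δ * Q v := by
  have hB := hQ.polar_bilinear
  have h := hskew v (J *ᵥ v)
  rw [Matrix.mulVec_mulVec, hJ2, Matrix.smul_mulVec, Matrix.one_mulVec, hB.smul_right,
    polar_self_eq hQ, polar_self_eq hQ] at h
  have h3 : 2 * (Q (J *ᵥ v) - -δ * Q v) = 0 := by linear_combination h
  rcases mul_eq_zero.1 h3 with h4 | h4
  · exact absurd h4 h2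
  · exact sub_eq_zero.1 h4

/-- `B (J v) v = 0` -/
theorem polar_J_self (h2 : (2 : F) ≠ 0) {Q : V → F} {J : Mat}
    (hskew : ∀ u v : V, QuadraticMap.polar Q (J *ᵥ u) v = - QuadraticMap.polar Q u (J *ᵥ v))
    (v : V) : QuadraticMap.polar Q (J *ᵥ v) v = 0 := by
  have h := hskew v v
  rw [QuadraticMap.polar_comm Q v (J *ᵥ v)] at h
  have h3 : 2 * QuadraticMap.polar Q (J *ᵥ v) v = 0 := by linear_combination h
  rcases mul_eq_zero.1 h3 with h4 | h4
  · exact absurd h4 h2
  · exact h4

/-- a square root of `δ` makes `Q` of plus type -/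
theorem plus_of_sqrt (h2 : (2 : F) ≠ 0) (Q : V → F) (hQ : IsNondegenerateQuadraticForm Q)
    (J : Mat) (δ : F) (hδ : δ ≠ 0) (hJ2 : J * J = δ • (1 : Mat))
    (hskew : ∀ u v : V, QuadraticMap.polar Q (J *ᵥ u) v = - QuadraticMap.polar Q u (J *ᵥ v))
    (c : F) (hc : c * c = δ) : IsPlusTypeOn Q ⊤ := by
  have hB := hQ.polar_bilinear
  have hc0 : c ≠ 0 := by
    intro h
    rw [h, mul_zero] at hc
    exact hδ hc.symm
  -- the two eigenspaces
  have hTS : ∀ s : F, s * s = δ →
      IsTotallySingularQuad Q (LinearMap.ker (Matrix.mulVecLin (J - s • (1 : Mat)))) := by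
    intro s hs x hx
    rw [LinearMap.mem_ker, Matrix.mulVecLin_apply, Matrix.sub_mulVec, Matrix.smul_mulVec,
      Matrix.one_mulVec] at hx
    have hux : J *ᵥ x = s • x := sub_eq_zero.1 hx
    have h1 := Q_J h2 hQ hJ2 hskew x
    rw [hux, hQ.smul] at h1
    have h3 : 2 * δ * Q x = 0 := by
      have : s ^ 2 = δ := by rw [pow_two, hs]
      rw [this] at h1
      linear_combination h1
    rcases mul_eq_zero.1 h3 with h4 | h4
    · exact absurd h4 (mul_ne_zero h2 hδ)
    · exact h4
  set A : Mat := J - c • (1 : Mat) with hA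
  set A' : Mat := J - (-c) • (1 : Mat) with hA'
  have h1A : A = (-c) • (1 : Mat) + (1 : F) • J := by rw [hA]; module
  have h1A' : A' = c • (1 : Mat) + (1 : F) • J := by rw [hA']; module
  have hAA' : A * A' = 0 := by
    rw [h1A, h1A', mul_formula hJ2]
    have e1 : -c * c + 1 * 1 * δ = 0 := by rw [← hc]; ring
    have e2 : -c * 1 + c * 1 = 0 := by ring
    rw [e1, e2, zero_smul, zero_smul, add_zero]
  have hA'A : A' * A = 0 := by
    rw [h1A, h1A', mul_formula hJ2]
    have e1 : c * -c + 1 * 1 * δ = 0 := by rw [← hc]; ring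
    have e2 : c * 1 + -c * 1 = 0 := by ring
    rw [e1, e2, zero_smul, zero_smul, add_zero]
  have h2c : (2 * c) ≠ 0 := mul_ne_zero h2 hc0
  have hsum : (2 * c)⁻¹ • A' + (-(2 * c)⁻¹) • A = 1 := by
    rw [h1A, h1A']
    have : (2 * c)⁻¹ • (c • (1 : Mat) + (1 : F) • J) + (-(2 * c)⁻¹) • ((-c) • (1 : Mat) + (1 : F) • J) =
        ((2 * c)⁻¹ * (2 * c)) • (1 : Mat) := by module
    rw [this, inv_mul_cancel₀ h2c, one_smul]
  set U := LinearMap.ker (Matrix.mulVecLin A) with hU
  set U' := LinearMap.ker (Matrix.mulVecLin A') with hU'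
  have hsup : U ⊔ U' = ⊤ := by
    rw [eq_top_iff]
    intro x _
    have hx : x = (2 * c)⁻¹ • (A' *ᵥ x) + (-(2 * c)⁻¹) • (A *ᵥ x) := by
      rw [← Matrix.smul_mulVec, ← Matrix.smul_mulVec, ← Matrix.add_mulVec, hsum, Matrix.one_mulVec]
    rw [hx]
    apply Submodule.add_mem_sup
    · apply Submodule.smul_mem
      rw [hU, LinearMap.mem_ker, Matrix.mulVecLin_apply, Matrix.mulVec_mulVec, hAA',
        Matrix.zero_mulVec]
    · apply Submodule.smul_mem
      rw [hU', LinearMap.mem_ker, Matrix.mulVecLin_apply, Matrix.mulVec_mulVec, hA'A,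
        Matrix.zero_mulVec]
  have hd1 := two_mul_finrank_le_of_totallySingular hQ U (hTS c hc)
  have hd2 := two_mul_finrank_le_of_totallySingular hQ U' (hTS (-c) (by rw [← hc]; ring))
  have hd3 := Submodule.finrank_sup_add_finrank_inf_eq U U'
  rw [hsup, finrank_top, Module.finrank_fin_fun] at hd3
  refine ⟨U, le_top, hTS c hc, ?_⟩
  rw [finrank_top, Module.finrank_fin_fun]
  omega

end main

section final

variable {F : Type*} [Field F] [Fintype F] {n : ℕ}

local notation "V" => (Fin n → F)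
local notation "Mat" => Matrix (Fin n) (Fin n) F

/-- K-O10m-Y6 (585006) (`q` odd). -/
theorem unitaryField_of_skew (h2 : (2 : F) ≠ 0) (Q : V → F) (hQ : IsNondegenerateQuadraticForm Q)
    (hminus : ¬ IsPlusTypeOn Q ⊤) (J : Mat) (δ : F) (hδ : δ ≠ 0) (hJ2 : J * J = δ • (1 : Mat))
    (hskew : ∀ u v : V, QuadraticMap.polar Q (J *ᵥ u) v = - QuadraticMap.polar Q u (J *ᵥ v)) :
    ∃ K : Subalgebra F Mat, IsFieldSubalgebra 2 K ∧ IsAdjointClosedFor (QuadraticMap.polar Q) K ∧
      ¬ IsSelfAdjointFor (QuadraticMap.polar Q) K ∧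
      (∀ k ∈ K, ∃ c : F, ∀ v : V, Q (k *ᵥ v) = c * Q v) ∧
      (∀ g : GL (Fin n) F, ((g : Mat) * J * ((g⁻¹ : GL (Fin n) F) : Mat) = J ∨
          (g : Mat) * J * ((g⁻¹ : GL (Fin n) F) : Mat) = -J) → g ∈ subalgebraNormalizer K) := by
  classical
  have hB := hQ.polar_bilinear
  -- a nonsingular vector
  have hx₀ : ∃ x₀ : V, Q x₀ ≠ 0 := by
    by_contra hcon
    have hall : ∀ x : V, Q x = 0 := by
      intro x
      by_contra hx
      exact hcon ⟨x, hx⟩
    apply hminus
    have hpol0 : ∀ x y : V, QuadraticMap.polar Q x y = 0 := by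
      intro x y
      unfold QuadraticMap.polar
      rw [hall, hall, hall]
      ring
    have hV : ∀ v : V, v = 0 := by
      intro v
      by_contra hv
      obtain ⟨⟨x, hx⟩, -⟩ := hQ.nondegenerate v hv
      exact hx (hpol0 x v)
    refine ⟨⊥, bot_le, fun w hw => by rw [(Submodule.mem_bot F).1 hw]; exact Q_zero hQ, ?_⟩
    rw [finrank_bot, mul_zero, finrank_top]
    have : Subsingleton V := ⟨fun a b => by rw [hV a, hV b]⟩
    exact (Module.finrank_zero_of_subsingleton).symm
  obtain ⟨x₀, hx₀⟩ := hx₀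
  have hx₀0 : x₀ ≠ 0 := by
    intro h
    rw [h] at hx₀
    exact hx₀ (Q_zero hQ)
  have hQJ : ∀ v : V, Q (J *ᵥ v) = -δ * Q v := Q_J h2 hQ hJ2 hskew
  have hJv : ∀ v : V, QuadraticMap.polar Q (J *ᵥ v) v = 0 := polar_J_self h2 hskew
  -- the norm form has no nontrivial zero
  have hnorm : ∀ a b : F, a * a - δ * b * b = 0 → a = 0 ∧ b = 0 := by
    intro a b hab
    by_cases hb : b = 0
    · rw [hb] at hab
      have : a * a = 0 := by linear_combination hab
      exact ⟨(mul_self_eq_zero.1 this), hb⟩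
    · exfalso
      apply hminus
      apply plus_of_sqrt h2 Q hQ J δ hδ hJ2 hskew (a * b⁻¹)
      have hbb : b * b ≠ 0 := mul_ne_zero hb hb
      have h1 : (a * b⁻¹ * (a * b⁻¹) - δ) * (b * b) = 0 := by
        have : (a * b⁻¹ * (a * b⁻¹) - δ) * (b * b) =
            a * a * (b * b⁻¹) * (b * b⁻¹) - δ * b * b := by ring
        rw [this, mul_inv_cancel₀ hb, mul_one, mul_one]
        exact hab
      rcases mul_eq_zero.1 h1 with h | h
      · exact sub_eq_zero.1 h
      · exact absurd h hbb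
  -- `1, J` are independent
  have hindep : ∀ a b : F, a • (1 : Mat) + b • J = 0 → a = 0 ∧ b = 0 := by
    intro a b hab
    have h1 : a • x₀ + b • (J *ᵥ x₀) = 0 := by
      rw [← lin_mulVec, hab, Matrix.zero_mulVec]
    have h3 : QuadraticMap.polar Q (a • x₀ + b • (J *ᵥ x₀)) (J *ᵥ x₀) = b * (2 * (-δ * Q x₀)) := by
      rw [hB.add_left, hB.smul_left, hB.smul_left, QuadraticMap.polar_comm Q x₀ (J *ᵥ x₀), hJv,
        polar_self_eq hQ, hQJ, mul_zero, zero_add]
    rw [h1] at h3
    have h0 : QuadraticMap.polar Q 0 (J *ᵥ x₀) = 0 := by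
      have := hB.smul_left 0 0 (J *ᵥ x₀)
      simpa using this
    rw [h0] at h3
    have hne : 2 * (-δ * Q x₀) ≠ 0 := mul_ne_zero h2 (mul_ne_zero (neg_ne_zero.2 hδ) hx₀)
    have hb : b = 0 := by
      rcases mul_eq_zero.1 h3.symm with h | h
      · exact h
      · exact absurd h hne
    rw [hb, zero_smul, add_zero] at h1
    rcases smul_eq_zero.1 h1 with h | h
    · exact ⟨h, hb⟩
    · exact absurd h hx₀0
  refine ⟨quadAlg J δ hJ2, ⟨?_, ?_, ?_⟩, ?_, ?_, ?_, ?_⟩
  · -- commutative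
    rintro _ ⟨a, b, rfl⟩ _ ⟨a', b', rfl⟩
    rw [mul_formula hJ2, mul_formula hJ2]
    congr 2 <;> ring
  · -- inverses
    rintro _ ⟨a, b, rfl⟩ hne
    have hN : a * a - δ * b * b ≠ 0 := by
      intro h
      obtain ⟨ha, hb⟩ := hnorm a b h
      apply hne
      rw [ha, hb, zero_smul, zero_smul, add_zero]
    refine ⟨((a * a - δ * b * b)⁻¹ * a) • (1 : Mat) +
      ((a * a - δ * b * b)⁻¹ * (-b)) • J, ⟨_, _, rfl⟩, ?_⟩
    rw [mul_formula hJ2]
    have e1 : a * ((a * a - δ * b * b)⁻¹ * a) + b * ((a * a - δ * b * b)⁻¹ * (-b)) * δ = 1 := by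
      have : a * ((a * a - δ * b * b)⁻¹ * a) + b * ((a * a - δ * b * b)⁻¹ * (-b)) * δ =
          (a * a - δ * b * b)⁻¹ * (a * a - δ * b * b) := by ring
      rw [this, inv_mul_cancel₀ hN]
    have e2 : a * ((a * a - δ * b * b)⁻¹ * (-b)) + (a * a - δ * b * b)⁻¹ * a * b = 0 := by ring
    rw [e1, e2, one_smul, zero_smul, add_zero]
  · -- dimension
    let f : (F × F) →ₗ[F] Mat :=
      { toFun := fun p => p.1 • (1 : Mat) + p.2 • J
        map_add' := fun p p' => by
          show (p.1 + p'.1) • (1 : Mat) + (p.2 + p'.2) • J = _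
          module
        map_smul' := fun c p => by
          show (c * p.1) • (1 : Mat) + (c * p.2) • J = c • (p.1 • (1 : Mat) + p.2 • J)
          module }
    have hf : Function.Injective f := by
      rw [← LinearMap.ker_eq_bot, LinearMap.ker_eq_bot']
      intro p hp
      obtain ⟨h1, h3⟩ := hindep p.1 p.2 hp
      exact Prod.ext h1 h3
    have hrange : LinearMap.range f = Subalgebra.toSubmodule (quadAlg J δ hJ2) := by
      ext k
      constructor
      · rintro ⟨p, rfl⟩
        exact ⟨p.1, p.2, rfl⟩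
      · rintro ⟨a, b, rfl⟩
        exact ⟨(a, b), rfl⟩
    have h1 := LinearMap.finrank_range_of_inj hf
    rw [hrange, Module.finrank_prod, Module.finrank_self] at h1
    exact h1
  · -- adjoint closed
    rintro _ ⟨a, b, rfl⟩
    refine ⟨a • (1 : Mat) + (-b) • J, ⟨_, _, rfl⟩, ?_⟩
    intro x y
    rw [lin_mulVec, lin_mulVec, hB.add_left, hB.smul_left, hB.smul_left, hB.add_right, hB.smul_right,
      hB.smul_right, hskew x y]
    ring
  · -- not self-adjoint
    intro hsa
    have hu : J ∈ quadAlg J δ hJ2 := ⟨0, 1, by rw [zero_smul, zero_add, one_smul]⟩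
    obtain ⟨-, y, hy⟩ := hQ.nondegenerate x₀ hx₀0
    apply hy
    have h1 := hsa J hu (J *ᵥ x₀) y
    rw [hskew (J *ᵥ x₀) y] at h1
    -- h1 : - B (J x₀) (J y) = B (J x₀) (J y)
    have h3 := hskew (J *ᵥ x₀) y
    rw [Matrix.mulVec_mulVec, hJ2, Matrix.smul_mulVec, Matrix.one_mulVec, hB.smul_left] at h3
    have h4 : 2 * QuadraticMap.polar Q (J *ᵥ x₀) (J *ᵥ y) = 0 := by linear_combination -h1
    have h5 : QuadraticMap.polar Q (J *ᵥ x₀) (J *ᵥ y) = 0 := by
      rcases mul_eq_zero.1 h4 with h | h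
      · exact absurd h h2
      · exact h
    rw [h5, neg_zero] at h3
    rcases mul_eq_zero.1 h3 with h | h
    · exact absurd h hδ
    · exact h
  · -- similarities
    rintro _ ⟨a, b, rfl⟩
    refine ⟨a * a - δ * b * b, ?_⟩
    intro v
    rw [lin_mulVec, Q_add Q (a • v) (b • (J *ᵥ v)), hQ.smul, hQ.smul, hQJ, hB.smul_left, hB.smul_right,
      QuadraticMap.polar_comm Q v (J *ᵥ v), hJv v]
    ring
  · -- the normaliser
    have hinto : ∀ g : GL (Fin n) F, ((g : Mat) * J * ((g⁻¹ : GL (Fin n) F) : Mat) = J ∨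
        (g : Mat) * J * ((g⁻¹ : GL (Fin n) F) : Mat) = -J) →
        ∀ k ∈ quadAlg J δ hJ2,
          (g : Mat) * k * ((g⁻¹ : GL (Fin n) F) : Mat) ∈ quadAlg J δ hJ2 := by
      intro g hg
      rintro _ ⟨a, b, rfl⟩
      have hgg : (g : Mat) * ((g⁻¹ : GL (Fin n) F) : Mat) = 1 := by
        rw [← Units.val_mul, mul_inv_cancel, Units.val_one]
      have hconj : (g : Mat) * (a • (1 : Mat) + b • J) * ((g⁻¹ : GL (Fin n) F) : Mat) =
          a • (1 : Mat) + b • ((g : Mat) * J * ((g⁻¹ : GL (Fin n) F) : Mat)) := by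
        rw [mul_add, add_mul, mul_smul_comm, smul_mul_assoc, mul_one, hgg, mul_smul_comm,
          smul_mul_assoc]
      rw [hconj]
      rcases hg with h | h
      · rw [h]
        exact ⟨a, b, rfl⟩
      · rw [h]
        exact ⟨a, -b, by module⟩
    have hinv : ∀ g : GL (Fin n) F, ((g : Mat) * J * ((g⁻¹ : GL (Fin n) F) : Mat) = J ∨
        (g : Mat) * J * ((g⁻¹ : GL (Fin n) F) : Mat) = -J) →
        (((g⁻¹ : GL (Fin n) F) : Mat) * J * (((g⁻¹)⁻¹ : GL (Fin n) F) : Mat) = J ∨
        ((g⁻¹ : GL (Fin n) F) : Mat) * J * (((g⁻¹)⁻¹ : GL (Fin n) F) : Mat) = -J) := by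
      intro g hg
      rw [inv_inv]
      have hgg' : ((g⁻¹ : GL (Fin n) F) : Mat) * (g : Mat) = 1 := by
        rw [← Units.val_mul, inv_mul_cancel, Units.val_one]
      have hback : ∀ w : Mat, (g : Mat) * J * ((g⁻¹ : GL (Fin n) F) : Mat) = w →
          ((g⁻¹ : GL (Fin n) F) : Mat) * w * (g : Mat) = J := by
        intro w hw
        rw [← hw]
        calc ((g⁻¹ : GL (Fin n) F) : Mat) * ((g : Mat) * J * ((g⁻¹ : GL (Fin n) F) : Mat)) * (g : Mat)
            = (((g⁻¹ : GL (Fin n) F) : Mat) * (g : Mat)) * J *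
                (((g⁻¹ : GL (Fin n) F) : Mat) * (g : Mat)) := by
              simp only [mul_assoc]
          _ = J := by rw [hgg', one_mul, mul_one]
      rcases hg with h | h
      · left
        exact hback J h
      · right
        have h1 := hback (-J) h
        rw [mul_neg, neg_mul] at h1
        -- h1 : -(g⁻¹ J g) = J
        exact neg_eq_iff_eq_neg.mp h1
    intro g hg
    show ∀ k : Mat, k ∈ quadAlg J δ hJ2 ↔
      (g : Mat) * k * ((g⁻¹ : GL (Fin n) F) : Mat) ∈ quadAlg J δ hJ2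
    intro k
    constructor
    · exact hinto g hg k
    · intro hk
      have h1 := hinto g⁻¹ (hinv g hg) _ hk
      rw [inv_inv] at h1
      have hgg' : ((g⁻¹ : GL (Fin n) F) : Mat) * (g : Mat) = 1 := by
        rw [← Units.val_mul, inv_mul_cancel, Units.val_one]
      have h3 : ((g⁻¹ : GL (Fin n) F) : Mat) * ((g : Mat) * k * ((g⁻¹ : GL (Fin n) F) : Mat)) * (g : Mat)
          = k := by
        calc ((g⁻¹ : GL (Fin n) F) : Mat) * ((g : Mat) * k * ((g⁻¹ : GL (Fin n) F) : Mat)) * (g : Mat)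
            = (((g⁻¹ : GL (Fin n) F) : Mat) * (g : Mat)) * k *
                (((g⁻¹ : GL (Fin n) F) : Mat) * (g : Mat)) := by
              simp only [mul_assoc]
          _ = k := by rw [hgg', one_mul, mul_one]
      rw [h3] at h1
      exact h1

end final

end Cfsg.Agent.Lib.Helper22.O10m
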