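import Cfsg.Agent.Lib.Helper38.OhP.Glue
import Cfsg.Agent.Lib.Helper49.OElDefs
import Cfsg.Agent.Lib.Helper29.OElBRP
import Cfsg.Agent.Lib.Helper85.OPb5b
import Cfsg.Agent.Lib.Helper08.OOddMaxGlue
import Cfsg.Agent.Lib.Helper19.UNdID
import Cfsg.Agent.Lib.Helper96.OElE
import Cfsg.Agent.Lib.Helper20.OElF

/-!
# K-OEl pack (S5988, architect helper49), keystone 598823 K-OEl-TP (helper22): the case `r = 2`, `p` odd

`case_two_ellP_of` is CASE LEAF TP of `notes/S5988_keystones.lean.txt` with LEAVES E (`exists_fixed_invol_ell`) and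
F (`plusQ_of_sq_neg_one_split`), instantiated at `V = Fin d ⊕ Fin d → F`, `Q = Q0 d F`, taken as hypotheses `HE`, `HF`.
`case_two_ellP` is the exact spec signature (LEAVES E = `Helper96.OElE`, F = `Helper20.OElF` imported).
-/

set_option autoImplicit false
set_option linter.unusedVariables false
set_option linter.style.haveILetI false
set_option maxHeartbeats 1600000

namespace Cfsg.Agent.Lib.Helper22.OEl

open Module Cfsg.Agent.Lib.Helper98.Elus Cfsg.Agent.Lib.Helper98.Sy Cfsg.Agent.Lib.Helper38.OhP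
  Cfsg.Agent.Lib.Helper49.OEl

universe u
variable {F : Type u} [Field F] {V : Type u} [AddCommGroup V] [Module F V]

/-- the `-1`-eigenspace of an involution of determinant one has even dimension (`2 ≠ 0`) -/
theorem even_finrank_ker_add_one [FiniteDimensional F V] (h2 : (2 : F) ≠ 0) (g : V →ₗ[F] V)
    (hg : g * g = 1) (hdet : LinearMap.det g = 1) : Even (finrank F (LinearMap.ker (g + 1))) := by
  have hV1 : V1 2 g = LinearMap.ker (g + 1) := by
    ext v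
    rw [mem_V1, gsum_apply, LinearMap.mem_ker]
    simp only [Finset.sum_range_succ, Finset.sum_range_zero, zero_add, pow_zero, pow_one,
      Module.End.one_apply, LinearMap.add_apply]
    rw [add_comm]
  have h := Cfsg.Agent.Lib.Helper19.UNd.det_invol h2 g (by rw [pow_two]; exact hg)
  rw [hdet, hV1] at h
  by_contra hodd
  rw [Nat.not_even_iff_odd] at hodd
  rw [hodd.neg_one_pow] at h
  apply h2
  have h3 : (2 : F) = 1 + 1 := by norm_num
  rw [h3]
  nth_rw 1 [h]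
  exact neg_add_cancel 1

theorem case_two_ellP_of [Fintype F] {p : ℕ} [Fact p.Prime] [CharP F p] (hp2 : p ≠ 2) (d m : ℕ) (hd : 4 ≤ d)
    (hm : 2 ≤ m) (hme : Even m) (hmd : m < d)
    (HE : (2 : F) ≠ 0 → ∀ g : (Fin d ⊕ Fin d → F) →ₗ[F] (Fin d ⊕ Fin d → F), g * g = 1 →
      QIso (Q0 d F) g → Even (finrank F (LinearMap.ker (g + 1))) →
      ∃ W : Submodule F (Fin d ⊕ Fin d → F), Inv g W ∧ NonDeg (pB (Q0 d F)) W ∧ finrank F W = m ∧
        ¬ PlusQ (Q0 d F) W)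
    (HF : (2 : F) ≠ 0 → ∀ x : (Fin d ⊕ Fin d → F) →ₗ[F] (Fin d ⊕ Fin d → F), x * x = -1 →
      QIso (Q0 d F) x → ∀ ω : F, ω * ω = -1 → ∀ W : Submodule F (Fin d ⊕ Fin d → F), Inv x W →
      NonDeg (pB (Q0 d F)) W → PlusQ (Q0 d F) W) :
    (∀ x : GL (Fin d ⊕ Fin d) F, x ∈ Cfsg.Geo.omegaGL (Cfsg.quadFormPlus d F) →
      (∃ z : F, ((x ^ 2 : GL (Fin d ⊕ Fin d) F) : Matrix (Fin d ⊕ Fin d) (Fin d ⊕ Fin d) F) =
        z • (1 : Matrix (Fin d ⊕ Fin d) (Fin d ⊕ Fin d) F)) →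
      (∀ z : F, (x : Matrix (Fin d ⊕ Fin d) (Fin d ⊕ Fin d) F) ≠
        z • (1 : Matrix (Fin d ⊕ Fin d) (Fin d ⊕ Fin d) F)) →
      ∃ W : Submodule F (Fin d ⊕ Fin d → F), IsEllP d m W ∧
        W.map (Matrix.toLin' (x : Matrix (Fin d ⊕ Fin d) (Fin d ⊕ Fin d) F)) ≤ W) ↔
    ((Even d ∧ Fintype.card F % 4 = 3 ∧ m % 4 = 2) ∨ (Odd d ∧ Fintype.card F % 8 ≠ 1)) := by
  classical
  have hpP : p.Prime := Fact.out
  obtain ⟨f, _, hF⟩ := FiniteField.card F p
  have hfin := L.finrank_Q0 (F := F) d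
  have hVnd := L.nonDeg_Q0 (F := F) d
  have hVp := L.plusQ_Q0 (F := F) d
  -- back to the concrete formulation
  have hback : ∀ (x : GL (Fin d ⊕ Fin d) F),
      (∃ W : Submodule F (Fin d ⊕ Fin d → F),
        Inv (Matrix.toLin' (x : Matrix (Fin d ⊕ Fin d) (Fin d ⊕ Fin d) F)) W ∧
        NonDeg (pB (Q0 d F)) W ∧ finrank F W = m ∧ ¬ PlusQ (Q0 d F) W) →
      ∃ W : Submodule F (Fin d ⊕ Fin d → F), IsEllP d m W ∧
        W.map (Matrix.toLin' (x : Matrix (Fin d ⊕ Fin d) (Fin d ⊕ Fin d) F)) ≤ W := by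
    rintro x ⟨W, hWinv, hWnd, hWd, hWp⟩
    exact ⟨W, (Cfsg.Agent.Lib.Helper29.OEl.isEllP_iff d m W).mpr ⟨hWd, hWnd, hWp⟩,
      (L.map_le_iff_inv' d _ W).mpr hWinv⟩
  have h2F : (2 : F) ≠ 0 := by
    intro h
    have h' : ((2 : ℕ) : F) = 0 := by exact_mod_cast h
    rw [CharP.cast_eq_zero_iff F p] at h'
    exact hp2 ((Nat.prime_dvd_prime_iff_eq hpP Nat.prime_two).mp h')
  have hsq : IsSquare (-1 : F) ↔ Fintype.card F % 4 ≠ 3 := FiniteField.isSquare_neg_one_iff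
  have hqodd : Fintype.card F % 2 = 1 := by
    rw [hF]
    have : Odd p := hpP.odd_of_ne_two hp2
    exact Nat.odd_iff.mp (this.pow)
  have h11 : (1 : F) ≠ -1 := by
    intro h
    apply h2F
    have h3 : (2 : F) = 1 + 1 := by norm_num
    rw [h3]
    nth_rw 1 [h]
    exact neg_add_cancel 1
  -- an element of `Ω` of square `-1` is not a scalar
  have hnsc : ∀ x : GL (Fin d ⊕ Fin d) F, x ∈ Cfsg.Geo.omegaGL (Cfsg.quadFormPlus d F) →
      (x : Matrix (Fin d ⊕ Fin d) (Fin d ⊕ Fin d) F) * (x : Matrix (Fin d ⊕ Fin d) (Fin d ⊕ Fin d) F) = -1 →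
      ∀ z : F, (x : Matrix (Fin d ⊕ Fin d) (Fin d ⊕ Fin d) F) ≠
        z • (1 : Matrix (Fin d ⊕ Fin d) (Fin d ⊕ Fin d) F) := by
    intro x hxΩ hxx z hxz
    have hzz := L.scalar_sq_eq_one d (by omega) x hxΩ 1 z (by rw [pow_one]; exact hxz)
    have h1 := hxx
    rw [hxz, Matrix.smul_mul, Matrix.mul_smul, Matrix.one_mul, smul_smul, hzz, one_smul] at h1
    have h2 := congrFun (congrFun h1 (Sum.inl ⟨0, by omega⟩)) (Sum.inl ⟨0, by omega⟩)
    rw [Matrix.one_apply_eq, Matrix.neg_apply, Matrix.one_apply_eq] at h2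
    exact h11 h2
  have hq4 : Fintype.card F % 4 = 1 ∨ Fintype.card F % 4 = 3 := by omega
  constructor
  · intro hL
    rcases hq4 with hq1 | hq3
    · -- `q ≡ 1 (4)`
      right
      by_contra hcon
      have hcase : Even d ∨ Fintype.card F % 8 = 1 := by
        by_cases he : Even d
        · exact Or.inl he
        · right
          by_contra h8
          exact hcon ⟨Nat.not_even_iff_odd.mp he, h8⟩
      obtain ⟨x, hxΩ, hxx⟩ : ∃ x : GL (Fin d ⊕ Fin d) F, x ∈ Cfsg.Geo.omegaGL (Cfsg.quadFormPlus d F) ∧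
          (x : Matrix (Fin d ⊕ Fin d) (Fin d ⊕ Fin d) F) *
            (x : Matrix (Fin d ⊕ Fin d) (Fin d ⊕ Fin d) F) = -1 := by
        rcases hcase with he | h8
        · exact Cfsg.Agent.Lib.Helper62.OPb.exists_sq_neg_one_of_even h2F d he
        · exact Cfsg.Agent.Lib.Helper62.OPb.exists_sq_neg_one_of_mod_eight h8 d
      have hz : ((x ^ 2 : GL (Fin d ⊕ Fin d) F) : Matrix (Fin d ⊕ Fin d) (Fin d ⊕ Fin d) F) =
          (-1 : F) • (1 : Matrix (Fin d ⊕ Fin d) (Fin d ⊕ Fin d) F) := by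
        rw [mul_self_val, hxx, neg_one_smul]
      obtain ⟨W, hW, hmap⟩ := hL x hxΩ ⟨-1, hz⟩ (hnsc x hxΩ hxx)
      obtain ⟨hWd, hWnd, hWp⟩ := (Cfsg.Agent.Lib.Helper29.OEl.isEllP_iff d m W).mp hW
      have hWinv := (L.map_le_iff_inv' d _ W).mp hmap
      have hgg := toLin_mul_self_neg d x hxx
      obtain ⟨ω, hω⟩ : IsSquare (-1 : F) := hsq.mpr (by omega)
      exact hWp (HF h2F _ hgg (L.qiso_of_mem_omegaGL d x hxΩ) ω hω.symm W hWinv hWnd)
    · -- `q ≡ 3 (4)`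
      have hns1 : ¬ IsSquare (-1 : F) := fun h => (hsq.mp h) hq3
      rcases Nat.even_or_odd d with hde | hdo
      · left
        refine ⟨hde, hq3, ?_⟩
        by_contra hm4
        have hm0 : m % 4 = 0 := by
          obtain ⟨k, hk⟩ := hme
          omega
        obtain ⟨x, hxΩ, hxx⟩ := Cfsg.Agent.Lib.Helper62.OPb.exists_sq_neg_one_of_even (F := F) h2F d hde
        have hz : ((x ^ 2 : GL (Fin d ⊕ Fin d) F) : Matrix (Fin d ⊕ Fin d) (Fin d ⊕ Fin d) F) =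
            (-1 : F) • (1 : Matrix (Fin d ⊕ Fin d) (Fin d ⊕ Fin d) F) := by
          rw [mul_self_val, hxx, neg_one_smul]
        obtain ⟨W, hW, hmap⟩ := hL x hxΩ ⟨-1, hz⟩ (hnsc x hxΩ hxx)
        obtain ⟨hWd, hWnd, hWp⟩ := (Cfsg.Agent.Lib.Helper29.OEl.isEllP_iff d m W).mp hW
        have hWinv := (L.map_le_iff_inv' d _ W).mp hmap
        have hgg := toLin_mul_self_neg d x hxx
        apply hWp
        exact (L.plusQ_iff_of_sq_neg_one h2F hns1 (Q0 d F) hVnd _ hgg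
          (L.qiso_of_mem_omegaGL d x hxΩ) W hWinv hWnd).mpr
          (by rw [hWd]; exact Nat.dvd_of_mod_eq_zero hm0)
      · right
        exact ⟨hdo, by omega⟩
  · intro hcond x hxΩ hz hns
    obtain ⟨z, hz⟩ := hz
    have hzz := L.scalar_sq_eq_one d (by omega) x hxΩ 2 z hz
    have hqi := L.qiso_of_mem_omegaGL d x hxΩ
    rw [mul_self_val] at hz
    rcases mul_self_eq_one_iff.mp hzz with h | h
    · subst h
      rw [one_smul] at hz
      have hgg := toLin_mul_self_one d x hz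
      have hdet : LinearMap.det (Matrix.toLin' (x : Matrix (Fin d ⊕ Fin d) (Fin d ⊕ Fin d) F)) = 1 := by
        rw [LinearMap.det_toLin']
        exact Cfsg.Agent.Lib.Helper08.OOddMax.det_eq_one_of_mem_omegaGL _ x hxΩ
      exact hback x (HE h2F _ hgg hqi (even_finrank_ker_add_one h2F _ hgg hdet))
    · subst h
      rw [neg_one_smul] at hz
      have hgg := toLin_mul_self_neg d x hz
      rcases hcond with ⟨hde, hq3, hm2⟩ | ⟨hdo, h8⟩
      · have hns1 : ¬ IsSquare (-1 : F) := fun h => (hsq.mp h) hq3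
        obtain ⟨W, hWinv, hWnd, hWd⟩ := L.exists_nonDeg_inv_sq_neg_one h2F (Q0 d F) hVnd _ hgg hqi m hme
          (by rw [hfin]; omega)
        refine hback x ⟨W, hWinv, hWnd, hWd, ?_⟩
        intro hWp
        have h4 := (L.plusQ_iff_of_sq_neg_one h2F hns1 (Q0 d F) hVnd _ hgg hqi W hWinv hWnd).mp hWp
        rw [hWd] at h4
        omega
      · exfalso
        rcases hq4 with hq1 | hq3
        · rcases Cfsg.Agent.Lib.Helper85.OPb.even_or_mod_eight_of_sq_neg_one hq1 d x hxΩ hz with he | h8'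
          · exact (Nat.not_even_iff_odd.mpr hdo) he
          · exact h8 h8'
        · have hns1 : ¬ IsSquare (-1 : F) := fun h => (hsq.mp h) hq3
          have htop := (L.plusQ_iff_of_sq_neg_one h2F hns1 (Q0 d F) hVnd _ hgg hqi ⊤
            (fun v _ => Submodule.mem_top) hVnd).mp hVp
          rw [finrank_top, hfin] at htop
          obtain ⟨k, hk⟩ := hdo
          omega

/-- CASE LEAF TP (598823), exact spec signature. -/
theorem case_two_ellP [Fintype F] {p : ℕ} [Fact p.Prime] [CharP F p] (hp2 : p ≠ 2) (d m : ℕ) (hd : 4 ≤ d)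
    (hm : 2 ≤ m) (hme : Even m) (hmd : m < d) :
    (∀ x : GL (Fin d ⊕ Fin d) F, x ∈ Cfsg.Geo.omegaGL (Cfsg.quadFormPlus d F) →
      (∃ z : F, ((x ^ 2 : GL (Fin d ⊕ Fin d) F) : Matrix (Fin d ⊕ Fin d) (Fin d ⊕ Fin d) F) =
        z • (1 : Matrix (Fin d ⊕ Fin d) (Fin d ⊕ Fin d) F)) →
      (∀ z : F, (x : Matrix (Fin d ⊕ Fin d) (Fin d ⊕ Fin d) F) ≠
        z • (1 : Matrix (Fin d ⊕ Fin d) (Fin d ⊕ Fin d) F)) →
      ∃ W : Submodule F (Fin d ⊕ Fin d → F), IsEllP d m W ∧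
        W.map (Matrix.toLin' (x : Matrix (Fin d ⊕ Fin d) (Fin d ⊕ Fin d) F)) ≤ W) ↔
    ((Even d ∧ Fintype.card F % 4 = 3 ∧ m % 4 = 2) ∨ (Odd d ∧ Fintype.card F % 8 ≠ 1)) :=
  case_two_ellP_of hp2 d m hd hm hme hmd
    (fun h2 g hg hiso hev =>
      Cfsg.Agent.Lib.Helper96.OEl.exists_fixed_invol_ell h2 (Q0 d F) (L.nonDeg_Q0 d) g hg hiso hev d hd
        (L.finrank_Q0 d) m hme hm (by omega))
    (fun h2 x hx hiso ω hω W hW hWnd =>
      Cfsg.Agent.Lib.Helper20.OEl.plusQ_of_sq_neg_one_split h2 (Q0 d F) x hx hiso ω hω W hW hWnd)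

end Cfsg.Agent.Lib.Helper22.OEl
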