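import Mathlib
import Cfsg.Prelude.Def_Blocks
import Cfsg.Agent.Lib.Helper80.GaloisChar
import Cfsg.Agent.Lib.Helper05.CharValues
import Cfsg.Agent.Lib.Helper21.ContribRow
import Cfsg.Agent.Lib.Helper22.MajorNonvanish

/-!
# `p`-conjugate characters

The characters obtained from an irreducible character `χ` by the field automorphisms fixing the
roots of unity of order prime to `p`, and Brauer's bound for their number.
-/

set_option autoImplicit false
set_option linter.unusedSectionVars false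
set_option linter.style.haveILetI false

namespace Cfsg.Agent.Lib.Helper22

open Cfsg
open scoped ComplexConjugate

universe u
variable {G : Type u} [Group G] [Fintype G]

/-- A ring automorphism acting as the `k`-th power on the `n`-th roots of unity sends the value
of a character at an element of order dividing `n` to its value at the `k`-th power. -/
theorem ringEquiv_apply_char_eq_pow {χ : G → ℂ} (hχ : IsCharacter G χ) (σ : ℂ ≃+* ℂ)
    (k n : ℕ) (hn : ∀ ζ : ℂ, ζ ^ n = 1 → σ ζ = ζ ^ k) (g : G) (hg : orderOf g ∣ n) :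
    σ (χ g) = χ (g ^ k) := by
  obtain ⟨d, ρ, rfl⟩ := hχ
  obtain ⟨b, μ, hμ, -, hk', -⟩ :=
    Cfsg.Agent.Lib.Helper05.exists_eigenvalues ρ g (isOfFinOrder_of_finite g)
  have h1 := hk' 1
  rw [pow_one] at h1
  rw [h1, hk' k, map_sum]
  apply Finset.sum_congr rfl
  intro i _
  rw [pow_one]
  apply hn
  obtain ⟨m, hm⟩ := hg
  rw [hm, pow_mul, hμ, one_pow]

/-- A ring automorphism of `ℂ` fixing a primitive `m`-th root of unity fixes all `m`-th roots
of unity. -/
theorem ringEquiv_fix_roots (σ : ℂ ≃+* ℂ) {m : ℕ} (hm : m ≠ 0) {ζ₀ : ℂ}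
    (hζ₀ : IsPrimitiveRoot ζ₀ m) (hfix : σ ζ₀ = ζ₀) (ζ : ℂ) (hζ : ζ ^ m = 1) : σ ζ = ζ := by
  haveI : NeZero m := ⟨hm⟩
  obtain ⟨i, -, rfl⟩ := hζ₀.eq_pow_of_pow_eq_one hζ
  rw [map_pow, hfix]

/-- The order of a `p`-regular element divides the `p'`-part of the group order. -/
theorem orderOf_dvd_ordCompl {p : ℕ} (hp : p.Prime) (g : G) (hg : ¬ p ∣ orderOf g) :
    orderOf g ∣ Nat.card G / p ^ (Nat.card G).factorization p := by
  have h1 : orderOf g ∣ Nat.card G := orderOf_dvd_natCard g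
  have h2 : Nat.card G = p ^ (Nat.card G).factorization p *
      (Nat.card G / p ^ (Nat.card G).factorization p) :=
    (Nat.ordProj_mul_ordCompl_eq_self _ p).symm
  rw [h2] at h1
  have hcop : Nat.Coprime (orderOf g) (p ^ (Nat.card G).factorization p) :=
    Nat.Coprime.pow_right _ ((Nat.Prime.coprime_iff_not_dvd hp).2 hg).symm
  exact hcop.dvd_of_dvd_mul_left h1

/-- An automorphism fixing the `p'`-roots of unity fixes the values of characters at
`p`-regular elements. -/
theorem ringEquiv_apply_char_pRegular {p : ℕ} (hp : p.Prime) {χ : G → ℂ}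
    (hχ : IsCharacter G χ) (σ : ℂ ≃+* ℂ)
    (hσ : σ (Complex.exp (2 * Real.pi * Complex.I /
        ((Nat.card G / p ^ (Nat.card G).factorization p : ℕ) : ℂ)))
      = Complex.exp (2 * Real.pi * Complex.I /
        ((Nat.card G / p ^ (Nat.card G).factorization p : ℕ) : ℂ)))
    (g : G) (hg : ¬ p ∣ orderOf g) : σ (χ g) = χ g := by
  have hm : Nat.card G / p ^ (Nat.card G).factorization p ≠ 0 :=
    (Nat.ordCompl_pos p (Nat.card_pos (α := G)).ne').ne'
  have hprim := Complex.isPrimitiveRoot_exp _ hm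
  have h := ringEquiv_apply_char_eq_pow hχ σ 1 _
    (fun ζ hζ => by rw [pow_one]; exact ringEquiv_fix_roots σ hm hprim hσ ζ hζ) g
    (orderOf_dvd_ordCompl hp g hg)
  rwa [pow_one] at h

/-- A ring automorphism of `ℂ` acts on the `N`-th roots of unity as a `k`-th power map with `k`
prime to `N`; if it fixes a primitive `m`-th root of unity with `m ∣ N` then `k ≡ 1` modulo
`m`. -/
theorem exists_pow_of_ringEquiv (σ : ℂ ≃+* ℂ) {N m : ℕ} (hN : N ≠ 0) (hmN : m ∣ N)
    (hfix : σ (Complex.exp (2 * Real.pi * Complex.I / (m : ℂ)))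
      = Complex.exp (2 * Real.pi * Complex.I / (m : ℂ))) :
    ∃ k : ℕ, Nat.Coprime k N ∧ k ≡ 1 [MOD m] ∧ ∀ ζ : ℂ, ζ ^ N = 1 → σ ζ = ζ ^ k := by
  haveI : NeZero N := ⟨hN⟩
  have hm : m ≠ 0 := fun h0 => hN (by rw [h0] at hmN; exact Nat.eq_zero_of_zero_dvd hmN)
  have hprimN := Complex.isPrimitiveRoot_exp N hN
  have hprimm := Complex.isPrimitiveRoot_exp m hm
  set ζN := Complex.exp (2 * Real.pi * Complex.I / (N : ℂ)) with hζN
  have hσprim : IsPrimitiveRoot (σ ζN) N :=
    hprimN.map_of_injective (f := (σ : ℂ →+* ℂ)) σ.injective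
  obtain ⟨k, -, hk⟩ := hprimN.eq_pow_of_pow_eq_one hσprim.pow_eq_one
  have hkcop : Nat.Coprime k N := by
    rw [← hk] at hσprim
    exact (hprimN.pow_iff_coprime (Nat.pos_of_ne_zero hN) k).1 hσprim
  have hall : ∀ ζ : ℂ, ζ ^ N = 1 → σ ζ = ζ ^ k := by
    intro ζ hζ
    obtain ⟨i, -, rfl⟩ := hprimN.eq_pow_of_pow_eq_one hζ
    rw [map_pow, ← hk, ← pow_mul, ← pow_mul, mul_comm]
  refine ⟨k, hkcop, ?_, hall⟩
  have hζm : (Complex.exp (2 * Real.pi * Complex.I / (m : ℂ))) ^ N = 1 := by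
    obtain ⟨t, ht⟩ := hmN
    rw [ht, pow_mul, hprimm.pow_eq_one, one_pow]
  have h1 := hall _ hζm
  rw [hfix] at h1
  have h2 : (Complex.exp (2 * Real.pi * Complex.I / (m : ℂ))) ^ k
      = (Complex.exp (2 * Real.pi * Complex.I / (m : ℂ))) ^ 1 := by
    rw [pow_one]; exact h1.symm
  have hne : Complex.exp (2 * Real.pi * Complex.I / (m : ℂ)) ≠ 0 := Complex.exp_ne_zero _
  rcases Nat.eq_zero_or_pos k with hk0 | hkpos
  · rw [hk0, Nat.coprime_zero_left] at hkcop
    rw [hkcop, Nat.dvd_one] at hmN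
    rw [hmN]
    exact Nat.modEq_one
  · have h3 : (Complex.exp (2 * Real.pi * Complex.I / (m : ℂ))) ^ (k - 1) = 1 := by
      have h4 : (Complex.exp (2 * Real.pi * Complex.I / (m : ℂ))) ^ (k - 1)
          * Complex.exp (2 * Real.pi * Complex.I / (m : ℂ))
          = 1 * Complex.exp (2 * Real.pi * Complex.I / (m : ℂ)) := by
        rw [← pow_succ, Nat.sub_add_cancel hkpos, one_mul]
        rw [pow_one] at h2
        exact h2
      exact mul_right_cancel₀ hne h4
    have h5 : m ∣ k - 1 := (hprimm.pow_eq_one_iff_dvd _).1 h3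
    exact ((Nat.modEq_iff_dvd' hkpos).2 h5).symm

/-- The Galois conjugate `g ↦ ψ (g ^ u)` of an irreducible character by a unit `u` modulo
`|G|`. -/
noncomputable def galConj (u : (ZMod (Nat.card G))ˣ) (ψ : IrrCharacter G) : IrrCharacter G :=
  ⟨fun g => (ψ : G → ℂ) (g ^ (u : ZMod (Nat.card G)).val),
    Cfsg.Agent.Lib.Helper80.isIrrCharacter_pow_coprime ψ.2 _ (ZMod.val_coe_unit_coprime u)⟩

theorem galConj_apply (u : (ZMod (Nat.card G))ˣ) (ψ : IrrCharacter G) (g : G) :
    (galConj u ψ : G → ℂ) g = (ψ : G → ℂ) (g ^ (u : ZMod (Nat.card G)).val) := rfl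

theorem pow_eq_pow_of_modEq_card (g : G) {k l : ℕ} (h : k ≡ l [MOD Nat.card G]) :
    g ^ k = g ^ l := by
  rw [← pow_mod_natCard g k, ← pow_mod_natCard g l]
  exact congrArg _ h

/-- The Galois action of the units modulo `|G|` on the irreducible characters. -/
noncomputable def galMulAction : MulAction (ZMod (Nat.card G))ˣ (IrrCharacter G) where
  smul := galConj
  mul_smul u v ψ := by
    haveI : NeZero (Nat.card G) := ⟨Nat.card_pos.ne'⟩
    apply Subtype.ext
    funext g
    change (galConj (u * v) ψ : G → ℂ) g = (galConj u (galConj v ψ) : G → ℂ) g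
    rw [galConj_apply, galConj_apply, galConj_apply, ← pow_mul]
    apply congrArg
    apply pow_eq_pow_of_modEq_card
    rw [Units.val_mul, ZMod.val_mul]
    exact Nat.mod_modEq _ _
  one_smul ψ := by
    haveI : NeZero (Nat.card G) := ⟨Nat.card_pos.ne'⟩
    apply Subtype.ext
    funext g
    change (galConj 1 ψ : G → ℂ) g = (ψ : G → ℂ) g
    rw [galConj_apply]
    apply congrArg
    rw [Units.val_one, ZMod.val_one_eq_one_mod, pow_mod_natCard, pow_one]

attribute [local instance] galMulAction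

theorem galSMul_apply (u : (ZMod (Nat.card G))ˣ) (ψ : IrrCharacter G) (g : G) :
    ((u • ψ : IrrCharacter G) : G → ℂ) g = (ψ : G → ℂ) (g ^ (u : ZMod (Nat.card G)).val) := rfl

variable (G) in
/-- The units modulo `|G|` that are `1` modulo the `p'`-part of `|G|`. -/
noncomputable def pKer (p : ℕ) : Subgroup (ZMod (Nat.card G))ˣ :=
  (ZMod.unitsMap (Nat.ordCompl_dvd (Nat.card G) p)).ker

theorem mem_pKer_iff (p : ℕ) (u : (ZMod (Nat.card G))ˣ) :
    u ∈ pKer G p ↔ (u : ZMod (Nat.card G)).val ≡ 1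
      [MOD Nat.card G / p ^ (Nat.card G).factorization p] := by
  haveI : NeZero (Nat.card G) := ⟨Nat.card_pos.ne'⟩
  unfold pKer
  rw [MonoidHom.mem_ker, Units.ext_iff, ZMod.unitsMap_val, Units.val_one,
    ← ZMod.natCast_val, ← ZMod.natCast_eq_natCast_iff, Nat.cast_one]

theorem galSMul_pKer_apply (p : ℕ) (u : pKer G p) (ψ : IrrCharacter G) (g : G) :
    ((u • ψ : IrrCharacter G) : G → ℂ) g
      = (ψ : G → ℂ) (g ^ ((u : (ZMod (Nat.card G))ˣ) : ZMod (Nat.card G)).val) := rfl

/-- The `p`-conjugates of `χ` are the orbit of `χ` under the units that are `1` modulo the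
`p'`-part of `|G|`. -/
theorem exists_ringEquiv_iff_mem_orbit (p : ℕ) (χ ψ : IrrCharacter G) :
    (∃ σ : ℂ ≃+* ℂ, σ (Complex.exp (2 * Real.pi * Complex.I /
        ((Nat.card G / p ^ (Nat.card G).factorization p : ℕ) : ℂ)))
      = Complex.exp (2 * Real.pi * Complex.I /
        ((Nat.card G / p ^ (Nat.card G).factorization p : ℕ) : ℂ)) ∧
      (ψ : G → ℂ) = fun g => σ ((χ : G → ℂ) g)) ↔ ψ ∈ MulAction.orbit (pKer G p) χ := by
  haveI : NeZero (Nat.card G) := ⟨Nat.card_pos.ne'⟩
  have hN : Nat.card G ≠ 0 := Nat.card_pos.ne'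
  have hdiv : Nat.card G / p ^ (Nat.card G).factorization p ∣ Nat.card G :=
    Nat.ordCompl_dvd (Nat.card G) p
  have hχc : IsCharacter G (χ : G → ℂ) := Cfsg.Agent.Lib.Helper05.IsIrrCharacter.isCharacter χ.2
  constructor
  · rintro ⟨σ, hσ, hψ⟩
    obtain ⟨k, hkcop, hk1, hall⟩ := exists_pow_of_ringEquiv σ hN hdiv hσ
    have hval : ((ZMod.unitOfCoprime k hkcop : (ZMod (Nat.card G))ˣ) : ZMod (Nat.card G)).val
        = k % Nat.card G := by
      rw [ZMod.coe_unitOfCoprime, ZMod.val_natCast]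
    have hu : ZMod.unitOfCoprime k hkcop ∈ pKer G p := by
      rw [mem_pKer_iff, hval]
      exact ((Nat.mod_modEq k _).of_dvd hdiv).trans hk1
    rw [MulAction.mem_orbit_iff]
    refine ⟨⟨ZMod.unitOfCoprime k hkcop, hu⟩, ?_⟩
    apply Subtype.ext
    funext g
    rw [galSMul_pKer_apply, hψ, hval, pow_mod_natCard]
    exact (ringEquiv_apply_char_eq_pow hχc σ k _ hall g (orderOf_dvd_natCard g)).symm
  · intro h
    rw [MulAction.mem_orbit_iff] at h
    obtain ⟨u, rfl⟩ := h
    have hu := (mem_pKer_iff p (u : (ZMod (Nat.card G))ˣ)).1 u.2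
    obtain ⟨τ, hτ⟩ := Cfsg.Agent.Lib.Helper80.exists_ringEquiv_pow (Nat.card G) Nat.card_pos
      ((u : (ZMod (Nat.card G))ˣ) : ZMod (Nat.card G)).val (ZMod.val_coe_unit_coprime _)
    have hm : Nat.card G / p ^ (Nat.card G).factorization p ≠ 0 :=
      (Nat.ordCompl_pos p hN).ne'
    have hprim := Complex.isPrimitiveRoot_exp _ hm
    refine ⟨τ, ?_, ?_⟩
    · have h0 : ∀ (ζ : ℂ) (m : ℕ), ζ ^ m = 1 → m ∣ Nat.card G → ζ ^ Nat.card G = 1 := by
        intro ζ m h hd
        obtain ⟨t, ht⟩ := hd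
        rw [ht, pow_mul, h, one_pow]
      have h1 := h0 _ _ hprim.pow_eq_one hdiv
      rw [hτ _ h1, pow_eq_pow_mod _ hprim.pow_eq_one, hu, ← pow_eq_pow_mod _ hprim.pow_eq_one,
        pow_one]
    · funext g
      rw [galSMul_pKer_apply]
      exact (ringEquiv_apply_char_eq_pow hχc τ _ _ hτ g (orderOf_dvd_natCard g)).symm

/-- If the orbit of `χ` under the `p`-conjugating units has `p`-power length, then all
`p`-conjugates of `χ` agree with `χ` on products `z * y` of commuting elements with `z` of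
order `p` and `y` a `p`-regular element. -/
theorem apply_eq_of_mem_orbit_of_ncard_eq_pow (p : ℕ) [Fact p.Prime] (χ ψ : IrrCharacter G)
    (h : ψ ∈ MulAction.orbit (pKer G p) χ) (e : ℕ)
    (hcard : (MulAction.orbit (pKer G p) χ).ncard = p ^ e) (z y : G) (hz : orderOf z = p)
    (hy : ¬ p ∣ orderOf y) (hzy : Commute z y) :
    (ψ : G → ℂ) (z * y) = (χ : G → ℂ) (z * y) := by
  have hp : p.Prime := Fact.out
  haveI : NeZero (Nat.card G) := ⟨Nat.card_pos.ne'⟩
  obtain ⟨u, rfl⟩ := MulAction.mem_orbit_iff.1 h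
  have hidx : (MulAction.stabilizer (pKer G p) χ).index = p ^ e := by
    rw [MulAction.index_stabilizer, hcard]
  haveI : (MulAction.stabilizer (pKer G p) χ).Normal := Subgroup.normal_of_comm _
  have hw : u ^ (p ^ e) ∈ MulAction.stabilizer (pKer G p) χ := by
    rw [← hidx]
    exact Subgroup.pow_index_mem _ u
  rw [MulAction.mem_stabilizer_iff] at hw
  have h1 : (χ : G → ℂ) (z * y) = (χ : G → ℂ) ((z * y) ^
      (((u ^ (p ^ e) : pKer G p) : (ZMod (Nat.card G))ˣ) : ZMod (Nat.card G)).val) := by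
    conv_lhs => rw [← hw]
    rfl
  rw [galSMul_pKer_apply, h1]
  apply congrArg
  have hu1 := (mem_pKer_iff p (u : (ZMod (Nat.card G))ˣ)).1 u.2
  have hw1 := (mem_pKer_iff p ((u ^ (p ^ e) : pKer G p) : (ZMod (Nat.card G))ˣ)).1
    (u ^ (p ^ e) : pKer G p).2
  rw [hzy.mul_pow, hzy.mul_pow]
  congr 1
  · rw [pow_eq_pow_iff_modEq, hz, ← ZMod.natCast_eq_natCast_iff]
    have hpN : p ∣ Nat.card G := by
      rw [← hz]
      exact orderOf_dvd_natCard z
    have hcast : ∀ x : ZMod (Nat.card G), ((x.val : ℕ) : ZMod p)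
        = ZMod.castHom hpN (ZMod p) x := by
      intro x
      rw [ZMod.natCast_val, ZMod.castHom_apply]
    rw [hcast, hcast, Subgroup.coe_pow, Units.val_pow_eq_pow_val, map_pow, ZMod.pow_card_pow]
  · rw [pow_eq_pow_iff_modEq]
    exact (hu1.trans hw1.symm).of_dvd (orderOf_dvd_ordCompl hp y hy)

section Main

variable [Fintype (IrrCharacter G)] (p : ℕ) [Fact p.Prime]

open Cfsg.Agent.Lib.Helper21 in
/-- `p`-conjugate characters have the same contribution. -/
theorem rowInt_eq_of_mem_orbit (χ ψ : IrrCharacter G)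
    (h : ψ ∈ MulAction.orbit (pKer G p) χ) : rowInt p χ ψ = rowInt p χ χ := by
  have hp : p.Prime := Fact.out
  have hχc : IsCharacter G (χ : G → ℂ) := Cfsg.Agent.Lib.Helper05.IsIrrCharacter.isCharacter χ.2
  obtain ⟨σ, hσ, hψ⟩ := (exists_ringEquiv_iff_mem_orbit p χ ψ).2 h
  have h1 : ((rowInt p χ ψ : ℤ) : ℂ) = ((rowInt p χ χ : ℤ) : ℂ) := by
    rw [← rowInt_spec, ← rowInt_spec]
    unfold Cfsg.classInner
    congr 1
    apply Finset.sum_congr rfl
    intro g _
    unfold rowFun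
    split_ifs with hg
    · rw [zero_mul, zero_mul]
    · rw [hψ]
      simp only
      rw [ringEquiv_apply_char_pRegular hp hχc σ hσ g hg]
  exact_mod_cast h1

open Cfsg.Agent.Lib.Helper21 in
/-- Brauer's bound for the number `r` of `p`-conjugates of `χ`: the `p`-part of `r χ(1)` is at
most that of `|G|`, with equality only when `χ` has `p`-defect zero. -/
theorem pConjugate_count_bound (χ : IrrCharacter G) (r : ℕ)
    (hr : Nat.card {ψ : IrrCharacter G // ∃ σ : ℂ ≃+* ℂ,
      σ (Complex.exp (2 * Real.pi * Complex.I /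
        ((Nat.card G / p ^ (Nat.card G).factorization p : ℕ) : ℂ)))
      = Complex.exp (2 * Real.pi * Complex.I /
        ((Nat.card G / p ^ (Nat.card G).factorization p : ℕ) : ℂ)) ∧
      (ψ : G → ℂ) = fun g => σ ((χ : G → ℂ) g)} = r) :
    (r * charDegree (χ : G → ℂ)).factorization p ≤ (Nat.card G).factorization p ∧
    (p ^ (Nat.card G).factorization p ∣ r * charDegree (χ : G → ℂ) →
      p ^ (Nat.card G).factorization p ∣ charDegree (χ : G → ℂ)) := by
  classical
  have hp : p.Prime := Fact.out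
  have hχc : IsCharacter G (χ : G → ℂ) := Cfsg.Agent.Lib.Helper05.IsIrrCharacter.isCharacter χ.2
  have hd0 : charDegree (χ : G → ℂ) ≠ 0 := by
    intro h0
    have h1 : (charDegree (χ : G → ℂ) : ℂ) = (χ : G → ℂ) 1 :=
      Cfsg.Agent.Lib.Helper83.charDegree_cast hχc
    rw [h0, Nat.cast_zero] at h1
    exact Cfsg.Agent.Lib.Helper82.IsIrrCharacter.apply_one_ne_zero χ.2 h1.symm
  have hdvd : charDegree (χ : G → ℂ) ∣ Nat.card G :=
    Cfsg.Agent.Lib.Helper82.IsIrrCharacter.charDegree_dvd_card χ.2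
  have hba : (charDegree (χ : G → ℂ)).factorization p ≤ (Nat.card G).factorization p :=
    (Nat.factorization_le_iff_dvd hd0 Nat.card_pos.ne').2 hdvd p
  have he : rowExp p χ + (charDegree (χ : G → ℂ)).factorization p
      = (Nat.card G).factorization p := by
    unfold rowExp
    omega
  have hn : 0 < rowInt p χ χ := rowInt_self_pos p χ
  have hcardO : (MulAction.orbit (pKer G p) χ).ncard = r := by
    rw [← hr, ← Nat.card_coe_set_eq]
    apply Nat.card_congr
    exact Equiv.subtypeEquivRight (fun ψ => (exists_ringEquiv_iff_mem_orbit p χ ψ).symm)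
  have hcard : (Finset.univ.filter (fun ψ : IrrCharacter G =>
      ψ ∈ MulAction.orbit (pKer G p) χ)).card = r := by
    rw [← hcardO, Set.ncard_eq_toFinset_card']
    congr 1
    ext ψ
    simp
  have hsum : ∑ ψ ∈ Finset.univ.filter (fun ψ : IrrCharacter G =>
      ψ ∈ MulAction.orbit (pKer G p) χ), rowInt p χ ψ ^ 2 = (r : ℤ) * rowInt p χ χ ^ 2 := by
    rw [Finset.sum_congr rfl (fun ψ hψ => by
      rw [rowInt_eq_of_mem_orbit p χ ψ (Finset.mem_filter.1 hψ).2]), Finset.sum_const, hcard,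
      nsmul_eq_mul]
  have hle : (r : ℤ) * rowInt p χ χ ^ 2 ≤ (p : ℤ) ^ rowExp p χ * rowInt p χ χ := by
    rw [← hsum, ← sum_rowInt_sq]
    apply Finset.sum_le_sum_of_subset_of_nonneg (Finset.subset_univ _)
    intro _ _ _
    exact sq_nonneg _
  have hrn : (r : ℤ) * rowInt p χ χ ≤ (p : ℤ) ^ rowExp p χ := by
    have h1 : (r : ℤ) * rowInt p χ χ * rowInt p χ χ ≤ (p : ℤ) ^ rowExp p χ * rowInt p χ χ := by
      calc (r : ℤ) * rowInt p χ χ * rowInt p χ χ = (r : ℤ) * rowInt p χ χ ^ 2 := by ring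
        _ ≤ _ := hle
    exact le_of_mul_le_mul_right h1 hn
  have hr_le : r ≤ p ^ rowExp p χ := by
    have h1 : (r : ℤ) ≤ (p : ℤ) ^ rowExp p χ := by
      have h2 : (r : ℤ) * 1 ≤ (r : ℤ) * rowInt p χ χ :=
        mul_le_mul_of_nonneg_left hn (Int.natCast_nonneg r)
      linarith
    exact_mod_cast h1
  have hr0 : r ≠ 0 := by
    rw [← hcard]
    apply Finset.card_ne_zero_of_mem (a := χ)
    rw [Finset.mem_filter]
    exact ⟨Finset.mem_univ _, MulAction.mem_orbit_self χ⟩
  have hνr : r.factorization p ≤ rowExp p χ := by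
    have h1 : p ^ r.factorization p ≤ r :=
      Nat.le_of_dvd (Nat.pos_of_ne_zero hr0) (Nat.ordProj_dvd r p)
    exact (Nat.pow_le_pow_iff_right hp.one_lt).1 (le_trans h1 hr_le)
  have hfac : (r * charDegree (χ : G → ℂ)).factorization p
      = r.factorization p + (charDegree (χ : G → ℂ)).factorization p := by
    rw [Nat.factorization_mul hr0 hd0]
    rfl
  refine ⟨by rw [hfac]; omega, ?_⟩
  intro hdiv
  by_contra hnot
  have hlt : (charDegree (χ : G → ℂ)).factorization p < (Nat.card G).factorization p := by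
    by_contra hge
    push Not at hge
    exact hnot ((hp.pow_dvd_iff_le_factorization hd0).2 hge)
  have hge : (Nat.card G).factorization p ≤ (r * charDegree (χ : G → ℂ)).factorization p :=
    (hp.pow_dvd_iff_le_factorization (Nat.mul_ne_zero hr0 hd0)).1 hdiv
  rw [hfac] at hge
  have hνr' : rowExp p χ ≤ r.factorization p := by omega
  have hr_eq : r = p ^ rowExp p χ := by
    apply le_antisymm hr_le
    exact Nat.le_of_dvd (Nat.pos_of_ne_zero hr0)
      ((hp.pow_dvd_iff_le_factorization hr0).2 hνr')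
  have hn1 : rowInt p χ χ = 1 := by
    have h1 : (r : ℤ) * rowInt p χ χ ≤ (r : ℤ) * 1 := by
      rw [mul_one]
      calc (r : ℤ) * rowInt p χ χ ≤ (p : ℤ) ^ rowExp p χ := hrn
        _ = (r : ℤ) := by exact_mod_cast hr_eq.symm
    have hrpos : (0 : ℤ) < (r : ℤ) := by exact_mod_cast Nat.pos_of_ne_zero hr0
    have h2 : rowInt p χ χ ≤ 1 := le_of_mul_le_mul_left h1 hrpos
    omega
  have hzero : ∀ ψ : IrrCharacter G, ψ ∉ MulAction.orbit (pKer G p) χ → rowInt p χ ψ = 0 := by
    intro ψ hψ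
    have htot := sum_rowInt_sq p χ
    rw [← Finset.sum_filter_add_sum_filter_not Finset.univ
      (fun ψ : IrrCharacter G => ψ ∈ MulAction.orbit (pKer G p) χ), hsum, hn1] at htot
    have hz : ∑ ψ ∈ Finset.univ.filter (fun ψ : IrrCharacter G =>
        ¬ ψ ∈ MulAction.orbit (pKer G p) χ), rowInt p χ ψ ^ 2 = 0 := by
      have : ((p : ℤ) ^ rowExp p χ) = (r : ℤ) := by exact_mod_cast hr_eq.symm
      rw [this] at htot
      linarith
    have := (Finset.sum_eq_zero_iff_of_nonneg (fun _ _ => sq_nonneg _)).1 hz ψ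
      (Finset.mem_filter.2 ⟨Finset.mem_univ _, hψ⟩)
    exact pow_eq_zero_iff (two_ne_zero) |>.1 this
  obtain ⟨z, y, hz, hy, hzy, hne⟩ := exists_pSingular_apply_ne_zero χ hlt
  have hsing : p ∣ orderOf (z * y) := by
    rw [hzy.orderOf_mul_eq_mul_orderOf_of_coprime (by
      rw [hz]; exact (Nat.Prime.coprime_iff_not_dvd hp).2 hy), hz]
    exact Dvd.intro _ rfl
  have hrow : rowFun p χ (z * y) = 0 := by
    unfold rowFun
    rw [if_pos hsing]
  rw [rowFun_eq_sum p χ, Finset.sum_apply] at hrow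
  have hrow2 : ∑ ψ : IrrCharacter G, (((rowInt p χ ψ : ℤ) : ℂ) • (ψ : G → ℂ)) (z * y)
      = ∑ ψ : IrrCharacter G, (if ψ ∈ MulAction.orbit (pKer G p) χ then (χ : G → ℂ) (z * y)
        else 0) := by
    apply Finset.sum_congr rfl
    intro ψ _
    rw [Pi.smul_apply, smul_eq_mul]
    split_ifs with hψ
    · rw [rowInt_eq_of_mem_orbit p χ ψ hψ, hn1, Int.cast_one, one_mul]
      exact apply_eq_of_mem_orbit_of_ncard_eq_pow p χ ψ hψ (rowExp p χ)
        (by rw [hcardO]; exact hr_eq) z y hz hy hzy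
    · rw [hzero ψ hψ, Int.cast_zero, zero_mul]
  rw [hrow2, ← Finset.sum_filter, Finset.sum_const, hcard, nsmul_eq_mul] at hrow
  rcases mul_eq_zero.1 hrow with h0 | h0
  · exact hr0 (by exact_mod_cast h0)
  · exact hne h0

end Main

end Cfsg.Agent.Lib.Helper22
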