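import Mathlib

/-!
# K-PG2 leaf TAN (S3452): the tangent element in `SL₂(p)`
-/

set_option autoImplicit false
set_option linter.unusedSectionVars false
set_option linter.unusedVariables false

namespace Cfsg.Agent.Lib.Helper22.PG2

open Matrix

/-- a non-degenerate diagonal binary form over `ZMod p`, `p` odd, represents everything -/
theorem exists_diag_form (p : ℕ) [Fact p.Prime] (hp : p ≠ 2) (a b e : ZMod p) (ha : a ≠ 0)
    (hb : b ≠ 0) : ∃ X Y : ZMod p, a * X ^ 2 + b * Y ^ 2 = e := by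
  have hR : Fintype.card (ZMod p) % 2 = 1 := by
    rw [ZMod.card]
    exact ((Fact.out : p.Prime).eq_two_or_odd).resolve_left hp
  have hf : (Polynomial.C a * Polynomial.X ^ 2 - Polynomial.C e).degree = 2 := by
    have h1 : (Polynomial.C a * Polynomial.X ^ 2).degree = 2 := Polynomial.degree_C_mul_X_pow 2 ha
    rw [Polynomial.degree_sub_C (by rw [h1]; norm_num), h1]
  have hg : (Polynomial.C b * Polynomial.X ^ 2).degree = 2 := Polynomial.degree_C_mul_X_pow 2 hb
  obtain ⟨X, Y, h⟩ := FiniteField.exists_root_sum_quadratic hf hg hR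
  refine ⟨X, Y, ?_⟩
  simp only [Polynomial.eval_sub, Polynomial.eval_mul, Polynomial.eval_C, Polynomial.eval_pow,
    Polynomial.eval_X] at h
  linear_combination h

/-- the scalar core when `β ≠ 0` -/
theorem core_of_ne (p : ℕ) [Fact p.Prime] (hp : p ≠ 2) (α β γ δ τ : ZMod p)
    (hdet : α * δ - β * γ = 1) (hs : (α + δ) ^ 2 ≠ 4) (hβ : β ≠ 0) :
    ∃ x y z : ZMod p, (α - δ) * x + β * z + γ * y = 0 ∧ (τ + x) * (τ - x) - y * z = 1 := by
  have hΔ : (α + δ) ^ 2 - 4 ≠ 0 := sub_ne_zero.mpr hs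
  obtain ⟨X, Y, hXY⟩ := exists_diag_form p hp (-1) ((α + δ) ^ 2 - 4) (1 - τ ^ 2)
    (neg_ne_zero.mpr one_ne_zero) hΔ
  set x : ZMod p := X + (α - δ) * Y with hx
  set y : ZMod p := 2 * β * Y with hy
  set z : ZMod p := -((α - δ) * x + γ * y) / β with hz
  have hz' : β * z = -((α - δ) * x + γ * y) := by
    rw [hz]; field_simp
  refine ⟨x, y, z, ?_, ?_⟩
  · linear_combination hz'
  · have e1 : y * z = 2 * Y * (β * z) := by rw [hy]; ring
    rw [e1, hz', hx, hy]
    linear_combination (1 : ZMod p) * hXY + (-4 * Y ^ 2) * hdet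

theorem core_exists (p : ℕ) [Fact p.Prime] (hp : p ≠ 2) (α β γ δ τ : ZMod p)
    (hdet : α * δ - β * γ = 1) (hs : (α + δ) ^ 2 ≠ 4) :
    ∃ x y z : ZMod p, (α - δ) * x + β * z + γ * y = 0 ∧ (τ + x) * (τ - x) - y * z = 1 := by
  by_cases hβ : β = 0
  · by_cases hγ : γ = 0
    · refine ⟨0, 1, τ ^ 2 - 1, ?_, ?_⟩
      · rw [hβ, hγ]; ring
      · ring
    · have hdet' : α * δ - γ * β = 1 := by rw [mul_comm γ β]; exact hdet
      obtain ⟨x, y', z', h1, h2⟩ := core_of_ne p hp α γ β δ τ hdet' hs hγ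
      refine ⟨x, z', y', ?_, ?_⟩
      · linear_combination h1
      · linear_combination h2
  · exact core_of_ne p hp α β γ δ τ hdet hs hβ

theorem exists_tangent (p : ℕ) [Fact p.Prime] (hp : p ≠ 2)
    (K : Matrix.SpecialLinearGroup (Fin 2) (ZMod p)) (hK : K.1.trace ^ 2 ≠ 4) (t0 : ZMod p) :
    ∃ g : Matrix.SpecialLinearGroup (Fin 2) (ZMod p),
      g.1.trace = t0 ∧ 2 * (K.1 * g.1).trace = K.1.trace * t0 := by
  have h2 : (2 : ZMod p) ≠ 0 := by
    intro h
    have h' : ((2 : ℕ) : ZMod p) = 0 := by exact_mod_cast h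
    rw [ZMod.natCast_eq_zero_iff] at h'
    have := (Nat.prime_dvd_prime_iff_eq (Fact.out : p.Prime) Nat.prime_two).mp h'
    exact hp this
  obtain ⟨τ, rfl⟩ : ∃ τ : ZMod p, t0 = 2 * τ := ⟨t0 / 2, by field_simp⟩
  have hdet : K.1 0 0 * K.1 1 1 - K.1 0 1 * K.1 1 0 = 1 := by
    have := K.2
    rw [Matrix.det_fin_two] at this
    exact this
  have htr : K.1.trace = K.1 0 0 + K.1 1 1 := Matrix.trace_fin_two K.1
  rw [htr] at hK ⊢
  obtain ⟨x, y, z, h1, h2'⟩ := core_exists p hp (K.1 0 0) (K.1 0 1) (K.1 1 0) (K.1 1 1) τ hdet hK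
  refine ⟨⟨!![τ + x, y; z, τ - x], ?_⟩, ?_, ?_⟩
  · rw [Matrix.det_fin_two_of]
    exact h2'
  · rw [Matrix.trace_fin_two_of]
    ring
  · rw [Matrix.trace_fin_two]
    simp only [Matrix.mul_apply, Fin.sum_univ_two, Matrix.of_apply, Matrix.cons_val', Matrix.cons_val_zero,
      Matrix.cons_val_one, Matrix.empty_val', Matrix.cons_val_fin_one]
    linear_combination (2 : ZMod p) * h1

end Cfsg.Agent.Lib.Helper22.PG2
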