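import Mathlib
import Cfsg.Prelude.Def_Blocks
import Cfsg.Agent.Lib.Helper81.Necklace
import Cfsg.Agent.Lib.Helper81.OrbitSum
import Cfsg.Agent.Lib.Helper81.GreenVanishing
import Cfsg.Agent.Lib.Helper81.PAdicLocal
import Cfsg.Agent.Lib.Helper82.LocalRing
import Cfsg.Agent.Lib.Helper21.Osima
import Cfsg.Agent.Lib.Helper21.NilpBridge
import Cfsg.Agent.Lib.Helper82.MajorSubsection
import Cfsg.Agent.Lib.Helper82.CharBasic
import Cfsg.Agent.Lib.Helper83.Completeness
import Cfsg.Agent.Lib.Helper83.CharBasic

/-!
# The sum of the `p`-elements annihilates the radical of the centre, modulo `M`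

For a class function `n` with local-integer values all of whose central character values lie in
the local ideal, and every `a`, the sum `∑_z n(z) φ(z a)` lies in the local ideal, where `φ` is
the indicator of the `p`-elements.
-/

set_option autoImplicit false
set_option linter.unusedSectionVars false
set_option linter.style.haveILetI false

namespace Cfsg.Agent.Lib.Helper22

open Cfsg
open scoped ComplexConjugate
open Cfsg.Agent.Lib.Helper82 Cfsg.Agent.Lib.Helper81 Cfsg.Agent.Lib.Helper81.Necklace

section Rotation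

variable {G : Type*} [Group G] [Fintype G] {M : Ideal AlgInt} {p : ℕ}

/-- A tuple fixed by the plain rotation is constant. -/
theorem const_of_rot_one_eq {k : ℕ} (I : Fin (k + 1) → G) (h : rot (1 : G) I = I) :
    ∀ i, I i = I 0 := by
  have h1 : ∀ j : ℕ, ∀ hj : j < k + 1, I ⟨j, hj⟩ = I 0 := by
    intro j
    induction j with
    | zero => intro _; rfl
    | succ j ih =>
      intro hj
      have hj' : j < k := Nat.lt_of_succ_lt_succ hj
      have h2 := congrFun h (Fin.castSucc ⟨j, hj'⟩)
      simp only [rot, Fin.snoc_castSucc, inv_one, one_mul, mul_one] at h2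
      have h3 : I (Fin.castSucc ⟨j, hj'⟩) = I 0 := ih (Nat.lt_of_succ_lt hj)
      rw [h3] at h2
      exact h2
  intro i
  exact h1 i.1 i.2

/-- The plain rotation of a constant tuple. -/
theorem rot_one_const {k : ℕ} (I : Fin (k + 1) → G) (h : ∀ i, I i = I 0) (i : Fin (k + 1)) :
    rot (1 : G) I i = I 0 := by
  induction i using Fin.lastCases with
  | last => simp [rot]
  | cast j => simp [rot, h j.succ]

/-- **Necklace congruence.** For `q = p ^ m`, the sum over all `q`-tuples of the weight times a
trace-like function of the product is congruent modulo `p` to the sum over the constant tuples. -/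
theorem S_prime_pow_congr (hMod : IsPModular p M) (v φ : G → ℂ)
    (hv : ∀ g, MemLocalRing M (v g)) (hφR : ∀ g, MemLocalRing M (φ g))
    (hφ : ∀ a b : G, φ (a * b) = φ (b * a)) (m : ℕ) :
    ∃ r, MemLocalRing M r ∧
      S v φ (p ^ m) = ∑ c : G, v c ^ (p ^ m) * φ (c ^ (p ^ m)) + (p : ℂ) * r := by
  classical
  have hp : p.Prime := hMod.1
  have hMprime : M.IsPrime := hMod.2.1.isPrime
  obtain ⟨k, hk⟩ : ∃ k, p ^ m = k + 1 :=
    Nat.exists_eq_succ_of_ne_zero (pow_ne_zero _ hp.ne_zero)
  rw [hk]
  set F : (Fin (k + 1) → G) → ℂ := fun I => wt v I * φ (Necklace.tprod I) with hF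
  have hFR : ∀ I, MemLocalRing M (F I) := fun I =>
    memLocalRing_mul hMprime (memLocalRing_prod hMprime _ _ (fun i _ => hv _)) (hφR _)
  have hFrot : ∀ I, F (rot (1 : G) I) = F I := by
    intro I
    rw [hF]
    simp only
    rw [wt_rot v (1 : G) (by intro g; simp) I]
    have := classFun_tprod_rot φ hφ (1 : G) I
    rw [mul_one, mul_one] at this
    rw [this]
  have hconst : ∀ I : Fin (k + 1) → G, (∀ i, rot (1 : G) I i = rot (1 : G) I 0) ↔
      ∀ i, I i = I 0 := by
    intro I
    constructor
    · intro h i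
      -- all entries of the rotation equal, so `I` constant
      have h0 : rot (1 : G) I (Fin.last k) = I 0 := by simp [rot]
      have hall : ∀ j, rot (1 : G) I j = I 0 := by
        intro j
        rw [h j, ← h (Fin.last k), h0]
      induction i using Fin.cases with
      | zero => rfl
      | succ j =>
        have := hall (Fin.castSucc j)
        simpa [rot] using this
    · intro h i
      rw [rot_one_const I h i, rot_one_const I h 0]
  have hd1 : (1 : G) ^ (0 + 1) = 1 := one_pow _
  have split : ∑ I, F I = ∑ I, (if ∀ i, I i = I 0 then F I else 0)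
      + ∑ I, (if ∀ i, I i = I 0 then 0 else F I) := by
    rw [← Finset.sum_add_distrib]
    apply Finset.sum_congr rfl
    intro I _
    split_ifs <;> simp
  -- the nonconstant tuples
  obtain ⟨r, hr, hsum⟩ := sum_eq_nsmul_of_dvd_minimalPeriod (rotEquiv (1 : G) k hd1)
    (localAddSubmonoid M hMprime) (fun I => if ∀ i, I i = I 0 then 0 else F I)
    (by
      intro I
      rw [rotEquiv_apply]
      by_cases hI : ∀ i, I i = I 0
      · rw [if_pos hI, if_pos ((hconst I).2 hI)]
      · rw [if_neg hI, if_neg (fun hh => hI ((hconst I).1 hh)), hFrot])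
    (by
      intro I
      split_ifs
      · exact memLocalRing_zero hMprime
      · exact hFR I)
    p
    (by
      intro I hI0
      have hI : ¬ ∀ i, I i = I 0 := by
        intro hh
        apply hI0
        rw [if_pos hh]
      have hper : Function.IsPeriodicPt (rot (1 : G)) (1 * (k + 1)) I := by
        unfold Function.IsPeriodicPt Function.IsFixedPt
        funext i
        rw [iterate_rot_mul]
        simp
      have hdvd : Function.minimalPeriod (rot (1 : G)) I ∣ p ^ m := by
        have := hper.minimalPeriod_dvd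
        rw [one_mul] at this
        rw [hk]
        exact this
      obtain ⟨e, _, hpe⟩ := (Nat.dvd_prime_pow hp).1 hdvd
      have he : e ≠ 0 := by
        rintro rfl
        rw [pow_zero] at hpe
        apply hI
        apply const_of_rot_one_eq
        have := Function.isPeriodicPt_minimalPeriod (rot (1 : G)) I
        rw [hpe] at this
        exact this
      change p ∣ Function.minimalPeriod (rot (1 : G)) I
      rw [hpe]
      exact dvd_pow_self p he)
  -- the constant tuples
  have hconstsum : ∑ I : Fin (k + 1) → G, (if ∀ i, I i = I 0 then F I else 0)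
      = ∑ c : G, v c ^ (k + 1) * φ (c ^ (k + 1)) := by
    rw [← Finset.sum_filter]
    apply Finset.sum_nbij' (fun I => I 0) (fun c => fun _ => c)
    · intro I _
      exact Finset.mem_univ _
    · intro c _
      simp
    · intro I hI
      have hI' := (Finset.mem_filter.1 hI).2
      funext i
      exact (hI' i).symm
    · intro c _
      rfl
    · intro I hI
      have hI' := (Finset.mem_filter.1 hI).2
      have e1 : I = fun _ => I 0 := funext hI'
      rw [hF]
      simp only
      conv_lhs => rw [e1]
      have e2 : wt v (fun _ : Fin (k + 1) => I 0) = v (I 0) ^ (k + 1) := by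
        simp [wt]
      have e3 : Necklace.tprod (fun _ : Fin (k + 1) => I 0) = I 0 ^ (k + 1) := by
        simp [Necklace.tprod, List.ofFn_const]
        rw [pow_succ']
      rw [e2, e3]
  refine ⟨r, hr, ?_⟩
  unfold S
  rw [split, hconstsum, hsum, nsmul_eq_mul]

end Rotation

section ConvPow

open Cfsg.Agent.Lib.Helper21 Cfsg.Agent.Lib.Helper83

universe u
variable {G : Type u} [Group G] [Fintype G]

open Classical in
/-- Convolution powers of a function on `G`. -/
noncomputable def cpow (n : G → ℂ) : ℕ → G → ℂ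
  | 0 => fun g => if g = 1 then 1 else 0
  | k + 1 => conv n (cpow n k)

theorem cpow_zero_apply [DecidableEq G] (n : G → ℂ) (g : G) :
    cpow n 0 g = if g = 1 then 1 else 0 := by
  unfold cpow
  congr

theorem cpow_succ (n : G → ℂ) (k : ℕ) : cpow n (k + 1) = conv n (cpow n k) := rfl

theorem cpow_isClassFunction {n : G → ℂ} (hn : IsClassFunction G n) (k : ℕ) :
    IsClassFunction G (cpow n k) := by
  classical
  induction k with
  | zero =>
    have h := isClassFunction_delta (G := G) 1
    intro g x
    rw [cpow_zero_apply, cpow_zero_apply]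
    exact h g x
  | succ k ih => exact conv_isClassFunction hn ih

theorem omega_cpow {n : G → ℂ} (hn : IsClassFunction G n) {χ : G → ℂ} (hχ : IsIrrCharacter G χ)
    (k : ℕ) : omega (cpow n k) χ = (omega n χ) ^ k := by
  classical
  induction k with
  | zero =>
    rw [pow_zero]
    have h := omega_delta (G := G) 1 χ (Cfsg.Agent.Lib.Helper82.IsIrrCharacter.apply_one_ne_zero hχ)
    have e : cpow n 0 = fun g => if g = 1 then (1 : ℂ) else 0 := by
      funext g
      exact cpow_zero_apply n g
    rw [e]
    exact h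
  | succ k ih =>
    rw [cpow_succ, omega_conv hχ n _ (cpow_isClassFunction hn k), ih, pow_succ']

theorem cpow_memLocalRing {M : Ideal AlgInt} (hM : M.IsPrime) {n : G → ℂ}
    (hn : ∀ g, MemLocalRing M (n g)) (k : ℕ) : ∀ z, MemLocalRing M (cpow n k z) := by
  classical
  induction k with
  | zero =>
    intro z
    rw [cpow_zero_apply]
    split_ifs
    · exact memLocalRing_one hM
    · exact memLocalRing_zero hM
  | succ k ih =>
    intro z
    rw [cpow_succ]
    exact conv_memLocalRing M hM hn ih z

/-- Fourier inversion on class functions in terms of the central character values. -/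
theorem classFunction_eq_sum_omega [Fintype (IrrCharacter G)] {f : G → ℂ}
    (hf : IsClassFunction G f) (z : G) :
    f z = (Nat.card G : ℂ)⁻¹ * ∑ χ : IrrCharacter G,
      (χ : G → ℂ) 1 * omega f (χ : G → ℂ) * conj ((χ : G → ℂ) z) := by
  have hcf : IsClassFunction G (fun g => conj (f g)) := fun g x => by
    show conj (f (x * g * x⁻¹)) = conj (f g)
    rw [hf g x]
  have h := congrFun (classFunction_eq_sum_irr hcf) z
  simp only [Finset.sum_apply, Pi.smul_apply, smul_eq_mul] at h
  have h2 := congrArg conj h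
  rw [Complex.conj_conj] at h2
  rw [h2, map_sum, Finset.mul_sum]
  apply Finset.sum_congr rfl
  intro χ _
  have h1 : (χ : G → ℂ) 1 ≠ 0 := Cfsg.Agent.Lib.Helper82.IsIrrCharacter.apply_one_ne_zero χ.2
  rw [classInner_def]
  simp only [map_mul, map_inv₀, map_sum, Complex.conj_conj, map_natCast]
  rw [omega]
  field_simp

/-- If all central character values of a class function lie in the local ideal, then all its high
convolution powers have all values in the local ideal. -/
theorem exists_forall_memLocalIdeal_cpow [Fintype (IrrCharacter G)] {p : ℕ} {M : Ideal AlgInt}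
    (hMod : IsPModular p M) {n : G → ℂ} (hn : IsClassFunction G n)
    (hω : ∀ χ : IrrCharacter G, MemLocalIdeal M (omega n (χ : G → ℂ))) :
    ∃ K : ℕ, ∀ q, K ≤ q → ∀ z : G, MemLocalIdeal M (cpow n q z) := by
  classical
  have hM : M.IsPrime := hMod.2.1.isPrime
  have hp : p.Prime := hMod.1
  choose k r hr hk using fun χ : IrrCharacter G => exists_pow_eq_p_mul hMod (hω χ)
  set a := (Nat.card G).factorization p with ha
  refine ⟨(a + 1) * ∑ χ, k χ, fun q hq z => ?_⟩
  rw [classFunction_eq_sum_omega (cpow_isClassFunction hn q) z, Finset.mul_sum]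
  apply Cfsg.Agent.Lib.Helper82.memLocalIdeal_sum hM
  intro χ _
  rw [omega_cpow hn χ.2 q]
  set t := omega n (χ : G → ℂ) with ht
  have hkq : (a + 1) * k χ ≤ q :=
    le_trans (Nat.mul_le_mul_left _
      (Finset.single_le_sum (fun _ _ => Nat.zero_le _) (Finset.mem_univ χ))) hq
  have htq : t ^ q = (p : ℂ) ^ (a + 1) * (r χ ^ (a + 1) * t ^ (q - (a + 1) * k χ)) := by
    rw [← mul_assoc, ← mul_pow, ← hk χ, ← pow_mul, ← pow_add, Nat.mul_comm (k χ),
      Nat.add_sub_cancel' hkq]
  rw [htq]
  have h1 : MemLocalIdeal M (((p ^ (a + 1) : ℕ) : ℂ) / (Nat.card G : ℂ)) := by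
    apply memLocalIdeal_natCast_div_of_lt hMod _ _ Nat.card_pos.ne'
    rw [hp.factorization_pow]
    simp only [Finsupp.single_eq_same]
    omega
  have hχ1 : MemLocalRing M ((χ : G → ℂ) 1) :=
    memLocalRing_of_isIntegral hM (IsCharacter.isIntegral (IsIrrCharacter.isCharacter χ.2) 1)
  have hχz : MemLocalRing M (conj ((χ : G → ℂ) z)) := by
    rw [← char_inv (IsIrrCharacter.isCharacter χ.2)]
    exact memLocalRing_of_isIntegral hM (IsCharacter.isIntegral (IsIrrCharacter.isCharacter χ.2) _)
  have htR : MemLocalRing M t := memLocalIdeal_memLocalRing (hω χ)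
  have e : (Nat.card G : ℂ)⁻¹ * ((χ : G → ℂ) 1 *
      ((p : ℂ) ^ (a + 1) * (r χ ^ (a + 1) * t ^ (q - (a + 1) * k χ))) * conj ((χ : G → ℂ) z))
      = (((p ^ (a + 1) : ℕ) : ℂ) / (Nat.card G : ℂ)) *
        ((χ : G → ℂ) 1 * (r χ ^ (a + 1) * t ^ (q - (a + 1) * k χ)) * conj ((χ : G → ℂ) z)) := by
    push_cast
    ring
  rw [e]
  apply memLocalIdeal_mul_right hM h1
  exact memLocalRing_mul hM (memLocalRing_mul hM hχ1
    (memLocalRing_mul hM (memLocalRing_pow hM (hr χ) _) (memLocalRing_pow hM htR _))) hχz

/-- The weighted tuple sum for the translated weight `z ↦ n (z a⁻¹)`. -/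
theorem S_translate {n : G → ℂ} (hn : IsClassFunction G n) (a : G) (k : ℕ) (ψ : G → ℂ) :
    S (fun z => n (z * a⁻¹)) ψ k = ∑ z : G, cpow n k z * ψ (z * a ^ k) := by
  classical
  induction k generalizing ψ with
  | zero =>
    rw [S_zero]
    simp only [cpow_zero_apply, pow_zero, mul_one, ite_mul, one_mul, zero_mul,
      Finset.sum_ite_eq', Finset.mem_univ, if_true]
  | succ k ih =>
    rw [S_succ]
    have hcf := cpow_isClassFunction hn k
    calc ∑ g : G, n (g * a⁻¹) * S (fun z => n (z * a⁻¹)) (fun u => ψ (g * u)) k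
        = ∑ g : G, ∑ z : G, n (g * a⁻¹) * (cpow n k z * ψ (g * (z * a ^ k))) := by
          apply Finset.sum_congr rfl
          intro g _
          rw [ih, Finset.mul_sum]
      _ = ∑ w : G, ∑ z : G, n w * (cpow n k z * ψ (w * z * a ^ (k + 1))) := by
          apply Fintype.sum_equiv (Equiv.mulRight a⁻¹)
          intro g
          simp only [Equiv.coe_mulRight]
          apply Fintype.sum_equiv (MulAut.conj a).toEquiv
          intro z
          simp only [MulEquiv.toEquiv_eq_coe, MulEquiv.coe_toEquiv, MulAut.conj_apply]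
          rw [hcf z a]
          have : g * a⁻¹ * (a * z * a⁻¹) * a ^ (k + 1) = g * (z * a ^ k) := by
            rw [pow_succ']
            group
          rw [this]
      _ = ∑ y : G, cpow n (k + 1) y * ψ (y * a ^ (k + 1)) := by
          simp only [cpow_succ, conv, Finset.sum_mul]
          rw [Finset.sum_comm (γ := G) (α := G) (s := Finset.univ) (t := Finset.univ)
            (f := fun y x => n x * cpow n k (x⁻¹ * y) * ψ (y * a ^ (k + 1)))]
          apply Finset.sum_congr rfl
          intro w _
          apply Fintype.sum_equiv (Equiv.mulLeft w)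
          intro z
          simp only [Equiv.coe_mulLeft, inv_mul_cancel_left]
          ring

end ConvPow

section Main

open Cfsg.Agent.Lib.Helper21 Cfsg.Agent.Lib.Helper83

universe u
variable {G : Type u} [Group G] [Fintype G]

/-- Freshman's dream modulo the local ideal. -/
theorem sum_pow_prime_pow_sub_mem {p : ℕ} {M : Ideal AlgInt} (hMod : IsPModular p M)
    {ι : Type*} (s : Finset ι) (f : ι → ℂ) (hf : ∀ i ∈ s, MemLocalRing M (f i)) (m : ℕ) :
    MemLocalIdeal M ((∑ i ∈ s, f i) ^ (p ^ m) - ∑ i ∈ s, (f i) ^ (p ^ m)) := by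
  classical
  have hM : M.IsPrime := hMod.2.1.isPrime
  have hp : p.Prime := hMod.1
  induction s using Finset.induction_on with
  | empty =>
    simp only [Finset.sum_empty, sub_zero]
    rw [zero_pow (pow_ne_zero _ hp.ne_zero)]
    exact Cfsg.Agent.Lib.Helper82.memLocalIdeal_zero hM
  | insert b s hb ih =>
    rw [Finset.sum_insert hb, Finset.sum_insert hb]
    have hfb : MemLocalRing M (f b) := hf b (Finset.mem_insert_self b s)
    have hfs : ∀ i ∈ s, MemLocalRing M (f i) := fun i hi => hf i (Finset.mem_insert_of_mem hi)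
    have hsum : MemLocalRing M (∑ i ∈ s, f i) := memLocalRing_sum hM _ _ hfs
    obtain ⟨r, hr⟩ := exists_add_pow_prime_pow_eq hp
      (⟨f b, hfb⟩ : localSubring M hM) ⟨∑ i ∈ s, f i, hsum⟩ m
    have hr' := congrArg (Subtype.val : localSubring M hM → ℂ) hr
    simp only [Subring.coe_add, Subring.coe_mul, Subring.coe_pow, Subring.coe_natCast] at hr'
    have e : (f b + ∑ i ∈ s, f i) ^ p ^ m - (f b ^ p ^ m + ∑ i ∈ s, f i ^ p ^ m)
        = (p : ℂ) * (f b * (∑ i ∈ s, f i) * (r : ℂ))
          + ((∑ i ∈ s, f i) ^ (p ^ m) - ∑ i ∈ s, (f i) ^ (p ^ m)) := by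
      rw [hr']
      ring
    rw [e]
    apply Cfsg.Agent.Lib.Helper82.memLocalIdeal_add hM _ (ih hfs)
    apply memLocalIdeal_mul_right hM _ (memLocalRing_mul hM (memLocalRing_mul hM hfb hsum) r.2)
    exact (memLocalIdeal_natCast_iff hMod p).2 dvd_rfl

theorem exists_orderOf_pow_prime_pow_iff {p : ℕ} (hp : p.Prime) (c : G) (m : ℕ) :
    (∃ k : ℕ, orderOf (c ^ (p ^ m)) = p ^ k) ↔ ∃ k : ℕ, orderOf c = p ^ k := by
  constructor
  · rintro ⟨k, hk⟩
    have h1 : c ^ (p ^ (m + k)) = 1 := by
      rw [pow_add, pow_mul, ← hk, pow_orderOf_eq_one]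
    obtain ⟨j, _, hj⟩ := (Nat.dvd_prime_pow hp).1 (orderOf_dvd_of_pow_eq_one h1)
    exact ⟨j, hj⟩
  · rintro ⟨k, hk⟩
    have h1 : orderOf (c ^ (p ^ m)) ∣ p ^ k := hk ▸ orderOf_pow_dvd _
    obtain ⟨j, _, hj⟩ := (Nat.dvd_prime_pow hp).1 h1
    exact ⟨j, hj⟩

/-- **The sum of the `p`-elements kills the radical of the centre modulo `M`.** If `n` is a class
function with local integer values all of whose central character values lie in the local ideal,
then `∑_z n(z) φ(z a)` lies in the local ideal for every `a`, where `φ` is the indicator function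
of the set of `p`-elements. -/
theorem memLocalIdeal_sum_mul_pElement [Fintype (IrrCharacter G)] {p : ℕ} {M : Ideal AlgInt}
    (hMod : IsPModular p M) {n : G → ℂ} (hn : IsClassFunction G n)
    (hnR : ∀ g, MemLocalRing M (n g))
    (hω : ∀ χ : IrrCharacter G, MemLocalIdeal M (omega n (χ : G → ℂ))) (a : G)
    [DecidablePred fun x : G => ∃ k : ℕ, orderOf x = p ^ k] :
    MemLocalIdeal M (∑ z : G, n z * (if ∃ k : ℕ, orderOf (z * a) = p ^ k then (1 : ℂ) else 0)) := by
  classical
  have hM : M.IsPrime := hMod.2.1.isPrime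
  have hp : p.Prime := hMod.1
  obtain ⟨K, hK⟩ := exists_forall_memLocalIdeal_cpow hMod hn hω
  set φ : G → ℂ := fun x => if ∃ k : ℕ, orderOf x = p ^ k then (1 : ℂ) else 0 with hφdef
  set v : G → ℂ := fun z => n (z * a⁻¹) with hvdef
  have hφR : ∀ x, MemLocalRing M (φ x) := by
    intro x
    rw [hφdef]
    simp only
    split_ifs
    · exact memLocalRing_one hM
    · exact memLocalRing_zero hM
  have hφtr : ∀ x y : G, φ (x * y) = φ (y * x) := by
    intro x y
    rw [hφdef]
    simp only
    have : orderOf (y * x) = orderOf (x * y) := by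
      have h := MulEquiv.orderOf_eq (MulAut.conj y) (x * y)
      rw [MulAut.conj_apply] at h
      rw [← h]
      congr 1
      group
    simp only [this]
  have hvR : ∀ z, MemLocalRing M (v z) := fun z => hnR _
  obtain ⟨q, hq⟩ : ∃ q, q = p ^ K := ⟨_, rfl⟩
  have hKq : K ≤ q := hq ▸ (Nat.lt_pow_self hp.one_lt).le
  have hq0 : q ≠ 0 := hq ▸ pow_ne_zero _ hp.ne_zero
  have hS : MemLocalIdeal M (S v φ q) := by
    rw [hvdef, S_translate hn a q φ]
    apply Cfsg.Agent.Lib.Helper82.memLocalIdeal_sum hM
    intro z _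
    exact memLocalIdeal_mul_right hM (hK q hKq z) (hφR _)
  obtain ⟨r, hr, hcong⟩ := S_prime_pow_congr hMod v φ hvR hφR hφtr K
  rw [← hq] at hcong
  have hpr : MemLocalIdeal M ((p : ℂ) * r) :=
    memLocalIdeal_mul_right hM ((memLocalIdeal_natCast_iff hMod p).2 dvd_rfl) hr
  have hconst : MemLocalIdeal M (∑ c : G, v c ^ q * φ (c ^ q)) := by
    have : ∑ c : G, v c ^ q * φ (c ^ q) = S v φ q - (p : ℂ) * r := by
      rw [hcong]; ring
    rw [this]
    exact Cfsg.Agent.Lib.Helper82.memLocalIdeal_sub hM hS hpr
  have hterm : ∀ c : G, (v c * φ c) ^ q = v c ^ q * φ (c ^ q) := by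
    intro c
    rw [mul_pow]
    congr 1
    rw [hφdef]
    simp only
    have hiff := exists_orderOf_pow_prime_pow_iff hp c K
    rw [← hq] at hiff
    by_cases hc : ∃ k : ℕ, orderOf c = p ^ k
    · rw [if_pos hc, if_pos (hiff.2 hc), one_pow]
    · rw [if_neg hc, if_neg (fun h => hc (hiff.1 h)), zero_pow hq0]
  have hfd := sum_pow_prime_pow_sub_mem hMod (Finset.univ : Finset G) (fun c => v c * φ c)
    (fun c _ => memLocalRing_mul hM (hvR c) (hφR c)) K
  rw [← hq] at hfd
  simp only [hterm] at hfd
  have hpow : MemLocalIdeal M ((∑ c : G, v c * φ c) ^ q) := by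
    have := Cfsg.Agent.Lib.Helper82.memLocalIdeal_add hM hfd hconst
    rwa [sub_add_cancel] at this
  have hD : MemLocalIdeal M (∑ c : G, v c * φ c) :=
    Cfsg.Agent.Lib.Helper21.memLocalIdeal_of_pow hM (memLocalRing_sum hM _ _
      (fun c _ => memLocalRing_mul hM (hvR c) (hφR c))) q hpow
  have e : ∑ z : G, n z * (if ∃ k : ℕ, orderOf (z * a) = p ^ k then (1 : ℂ) else 0)
      = ∑ c : G, v c * φ c := by
    apply Fintype.sum_equiv (Equiv.mulRight a)
    intro z
    simp only [Equiv.coe_mulRight, hvdef, hφdef, mul_inv_cancel_right]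
  rw [e]
  exact hD

end Main

end Cfsg.Agent.Lib.Helper22
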