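import Mathlib
import Cfsg.Prelude.Def_Blocks
import Cfsg.Agent.Lib.Helper22.SocleVanish
import Cfsg.Agent.Lib.Helper22.BlockQuot
import Cfsg.Agent.Lib.Helper82.BlockOrthFull
import Cfsg.Agent.Lib.Helper82.BlockOrth
import Cfsg.Agent.Lib.Helper83.Central
import Cfsg.Agent.Lib.Helper83.Decompose
import Cfsg.Agent.Lib.Helper81.PRegularCount

/-!
# Külshammer's formula for the principal block idempotent modulo `M`
-/

set_option autoImplicit false
set_option linter.unusedSectionVars false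
set_option linter.style.haveILetI false

namespace Cfsg.Agent.Lib.Helper22

open Cfsg
open scoped ComplexConjugate
open Cfsg.Agent.Lib.Helper82 Cfsg.Agent.Lib.Helper81 Cfsg.Agent.Lib.Helper21
  Cfsg.Agent.Lib.Helper83

universe u
variable {G : Type u} [Group G] [Fintype G]

/-- For `p`-regular `g`, the sum over the `p`-elements `x` of the idempotent coefficient of a
block at `x g` is the coefficient at `g`. -/
theorem sum_blockCoeff_mul_pElement [Fintype (IrrCharacter G)] {p : ℕ} {M : Ideal AlgInt}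
    (hMod : IsPModular p M) (χ₀ : IrrCharacter G) (g : G) (hg : ¬ p ∣ orderOf g)
    [DecidablePred fun x : G => ∃ k : ℕ, orderOf x = p ^ k] :
    ∑ z : G, blockCoeff (blockOf M (χ₀ : G → ℂ)) z *
        (if ∃ k : ℕ, orderOf (z * g⁻¹) = p ^ k then (1 : ℂ) else 0)
      = blockCoeff (blockOf M (χ₀ : G → ℂ)) g := by
  classical
  have hp : p.Prime := hMod.1
  set B := blockOf M (χ₀ : G → ℂ) with hB
  set Bf : Finset (IrrCharacter G) := Finset.univ.filter (fun χ => χ ∈ B) with hBf
  set φ : G → ℂ := fun x => if ∃ k : ℕ, orderOf x = p ^ k then (1 : ℂ) else 0 with hφdef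
  set c : ℂ := (Nat.card G : ℂ)⁻¹ with hc
  have hφcf : IsClassFunction G φ := by
    intro x y
    rw [hφdef]
    simp only
    have : orderOf (y * x * y⁻¹) = orderOf x := by
      have h := MulEquiv.orderOf_eq (MulAut.conj y) x
      rwa [MulAut.conj_apply] at h
    simp only [this]
  have hφinv : ∀ x, φ x⁻¹ = φ x := by
    intro x
    rw [hφdef]
    simp only [orderOf_inv]
  have hφone : φ 1 = 1 := by
    rw [hφdef]
    simp only
    rw [if_pos ⟨0, by simp⟩]
  have hA : ∀ z, blockCoeff B z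
      = c * ∑ χ ∈ Bf, (χ : G → ℂ) 1 * (χ : G → ℂ) z⁻¹ := by
    intro z
    rw [blockCoeff_eq_sum, hBf, Finset.sum_filter]
    congr 1
    apply Finset.sum_congr rfl
    intro χ _
    rw [char_inv (IsIrrCharacter.isCharacter χ.2)]
  have hOrth : ∀ y : G, (∃ k : ℕ, orderOf y = p ^ k) → y ≠ 1 →
      ∑ χ ∈ Bf, (χ : G → ℂ) g⁻¹ * (χ : G → ℂ) y = 0 := by
    intro y hy hy1
    have h := sum_block_mul_eq_zero_of_not_isConj hMod χ₀ g⁻¹ y 1 y⁻¹
      ⟨g⁻¹, one_mul _, Commute.one_left _, ⟨0, by simp⟩, by rwa [orderOf_inv]⟩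
      ⟨1, mul_one _, Commute.one_right _, by rwa [orderOf_inv],
        by rw [orderOf_one]; exact hp.one_lt.ne' ∘ Nat.dvd_one.1⟩
      (by
        intro hcj
        apply hy1
        have := isConj_one_right.1 hcj
        exact inv_eq_one.1 this)
    rw [finsum_mem_eq_sum_ite, ← Finset.sum_filter] at h
    exact h
  have e3 : ∀ χ : IrrCharacter G, ∑ x : G, φ x * (χ : G → ℂ) (g⁻¹ * x⁻¹)
      = (χ : G → ℂ) g⁻¹ * (∑ y : G, φ y * (χ : G → ℂ) y) / (χ : G → ℂ) 1 := by
    intro χ
    rw [← irr_sum_classFunction_mul χ hφcf g⁻¹]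
    apply Fintype.sum_equiv (Equiv.inv G)
    intro x
    simp only [Equiv.inv_apply, hφinv]
  calc ∑ z : G, blockCoeff B z * (if ∃ k : ℕ, orderOf (z * g⁻¹) = p ^ k then (1 : ℂ) else 0)
      = ∑ x : G, φ x * blockCoeff B (x * g) := by
        apply Fintype.sum_equiv (Equiv.mulRight g⁻¹)
        intro z
        simp only [Equiv.coe_mulRight, inv_mul_cancel_right, hφdef]
        ring
    _ = ∑ x : G, φ x * (c * ∑ χ ∈ Bf, (χ : G → ℂ) 1 * (χ : G → ℂ) (g⁻¹ * x⁻¹)) := by
        apply Finset.sum_congr rfl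
        intro x _
        rw [hA, mul_inv_rev]
    _ = c * ∑ χ ∈ Bf, (χ : G → ℂ) 1 * ∑ x : G, φ x * (χ : G → ℂ) (g⁻¹ * x⁻¹) := by
        simp only [Finset.mul_sum]
        rw [Finset.sum_comm]
        apply Finset.sum_congr rfl
        intro χ _
        apply Finset.sum_congr rfl
        intro x _
        ring
    _ = c * ∑ χ ∈ Bf, (χ : G → ℂ) g⁻¹ * ∑ y : G, φ y * (χ : G → ℂ) y := by
        congr 1
        apply Finset.sum_congr rfl
        intro χ _
        have h1 : (χ : G → ℂ) 1 ≠ 0 :=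
          Cfsg.Agent.Lib.Helper82.IsIrrCharacter.apply_one_ne_zero χ.2
        rw [e3]
        field_simp
    _ = c * ∑ y : G, φ y * ∑ χ ∈ Bf, (χ : G → ℂ) g⁻¹ * (χ : G → ℂ) y := by
        congr 1
        simp only [Finset.mul_sum]
        rw [Finset.sum_comm]
        apply Finset.sum_congr rfl
        intro y _
        apply Finset.sum_congr rfl
        intro χ _
        ring
    _ = c * ∑ y : G, (if y = 1 then ∑ χ ∈ Bf, (χ : G → ℂ) g⁻¹ * (χ : G → ℂ) 1 else 0) := by
        congr 1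
        apply Finset.sum_congr rfl
        intro y _
        by_cases hy1 : y = 1
        · subst hy1
          rw [if_pos rfl, hφone, one_mul]
        · rw [if_neg hy1]
          by_cases hy : ∃ k : ℕ, orderOf y = p ^ k
          · rw [hOrth y hy hy1, mul_zero]
          · rw [hφdef]
            simp only
            rw [if_neg hy, zero_mul]
    _ = blockCoeff B g := by
        rw [Finset.sum_ite_eq' Finset.univ (1 : G), if_pos (Finset.mem_univ _), hA]
        congr 1
        apply Finset.sum_congr rfl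
        intro χ _
        ring

/-- The pairs `(x, y)` with `x` a `p`-element, `y` `p`-regular and `x y = g` correspond to the
`p`-regular `z` with `z g⁻¹` a `p`-element. -/
def pairEquivRegular (p : ℕ) (g : G) :
    {xy : G × G // (∃ k : ℕ, orderOf xy.1 = p ^ k) ∧ ¬ p ∣ orderOf xy.2 ∧ xy.1 * xy.2 = g} ≃
      {z : G // ¬ p ∣ orderOf z ∧ ∃ k : ℕ, orderOf (z * g⁻¹) = p ^ k} where
  toFun xy := ⟨xy.1.2, xy.2.2.1, by
    obtain ⟨⟨x, y⟩, h1, h2, h3⟩ := xy
    simp only at h1 h3 ⊢
    subst h3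
    have e : y * (x * y)⁻¹ = x⁻¹ := by group
    rw [e, orderOf_inv]
    exact h1⟩
  invFun z := ⟨(g * z.1⁻¹, z.1), by
    have e : g * (z.1)⁻¹ = (z.1 * g⁻¹)⁻¹ := by group
    show (∃ k : ℕ, orderOf (g * (z.1)⁻¹) = p ^ k) ∧ ¬ p ∣ orderOf z.1 ∧ g * (z.1)⁻¹ * z.1 = g
    rw [e, orderOf_inv]
    exact ⟨z.2.2, z.2.1, by group⟩⟩
  left_inv := by
    rintro ⟨⟨x, y⟩, h1, h2, h3⟩
    apply Subtype.ext
    simp only [Prod.mk.injEq, and_true]
    simp only at h3
    rw [← h3]
    group
  right_inv := by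
    rintro ⟨z, h⟩
    rfl

/-- **Külshammer's formula** for the principal block idempotent modulo the local ideal. -/
theorem memLocalIdeal_principal_blockCoeff_sub {G : Type u} [Group G] [Finite G] (p : ℕ)
    [Fact p.Prime] (M : Ideal AlgInt) (hM : IsPModular p M) (g : G) (hg : ¬ p ∣ orderOf g) :
    MemLocalIdeal M (blockCoeff (principalBlock M G) g -
      (Nat.card {xy : G × G // (∃ k : ℕ, orderOf xy.1 = p ^ k) ∧ ¬ p ∣ orderOf xy.2 ∧
        xy.1 * xy.2 = g} : ℂ) / (Nat.card {y : G // ¬ p ∣ orderOf y} : ℂ)) := by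
  classical
  let _ : Fintype G := Fintype.ofFinite G
  let _ : Fintype (IrrCharacter G) := Fintype.ofFinite _
  have hMp : M.IsPrime := hM.2.1.isPrime
  have hmax : M.IsMaximal := hM.2.1
  have hp : p.Prime := hM.1
  have hBeq : principalBlock M G = blockOf M ((trivChar G : IrrCharacter G) : G → ℂ) := rfl
  rw [hBeq]
  set B := blockOf M ((trivChar G : IrrCharacter G) : G → ℂ) with hB
  obtain ⟨R, hR⟩ : ∃ R : ℕ, R = Nat.card {y : G // ¬ p ∣ orderOf y} := ⟨_, rfl⟩
  obtain ⟨N, hN⟩ : ∃ N : ℕ, N = Nat.card {xy : G × G // (∃ k : ℕ, orderOf xy.1 = p ^ k) ∧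
    ¬ p ∣ orderOf xy.2 ∧ xy.1 * xy.2 = g} := ⟨_, rfl⟩
  rw [← hR, ← hN]
  set θ : G → ℂ := fun z => if p ∣ orderOf z then (0 : ℂ) else 1 with hθ
  set n : G → ℂ := θ - (R : ℂ) • blockCoeff B with hn
  set Sf : Finset G := Finset.univ.filter (fun z : G => ¬ p ∣ orderOf z) with hSf
  have hconj : ∀ x y : G, orderOf (y * x * y⁻¹) = orderOf x := by
    intro x y
    have h := MulEquiv.orderOf_eq (MulAut.conj y) x
    rwa [MulAut.conj_apply] at h
  have hθcf : IsClassFunction G θ := by
    intro x y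
    rw [hθ]
    simp only [hconj]
  have hncf : IsClassFunction G n :=
    isClassFunction_sub hθcf (isClassFunction_smul _ (blockCoeff_isClassFunction B))
  have hnR : ∀ z, MemLocalRing M (n z) := by
    intro z
    simp only [hn, Pi.sub_apply, Pi.smul_apply, smul_eq_mul]
    apply memLocalRing_sub hMp
    · rw [hθ]
      simp only
      split_ifs
      · exact memLocalRing_zero hMp
      · exact memLocalRing_one hMp
    · exact memLocalRing_mul hMp (memLocalRing_natCast hMp R)
        (memLocalRing_blockCoeff_blockOf hMp (trivChar G) z)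
  have hRcard : R = Sf.card := by
    rw [hR, Nat.card_eq_fintype_card, Fintype.card_subtype]
  have hsumθ : ∀ f : G → ℂ, ∑ z : G, θ z * f z = ∑ z ∈ Sf, f z := by
    intro f
    rw [hSf, Finset.sum_filter]
    apply Finset.sum_congr rfl
    intro z _
    rw [hθ]
    simp only
    by_cases hz : p ∣ orderOf z
    · rw [if_pos hz, if_neg (not_not.2 hz), zero_mul]
    · rw [if_neg hz, if_pos hz, one_mul]
  have hω : ∀ χ : IrrCharacter G, MemLocalIdeal M (omega n (χ : G → ℂ)) := by
    intro χ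
    have hχ1 : (χ : G → ℂ) 1 ≠ 0 := Cfsg.Agent.Lib.Helper82.IsIrrCharacter.apply_one_ne_zero χ.2
    rw [hn, omega_sub, omega_smul, omega_blockCoeff]
    by_cases hχ : χ ∈ B
    · rw [if_pos hχ, mul_one]
      have hsb : SameBlock M (χ : G → ℂ) (fun _ => (1 : ℂ)) := sameBlock_symm hχ
      have h := sum_stable_mem hmax (χ : G → ℂ) (fun _ => (1 : ℂ))
        (IsIrrCharacter.isCharacter χ.2) isCharacter_one hsb Sf (by
          intro h hh k
          rw [hSf, Finset.mem_filter] at hh ⊢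
          exact ⟨Finset.mem_univ _, by rw [hconj]; exact hh.2⟩)
      have e : omega θ (χ : G → ℂ) - (R : ℂ)
          = ∑ h ∈ Sf, ((χ : G → ℂ) h / (χ : G → ℂ) 1 - (1 : ℂ) / 1) := by
        rw [omega, hsumθ, Finset.sum_sub_distrib, Finset.sum_div, Finset.sum_const, hRcard]
        simp
      rw [e]
      exact h
    · rw [if_neg hχ, mul_zero, sub_zero]
      have hnot : ¬ SameBlock M (χ : G → ℂ) ((trivChar G : IrrCharacter G) : G → ℂ) :=
        fun h => hχ (sameBlock_symm h)
      have h0 := sum_regular_mul_conj_eq_zero hM χ (trivChar G) hnot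
      have e : ∑ z : G, θ z * (χ : G → ℂ) z = 0 := by
        rw [← h0]
        apply Finset.sum_congr rfl
        intro z _
        rw [hθ]
        simp only [trivChar_apply, map_one, mul_one]
        split_ifs <;> simp
      rw [omega, e, zero_div]
      exact Cfsg.Agent.Lib.Helper82.memLocalIdeal_zero hMp
  have hD := memLocalIdeal_sum_mul_pElement hM hncf hnR hω g⁻¹
  have hA := sum_blockCoeff_mul_pElement hM (trivChar G) g hg
  have hNsum : (N : ℂ)
      = ∑ z : G, θ z * (if ∃ k : ℕ, orderOf (z * g⁻¹) = p ^ k then (1 : ℂ) else 0) := by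
    rw [hN, Nat.card_congr (pairEquivRegular p g), Nat.card_eq_fintype_card,
      Fintype.card_subtype, Finset.card_filter]
    push_cast
    apply Finset.sum_congr rfl
    intro z _
    rw [hθ]
    simp only
    by_cases hz : p ∣ orderOf z
    · rw [if_pos hz, zero_mul, if_neg (fun h => h.1 hz)]
    · rw [if_neg hz, one_mul]
      by_cases hz2 : ∃ k : ℕ, orderOf (z * g⁻¹) = p ^ k
      · rw [if_pos hz2, if_pos ⟨hz, hz2⟩]
      · rw [if_neg hz2, if_neg (fun h => hz2 h.2)]
  have hDeq : ∑ z : G, n z * (if ∃ k : ℕ, orderOf (z * g⁻¹) = p ^ k then (1 : ℂ) else 0)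
      = (N : ℂ) - (R : ℂ) * blockCoeff B g := by
    simp only [hn, Pi.sub_apply, Pi.smul_apply, smul_eq_mul, sub_mul, Finset.sum_sub_distrib]
    rw [← hNsum]
    congr 1
    simp_rw [mul_assoc]
    rw [← Finset.mul_sum, hA]
  rw [hDeq] at hD
  have hRunit : ¬ MemLocalIdeal M ((R : ℕ) : ℂ) := by
    rw [memLocalIdeal_natCast_iff hM, hR]
    exact not_dvd_card_pRegular' p
  have hRinv := memLocalRing_inv (memLocalRing_natCast hMp R) hRunit
  have hR0 : (R : ℂ) ≠ 0 := fun h => hRunit (h ▸ Cfsg.Agent.Lib.Helper82.memLocalIdeal_zero hMp)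
  have e : blockCoeff B g - (N : ℂ) / (R : ℂ)
      = -(((N : ℂ) - (R : ℂ) * blockCoeff B g) * (R : ℂ)⁻¹) := by
    field_simp
    ring
  rw [e]
  exact Cfsg.Agent.Lib.Helper82.memLocalIdeal_neg (memLocalIdeal_mul_right hMp hD hRinv)

end Cfsg.Agent.Lib.Helper22
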