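import Mathlib
import Cfsg.Prelude.Def_Blocks
import Cfsg.Agent.Lib.Helper22.PrincipalIdem
import Cfsg.Agent.Lib.Helper21.OsimaApps
import Cfsg.Agent.Lib.Helper82.WeakOrth
import Cfsg.Agent.Lib.Helper82.LocalRing
import Cfsg.Agent.Lib.Helper81.PRegularCount
import Cfsg.Agent.Lib.Helper83.Decompose

/-!
# Characters of degree prime to `p` in the principal block over an extendible character

Counting lemmas (fixed points of a Sylow subgroup on pairs) used together with Külshammer's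
formula for the principal block idempotent.
-/

set_option autoImplicit false
set_option linter.unusedSectionVars false
set_option linter.style.haveILetI false

namespace Cfsg.Agent.Lib.Helper22

open Cfsg
open scoped ComplexConjugate

/-- Fixed point congruence for a `p`-subgroup acting on a set of pairs by simultaneous
conjugation. -/
theorem card_pairs_modEq_fixed {G : Type*} [Group G] [Finite G] {p : ℕ} [Fact p.Prime]
    (P : Subgroup G) (hP : IsPGroup p P) (S : Set (G × G))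
    (hS : ∀ u ∈ P, ∀ a ∈ S, (u * a.1 * u⁻¹, u * a.2 * u⁻¹) ∈ S) :
    Nat.card S ≡ Nat.card {a : G × G // a ∈ S ∧ (∀ u ∈ P, u * a.1 * u⁻¹ = a.1) ∧
      ∀ u ∈ P, u * a.2 * u⁻¹ = a.2} [MOD p] := by
  classical
  letI : MulAction P S :=
    { smul := fun u a => ⟨(u.1 * a.1.1 * u.1⁻¹, u.1 * a.1.2 * u.1⁻¹), hS u.1 u.2 a.1 a.2⟩
      one_smul := by
        rintro ⟨⟨x, y⟩, h⟩
        apply Subtype.ext
        change ((1 : G) * x * (1 : G)⁻¹, (1 : G) * y * (1 : G)⁻¹) = (x, y)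
        simp
      mul_smul := by
        rintro ⟨u, hu⟩ ⟨v, hv⟩ ⟨⟨x, y⟩, h⟩
        apply Subtype.ext
        change ((u * v) * x * (u * v)⁻¹, (u * v) * y * (u * v)⁻¹)
          = (u * (v * x * v⁻¹) * u⁻¹, u * (v * y * v⁻¹) * u⁻¹)
        simp [mul_assoc] }
  have hsmul : ∀ (u : P) (a : S), ((u • a : S) : G × G)
      = (u.1 * a.1.1 * u.1⁻¹, u.1 * a.1.2 * u.1⁻¹) := fun _ _ => rfl
  have h := hP.card_modEq_card_fixedPoints S
  refine h.trans (Nat.ModEq.of_dvd (dvd_refl p) ?_)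
  suffices e : Nat.card (MulAction.fixedPoints P S) = Nat.card {a : G × G // a ∈ S ∧
      (∀ u ∈ P, u * a.1 * u⁻¹ = a.1) ∧ ∀ u ∈ P, u * a.2 * u⁻¹ = a.2} by rw [e]
  apply Nat.card_congr
  refine
    { toFun := fun a => ⟨a.1.1, a.1.2, ?_, ?_⟩
      invFun := fun a => ⟨⟨a.1, a.2.1⟩, ?_⟩
      left_inv := fun a => rfl
      right_inv := fun a => rfl }
  · intro u hu
    have := a.2 ⟨u, hu⟩
    have h2 := congrArg (fun b : S => (b : G × G).1) this
    simpa [hsmul] using h2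
  · intro u hu
    have := a.2 ⟨u, hu⟩
    have h2 := congrArg (fun b : S => (b : G × G).2) this
    simpa [hsmul] using h2
  · intro u
    apply Subtype.ext
    rw [hsmul]
    exact Prod.ext (a.2.2.1 u.1 u.2) (a.2.2.2 u.1 u.2)

/-- A `p`-regular element of `N ⊔ P`, with `N` normal and `P` a `p`-group, lies in `N`. -/
theorem mem_of_pRegular_of_mem_sup {G : Type*} [Group G] {p : ℕ} [Fact p.Prime]
    (N : Subgroup G) [N.Normal] (P : Subgroup G) (hP : IsPGroup p P) {h : G}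
    (hh : h ∈ N ⊔ P) (hreg : ¬ p ∣ orderOf h) : h ∈ N := by
  have hp : p.Prime := Fact.out
  have hmap : (QuotientGroup.mk' N) h ∈ (N ⊔ P).map (QuotientGroup.mk' N) :=
    Subgroup.mem_map_of_mem _ hh
  rw [Subgroup.map_sup, QuotientGroup.map_mk'_self, bot_sup_eq] at hmap
  have hPm : IsPGroup p (P.map (QuotientGroup.mk' N)) := hP.map _
  obtain ⟨k, hk⟩ := hPm ⟨_, hmap⟩
  have hk' : (QuotientGroup.mk' N h) ^ (p ^ k) = 1 := by
    have := congrArg Subtype.val hk
    simpa using this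
  have h1 : orderOf (QuotientGroup.mk' N h) ∣ p ^ k := orderOf_dvd_of_pow_eq_one hk'
  have h2 : orderOf (QuotientGroup.mk' N h) ∣ orderOf h := orderOf_map_dvd _ h
  have hcop : Nat.Coprime (p ^ k) (orderOf h) :=
    Nat.Coprime.pow_left k ((Nat.Prime.coprime_iff_not_dvd hp).2 hreg)
  have h3 : orderOf (QuotientGroup.mk' N h) = 1 := Nat.eq_one_of_dvd_coprimes hcop h1 h2
  rw [orderOf_eq_one_iff] at h3
  exact (QuotientGroup.eq_one_iff h).1 h3

/-- A `p`-element centralizing a Sylow `p`-subgroup lies in it. -/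
theorem mem_sylow_of_pElement_of_mem_centralizer {G : Type*} [Group G] {p : ℕ} [Fact p.Prime]
    (P : Sylow p G) {x : G} (hx : ∃ k : ℕ, orderOf x = p ^ k)
    (hc : x ∈ Subgroup.centralizer ((P : Subgroup G) : Set G)) : x ∈ (P : Subgroup G) := by
  obtain ⟨k, hk⟩ := hx
  have hQ : IsPGroup p (Subgroup.zpowers x) := by
    apply IsPGroup.of_card (n := k)
    rw [Nat.card_zpowers, hk]
  have hQN : Subgroup.zpowers x ≤ Subgroup.normalizer ((P : Subgroup G) : Set G) := by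
    rw [Subgroup.zpowers_le]
    exact Subgroup.centralizer_le_normalizer _ hc
  have hsup : IsPGroup p (Subgroup.zpowers x ⊔ (P : Subgroup G) : Subgroup G) :=
    IsPGroup.to_sup_of_normal_right' hQ P.2 hQN
  have heq := P.is_maximal' hsup le_sup_right
  have : x ∈ Subgroup.zpowers x ⊔ (P : Subgroup G) :=
    (le_sup_left : Subgroup.zpowers x ≤ _) (Subgroup.mem_zpowers x)
  rwa [heq] at this

/-- The number of pairs (`p`-element, `p`-regular element) whose product is a `p`-regular element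
of `H ≥ P` is congruent modulo `p` to the number of `p`-regular elements of `C_H(P)`. -/
theorem card_pairs_mul_mem_modEq {G : Type*} [Group G] [Finite G] {p : ℕ} [Fact p.Prime]
    (P : Sylow p G) (H : Subgroup G) (hPH : (P : Subgroup G) ≤ H) :
    Nat.card {xy : G × G // (∃ k : ℕ, orderOf xy.1 = p ^ k) ∧ ¬ p ∣ orderOf xy.2 ∧
        xy.1 * xy.2 ∈ H ∧ ¬ p ∣ orderOf (xy.1 * xy.2)}
      ≡ Nat.card {y : G // y ∈ H ∧ y ∈ Subgroup.centralizer ((P : Subgroup G) : Set G) ∧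
        ¬ p ∣ orderOf y} [MOD p] := by
  classical
  have hp : p.Prime := Fact.out
  have hconj : ∀ x u : G, orderOf (u * x * u⁻¹) = orderOf x := by
    intro x u
    have h := MulEquiv.orderOf_eq (MulAut.conj u) x
    rwa [MulAut.conj_apply] at h
  set S : Set (G × G) := {xy | (∃ k : ℕ, orderOf xy.1 = p ^ k) ∧ ¬ p ∣ orderOf xy.2 ∧
        xy.1 * xy.2 ∈ H ∧ ¬ p ∣ orderOf (xy.1 * xy.2)} with hS
  have hinv : ∀ u ∈ (P : Subgroup G), ∀ a ∈ S, (u * a.1 * u⁻¹, u * a.2 * u⁻¹) ∈ S := by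
    rintro u hu ⟨x, y⟩ ⟨h1, h2, h3, h4⟩
    have e : u * x * u⁻¹ * (u * y * u⁻¹) = u * (x * y) * u⁻¹ := by group
    refine ⟨?_, ?_, ?_, ?_⟩
    · simpa only [hconj] using h1
    · simpa only [hconj] using h2
    · change u * x * u⁻¹ * (u * y * u⁻¹) ∈ H
      rw [e]
      exact H.mul_mem (H.mul_mem (hPH hu) h3) (H.inv_mem (hPH hu))
    · change ¬ p ∣ orderOf (u * x * u⁻¹ * (u * y * u⁻¹))
      rw [e, hconj]
      exact h4
  have h := card_pairs_modEq_fixed (P : Subgroup G) P.2 S hinv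
  refine h.trans (Nat.ModEq.of_dvd (dvd_refl p) ?_)
  suffices e : Nat.card {a : G × G // a ∈ S ∧ (∀ u ∈ (P : Subgroup G), u * a.1 * u⁻¹ = a.1) ∧
      ∀ u ∈ (P : Subgroup G), u * a.2 * u⁻¹ = a.2}
      = Nat.card {y : G // y ∈ H ∧ y ∈ Subgroup.centralizer ((P : Subgroup G) : Set G) ∧
        ¬ p ∣ orderOf y} by rw [e]
  have hcent : ∀ z : G, (∀ u ∈ (P : Subgroup G), u * z * u⁻¹ = z) ↔
      z ∈ Subgroup.centralizer ((P : Subgroup G) : Set G) := by
    intro z
    rw [Subgroup.mem_centralizer_iff]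
    constructor
    · intro hz u hu
      have := hz u hu
      calc u * z = u * z * u⁻¹ * u := by group
        _ = z * u := by rw [this]
    · intro hz u hu
      have := hz u hu
      rw [this]
      group
  have hone : ∀ a : G × G, a ∈ S → (∀ u ∈ (P : Subgroup G), u * a.1 * u⁻¹ = a.1) →
      (∀ u ∈ (P : Subgroup G), u * a.2 * u⁻¹ = a.2) → a.1 = 1 := by
    rintro ⟨x, y⟩ ⟨h1, h2, h3, h4⟩ hx hy
    simp only at hx hy h1 h2 h3 h4 ⊢
    have hxc := (hcent x).1 hx
    have hyc := (hcent y).1 hy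
    have hxP : x ∈ (P : Subgroup G) := mem_sylow_of_pElement_of_mem_centralizer P h1 hxc
    have hcomm : Commute x y := (Subgroup.mem_centralizer_iff.1 hyc x hxP)
    obtain ⟨k, hk⟩ := h1
    have hcop : (orderOf x).Coprime (orderOf y) := by
      rw [hk]
      exact Nat.Coprime.pow_left k ((Nat.Prime.coprime_iff_not_dvd hp).2 h2)
    have hord := hcomm.orderOf_mul_eq_mul_orderOf_of_coprime hcop
    rw [hord, hk] at h4
    have hk0 : k = 0 := by
      by_contra hk0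
      exact h4 (Dvd.dvd.mul_right (dvd_pow_self p hk0) _)
    rw [hk0, pow_zero, orderOf_eq_one_iff] at hk
    exact hk
  apply Nat.card_congr
  refine
    { toFun := fun a => ⟨a.1.2, ?_, (hcent _).1 a.2.2.2, a.2.1.2.1⟩
      invFun := fun y => ⟨(1, y.1), ⟨⟨0, by simp⟩, y.2.2.2, by simpa using y.2.1,
        by simpa using y.2.2.2⟩, by simp, (hcent _).2 y.2.2.1⟩
      left_inv := ?_
      right_inv := fun y => rfl }
  · have h1 := hone a.1 a.2.1 a.2.2.1 a.2.2.2
    have h3 := a.2.1.2.2.1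
    rw [h1, one_mul] at h3
    exact h3
  · rintro ⟨⟨x, y⟩, hS', hx, hy⟩
    have h1 := hone (x, y) hS' hx hy
    simp only at h1
    subst h1
    rfl

/-- The number of `p`-regular elements of `C_H(P)` is prime to `p`. -/
theorem not_dvd_card_pRegular_inf_centralizer {G : Type*} [Group G] [Finite G] {p : ℕ}
    [Fact p.Prime] (P H : Subgroup G) :
    ¬ p ∣ Nat.card {y : G // y ∈ H ∧ y ∈ Subgroup.centralizer (P : Set G) ∧
        ¬ p ∣ orderOf y} := by
  have h := Cfsg.Agent.Lib.Helper81.not_dvd_card_pRegular'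
    (G := ↥(H ⊓ Subgroup.centralizer (P : Set G))) p
  suffices e : Nat.card {y : G // y ∈ H ∧ y ∈ Subgroup.centralizer (P : Set G) ∧
        ¬ p ∣ orderOf y}
      = Nat.card {g : ↥(H ⊓ Subgroup.centralizer (P : Set G)) // ¬ p ∣ orderOf g} by
    rw [e]; exact h
  apply Nat.card_congr
  exact
    { toFun := fun y => ⟨⟨y.1, ⟨y.2.1, y.2.2.1⟩⟩, by
        rw [← Subgroup.orderOf_coe]; exact y.2.2.2⟩
      invFun := fun g => ⟨g.1.1, g.1.2.1, g.1.2.2, by
        rw [Subgroup.orderOf_coe]; exact g.2⟩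
      left_inv := fun y => rfl
      right_inv := fun g => rfl }

open Cfsg.Agent.Lib.Helper21 Cfsg.Agent.Lib.Helper83 in
/-- If `χ|_H` contains `η` and `η` restricts to the irreducible `θ` on `N ≤ H`, then `χ|_N`
contains `θ`. -/
theorem classInner_restrict_ne_zero_of_irrMult {G : Type*} [Group G] [Finite G]
    (N H : Subgroup G) (hNH : N ≤ H) [Fintype N] [Fintype H]
    (χ : G → ℂ) (hχ : IsCharacter G χ) (η : IrrCharacter H) (θ : IrrCharacter N)
    (hη : ∀ n : N, (η : H → ℂ) (Subgroup.inclusion hNH n) = (θ : N → ℂ) n)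
    (ha : irrMult (fun h : H => χ (h : G)) η ≠ 0) :
    classInner (fun n : N => χ (n : G)) (θ : N → ℂ) ≠ 0 := by
  classical
  let _ : Fintype (IrrCharacter H) := Fintype.ofFinite _
  have hres : IsCharacter H (fun h : H => χ (h : G)) := isCharacter_restrict H hχ
  have hdec := char_eq_sum_irrMult hres
  have hk : ∀ ψ : IrrCharacter H, ∃ k : ℕ,
      classInner (fun n : N => (ψ : H → ℂ) (Subgroup.inclusion hNH n)) (θ : N → ℂ) = k :=
    fun ψ => classInner_char_nat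
      (isCharacter_comp_hom (Subgroup.inclusion hNH)
        (Cfsg.Agent.Lib.Helper82.IsIrrCharacter.isCharacter ψ.2))
      (Cfsg.Agent.Lib.Helper82.IsIrrCharacter.isCharacter θ.2)
  choose k hk using hk
  have hkη : k η = 1 := by
    have h1 := hk η
    have h2 : (fun n : N => (η : H → ℂ) (Subgroup.inclusion hNH n)) = (θ : N → ℂ) :=
      funext hη
    rw [h2, Cfsg.Agent.Lib.Helper05.classInner_irr_self θ.2] at h1
    exact_mod_cast h1.symm
  have hval : ∀ n : N, χ (n : G)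
      = ∑ ψ : IrrCharacter H, (irrMult (fun h : H => χ (h : G)) ψ : ℂ)
          * (ψ : H → ℂ) (Subgroup.inclusion hNH n) := by
    intro n
    have := congrFun hdec (Subgroup.inclusion hNH n)
    simp only [Finset.sum_apply, Pi.smul_apply, smul_eq_mul] at this
    exact this
  have hsum : classInner (fun n : N => χ (n : G)) (θ : N → ℂ)
      = ((∑ ψ : IrrCharacter H, irrMult (fun h : H => χ (h : G)) ψ * k ψ : ℕ) : ℂ) := by
    push_cast
    simp only [← hk]
    unfold classInner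
    simp only [hval, Finset.sum_mul, Finset.mul_sum]
    rw [Finset.sum_comm]
    apply Finset.sum_congr rfl
    intro ψ _
    apply Finset.sum_congr rfl
    intro n _
    ring
  rw [hsum]
  have hle : irrMult (fun h : H => χ (h : G)) η * k η
      ≤ ∑ ψ : IrrCharacter H, irrMult (fun h : H => χ (h : G)) ψ * k ψ :=
    Finset.single_le_sum (f := fun ψ : IrrCharacter H =>
      irrMult (fun h : H => χ (h : G)) ψ * k ψ) (fun _ _ => Nat.zero_le _) (Finset.mem_univ η)
  rw [hkη, mul_one] at hle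
  have hpos : 0 < ∑ ψ : IrrCharacter H, irrMult (fun h : H => χ (h : G)) ψ * k ψ :=
    lt_of_lt_of_le (Nat.pos_of_ne_zero ha) hle
  exact_mod_cast hpos.ne'

universe u

open Cfsg.Agent.Lib.Helper21 Cfsg.Agent.Lib.Helper83 in
/-- **Characters of `p'`-degree in the principal block over an extendible character.** -/
theorem exists_principal_pPrime_over {G : Type u} [Group G] [Finite G] (N : Subgroup G)
    [N.Normal] (p : ℕ) [Fact p.Prime] (M : Ideal AlgInt) (hM : IsPModular p M) (P : Sylow p G)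
    (θ : IrrCharacter N) (hθ : θ ∈ principalBlock M N)
    (hdeg : ¬ p ∣ charDegree (θ : N → ℂ))
    (hext : ∃ η : IrrCharacter ↥(N ⊔ (P : Subgroup G)), ∀ n : N,
      (η : ↥(N ⊔ (P : Subgroup G)) → ℂ) (Subgroup.inclusion le_sup_left n) = (θ : N → ℂ) n) :
    ∃ χ : IrrCharacter G, χ ∈ principalBlock M G ∧ ¬ p ∣ charDegree (χ : G → ℂ) ∧
      haveI := Fintype.ofFinite N
      classInner (fun n : N => (χ : G → ℂ) n) (θ : N → ℂ) ≠ 0 := by
  classical
  let _ : Fintype G := Fintype.ofFinite G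
  let _ : Fintype (IrrCharacter G) := Fintype.ofFinite _
  let _ : Fintype N := Fintype.ofFinite N
  let _ : Fintype (IrrCharacter N) := Fintype.ofFinite _
  obtain ⟨η, hη⟩ := hext
  obtain ⟨H, hH⟩ : ∃ H : Subgroup G, H = N ⊔ (P : Subgroup G) := ⟨_, rfl⟩
  subst hH
  let _ : Fintype ↥(N ⊔ (P : Subgroup G)) := Fintype.ofFinite _
  have hMp : M.IsPrime := hM.2.1.isPrime
  have hp : p.Prime := hM.1
  have hNH : N ≤ N ⊔ (P : Subgroup G) := le_sup_left
  have hPH : (P : Subgroup G) ≤ N ⊔ (P : Subgroup G) := le_sup_right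
  have hBeq : principalBlock M G = blockOf M ((trivChar G : IrrCharacter G) : G → ℂ) := rfl
  obtain ⟨B, hB⟩ : ∃ B : Set (IrrCharacter G),
    B = blockOf M ((trivChar G : IrrCharacter G) : G → ℂ) := ⟨_, rfl⟩
  rw [hBeq, ← hB]
  obtain ⟨e, he⟩ : ∃ e : G → ℂ, e = blockCoeff B := ⟨_, rfl⟩
  have hecf : IsClassFunction G e := he ▸ blockCoeff_isClassFunction B
  have heR : ∀ g, MemLocalRing M (e g) := by
    intro g
    rw [he, hB]
    exact memLocalRing_blockCoeff_blockOf hMp (trivChar G) g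
  have hesing : ∀ g : G, p ∣ orderOf g → e g = 0 := by
    intro g hg
    rw [he, hB]
    exact Cfsg.Agent.Lib.Helper82.blockCoeff_eq_zero_of_singular hM (trivChar G) g hg
  -- multiplicities
  obtain ⟨a, ha⟩ : ∃ a : IrrCharacter G → ℕ, a = fun χ : IrrCharacter G =>
    irrMult (fun h : ↥(N ⊔ (P : Subgroup G)) => (χ : G → ℂ) (h : G)) η := ⟨_, rfl⟩
  have ha_cast : ∀ χ : IrrCharacter G, (a χ : ℂ)
      = classInner (fun h : ↥(N ⊔ (P : Subgroup G)) => (χ : G → ℂ) (h : G))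
          (η : ↥(N ⊔ (P : Subgroup G)) → ℂ) := by
    intro χ
    rw [ha]
    exact irrMult_cast (isCharacter_restrict _
      (Cfsg.Agent.Lib.Helper82.IsIrrCharacter.isCharacter χ.2)) η
  have hdegc : ∀ χ : IrrCharacter G, (charDegree (χ : G → ℂ) : ℂ) = (χ : G → ℂ) 1 :=
    fun χ => charDegree_cast (Cfsg.Agent.Lib.Helper82.IsIrrCharacter.isCharacter χ.2)
  obtain ⟨Bf, hBf⟩ : ∃ Bf : Finset (IrrCharacter G), Bf = Finset.univ.filter (· ∈ B) :=
    ⟨_, rfl⟩
  obtain ⟨S, hS⟩ : ∃ S : ℕ, S = ∑ χ ∈ Bf, a χ * charDegree (χ : G → ℂ) := ⟨_, rfl⟩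
  obtain ⟨X, hX⟩ : ∃ X : ℂ, X = ∑ h : ↥(N ⊔ (P : Subgroup G)),
    (η : ↥(N ⊔ (P : Subgroup G)) → ℂ) h * e (h : G) := ⟨_, rfl⟩
  -- Step A: `S = |G : H| X`
  have hce : ∀ g : G, conj (e g)
      = (Nat.card G : ℂ)⁻¹ * ∑ χ ∈ Bf, (χ : G → ℂ) 1 * (χ : G → ℂ) g := by
    intro g
    rw [he, blockCoeff_eq_sum B g, map_mul, map_inv₀, Complex.conj_natCast, map_sum, hBf,
      Finset.sum_filter]
    congr 1
    apply Finset.sum_congr rfl
    intro χ _
    split_ifs
    · rw [map_mul, Complex.conj_conj, ← hdegc χ, Complex.conj_natCast]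
    · rw [map_zero]
  have hGne : (Nat.card G : ℂ) ≠ 0 := by
    exact_mod_cast (Nat.card_pos (α := G)).ne'
  have hHne : (Nat.card ↥(N ⊔ (P : Subgroup G)) : ℂ) ≠ 0 := by
    exact_mod_cast (Nat.card_pos (α := ↥(N ⊔ (P : Subgroup G)))).ne'
  have hSX : (S : ℂ) = (Nat.card G : ℂ) / (Nat.card ↥(N ⊔ (P : Subgroup G)) : ℂ) * X := by
    have h1 : conj ((Nat.card G : ℂ) / (Nat.card ↥(N ⊔ (P : Subgroup G)) : ℂ) * X)
        = (S : ℂ) := by
      rw [map_mul, map_div₀, Complex.conj_natCast, Complex.conj_natCast, hX, map_sum, hS]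
      push_cast
      simp only [map_mul, hce, ha_cast, hdegc]
      unfold classInner
      simp only [Finset.mul_sum, Finset.sum_mul]
      rw [Finset.sum_comm]
      apply Finset.sum_congr rfl
      intro χ _
      apply Finset.sum_congr rfl
      intro h _
      field_simp
    have h2 := congrArg conj h1
    rw [Complex.conj_conj, Complex.conj_natCast] at h2
    exact h2.symm
  -- Step B: `X = θ 1 * ω_θ(f)` with `f = e|_N`
  obtain ⟨f, hf⟩ : ∃ f : N → ℂ, f = fun n : N => e (n : G) := ⟨_, rfl⟩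
  have hfcf : IsClassFunction N f := by
    intro g h
    rw [hf]
    simp only [Subgroup.coe_mul, InvMemClass.coe_inv]
    exact hecf _ _
  have hfR : ∀ n, MemLocalRing M (f n) := fun n => by rw [hf]; exact heR _
  have hθ1 : (θ : N → ℂ) 1 ≠ 0 :=
    Cfsg.Agent.Lib.Helper82.IsIrrCharacter.apply_one_ne_zero θ.2
  have hsumeq : X = ∑ n : N, f n * (θ : N → ℂ) n := by
    rw [hX]
    have himg : ∑ h : ↥(N ⊔ (P : Subgroup G)),
        (η : ↥(N ⊔ (P : Subgroup G)) → ℂ) h * e (h : G)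
        = ∑ h ∈ Finset.univ.image (Subgroup.inclusion hNH),
          (η : ↥(N ⊔ (P : Subgroup G)) → ℂ) h * e (h : G) := by
      symm
      apply Finset.sum_subset (Finset.subset_univ _)
      intro h _ hnot
      have hnN : (h : G) ∉ N := by
        intro hmem
        apply hnot
        rw [Finset.mem_image]
        exact ⟨⟨h, hmem⟩, Finset.mem_univ _, Subtype.ext rfl⟩
      have hsing : p ∣ orderOf (h : G) := by
        by_contra hreg
        exact hnN (mem_of_pRegular_of_mem_sup N (P : Subgroup G) P.2 h.2 hreg)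
      rw [hesing _ hsing, mul_zero]
    rw [himg, Finset.sum_image (fun x _ y _ hxy => Subgroup.inclusion_injective hNH hxy)]
    apply Finset.sum_congr rfl
    intro n _
    rw [hη n, hf]
    simp only [Subgroup.coe_inclusion]
    ring
  have hXθ : X = (θ : N → ℂ) 1 * omega f (θ : N → ℂ) := by
    rw [omega, hsumeq]
    field_simp
  -- Step C
  have hsb : SameBlock M (θ : N → ℂ) ((trivChar N : IrrCharacter N) : N → ℂ) :=
    Cfsg.Agent.Lib.Helper82.sameBlock_symm hθ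
  have hD1 := omega_sub_memLocalIdeal hMp hfcf hfR hsb
  have hom1 : omega f ((trivChar N : IrrCharacter N) : N → ℂ) = ∑ n : N, f n := by
    rw [omega]
    simp [trivChar_apply]
  -- Step D
  obtain ⟨Sf, hSf⟩ : ∃ Sf : Finset G, Sf = Finset.univ.filter
    (fun g : G => g ∈ N ⊔ (P : Subgroup G) ∧ ¬ p ∣ orderOf g) := ⟨_, rfl⟩
  have hsumf : ∑ n : N, f n = ∑ g ∈ Sf, e g := by
    rw [hf, hSf]
    rw [← Finset.sum_subtype (Finset.univ.filter (fun g : G => g ∈ N)) (by intro x; simp)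
      (fun g => e g)]
    rw [Finset.sum_filter, Finset.sum_filter]
    apply Finset.sum_congr rfl
    intro g _
    by_cases hg : p ∣ orderOf g
    · rw [hesing g hg]; simp
    · by_cases hgN : g ∈ N
      · rw [if_pos hgN, if_pos ⟨hNH hgN, hg⟩]
      · rw [if_neg hgN, if_neg]
        rintro ⟨h1, _⟩
        exact hgN (mem_of_pRegular_of_mem_sup N (P : Subgroup G) P.2 h1 hg)
  -- Step E
  obtain ⟨R, hR⟩ : ∃ R : ℕ, R = Nat.card {y : G // ¬ p ∣ orderOf y} := ⟨_, rfl⟩
  obtain ⟨Nn, hNn⟩ : ∃ Nn : G → ℕ, Nn = fun g => Nat.card {xy : G × G //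
    (∃ k : ℕ, orderOf xy.1 = p ^ k) ∧ ¬ p ∣ orderOf xy.2 ∧ xy.1 * xy.2 = g} := ⟨_, rfl⟩
  have hkul : ∀ g ∈ Sf, MemLocalIdeal M (e g - (Nn g : ℂ) / (R : ℂ)) := by
    intro g hg
    rw [hSf, Finset.mem_filter] at hg
    have := memLocalIdeal_principal_blockCoeff_sub p M hM g hg.2.2
    rw [hBeq, ← hB, ← he, ← hR] at this
    rw [hNn]
    exact this
  have hpR : ¬ p ∣ R := hR ▸ Cfsg.Agent.Lib.Helper81.not_dvd_card_pRegular' p
  have hRne : (R : ℂ) ≠ 0 := by
    have : R ≠ 0 := fun h0 => hpR (h0 ▸ dvd_zero p)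
    exact_mod_cast this
  obtain ⟨T, hT⟩ : ∃ T : ℕ, T = Nat.card {xy : G × G // (∃ k : ℕ, orderOf xy.1 = p ^ k) ∧
    ¬ p ∣ orderOf xy.2 ∧ xy.1 * xy.2 ∈ N ⊔ (P : Subgroup G) ∧
    ¬ p ∣ orderOf (xy.1 * xy.2)} := ⟨_, rfl⟩
  have hTsum : T = ∑ g ∈ Sf, Nn g := by
    rw [hT, Nat.card_eq_fintype_card, Fintype.card_subtype]
    have hfib := Finset.card_eq_sum_card_fiberwise
      (s := Finset.univ.filter (fun xy : G × G => (∃ k : ℕ, orderOf xy.1 = p ^ k) ∧
        ¬ p ∣ orderOf xy.2 ∧ xy.1 * xy.2 ∈ N ⊔ (P : Subgroup G) ∧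
        ¬ p ∣ orderOf (xy.1 * xy.2))) (t := Sf) (f := fun xy : G × G => xy.1 * xy.2) (by
        intro xy hxy
        rw [Finset.mem_coe, Finset.mem_filter] at hxy
        rw [hSf, Finset.mem_coe, Finset.mem_filter]
        exact ⟨Finset.mem_univ _, hxy.2.2.2.1, hxy.2.2.2.2⟩)
    rw [hfib]
    apply Finset.sum_congr rfl
    intro g hg
    rw [hSf, Finset.mem_filter] at hg
    rw [hNn]
    simp only
    rw [Nat.card_eq_fintype_card, Fintype.card_subtype]
    congr 1
    ext xy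
    simp only [Finset.mem_filter, Finset.mem_univ, true_and]
    constructor
    · rintro ⟨⟨h1, h2, _, _⟩, h5⟩
      exact ⟨h1, h2, h5⟩
    · rintro ⟨h1, h2, h5⟩
      refine ⟨⟨h1, h2, ?_, ?_⟩, h5⟩
      · rw [h5]; exact hg.2.1
      · rw [h5]; exact hg.2.2
  have hD2 : MemLocalIdeal M (∑ g ∈ Sf, e g - (T : ℂ) / (R : ℂ)) := by
    have := Cfsg.Agent.Lib.Helper82.memLocalIdeal_sum hMp Sf _ hkul
    rw [Finset.sum_sub_distrib, ← Finset.sum_div] at this
    rw [hTsum]
    push_cast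
    exact this
  -- Step F
  obtain ⟨c, hc⟩ : ∃ c : ℕ, c = Nat.card {y : G // y ∈ N ⊔ (P : Subgroup G) ∧
    y ∈ Subgroup.centralizer ((P : Subgroup G) : Set G) ∧ ¬ p ∣ orderOf y} := ⟨_, rfl⟩
  have hTc : T ≡ c [MOD p] := by
    rw [hT, hc]
    exact card_pairs_mul_mem_modEq P _ hPH
  have hpc : ¬ p ∣ c := by
    rw [hc]
    exact not_dvd_card_pRegular_inf_centralizer _ _
  have hRinv : MemLocalRing M ((R : ℂ)⁻¹) :=
    Cfsg.Agent.Lib.Helper82.memLocalRing_inv
      (Cfsg.Agent.Lib.Helper82.memLocalRing_natCast hMp R)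
      (fun h => hpR ((Cfsg.Agent.Lib.Helper82.memLocalIdeal_natCast_iff hM R).1 h))
  have hD3 : MemLocalIdeal M ((T : ℂ) / R - (c : ℂ) / R) := by
    have hdvd : (p : ℤ) ∣ (T : ℤ) - (c : ℤ) := (Nat.modEq_iff_dvd.1 hTc.symm)
    have h1 : MemLocalIdeal M (((T : ℤ) - (c : ℤ) : ℤ) : ℂ) :=
      (Cfsg.Agent.Lib.Helper82.memLocalIdeal_intCast_iff hM _).2 hdvd
    have h2 := Cfsg.Agent.Lib.Helper82.memLocalIdeal_mul_right hMp h1 hRinv
    have e3 : (T : ℂ) / R - (c : ℂ) / R = (((T : ℤ) - (c : ℤ) : ℤ) : ℂ) * (R : ℂ)⁻¹ := by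
      push_cast
      ring
    rw [e3]
    exact h2
  have hom : MemLocalIdeal M (omega f (θ : N → ℂ) - (c : ℂ) / R) := by
    have h := Cfsg.Agent.Lib.Helper82.memLocalIdeal_add hMp
      (Cfsg.Agent.Lib.Helper82.memLocalIdeal_add hMp hD1 hD2) hD3
    have e4 : omega f (θ : N → ℂ) - (c : ℂ) / R
        = (omega f (θ : N → ℂ) - omega f ((trivChar N : IrrCharacter N) : N → ℂ))
          + (∑ g ∈ Sf, e g - (T : ℂ) / (R : ℂ)) + ((T : ℂ) / R - (c : ℂ) / R) := by
      rw [hom1, hsumf]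
      ring
    rw [e4]
    exact h
  obtain ⟨d, hd⟩ : ∃ d : ℕ, d = charDegree (θ : N → ℂ) := ⟨_, rfl⟩
  have hdc : (d : ℂ) = (θ : N → ℂ) 1 := by
    rw [hd]
    exact charDegree_cast (Cfsg.Agent.Lib.Helper82.IsIrrCharacter.isCharacter θ.2)
  obtain ⟨idx, hidx⟩ : ∃ idx : ℕ, idx = (N ⊔ (P : Subgroup G)).index := ⟨_, rfl⟩
  have hidxc : (Nat.card G : ℂ) / (Nat.card ↥(N ⊔ (P : Subgroup G)) : ℂ) = idx := by
    have := (N ⊔ (P : Subgroup G)).index_mul_card
    rw [div_eq_iff hHne, hidx, ← this]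
    push_cast
    ring
  have hpidx : ¬ p ∣ idx := fun h =>
    P.not_dvd_index (dvd_trans (hidx ▸ h) (Subgroup.index_dvd_of_le hPH))
  have hmain : MemLocalIdeal M ((((S * R : ℕ) : ℤ) - ((idx * d * c : ℕ) : ℤ) : ℤ) : ℂ) := by
    have h1 := Cfsg.Agent.Lib.Helper82.memLocalIdeal_mul_left hMp
      (Cfsg.Agent.Lib.Helper82.memLocalRing_natCast hMp (idx * d * R)) hom
    have e5 : ((idx * d * R : ℕ) : ℂ) * (omega f (θ : N → ℂ) - (c : ℂ) / R)
        = ((((S * R : ℕ) : ℤ) - ((idx * d * c : ℕ) : ℤ) : ℤ) : ℂ) := by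
      push_cast
      rw [hSX, hidxc, hXθ, ← hdc]
      field_simp
    rwa [e5] at h1
  have hdvd := (Cfsg.Agent.Lib.Helper82.memLocalIdeal_intCast_iff hM _).1 hmain
  have hpS : ¬ p ∣ S := by
    intro hpS
    have h1 : (p : ℤ) ∣ ((S * R : ℕ) : ℤ) := by
      exact_mod_cast Dvd.dvd.mul_right hpS R
    have h2 : (p : ℤ) ∣ ((idx * d * c : ℕ) : ℤ) := (dvd_sub_right h1).1 hdvd
    have h3 : p ∣ idx * d * c := by exact_mod_cast h2
    rcases (Nat.Prime.dvd_mul hp).1 h3 with h | h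
    · rcases (Nat.Prime.dvd_mul hp).1 h with h | h
      · exact hpidx h
      · exact hdeg (hd ▸ h)
    · exact hpc h
  have hex : ∃ χ ∈ Bf, ¬ p ∣ a χ * charDegree (χ : G → ℂ) := by
    by_contra hall
    push Not at hall
    exact hpS (hS ▸ Finset.dvd_sum hall)
  obtain ⟨χ, hχB, hχ⟩ := hex
  refine ⟨χ, ?_, ?_, ?_⟩
  · rw [hBf, Finset.mem_filter] at hχB
    exact hχB.2
  · exact fun h => hχ (Dvd.dvd.mul_left h _)
  · have haχ : a χ ≠ 0 := fun h0 => hχ (by rw [h0, zero_mul]; exact dvd_zero p)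
    rw [ha] at haχ
    exact classInner_restrict_ne_zero_of_irrMult N (N ⊔ (P : Subgroup G)) hNH (χ : G → ℂ)
      (Cfsg.Agent.Lib.Helper82.IsIrrCharacter.isCharacter χ.2) η θ hη haχ

end Cfsg.Agent.Lib.Helper22
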