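import Mathlib
import Cfsg.Agent.Lib.Helper73.RUDefs
import Cfsg.Agent.Lib.Helper73.RUHub
import Cfsg.Agent.Lib.Helper02.RU4Defs

set_option autoImplicit false
set_option linter.unusedSimpArgs false
set_option linter.unnecessarySeqFocus false

/-!
# K-RU4 leaf B (S2279): the transvection `[d₋₁,[d₋₁,d₀]] = 1 + l³ c₁ φ₋₁ᵀ`

`d₋₁ = u⁻¹ v = Φ(A)`, `d₀ = v u⁻¹ = Φ(B)` with `Φ(M) = 1 + C M R`, `C = [a⁻¹e_last | e_last | c₁]`,
`R = [f₁ ; e₀ ; e₀ a⁻¹]`; `Φ(M) Φ(N) = Φ(M + N + M (R C) N)`, and the commutators are computed with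
explicit `3 × 3` matrices.
-/

namespace Cfsg.Agent.Lib.Helper22.RU4

open Matrix Cfsg.Agent.Lib.Helper73.RU Cfsg.Agent.Lib.Helper73.RUSpec Cfsg.Agent.Lib.Helper02.RU4

section calc3

variable {n : ℕ} {F : Type*} [Field F]

/-- `Φ(M) = 1 + C M R` -/
def Phi (C : Matrix (Fin n) (Fin 3) F) (R : Matrix (Fin 3) (Fin n) F)
    (M : Matrix (Fin 3) (Fin 3) F) : Matrix (Fin n) (Fin n) F := 1 + C * M * R

/-- the circle product `M + N + M t N` -/
def circ (t M N : Matrix (Fin 3) (Fin 3) F) : Matrix (Fin 3) (Fin 3) F := M + N + M * t * N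

theorem Phi_mul (C : Matrix (Fin n) (Fin 3) F) (R : Matrix (Fin 3) (Fin n) F)
    (M N : Matrix (Fin 3) (Fin 3) F) :
    Phi C R M * Phi C R N = Phi C R (circ (R * C) M N) := by
  unfold Phi circ
  simp only [Matrix.mul_add, Matrix.add_mul, Matrix.mul_one, Matrix.one_mul, Matrix.mul_assoc]
  abel

theorem Phi_zero (C : Matrix (Fin n) (Fin 3) F) (R : Matrix (Fin 3) (Fin n) F) :
    Phi C R 0 = 1 := by
  unfold Phi
  simp

end calc3

section three

variable {F : Type*} [Field F] (l σ κ : F)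

/-- the pairing matrix `R C` -/
def tM : Matrix (Fin 3) (Fin 3) F := !![0, 0, 0; σ, 0, 0; κ, σ, 0]
def mA : Matrix (Fin 3) (Fin 3) F := !![l, 0, 0; 0, -l, 0; 0, 0, 0]
def mB : Matrix (Fin 3) (Fin 3) F := !![0, 0, 0; 0, l, 0; 0, 0, -l]
def mAi : Matrix (Fin 3) (Fin 3) F := !![-l, 0, 0; -(l ^ 2 * σ), l, 0; 0, 0, 0]
def mBi : Matrix (Fin 3) (Fin 3) F := !![0, 0, 0; 0, -l, 0; 0, -(l ^ 2 * σ), l]
def mAB : Matrix (Fin 3) (Fin 3) F := !![l, 0, 0; 0, 0, 0; 0, 0, -l]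
def mABAi : Matrix (Fin 3) (Fin 3) F :=
  !![0, 0, 0; -(l ^ 2 * σ), l, 0; l ^ 2 * κ + l ^ 3, -(l ^ 2 * σ), -l]
def mC : Matrix (Fin 3) (Fin 3) F :=
  !![0, 0, 0; -(l ^ 2 * σ), 0, 0; l ^ 2 * κ + l ^ 3, -(l ^ 2 * σ), 0]
def mBA : Matrix (Fin 3) (Fin 3) F := !![l, 0, 0; l ^ 2 * σ, 0, 0; -(l ^ 2 * κ), l ^ 2 * σ, -l]
def mBABi : Matrix (Fin 3) (Fin 3) F := !![l, 0, 0; l ^ 2 * σ, -l, 0; -(l ^ 2 * κ), l ^ 2 * σ, 0]
def mCi : Matrix (Fin 3) (Fin 3) F :=
  !![0, 0, 0; l ^ 2 * σ, 0, 0; -(l ^ 2 * κ) - l ^ 3, l ^ 2 * σ, 0]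
def mAC : Matrix (Fin 3) (Fin 3) F :=
  !![l, 0, 0; -(l ^ 2 * σ), -l, 0; l ^ 2 * κ + l ^ 3, -(l ^ 2 * σ), 0]
def mACAi : Matrix (Fin 3) (Fin 3) F :=
  !![0, 0, 0; -(l ^ 2 * σ), 0, 0; l ^ 2 * κ + 2 * l ^ 3, -(l ^ 2 * σ), 0]
def mT : Matrix (Fin 3) (Fin 3) F := !![0, 0, 0; 0, 0, 0; l ^ 3, 0, 0]

variable {σ}

theorem c_A_Ai (hσ : σ = 1 ∨ σ = -1) : circ (tM σ κ) (mA l) (mAi l σ) = 0 := by
  rcases hσ with rfl | rfl <;>
  · ext i j
    fin_cases i <;> fin_cases j <;>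
      simp [circ, tM, mA, mAi, Matrix.mul_apply, Fin.sum_univ_three] <;> ring

theorem c_B_Bi (hσ : σ = 1 ∨ σ = -1) : circ (tM σ κ) (mB l) (mBi l σ) = 0 := by
  rcases hσ with rfl | rfl <;>
  · ext i j
    fin_cases i <;> fin_cases j <;>
      simp [circ, tM, mB, mBi, Matrix.mul_apply, Fin.sum_univ_three] <;> ring

theorem c_A_B : circ (tM σ κ) (mA l) (mB l) = mAB l := by
  ext i j
  fin_cases i <;> fin_cases j <;>
    simp [circ, tM, mA, mB, mAB, Matrix.mul_apply, Fin.sum_univ_three]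

theorem c_AB_Ai (hσ : σ = 1 ∨ σ = -1) : circ (tM σ κ) (mAB l) (mAi l σ) = mABAi l σ κ := by
  rcases hσ with rfl | rfl <;>
  · ext i j
    fin_cases i <;> fin_cases j <;>
      simp [circ, tM, mAB, mAi, mABAi, Matrix.mul_apply, Fin.sum_univ_three] <;> ring

theorem c_ABAi_Bi (hσ : σ = 1 ∨ σ = -1) : circ (tM σ κ) (mABAi l σ κ) (mBi l σ) = mC l σ κ := by
  rcases hσ with rfl | rfl <;>
  · ext i j
    fin_cases i <;> fin_cases j <;>
      simp [circ, tM, mABAi, mBi, mC, Matrix.mul_apply, Fin.sum_univ_three] <;> ring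

theorem c_B_A (hσ : σ = 1 ∨ σ = -1) : circ (tM σ κ) (mB l) (mA l) = mBA l σ κ := by
  rcases hσ with rfl | rfl <;>
  · ext i j
    fin_cases i <;> fin_cases j <;>
      simp [circ, tM, mB, mA, mBA, Matrix.mul_apply, Fin.sum_univ_three] <;> ring

theorem c_BA_Bi (hσ : σ = 1 ∨ σ = -1) : circ (tM σ κ) (mBA l σ κ) (mBi l σ) = mBABi l σ κ := by
  rcases hσ with rfl | rfl <;>
  · ext i j
    fin_cases i <;> fin_cases j <;>
      simp [circ, tM, mBA, mBi, mBABi, Matrix.mul_apply, Fin.sum_univ_three] <;> ring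

theorem c_BABi_Ai (hσ : σ = 1 ∨ σ = -1) : circ (tM σ κ) (mBABi l σ κ) (mAi l σ) = mCi l σ κ := by
  rcases hσ with rfl | rfl <;>
  · ext i j
    fin_cases i <;> fin_cases j <;>
      simp [circ, tM, mBABi, mAi, mCi, Matrix.mul_apply, Fin.sum_univ_three] <;> ring

theorem c_A_C (hσ : σ = 1 ∨ σ = -1) : circ (tM σ κ) (mA l) (mC l σ κ) = mAC l σ κ := by
  rcases hσ with rfl | rfl <;>
  · ext i j
    fin_cases i <;> fin_cases j <;>
      simp [circ, tM, mA, mC, mAC, Matrix.mul_apply, Fin.sum_univ_three] <;> ring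

theorem c_AC_Ai (hσ : σ = 1 ∨ σ = -1) : circ (tM σ κ) (mAC l σ κ) (mAi l σ) = mACAi l σ κ := by
  rcases hσ with rfl | rfl <;>
  · ext i j
    fin_cases i <;> fin_cases j <;>
      simp [circ, tM, mAC, mAi, mACAi, Matrix.mul_apply, Fin.sum_univ_three] <;> ring

theorem c_ACAi_Ci (hσ : σ = 1 ∨ σ = -1) : circ (tM σ κ) (mACAi l σ κ) (mCi l σ κ) = mT l := by
  rcases hσ with rfl | rfl <;>
  · ext i j
    fin_cases i <;> fin_cases j <;>
      simp [circ, tM, mACAi, mCi, mT, Matrix.mul_apply, Fin.sum_univ_three] <;> ring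

end three


section main

variable (m : ℕ) (F : Type*) [Field F]

/-- the alternating row `e₀ a⁻¹` -/
def r0 : Fin (m + 3) → F := fun j => (-1) ^ j.val

/-- the three columns `a⁻¹ e_last`, `e_last`, `c₁` -/
def colv : Fin 3 → Fin (m + 3) → F :=
  ![cm1 m F, Pi.single (Fin.last (m + 2)) 1, c1 m F]

/-- the three rows `f₁`, `e₀`, `e₀ a⁻¹` -/
def rowv : Fin 3 → Fin (m + 3) → F :=
  ![f1 m F, Pi.single 0 1, r0 m F]

def Cm : Matrix (Fin (m + 3)) (Fin 3) F := Matrix.of fun i b => colv m F b i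

def Rm : Matrix (Fin 3) (Fin (m + 3)) F := Matrix.of fun a j => rowv m F a j

theorem Rm_mul_Cm_apply (a b : Fin 3) : (Rm m F * Cm m F) a b = rowv m F a ⬝ᵥ colv m F b := rfl

theorem Cm_mul_mul_Rm (M : Matrix (Fin 3) (Fin 3) F) :
    Cm m F * M * Rm m F = ∑ a : Fin 3, ∑ b : Fin 3, M a b • vecMulVec (colv m F a) (rowv m F b) := by
  ext i j
  simp only [Matrix.mul_apply, Cm, Rm, Matrix.of_apply, Matrix.sum_apply, Matrix.smul_apply,
    Matrix.add_apply, vecMulVec_apply, smul_eq_mul, Fin.sum_univ_three]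
  ring

theorem r0_vecMul_aMat : r0 m F ᵥ* aMat m F = Pi.single 0 1 := by
  ext j
  unfold aMat r0
  rw [vecMul, dotProduct]
  simp only [of_apply]
  by_cases h : j.val = 0
  · have hj : j = 0 := Fin.ext h
    subst hj
    rw [Finset.sum_eq_single (0 : Fin (m + 3))]
    · simp
    · intro c _ hc
      have h1 : ¬ (c = 0 ∨ c.val + 1 = (0 : Fin (m + 3)).val) := by
        rintro (h1 | h1)
        · exact hc h1
        · simp at h1
      rw [if_neg h1, mul_zero]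
    · intro h'
      exact absurd (Finset.mem_univ _) h'
  · have hlt : j.val - 1 < m + 3 := by have := j.isLt; omega
    have hne : j ≠ ⟨j.val - 1, hlt⟩ := by
      intro h'
      have := congrArg Fin.val h'
      simp at this
      omega
    rw [Finset.sum_eq_add_of_mem j ⟨j.val - 1, hlt⟩ (Finset.mem_univ _) (Finset.mem_univ _) hne]
    · have hj0 : j ≠ 0 := fun h' => h (by rw [h']; rfl)
      have e : j.val = (j.val - 1) + 1 := by omega
      rw [Pi.single_apply, if_neg hj0, if_pos (Or.inl rfl), if_pos (Or.inr (by simp; omega))]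
      simp only [mul_one]
      conv_lhs => rw [e, pow_succ]
      simp
    · intro c _ hc
      have h1 : ¬ (c = j ∨ c.val + 1 = j.val) := by
        rintro (h1 | h1)
        · exact hc.1 h1
        · exact hc.2 (Fin.ext (by simp; omega))
      rw [if_neg h1, mul_zero]

end main


section main2

variable {m : ℕ} {F : Type*} [Field F]

theorem last_ne_zero' : (Fin.last (m + 2) : Fin (m + 3)) ≠ 0 := by
  intro h; have := congrArg Fin.val h; simp at this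

theorem last_ne_one' : (Fin.last (m + 2) : Fin (m + 3)) ≠ 1 := by
  intro h; have := congrArg Fin.val h; simp at this

theorem pen_ne_zero' : (pen m : Fin (m + 3)) ≠ 0 := by
  intro h; have := congrArg Fin.val h; simp [pen] at this

theorem pen_ne_one' (hm : 1 ≤ m) : (pen m : Fin (m + 3)) ≠ 1 := by
  intro h; have := congrArg Fin.val h; simp [pen] at this; omega

theorem neg_one_pow_cases (F : Type*) [Field F] (m : ℕ) :
    ((-1 : F) ^ m = 1 ∨ (-1 : F) ^ m = -1) := neg_one_pow_eq_or F m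

/-- the pairing matrix -/
theorem Rm_mul_Cm (hm : 1 ≤ m) :
    Rm m F * Cm m F = tM ((-1 : F) ^ m) (r0 m F ⬝ᵥ cm1 m F) := by
  have h00 : f1 m F ⬝ᵥ cm1 m F = 0 := by
    rw [f1_dot, cm1_zero, cm1_one]; ring
  have h01 : f1 m F ⬝ᵥ (Pi.single (Fin.last (m + 2)) 1 : Fin (m + 3) → F) = 0 := by
    rw [f1_dot]; simp [last_ne_zero'.symm, last_ne_one'.symm, Pi.single_apply]
  have h02 : f1 m F ⬝ᵥ c1 m F = 0 := by
    rw [f1_dot]
    simp [c1, Pi.single_apply, last_ne_zero'.symm, last_ne_one'.symm, pen_ne_zero'.symm,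
      (pen_ne_one' hm).symm]
  have h10 : (Pi.single 0 1 : Fin (m + 3) → F) ⬝ᵥ cm1 m F = (-1) ^ m := by
    rw [e0_dot, cm1_zero]
  have h11 : (Pi.single 0 1 : Fin (m + 3) → F) ⬝ᵥ
      (Pi.single (Fin.last (m + 2)) 1 : Fin (m + 3) → F) = 0 := by
    rw [e0_dot]; simp [last_ne_zero'.symm, Pi.single_apply]
  have h12 : (Pi.single 0 1 : Fin (m + 3) → F) ⬝ᵥ c1 m F = 0 := by
    rw [e0_dot]
    simp [c1, Pi.single_apply, last_ne_zero'.symm, pen_ne_zero'.symm]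
  have h21 : r0 m F ⬝ᵥ (Pi.single (Fin.last (m + 2)) 1 : Fin (m + 3) → F) = (-1) ^ m := by
    rw [dotProduct_single, mul_one]
    unfold r0
    simp only [Fin.val_last]
    rw [pow_add]; simp
  have h22 : r0 m F ⬝ᵥ c1 m F = 0 := by
    unfold c1
    rw [dotProduct_add, dotProduct_single, dotProduct_single, mul_one, mul_one]
    unfold r0 pen
    simp only [Fin.val_last]
    rw [pow_succ ((-1 : F)) (m + 1)]
    ring
  ext a b
  rw [Rm_mul_Cm_apply]
  fin_cases a <;> fin_cases b <;>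
    simp [rowv, colv, tM, h00, h01, h02, h10, h11, h12, h21, h22]

end main2


section main3

variable {m : ℕ} {F : Type*} [Field F]

theorem Phi_mA (l : F) : Phi (Cm m F) (Rm m F) (mA l) = D1 m F l := by
  unfold Phi D1
  rw [Cm_mul_mul_Rm]
  simp [Fin.sum_univ_three, mA, colv, rowv, smul_sub, sub_eq_add_neg]

theorem Phi_mB_mul_aMat (l : F) : Phi (Cm m F) (Rm m F) (mB l) * aMat m F = v4 m F l := by
  have h1 : Phi (Cm m F) (Rm m F) (mB l) =
      1 + l • (vecMulVec (Pi.single (Fin.last (m + 2)) 1) (Pi.single 0 1) -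
        vecMulVec (c1 m F) (r0 m F)) := by
    unfold Phi
    rw [Cm_mul_mul_Rm]
    simp [Fin.sum_univ_three, mB, colv, rowv, smul_sub, sub_eq_add_neg]
  rw [h1]
  unfold v4
  rw [Matrix.add_mul, Matrix.one_mul, Matrix.smul_mul, Matrix.sub_mul, vecMulVec_mul,
    vecMulVec_mul, e0_vecMul_aMat, r0_vecMul_aMat, single_eq_vecMulVec, single_eq_vecMulVec]
  unfold f1 c1
  rw [vecMulVec_add, add_vecMulVec, smul_sub, smul_add, smul_add]
  abel

theorem Phi_mT (l : F) : Phi (Cm m F) (Rm m F) (mT l) = tvm (l ^ 3 • c1 m F) (f1 m F) := by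
  unfold Phi tvm
  rw [Cm_mul_mul_Rm]
  simp [Fin.sum_univ_three, mT, colv, rowv, smul_vecMulVec]

theorem tv_mem {m : ℕ} {F : Type*} [Field F] (hm : 1 ≤ m)
    {G : Subgroup (SpecialLinearGroup (Fin (m + 3)) F)} (l : F)
    (ha : InG G (aMat m F)) (hv : InG G (v4 m F l)) :
    InG G (tvm (l ^ 3 • c1 m F) (f1 m F)) := by
  have hσ : ((-1 : F) ^ m = 1 ∨ (-1 : F) ^ m = -1) := neg_one_pow_eq_or F m
  have ht := Rm_mul_Cm (F := F) hm
  set σ : F := (-1 : F) ^ m with hσdef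
  set κ : F := r0 m F ⬝ᵥ cm1 m F with hκdef
  have hDA : InG G (Phi (Cm m F) (Rm m F) (mA l)) := by
    refine inG_of_mul_left ha ?_
    rw [Phi_mA, aMat_mul_D1]
    exact hv
  have hDB : InG G (Phi (Cm m F) (Rm m F) (mB l)) := by
    refine inG_of_mul_right ha ?_
    rw [Phi_mB_mul_aMat]
    exact hv
  have hAi : InG G (Phi (Cm m F) (Rm m F) (mAi l σ)) := by
    refine inG_of_mul_eq_one hDA ?_
    rw [Phi_mul, ht, c_A_Ai l κ hσ, Phi_zero]
  have hBi : InG G (Phi (Cm m F) (Rm m F) (mBi l σ)) := by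
    refine inG_of_mul_eq_one hDB ?_
    rw [Phi_mul, ht, c_B_Bi l κ hσ, Phi_zero]
  have hC : InG G (Phi (Cm m F) (Rm m F) (mC l σ κ)) := by
    have h := inG_mul (inG_mul (inG_mul hDA hDB) hAi) hBi
    rwa [Phi_mul, ht, c_A_B, Phi_mul, ht, c_AB_Ai l κ hσ, Phi_mul, ht, c_ABAi_Bi l κ hσ] at h
  have hCi : InG G (Phi (Cm m F) (Rm m F) (mCi l σ κ)) := by
    have h := inG_mul (inG_mul (inG_mul hDB hDA) hBi) hAi
    rwa [Phi_mul, ht, c_B_A l κ hσ, Phi_mul, ht, c_BA_Bi l κ hσ, Phi_mul, ht,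
      c_BABi_Ai l κ hσ] at h
  have h := inG_mul (inG_mul (inG_mul hDA hC) hAi) hCi
  rwa [Phi_mul, ht, c_A_C l κ hσ, Phi_mul, ht, c_AC_Ai l κ hσ, Phi_mul, ht,
    c_ACAi_Ci l κ hσ, Phi_mT] at h

end main3

end Cfsg.Agent.Lib.Helper22.RU4
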