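import Mathlib

/-!
# K-S1305-K6a (helper22): the diagonal of a central product `J ∘ J^a`

A perfect subgroup of `C_{J·J^a}(a)` (with `[J, J^a] = 1`, `a` an involution) lies in
`{x · x^a : x ∈ J}`.
-/

set_option autoImplicit false

namespace Cfsg.Agent.Lib.Helper22.S1305K

open scoped commutatorElement

variable {X : Type*} [Group X]

/-- the diagonal `{x * (a x a⁻¹) : x ∈ J}` is a subgroup when `J` and `J^a` commute elementwise -/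
def diag (a : X) (J : Subgroup X)
    (hJ : ∀ x ∈ J, ∀ y ∈ J, x * (a * y * a⁻¹) = (a * y * a⁻¹) * x) : Subgroup X where
  carrier := {k | ∃ x ∈ J, k = x * (a * x * a⁻¹)}
  one_mem' := ⟨1, J.one_mem, by simp⟩
  mul_mem' := by
    rintro _ _ ⟨x, hx, rfl⟩ ⟨y, hy, rfl⟩
    refine ⟨x * y, J.mul_mem hx hy, ?_⟩
    have h := hJ y hy x hx
    calc x * (a * x * a⁻¹) * (y * (a * y * a⁻¹))
        = x * ((a * x * a⁻¹) * y) * (a * y * a⁻¹) := by group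
      _ = x * (y * (a * x * a⁻¹)) * (a * y * a⁻¹) := by rw [h]
      _ = x * y * (a * (x * y) * a⁻¹) := by group
  inv_mem' := by
    rintro _ ⟨x, hx, rfl⟩
    refine ⟨x⁻¹, J.inv_mem hx, ?_⟩
    have h := hJ x⁻¹ (J.inv_mem hx) x⁻¹ (J.inv_mem hx)
    calc (x * (a * x * a⁻¹))⁻¹ = (a * x⁻¹ * a⁻¹) * x⁻¹ := by group
      _ = x⁻¹ * (a * x⁻¹ * a⁻¹) := h.symm

theorem mem_diag (a : X) (J : Subgroup X)
    (hJ : ∀ x ∈ J, ∀ y ∈ J, x * (a * y * a⁻¹) = (a * y * a⁻¹) * x) (k : X) :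
    k ∈ diag a J hJ ↔ ∃ x ∈ J, k = x * (a * x * a⁻¹) := Iff.rfl

/-- decomposition of an `a`-fixed element of `J ⊔ J^a` -/
theorem exists_decomp (a : X) (ha : a * a = 1) (J : Subgroup X)
    (hJ : ∀ x ∈ J, ∀ y ∈ J, x * (a * y * a⁻¹) = (a * y * a⁻¹) * x)
    {n : X} (hn : n ∈ J ⊔ J.map (MulAut.conj a).toMonoidHom) (hna : a * n = n * a) :
    ∃ x ∈ J, ∃ z ∈ J, (∃ c ∈ J, z = a * c * a⁻¹) ∧ n = x * (a * x * a⁻¹) * z := by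
  have hainv : a⁻¹ = a := inv_eq_of_mul_eq_one_right ha
  -- `J` normalizes `J^a`
  have hnorm : J ≤ Subgroup.normalizer ((J.map (MulAut.conj a).toMonoidHom : Subgroup X) : Set X) := by
    intro x hx
    rw [Subgroup.mem_normalizer_iff]
    intro w
    constructor
    · rintro ⟨y, hy, rfl⟩
      refine ⟨y, hy, ?_⟩
      have h := hJ x hx y hy
      show a * y * a⁻¹ = x * (a * y * a⁻¹) * x⁻¹
      rw [h]; group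
    · rintro ⟨y, hy, hyw⟩
      refine ⟨y, hy, ?_⟩
      have h := hJ x hx y hy
      have hyw' : a * y * a⁻¹ = x * w * x⁻¹ := hyw
      show a * y * a⁻¹ = w
      calc a * y * a⁻¹ = x⁻¹ * (x * (a * y * a⁻¹)) := by group
        _ = x⁻¹ * ((a * y * a⁻¹) * x) := by rw [h]
        _ = x⁻¹ * (x * w * x⁻¹ * x) := by rw [hyw']
        _ = w := by group
  have hn' : n ∈ ((J ⊔ J.map (MulAut.conj a).toMonoidHom : Subgroup X) : Set X) := hn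
  rw [Subgroup.coe_mul_of_left_le_normalizer_right J _ hnorm] at hn'
  obtain ⟨x, hx, y', hy', rfl⟩ := Set.mem_mul.mp hn'
  obtain ⟨y, hy, rfl⟩ := hy'
  have hx : x ∈ J := hx
  have hy : y ∈ J := hy
  have hconj : (MulAut.conj a).toMonoidHom y = a * y * a⁻¹ := rfl
  rw [hconj] at hna ⊢
  -- E1 : (a x a⁻¹) y = x (a y a⁻¹)
  have hE1 : (a * x * a⁻¹) * y = x * (a * y * a⁻¹) := by
    have h1 : a * (x * (a * y * a⁻¹)) * a⁻¹ = x * (a * y * a⁻¹) := by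
      rw [hna]; group
    have h2 : a * (x * (a * y * a⁻¹)) * a⁻¹ = (a * x * a⁻¹) * ((a * a) * y * (a * a)⁻¹) := by group
    rw [h2, ha] at h1
    simpa using h1
  have hcomm := hJ y hy x hx  -- y * (a x a⁻¹) = (a x a⁻¹) * y
  -- z = y x⁻¹ = a (x⁻¹ y) a⁻¹
  have hz : y * x⁻¹ = a * (x⁻¹ * y) * a⁻¹ := by
    have h3 : y * (a * x * a⁻¹) = x * (a * y * a⁻¹) := by rw [hcomm, hE1]
    -- x⁻¹ y = (a y a⁻¹)(a x a⁻¹)⁻¹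
    have h4 : x⁻¹ * y = a * (y * x⁻¹) * a⁻¹ := by
      calc x⁻¹ * y = x⁻¹ * (y * (a * x * a⁻¹)) * (a * x * a⁻¹)⁻¹ := by group
        _ = x⁻¹ * (x * (a * y * a⁻¹)) * (a * x * a⁻¹)⁻¹ := by rw [h3]
        _ = a * (y * x⁻¹) * a⁻¹ := by group
    calc y * x⁻¹ = (a * a) * (y * x⁻¹) * (a * a)⁻¹ := by rw [ha]; simp
      _ = a * (a * (y * x⁻¹) * a⁻¹) * a⁻¹ := by group
      _ = a * (x⁻¹ * y) * a⁻¹ := by rw [← h4]
  refine ⟨x, hx, y * x⁻¹, J.mul_mem hy (J.inv_mem hx), ⟨x⁻¹ * y, J.mul_mem (J.inv_mem hx) hy, hz⟩, ?_⟩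
  rw [hz]; group

/-- **K6a** -/
theorem le_diag {X : Type*} [Group X] (a : X) (ha : a * a = 1) (J K : Subgroup X)
    (hJ : ∀ x ∈ J, ∀ y ∈ J, x * (a * y * a⁻¹) = (a * y * a⁻¹) * x)
    (hKa : K ≤ Subgroup.centralizer ({a} : Set X))
    (hKJ : K ≤ J ⊔ J.map (MulAut.conj a).toMonoidHom) (hperf : ⁅K, K⁆ = K) :
    ∀ k ∈ K, ∃ x ∈ J, k = x * (a * x * a⁻¹) := by
  have hcomm_le : ⁅K, K⁆ ≤ diag a J hJ := by
    rw [Subgroup.commutator_le]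
    intro n₁ hn₁ n₂ hn₂
    have hna₁ : a * n₁ = n₁ * a := by
      have := Subgroup.mem_centralizer_iff.mp (hKa hn₁) a (Set.mem_singleton a)
      exact this
    have hna₂ : a * n₂ = n₂ * a := by
      have := Subgroup.mem_centralizer_iff.mp (hKa hn₂) a (Set.mem_singleton a)
      exact this
    obtain ⟨x₁, hx₁, z₁, hz₁J, ⟨c₁, hc₁, hz₁c⟩, rfl⟩ := exists_decomp a ha J hJ (hKJ hn₁) hna₁
    obtain ⟨x₂, hx₂, z₂, hz₂J, ⟨c₂, hc₂, hz₂c⟩, rfl⟩ := exists_decomp a ha J hJ (hKJ hn₂) hna₂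
    -- commutation facts
    have hzJ : ∀ z ∈ J, (∃ c ∈ J, z = a * c * a⁻¹) → ∀ w ∈ J,
        z * (w * (a * w * a⁻¹)) = (w * (a * w * a⁻¹)) * z := by
      rintro z hzJ ⟨c, hc, rfl⟩ w hw
      have h1 : w * (a * c * a⁻¹) = (a * c * a⁻¹) * w := hJ w hw c hc
      have h2 : (a * c * a⁻¹) * (a * w * a⁻¹) = (a * w * a⁻¹) * (a * c * a⁻¹) := hJ _ hzJ w hw
      calc a * c * a⁻¹ * (w * (a * w * a⁻¹)) = ((a * c * a⁻¹) * w) * (a * w * a⁻¹) := by group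
        _ = (w * (a * c * a⁻¹)) * (a * w * a⁻¹) := by rw [h1]
        _ = w * ((a * c * a⁻¹) * (a * w * a⁻¹)) := by group
        _ = w * ((a * w * a⁻¹) * (a * c * a⁻¹)) := by rw [h2]
        _ = w * (a * w * a⁻¹) * (a * c * a⁻¹) := by group
    set p₁ := x₁ * (a * x₁ * a⁻¹) with hp₁
    set p₂ := x₂ * (a * x₂ * a⁻¹) with hp₂
    have h_z1p2 : z₁ * p₂ = p₂ * z₁ := hzJ z₁ hz₁J ⟨c₁, hc₁, hz₁c⟩ x₂ hx₂
    have h_z2p1 : z₂ * p₁ = p₁ * z₂ := hzJ z₂ hz₂J ⟨c₂, hc₂, hz₂c⟩ x₁ hx₁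
    have h_z2z1 : z₂ * z₁ = z₁ * z₂ := by
      rw [hz₁c]; exact hJ z₂ hz₂J c₁ hc₁
    have h_z2z1inv : z₂ * z₁⁻¹ = z₁⁻¹ * z₂ := by
      calc z₂ * z₁⁻¹ = z₁⁻¹ * (z₁ * z₂) * z₁⁻¹ := by group
        _ = z₁⁻¹ * (z₂ * z₁) * z₁⁻¹ := by rw [h_z2z1]
        _ = z₁⁻¹ * z₂ := by group
    have h_z2p1inv : z₂ * p₁⁻¹ = p₁⁻¹ * z₂ := by
      calc z₂ * p₁⁻¹ = p₁⁻¹ * (p₁ * z₂) * p₁⁻¹ := by group
        _ = p₁⁻¹ * (z₂ * p₁) * p₁⁻¹ := by rw [h_z2p1]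
        _ = p₁⁻¹ * z₂ := by group
    have hcalc : ⁅p₁ * z₁, p₂ * z₂⁆ = p₁ * p₂ * p₁⁻¹ * p₂⁻¹ := by
      rw [commutatorElement_def]
      calc (p₁ * z₁) * (p₂ * z₂) * (p₁ * z₁)⁻¹ * (p₂ * z₂)⁻¹
          = p₁ * (z₁ * p₂) * (z₂ * z₁⁻¹) * p₁⁻¹ * z₂⁻¹ * p₂⁻¹ := by group
        _ = p₁ * (p₂ * z₁) * (z₁⁻¹ * z₂) * p₁⁻¹ * z₂⁻¹ * p₂⁻¹ := by rw [h_z1p2, h_z2z1inv]
        _ = p₁ * p₂ * (z₂ * p₁⁻¹) * z₂⁻¹ * p₂⁻¹ := by group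
        _ = p₁ * p₂ * (p₁⁻¹ * z₂) * z₂⁻¹ * p₂⁻¹ := by rw [h_z2p1inv]
        _ = p₁ * p₂ * p₁⁻¹ * p₂⁻¹ := by group
    rw [hcalc]
    have hp₁D : p₁ ∈ diag a J hJ := ⟨x₁, hx₁, rfl⟩
    have hp₂D : p₂ ∈ diag a J hJ := ⟨x₂, hx₂, rfl⟩
    exact (diag a J hJ).mul_mem ((diag a J hJ).mul_mem ((diag a J hJ).mul_mem hp₁D hp₂D)
      ((diag a J hJ).inv_mem hp₁D)) ((diag a J hJ).inv_mem hp₂D)
  intro k hk
  have hk' : k ∈ ⁅K, K⁆ := by rw [hperf]; exact hk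
  exact hcomm_le hk'

end Cfsg.Agent.Lib.Helper22.S1305K
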