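import Mathlib

/-!
# K-SQ pack (S4625, architect helper38): the unitary root-type matrices `M(y, a)` (helper22)

Over a field `F` of characteristic two with an involutive ring endomorphism `σ`, on the index type `Fin 2 ⊕ ι`,
with the IDENTITY Gram matrix: `e = (1, 1, 0)` is isotropic and
`M(y, a) = fromBlocks (1 + a • J) (row σ y) (col y) 1` (`J` the all-ones `2 × 2` matrix) is the Eichler
transformation `x ↦ x + h(x, e) w + (h(x, w) + a h(x, e)) e`, `w = (0, 0, y)`; it is unitary iff
`a + σ a = Σ y_i σ(y_i)`.  Pure matrix identities; no groups here.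
-/

set_option autoImplicit false
set_option linter.unusedSectionVars false

namespace Cfsg.Agent.Lib.Helper22.SQ

open Matrix

variable {F : Type*} [Field F] {ι : Type*} [Fintype ι] [DecidableEq ι]

/-- the all-ones `2 × 2` matrix -/
def J2 (F : Type*) [Field F] : Matrix (Fin 2) (Fin 2) F := Matrix.of fun _ _ => 1

def rowV (r : ι → F) : Matrix (Fin 2) ι F := Matrix.of fun _ j => r j

def colB (c : ι → F) : Matrix ι (Fin 2) F := Matrix.of fun i _ => c i

/-- the matrices `fromBlocks (1 + a J) (rows r) (columns c) 1` -/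
def Mg (r c : ι → F) (a : F) : Matrix (Fin 2 ⊕ ι) (Fin 2 ⊕ ι) F :=
  Matrix.fromBlocks (1 + a • J2 F) (rowV r) (colB c) 1

/-- unitary for the identity Gram matrix -/
def IsU {κ : Type*} [Fintype κ] [DecidableEq κ] (σ : F →+* F) (M : Matrix κ κ F) : Prop :=
  Mᵀ * M.map σ = 1

theorem J2_mul_J2 (h2 : ∀ x : F, x + x = 0) : J2 F * J2 F = 0 := by
  ext i j
  simp only [J2, Matrix.mul_apply, Matrix.of_apply, Fin.sum_univ_two, mul_one, Matrix.zero_apply]
  exact h2 1

theorem J2_mul_rowV (h2 : ∀ x : F, x + x = 0) (r : ι → F) : J2 F * rowV r = 0 := by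
  ext i j
  simp only [J2, rowV, Matrix.mul_apply, Matrix.of_apply, Fin.sum_univ_two, one_mul, Matrix.zero_apply]
  exact h2 _

theorem colB_mul_J2 (h2 : ∀ x : F, x + x = 0) (c : ι → F) : colB c * J2 F = 0 := by
  ext i j
  simp only [J2, colB, Matrix.mul_apply, Matrix.of_apply, Fin.sum_univ_two, mul_one, Matrix.zero_apply]
  exact h2 _

theorem colB_mul_rowV (h2 : ∀ x : F, x + x = 0) (r c : ι → F) : colB c * rowV r = 0 := by
  ext i j
  simp only [rowV, colB, Matrix.mul_apply, Matrix.of_apply, Fin.sum_univ_two, Matrix.zero_apply]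
  exact h2 _

theorem rowV_mul_colB (r c : ι → F) : rowV r * colB c = (r ⬝ᵥ c) • J2 F := by
  ext i j
  simp only [rowV, colB, J2, dotProduct, Matrix.mul_apply, Matrix.of_apply, Matrix.smul_apply, smul_eq_mul,
    mul_one]

theorem rowV_add (r r' : ι → F) : rowV (r + r') = rowV r + rowV r' := by
  ext i j
  simp [rowV]

theorem colB_add (c c' : ι → F) : colB (c + c') = colB c + colB c' := by
  ext i j
  simp [colB]

theorem Mg_mul (h2 : ∀ x : F, x + x = 0) (r c r' c' : ι → F) (a a' : F) :
    Mg r' c' a' * Mg r c a = Mg (r + r') (c + c') (a + a' + r' ⬝ᵥ c) := by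
  unfold Mg
  rw [Matrix.fromBlocks_multiply]
  congr 1
  · rw [rowV_mul_colB]
    simp only [add_mul, mul_add, one_mul, mul_one, Matrix.smul_mul, Matrix.mul_smul, J2_mul_J2 h2,
      smul_zero, add_zero, add_smul]
    abel
  · simp only [Matrix.add_mul, Matrix.one_mul, Matrix.smul_mul, J2_mul_rowV h2, smul_zero, add_zero,
      Matrix.mul_one, rowV_add]
  · simp only [Matrix.mul_add, Matrix.mul_one, Matrix.mul_smul, colB_mul_J2 h2, smul_zero, add_zero,
      Matrix.one_mul, colB_add]
    abel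
  · rw [colB_mul_rowV h2, zero_add, Matrix.mul_one]

theorem Mg_zero : Mg (0 : ι → F) 0 0 = 1 := by
  unfold Mg
  rw [zero_smul, add_zero, ← Matrix.fromBlocks_one]
  congr 1

theorem Mg_transpose (r c : ι → F) (a : F) : (Mg r c a)ᵀ = Mg c r a := by
  unfold Mg
  rw [Matrix.fromBlocks_transpose, Matrix.transpose_one]
  congr 1
  ext i j
  simp [J2, Matrix.one_apply, eq_comm]

theorem Mg_map (σ : F →+* F) (r c : ι → F) (a : F) :
    (Mg r c a).map σ = Mg (fun i => σ (r i)) (fun i => σ (c i)) (σ a) := by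
  unfold Mg
  rw [Matrix.fromBlocks_map]
  congr 1
  · ext i j
    simp [J2, Matrix.one_apply, apply_ite σ]
  · ext i j
    simp [Matrix.one_apply, apply_ite σ]

theorem Mg_inj {r c r' c' : ι → F} {a a' : F} (h : Mg r c a = Mg r' c' a') :
    r = r' ∧ c = c' ∧ a = a' := by
  unfold Mg at h
  rw [Matrix.fromBlocks_inj] at h
  obtain ⟨h1, h2, h3, -⟩ := h
  refine ⟨?_, ?_, ?_⟩
  · funext j
    have := congrFun (congrFun h2 0) j
    simpa [rowV] using this
  · funext i
    have := congrFun (congrFun h3 i) 0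
    simpa [colB] using this
  · have := congrFun (congrFun h1 0) 1
    simpa [J2, Matrix.one_apply] using this

/-- the block diagonal embedding -/
def Bd (g : Matrix ι ι F) : Matrix (Fin 2 ⊕ ι) (Fin 2 ⊕ ι) F := Matrix.fromBlocks 1 0 0 g

theorem Bd_mul (g g' : Matrix ι ι F) : Bd g * Bd g' = Bd (g * g') := by
  unfold Bd
  rw [Matrix.fromBlocks_multiply]
  simp

theorem Bd_one : Bd (1 : Matrix ι ι F) = 1 := by
  unfold Bd
  rw [Matrix.fromBlocks_one]

theorem Bd_inj {g g' : Matrix ι ι F} (h : Bd g = Bd g') : g = g' := by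
  unfold Bd at h
  rw [Matrix.fromBlocks_inj] at h
  exact h.2.2.2

theorem Bd_isU (σ : F →+* F) (g : Matrix ι ι F) (hg : IsU σ g) : IsU σ (Bd g) := by
  unfold IsU at hg ⊢
  unfold Bd
  rw [Matrix.fromBlocks_transpose, Matrix.fromBlocks_map, Matrix.fromBlocks_multiply]
  simp only [Matrix.transpose_one, Matrix.transpose_zero, Matrix.map_zero, map_zero, Matrix.mul_zero,
    Matrix.zero_mul, add_zero, zero_add, Matrix.one_mul]
  rw [hg, ← Matrix.fromBlocks_one]
  congr 1
  ext i j
  simp [Matrix.one_apply, apply_ite σ]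

end Cfsg.Agent.Lib.Helper22.SQ
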