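import Cfsg.Agent.Lib.Helper22.SQPSUa

/-!
# K-SQ pack (S4625): unitarity of `M(y, a)`, conjugation by the block diagonal embedding (helper22)
-/

set_option autoImplicit false
set_option linter.unusedSectionVars false

namespace Cfsg.Agent.Lib.Helper22.SQ

open Matrix

variable {F : Type*} [Field F] {ι : Type*} [Fintype ι] [DecidableEq ι]

/-- `N(y) = Σ σ(y_i) y_i` -/
def Nrm (σ : F →+* F) (y : ι → F) : F := (fun i => σ (y i)) ⬝ᵥ y

/-- the unitary matrices `M(y, a)` -/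
def Mq (σ : F →+* F) (y : ι → F) (a : F) : Matrix (Fin 2 ⊕ ι) (Fin 2 ⊕ ι) F :=
  Mg (fun i => σ (y i)) y a

theorem isU_conj {κ : Type*} [Fintype κ] [DecidableEq κ] (σ : F →+* F) (hσ : ∀ x, σ (σ x) = x)
    (g : Matrix κ κ F) (hg : IsU σ g) : (g.map σ)ᵀ * g = 1 := by
  unfold IsU at hg
  have h := congrArg (fun M : Matrix κ κ F => M.map σ) hg
  simp only [Matrix.map_mul] at h
  have h1 : (g.map σ).map σ = g := by
    ext i j
    simp [hσ]
  have h2 : (1 : Matrix κ κ F).map σ = 1 := by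
    ext i j
    simp [Matrix.one_apply, apply_ite σ]
  rw [h1, h2] at h
  rw [← Matrix.transpose_map]
  exact h

theorem Mq_isU (h2 : ∀ x : F, x + x = 0) (σ : F →+* F) (hσ : ∀ x, σ (σ x) = x) (y : ι → F) (a : F)
    (ha : a + σ a = Nrm σ y) : IsU σ (Mq σ y a) := by
  unfold IsU Mq
  rw [Mg_transpose, Mg_map, Mg_mul h2]
  have e1 : (fun i => σ (σ (y i))) + y = 0 := by
    funext i
    simp only [Pi.add_apply, Pi.zero_apply, hσ]
    exact h2 _
  have e2 : ((fun i => σ (y i)) + fun i => σ (y i)) = (0 : ι → F) := by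
    funext i
    exact h2 _
  have e3 : σ a + a + y ⬝ᵥ (fun i => σ (y i)) = 0 := by
    rw [dotProduct_comm, add_comm (σ a) a, ha]
    exact h2 _
  rw [e1, e2, e3, Mg_zero]

theorem Mq_mul (h2 : ∀ x : F, x + x = 0) (σ : F →+* F) (y y' : ι → F) (a a' : F) :
    Mq σ y' a' * Mq σ y a = Mq σ (y + y') (a + a' + (fun i => σ (y' i)) ⬝ᵥ y) := by
  unfold Mq
  rw [Mg_mul h2]
  congr 1
  funext i
  simp

theorem Mq_zero (σ : F →+* F) : Mq σ (0 : ι → F) 0 = 1 := by
  unfold Mq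
  have : (fun i => σ ((0 : ι → F) i)) = (0 : ι → F) := by
    funext i
    simp
  rw [this, Mg_zero]

theorem Mq_inj {σ : F →+* F} {y y' : ι → F} {a a' : F} (h : Mq σ y a = Mq σ y' a') : y = y' ∧ a = a' :=
  ⟨(Mg_inj h).2.1, (Mg_inj h).2.2⟩

theorem mul_colB (g : Matrix ι ι F) (y : ι → F) : g * colB y = colB (g *ᵥ y) := by
  ext i j
  simp [colB, Matrix.mul_apply, Matrix.mulVec, dotProduct]

theorem rowV_mul (r : ι → F) (g : Matrix ι ι F) : rowV r * g = rowV (r ᵥ* g) := by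
  ext i j
  simp [rowV, Matrix.mul_apply, Matrix.vecMul, dotProduct]

theorem Bd_mul_Mq (σ : F →+* F) (hσ : ∀ x, σ (σ x) = x) (g : Matrix ι ι F) (hg : IsU σ g)
    (y : ι → F) (a : F) : Bd g * Mq σ y a = Mq σ (g *ᵥ y) a * Bd g := by
  unfold Bd Mq Mg
  rw [Matrix.fromBlocks_multiply, Matrix.fromBlocks_multiply]
  simp only [Matrix.one_mul, Matrix.zero_mul, Matrix.mul_zero, add_zero, zero_add, Matrix.mul_one]
  congr 1
  · rw [rowV_mul]
    congr 1
    have h1 : (fun i => σ ((g *ᵥ y) i)) = (g.map σ) *ᵥ (fun i => σ (y i)) := by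
      funext i
      exact RingHom.map_mulVec σ g y i
    rw [h1, ← Matrix.vecMul_transpose, Matrix.vecMul_vecMul, isU_conj σ hσ g hg, Matrix.vecMul_one]

theorem Mq_eq_Bd {σ : F →+* F} {y : ι → F} {a : F} {g : Matrix ι ι F} (h : Mq σ y a = Bd g) :
    y = 0 ∧ a = 0 ∧ g = 1 := by
  unfold Mq Mg Bd at h
  rw [Matrix.fromBlocks_inj] at h
  obtain ⟨h1, -, h3, h4⟩ := h
  refine ⟨?_, ?_, h4.symm⟩
  · funext i
    have := congrFun (congrFun h3 i) 0
    simpa [colB] using this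
  · have := congrFun (congrFun h1 0) 1
    simpa [J2, Matrix.one_apply] using this

end Cfsg.Agent.Lib.Helper22.SQ
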