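import Cfsg.Agent.Lib.Helper22.SQPSUb

/-!
# K-SQ pack (S4625): the group `Q_e` of the matrices `M(y, a)` and the inductive step (helper22)
-/

set_option autoImplicit false
set_option linter.unusedSectionVars false
set_option linter.unusedVariables false

namespace Cfsg.Agent.Lib.Helper22.SQ

open Matrix

variable {F : Type*} [Field F] {ι : Type*} [Fintype ι] [DecidableEq ι]

theorem sigma_dot (σ : F →+* F) (hσ : ∀ x, σ (σ x) = x) (y y' : ι → F) :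
    σ ((fun i => σ (y' i)) ⬝ᵥ y) = (fun i => σ (y i)) ⬝ᵥ y' := by
  simp only [dotProduct, map_sum, map_mul, hσ]
  exact Finset.sum_congr rfl fun i _ => mul_comm _ _

theorem sigma_Nrm (σ : F →+* F) (hσ : ∀ x, σ (σ x) = x) (y : ι → F) : σ (Nrm σ y) = Nrm σ y :=
  sigma_dot σ hσ y y

theorem Nrm_add (σ : F →+* F) (y y' : ι → F) :
    Nrm σ (y + y') = Nrm σ y + Nrm σ y' + ((fun i => σ (y i)) ⬝ᵥ y' + (fun i => σ (y' i)) ⬝ᵥ y) := by
  simp only [Nrm, dotProduct, Pi.add_apply, map_add, add_mul, mul_add, Finset.sum_add_distrib]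
  ring

theorem Nrm_zero (σ : F →+* F) : Nrm σ (0 : ι → F) = 0 := by
  simp [Nrm]

theorem Nrm_mulVec (σ : F →+* F) (hσ : ∀ x, σ (σ x) = x) (g : Matrix ι ι F) (hg : IsU σ g) (y : ι → F) :
    Nrm σ (g *ᵥ y) = Nrm σ y := by
  unfold Nrm
  have h1 : (fun i => σ ((g *ᵥ y) i)) = (g.map σ) *ᵥ (fun i => σ (y i)) := by
    funext i
    exact RingHom.map_mulVec σ g y i
  rw [h1, ← Matrix.vecMul_transpose, ← Matrix.dotProduct_mulVec, Matrix.mulVec_mulVec, isU_conj σ hσ g hg,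
    Matrix.one_mulVec]

/-- the trace condition is stable under the multiplication law -/
theorem trace_mul (h2 : ∀ x : F, x + x = 0) (σ : F →+* F) (hσ : ∀ x, σ (σ x) = x) (y y' : ι → F) (a a' : F)
    (ha : a + σ a = Nrm σ y) (ha' : a' + σ a' = Nrm σ y') :
    (a + a' + (fun i => σ (y' i)) ⬝ᵥ y) + σ (a + a' + (fun i => σ (y' i)) ⬝ᵥ y) = Nrm σ (y + y') := by
  rw [map_add, map_add, sigma_dot σ hσ, Nrm_add, ← ha, ← ha']
  ring

theorem Mq_mul_self_inv (h2 : ∀ x : F, x + x = 0) (σ : F →+* F) (y : ι → F) (a : F) :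
    Mq σ y a * Mq σ y (a + Nrm σ y) = 1 := by
  rw [Mq_mul h2]
  have e1 : y + y = 0 := by
    funext i
    exact h2 _
  have e2 : a + Nrm σ y + a + (fun i => σ (y i)) ⬝ᵥ y = 0 := by
    have : (fun i => σ (y i)) ⬝ᵥ y = Nrm σ y := rfl
    rw [this]
    have h3 := h2 a
    have h4 := h2 (Nrm σ y)
    linear_combination h3 + h4
  rw [e1, e2, Mq_zero]

theorem Mq_inv_mul_self (h2 : ∀ x : F, x + x = 0) (σ : F →+* F) (y : ι → F) (a : F) :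
    Mq σ y (a + Nrm σ y) * Mq σ y a = 1 := by
  rw [Mq_mul h2]
  have e1 : y + y = 0 := by
    funext i
    exact h2 _
  have e2 : a + (a + Nrm σ y) + (fun i => σ (y i)) ⬝ᵥ y = 0 := by
    have : (fun i => σ (y i)) ⬝ᵥ y = Nrm σ y := rfl
    rw [this]
    have h3 := h2 a
    have h4 := h2 (Nrm σ y)
    linear_combination h3 + h4
  rw [e1, e2, Mq_zero]

/-- the unit `M(y, a)` -/
def mU (h2 : ∀ x : F, x + x = 0) (σ : F →+* F) (y : ι → F) (a : F) :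
    (Matrix (Fin 2 ⊕ ι) (Fin 2 ⊕ ι) F)ˣ :=
  ⟨Mq σ y a, Mq σ y (a + Nrm σ y), Mq_mul_self_inv h2 σ y a, Mq_inv_mul_self h2 σ y a⟩

theorem mU_val (h2 : ∀ x : F, x + x = 0) (σ : F →+* F) (y : ι → F) (a : F) :
    ((mU h2 σ y a : (Matrix (Fin 2 ⊕ ι) (Fin 2 ⊕ ι) F)ˣ) : Matrix (Fin 2 ⊕ ι) (Fin 2 ⊕ ι) F) = Mq σ y a := rfl

/-- the unitary group, as a subgroup of the units of the matrix ring -/
def UG {κ : Type*} [Fintype κ] [DecidableEq κ] (σ : F →+* F) : Subgroup (Matrix κ κ F)ˣ where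
  carrier := {g | IsU σ (g : Matrix κ κ F)}
  mul_mem' := by
    intro g h hg hh
    show IsU σ ((g * h : (Matrix κ κ F)ˣ) : Matrix κ κ F)
    unfold IsU at hg hh ⊢
    have hg' : ((g : Matrix κ κ F))ᵀ * ((g : Matrix κ κ F)).map σ = 1 := hg
    have hh' : ((h : Matrix κ κ F))ᵀ * ((h : Matrix κ κ F)).map σ = 1 := hh
    rw [Units.val_mul, Matrix.transpose_mul, Matrix.map_mul, Matrix.mul_assoc,
      ← Matrix.mul_assoc ((g : Matrix κ κ F))ᵀ, hg', Matrix.one_mul, hh']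
  one_mem' := by
    show IsU σ ((1 : (Matrix κ κ F)ˣ) : Matrix κ κ F)
    unfold IsU
    rw [Units.val_one, Matrix.transpose_one, Matrix.one_mul]
    ext i j
    simp [Matrix.one_apply, apply_ite σ]
  inv_mem' := by
    intro g hg
    show IsU σ ((g⁻¹ : (Matrix κ κ F)ˣ) : Matrix κ κ F)
    unfold IsU
    have hg' : ((g : Matrix κ κ F))ᵀ * ((g : Matrix κ κ F)).map σ = 1 := hg
    have h1 : ((g⁻¹ : (Matrix κ κ F)ˣ) : Matrix κ κ F)ᵀ * ((g : Matrix κ κ F))ᵀ = 1 := by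
      rw [← Matrix.transpose_mul, Units.mul_inv, Matrix.transpose_one]
    have h2 : ((g : Matrix κ κ F)).map σ * ((g⁻¹ : (Matrix κ κ F)ˣ) : Matrix κ κ F).map σ = 1 := by
      rw [← Matrix.map_mul, Units.mul_inv]
      ext i j
      simp [Matrix.one_apply, apply_ite σ]
    calc ((g⁻¹ : (Matrix κ κ F)ˣ) : Matrix κ κ F)ᵀ * ((g⁻¹ : (Matrix κ κ F)ˣ) : Matrix κ κ F).map σ
        = ((g⁻¹ : (Matrix κ κ F)ˣ) : Matrix κ κ F)ᵀ * (((g : Matrix κ κ F))ᵀ * ((g : Matrix κ κ F)).map σ) *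
            ((g⁻¹ : (Matrix κ κ F)ˣ) : Matrix κ κ F).map σ := by rw [hg', Matrix.mul_one]
      _ = (((g⁻¹ : (Matrix κ κ F)ˣ) : Matrix κ κ F)ᵀ * ((g : Matrix κ κ F))ᵀ) *
            (((g : Matrix κ κ F)).map σ * ((g⁻¹ : (Matrix κ κ F)ˣ) : Matrix κ κ F).map σ) := by
          simp only [Matrix.mul_assoc]
      _ = 1 := by rw [h1, h2, Matrix.one_mul]

theorem mem_UG {κ : Type*} [Fintype κ] [DecidableEq κ] (σ : F →+* F) (g : (Matrix κ κ F)ˣ) :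
    g ∈ UG σ ↔ IsU σ (g : Matrix κ κ F) := Iff.rfl

/-- the group `Q_e` -/
def Qe (h2 : ∀ x : F, x + x = 0) (σ : F →+* F) (hσ : ∀ x, σ (σ x) = x) :
    Subgroup (Matrix (Fin 2 ⊕ ι) (Fin 2 ⊕ ι) F)ˣ where
  carrier := {g | ∃ y a, a + σ a = Nrm σ y ∧ (g : Matrix (Fin 2 ⊕ ι) (Fin 2 ⊕ ι) F) = Mq σ y a}
  mul_mem' := by
    rintro g h ⟨y', a', ha', hg⟩ ⟨y, a, ha, hh⟩
    refine ⟨y + y', a + a' + (fun i => σ (y' i)) ⬝ᵥ y, trace_mul h2 σ hσ y y' a a' ha ha', ?_⟩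
    rw [Units.val_mul, hg, hh, Mq_mul h2]
  one_mem' := ⟨0, 0, by rw [map_zero, add_zero, Nrm_zero], by rw [Units.val_one, Mq_zero]⟩
  inv_mem' := by
    rintro g ⟨y, a, ha, hg⟩
    refine ⟨y, a + Nrm σ y, ?_, ?_⟩
    · rw [map_add, sigma_Nrm σ hσ, ← ha]
      have h3 := h2 (σ a)
      have h4 := h2 a
      linear_combination h3 + h4
    · apply Units.inv_eq_of_mul_eq_one_right
      rw [hg]
      exact Mq_mul_self_inv h2 σ y a

theorem mem_Qe (h2 : ∀ x : F, x + x = 0) (σ : F →+* F) (hσ : ∀ x, σ (σ x) = x)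
    (g : (Matrix (Fin 2 ⊕ ι) (Fin 2 ⊕ ι) F)ˣ) :
    g ∈ Qe (ι := ι) h2 σ hσ ↔
      ∃ y a, a + σ a = Nrm σ y ∧ (g : Matrix (Fin 2 ⊕ ι) (Fin 2 ⊕ ι) F) = Mq σ y a := Iff.rfl

theorem mU_mem_Qe (h2 : ∀ x : F, x + x = 0) (σ : F →+* F) (hσ : ∀ x, σ (σ x) = x) (y : ι → F) (a : F)
    (ha : a + σ a = Nrm σ y) : mU h2 σ y a ∈ Qe (ι := ι) h2 σ hσ :=
  ⟨y, a, ha, rfl⟩

theorem Qe_le_UG (h2 : ∀ x : F, x + x = 0) (σ : F →+* F) (hσ : ∀ x, σ (σ x) = x) :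
    Qe (ι := ι) h2 σ hσ ≤ UG σ := by
  rintro g ⟨y, a, ha, hg⟩
  rw [mem_UG, hg]
  exact Mq_isU h2 σ hσ y a ha

end Cfsg.Agent.Lib.Helper22.SQ
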