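import Cfsg.Agent.Lib.Helper22.SQPSUc

/-!
# K-SQ pack (S4625): properties of `Q_e`: 2-group, squares are commutators, order (helper22)
-/

set_option autoImplicit false
set_option linter.unusedSectionVars false
set_option linter.unusedVariables false

namespace Cfsg.Agent.Lib.Helper22.SQ

open Matrix
open scoped commutatorElement

variable {F : Type*} [Field F] {ι : Type*} [Fintype ι] [DecidableEq ι]

theorem Mq_sq (h2 : ∀ x : F, x + x = 0) (σ : F →+* F) (y : ι → F) (a : F) :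
    Mq σ y a * Mq σ y a = Mq σ (0 : ι → F) (Nrm σ y) := by
  rw [Mq_mul h2]
  have e1 : y + y = 0 := by
    funext i
    exact h2 _
  have e2 : a + a + (fun i => σ (y i)) ⬝ᵥ y = Nrm σ y := by
    rw [h2 a, zero_add]
    rfl
  rw [e1, e2]

theorem Mq_zero_mul_zero (h2 : ∀ x : F, x + x = 0) (σ : F →+* F) (c : F) :
    Mq σ (0 : ι → F) c * Mq σ (0 : ι → F) c = 1 := by
  rw [Mq_sq h2, Nrm_zero, Mq_zero]

theorem Qe_isPGroup (h2 : ∀ x : F, x + x = 0) (σ : F →+* F) (hσ : ∀ x, σ (σ x) = x) :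
    IsPGroup 2 (Qe (ι := ι) h2 σ hσ) := by
  rintro ⟨g, y, a, ha, hg⟩
  refine ⟨2, ?_⟩
  apply Subtype.ext
  apply Units.ext
  rw [Subgroup.coe_pow, Subgroup.coe_one, Units.val_pow_eq_pow_val, Units.val_one]
  show (g : Matrix (Fin 2 ⊕ ι) (Fin 2 ⊕ ι) F) ^ (2 ^ 2) = 1
  have h4 : (2 : ℕ) ^ 2 = 2 + 2 := by norm_num
  rw [h4, pow_add, pow_two, hg, Mq_sq h2, Mq_zero_mul_zero h2]

theorem dot_smul_left (σ : F →+* F) (c : F) (y : ι → F) :
    (fun i => σ ((c • y) i)) ⬝ᵥ y = σ c * Nrm σ y := by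
  simp only [Nrm, dotProduct, Pi.smul_apply, smul_eq_mul, map_mul, Finset.mul_sum]
  exact Finset.sum_congr rfl fun i _ => by ring

theorem dot_smul_right (σ : F →+* F) (c : F) (y : ι → F) :
    (fun i => σ (y i)) ⬝ᵥ (c • y) = c * Nrm σ y := by
  simp only [Nrm, dotProduct, Pi.smul_apply, smul_eq_mul, Finset.mul_sum]
  exact Finset.sum_congr rfl fun i _ => by ring

/-- every square in `Q_e` is a commutator of two elements of `Q_e` -/
theorem Qe_sq_mem_commutator (h2 : ∀ x : F, x + x = 0) (σ : F →+* F) (hσ : ∀ x, σ (σ x) = x)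
    (c0 : F) (hc0 : c0 + σ c0 = 1) :
    ∀ x ∈ Qe (ι := ι) h2 σ hσ, x ^ 2 ∈ ⁅Qe (ι := ι) h2 σ hσ, Qe (ι := ι) h2 σ hσ⁆ := by
  rintro x ⟨y, a, ha, hx⟩
  -- the partner
  set y' : ι → F := c0 • y with hy'
  set a' : F := c0 * Nrm σ y' with ha'
  have htr : a' + σ a' = Nrm σ y' := by
    rw [ha', map_mul, sigma_Nrm σ hσ, ← add_mul, hc0, one_mul]
  have hx'mem : mU h2 σ y' a' ∈ Qe (ι := ι) h2 σ hσ := mU_mem_Qe h2 σ hσ y' a' htr
  have hxmem : x ∈ Qe (ι := ι) h2 σ hσ := ⟨y, a, ha, hx⟩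
  have key : mU h2 σ y' a' * x = x ^ 2 * (x * mU h2 σ y' a') := by
    apply Units.ext
    rw [Units.val_mul, Units.val_mul, Units.val_mul, Units.val_pow_eq_pow_val, pow_two, mU_val, hx,
      Mq_sq h2, Mq_mul h2, Mq_mul h2, Mq_mul h2]
    have e1 : y + y' = y' + y + 0 := by
      rw [add_zero, add_comm]
    have e0 : (fun i => σ ((0 : ι → F) i)) ⬝ᵥ (y' + y) = 0 := by
      simp [dotProduct]
    have e2 : a + a' + (fun i => σ (y' i)) ⬝ᵥ y =
        a' + a + (fun i => σ (y i)) ⬝ᵥ y' + Nrm σ y + (fun i => σ ((0 : ι → F) i)) ⬝ᵥ (y' + y) := by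
      rw [e0, hy', dot_smul_left, dot_smul_right]
      have h3 := h2 (Nrm σ y)
      have h4 := h2 (c0 * Nrm σ y)
      linear_combination (Nrm σ y) * hc0 - h4
    rw [e1, e2]
  have hcomm : x ^ 2 = ⁅mU h2 σ y' a', x⁆ := by
    rw [commutatorElement_def, key]
    group
  rw [hcomm]
  exact Subgroup.commutator_mem_commutator hx'mem hxmem

/-- the order of `Q_e` is at least `|F|^|ι| * |ker Tr|` -/
theorem card_Qe_ge [Fintype F] (h2 : ∀ x : F, x + x = 0) (σ : F →+* F) (hσ : ∀ x, σ (σ x) = x)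
    (c0 : F) (hc0 : c0 + σ c0 = 1) :
    Nat.card F ^ Fintype.card ι * Nat.card {k : F // k + σ k = 0} ≤ Nat.card (Qe (ι := ι) h2 σ hσ) := by
  classical
  have hcard : Nat.card ((ι → F) × {k : F // k + σ k = 0}) =
      Nat.card F ^ Fintype.card ι * Nat.card {k : F // k + σ k = 0} := by
    rw [Nat.card_prod, Nat.card_eq_fintype_card (α := ι → F), Fintype.card_fun,
      ← Nat.card_eq_fintype_card (α := F)]
  rw [← hcard]
  have htr : ∀ (y : ι → F) (k : {k : F // k + σ k = 0}),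
      (c0 * Nrm σ y + k.1) + σ (c0 * Nrm σ y + k.1) = Nrm σ y := by
    intro y k
    rw [map_add, map_mul, sigma_Nrm σ hσ]
    have hk := k.2
    linear_combination (Nrm σ y) * hc0 + hk
  apply Nat.card_le_card_of_injective
    (fun p : (ι → F) × {k : F // k + σ k = 0} =>
      (⟨mU h2 σ p.1 (c0 * Nrm σ p.1 + p.2.1), mU_mem_Qe h2 σ hσ _ _ (htr p.1 p.2)⟩ : Qe (ι := ι) h2 σ hσ))
  rintro ⟨y, k⟩ ⟨y', k'⟩ h
  have h1 : Mq σ y (c0 * Nrm σ y + k.1) = Mq σ y' (c0 * Nrm σ y' + k'.1) := by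
    have := congrArg (fun g : Qe (ι := ι) h2 σ hσ =>
      ((g : (Matrix (Fin 2 ⊕ ι) (Fin 2 ⊕ ι) F)ˣ) : Matrix (Fin 2 ⊕ ι) (Fin 2 ⊕ ι) F)) h
    exact this
  obtain ⟨hy, hak⟩ := Mq_inj h1
  subst hy
  have hk : k.1 = k'.1 := add_left_cancel hak
  have : k = k' := Subtype.ext hk
  rw [this]

end Cfsg.Agent.Lib.Helper22.SQ
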