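import Cfsg.Agent.Lib.Helper22.SQPSUd
import Cfsg.Agent.Lib.Helper38.SQ.Defs

/-!
# K-SQ pack (S4625): the inductive step `n → n + 2` for the unitary groups in characteristic two (helper22)
-/

set_option autoImplicit false
set_option linter.unusedSectionVars false
set_option linter.unusedVariables false

namespace Cfsg.Agent.Lib.Helper22.SQ

open Matrix Cfsg.Agent.Lib.Helper38.SQ

variable {F : Type*} [Field F] {ι : Type*} [Fintype ι] [DecidableEq ι]

/-- the block diagonal embedding as a monoid hom -/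
def bdMon : Matrix ι ι F →* Matrix (Fin 2 ⊕ ι) (Fin 2 ⊕ ι) F where
  toFun := Bd
  map_one' := Bd_one
  map_mul' := fun g g' => (Bd_mul g g').symm

/-- the block diagonal embedding on units -/
def bdHom : (Matrix ι ι F)ˣ →* (Matrix (Fin 2 ⊕ ι) (Fin 2 ⊕ ι) F)ˣ := Units.map bdMon

theorem bdHom_val (g : (Matrix ι ι F)ˣ) :
    ((bdHom g : (Matrix (Fin 2 ⊕ ι) (Fin 2 ⊕ ι) F)ˣ) : Matrix (Fin 2 ⊕ ι) (Fin 2 ⊕ ι) F) =
      Bd (g : Matrix ι ι F) := rfl

theorem bdHom_injective : Function.Injective (bdHom (F := F) (ι := ι)) := by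
  intro g g' h
  apply Units.ext
  apply Bd_inj
  rw [← bdHom_val, ← bdHom_val, h]

/-- a unitary 2-subgroup of order at least `c` in which squares are products of commutators -/
def UnipU (σ : F →+* F) (κ : Type*) [Fintype κ] [DecidableEq κ] (c : ℕ) : Prop :=
  ∃ U : Subgroup (Matrix κ κ F)ˣ, U ≤ UG σ ∧ IsPGroup 2 U ∧ c ≤ Nat.card U ∧ ∀ x ∈ U, x ^ 2 ∈ ⁅U, U⁆

theorem UnipU.mono {σ : F →+* F} {κ : Type*} [Fintype κ] [DecidableEq κ] {c c' : ℕ} (h : UnipU σ κ c)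
    (hc : c' ≤ c) : UnipU σ κ c' := by
  obtain ⟨U, h1, h2, h3, h4⟩ := h
  exact ⟨U, h1, h2, le_trans hc h3, h4⟩

theorem UnipU_base (σ : F →+* F) (κ : Type*) [Fintype κ] [DecidableEq κ] : UnipU σ κ 1 := by
  refine ⟨⊥, bot_le, IsPGroup.of_bot, ?_, ?_⟩
  · rw [Subgroup.card_bot]
  · intro x hx
    rw [Subgroup.mem_bot] at hx
    rw [hx, one_pow]
    exact Subgroup.one_mem _

theorem card_mul_le_card_sup {G : Type*} [Group G] [Finite G] (A B : Subgroup G) (h : A ⊓ B = ⊥) :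
    Nat.card A * Nat.card B ≤ Nat.card (A ⊔ B : Subgroup G) := by
  rw [← Nat.card_prod]
  apply Nat.card_le_card_of_injective
    (fun p : A × B => (⟨(p.1 : G) * (p.2 : G),
      mul_mem ((le_sup_left : A ≤ A ⊔ B) p.1.2) ((le_sup_right : B ≤ A ⊔ B) p.2.2)⟩ : (A ⊔ B : Subgroup G)))
  rintro ⟨a, b⟩ ⟨a', b'⟩ hab
  have h1 : (a : G) * b = a' * b' := congrArg Subtype.val hab
  have h3 : (a' : G)⁻¹ * a = b' * (b : G)⁻¹ := by
    rw [inv_mul_eq_iff_eq_mul, ← mul_assoc, ← h1, mul_inv_cancel_right]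
  have hmem : (a' : G)⁻¹ * a ∈ A ⊓ B :=
    ⟨A.mul_mem (A.inv_mem a'.2) a.2, by rw [h3]; exact B.mul_mem b'.2 (B.inv_mem b.2)⟩
  rw [h, Subgroup.mem_bot] at hmem
  have ha : (a : G) = a' := by
    rw [inv_mul_eq_one] at hmem
    exact hmem.symm
  have hb : (b : G) = b' := by
    rw [ha] at h1
    exact mul_left_cancel h1
  exact Prod.ext (Subtype.ext ha) (Subtype.ext hb)

/-- THE STEP -/
theorem UnipU_step [Fintype F] (h2 : ∀ x : F, x + x = 0) (σ : F →+* F) (hσ : ∀ x, σ (σ x) = x)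
    (c0 : F) (hc0 : c0 + σ c0 = 1) (c : ℕ) (h : UnipU σ ι c) :
    UnipU σ (Fin 2 ⊕ ι) (Nat.card F ^ Fintype.card ι * Nat.card {k : F // k + σ k = 0} * c) := by
  obtain ⟨U', hU'U, hU'p, hU'c, hU'sq⟩ := h
  have hVU : U'.map bdHom ≤ UG σ := by
    rintro _ ⟨g, hg, rfl⟩
    rw [mem_UG, bdHom_val]
    exact Bd_isU σ _ (hU'U hg)
  have hVp : IsPGroup 2 (U'.map bdHom) := hU'p.map bdHom
  have hVc : Nat.card (U'.map bdHom) = Nat.card U' :=
    (Nat.card_congr (U'.equivMapOfInjective bdHom bdHom_injective).toEquiv).symm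
  have hconj : ∀ n ∈ U'.map bdHom, ∀ x ∈ Qe (ι := ι) h2 σ hσ, n * x * n⁻¹ ∈ Qe (ι := ι) h2 σ hσ := by
    rintro _ ⟨g, hg, rfl⟩ x ⟨y, a, ha, hx⟩
    have hgU : IsU σ (g : Matrix ι ι F) := hU'U hg
    have hcm : bdHom g * x = mU h2 σ ((g : Matrix ι ι F) *ᵥ y) a * bdHom g := by
      apply Units.ext
      rw [Units.val_mul, Units.val_mul, bdHom_val, hx, mU_val]
      exact Bd_mul_Mq σ hσ _ hgU y a
    rw [hcm, mul_inv_cancel_right]
    exact mU_mem_Qe h2 σ hσ _ _ (by rw [Nrm_mulVec σ hσ _ hgU]; exact ha)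
  have hVN : U'.map bdHom ≤ Subgroup.normalizer (Qe (ι := ι) h2 σ hσ : Set _) := by
    intro n hn
    rw [Subgroup.mem_normalizer_iff]
    intro x
    constructor
    · exact hconj n hn x
    · intro hx
      have h3 := hconj n⁻¹ ((U'.map bdHom).inv_mem hn) _ hx
      have h4 : n⁻¹ * (n * x * n⁻¹) * n⁻¹⁻¹ = x := by group
      rw [h4] at h3
      exact h3
  have hdisj : Qe (ι := ι) h2 σ hσ ⊓ U'.map bdHom = ⊥ := by
    rw [eq_bot_iff]
    rintro x ⟨⟨y, a, ha, hx⟩, ⟨g, hg, rfl⟩⟩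
    rw [bdHom_val] at hx
    obtain ⟨-, -, hg1⟩ := Mq_eq_Bd hx.symm
    rw [Subgroup.mem_bot]
    apply Units.ext
    rw [bdHom_val, hg1, Bd_one, Units.val_one]
  refine ⟨Qe (ι := ι) h2 σ hσ ⊔ U'.map bdHom, sup_le (Qe_le_UG h2 σ hσ) hVU,
    IsPGroup.to_sup_of_normal_left' (Qe_isPGroup h2 σ hσ) hVp hVN, ?_, ?_⟩
  · calc Nat.card F ^ Fintype.card ι * Nat.card {k : F // k + σ k = 0} * c
        ≤ Nat.card (Qe (ι := ι) h2 σ hσ) * Nat.card (U'.map bdHom) := by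
          rw [hVc]
          exact Nat.mul_le_mul (card_Qe_ge h2 σ hσ c0 hc0) hU'c
      _ ≤ _ := card_mul_le_card_sup _ _ hdisj
  · apply sq_mem_commutator_of_closure _
      ((Qe (ι := ι) h2 σ hσ : Set _) ∪ (U'.map bdHom : Set _))
    · rw [Subgroup.closure_union, Subgroup.closure_eq, Subgroup.closure_eq]
    · rintro s (hs | hs)
      · exact Subgroup.commutator_mono le_sup_left le_sup_left
          (Qe_sq_mem_commutator h2 σ hσ c0 hc0 s hs)
      · obtain ⟨u, hu, rfl⟩ := hs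
        have h5 : bdHom u ^ 2 ∈ ⁅U'.map bdHom, U'.map bdHom⁆ := by
          rw [← map_pow, ← Subgroup.map_commutator]
          exact Subgroup.mem_map_of_mem _ (hU'sq u hu)
        exact Subgroup.commutator_mono le_sup_right le_sup_right h5

end Cfsg.Agent.Lib.Helper22.SQ
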