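import Cfsg.Agent.Lib.Helper22.SQPSUe

/-!
# K-SQ pack (S4625): reindexing, the trace facts, and the induction over `Fin n` (helper22)
-/

set_option autoImplicit false
set_option linter.unusedSectionVars false
set_option linter.unusedVariables false

namespace Cfsg.Agent.Lib.Helper22.SQ

open Matrix Cfsg.Agent.Lib.Helper38.SQ

variable {F : Type*} [Field F]

theorem UnipU_reindex (σ : F →+* F) {κ κ' : Type*} [Fintype κ] [DecidableEq κ] [Fintype κ'] [DecidableEq κ']
    (e : κ ≃ κ') (c : ℕ) (h : UnipU σ κ c) : UnipU σ κ' c := by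
  obtain ⟨U, hU, hp, hc, hsq⟩ := h
  let E : (Matrix κ κ F)ˣ ≃* (Matrix κ' κ' F)ˣ := Units.mapEquiv (Matrix.reindexRingEquiv F e).toMulEquiv
  have hE : ∀ g : (Matrix κ κ F)ˣ, ((E g : (Matrix κ' κ' F)ˣ) : Matrix κ' κ' F) =
      Matrix.reindex e e (g : Matrix κ κ F) := fun g => rfl
  refine ⟨U.map E.toMonoidHom, ?_, hp.map _, ?_, ?_⟩
  · rintro _ ⟨g, hg, rfl⟩
    have hg' : IsU σ (g : Matrix κ κ F) := hU hg
    rw [mem_UG]
    show IsU σ ((E g : (Matrix κ' κ' F)ˣ) : Matrix κ' κ' F)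
    rw [hE]
    unfold IsU at hg' ⊢
    rw [Matrix.reindex_apply, Matrix.transpose_submatrix, ← Matrix.submatrix_map, Matrix.submatrix_mul_equiv,
      hg', Matrix.submatrix_one_equiv]
  · rw [← Nat.card_congr (U.equivMapOfInjective E.toMonoidHom E.injective).toEquiv]
    exact hc
  · rintro _ ⟨g, hg, rfl⟩
    rw [← map_pow, ← Subgroup.map_commutator]
    exact Subgroup.mem_map_of_mem _ (hsq g hg)

section field

variable [Fintype F]

/-- an element of trace one -/
theorem exists_trace_one (h2 : ∀ x : F, x + x = 0) (σ : F →+* F) (hσ : ∀ x, σ (σ x) = x)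
    (hne : ∃ b, σ b ≠ b) : ∃ c0 : F, c0 + σ c0 = 1 := by
  obtain ⟨b, hb⟩ := hne
  have ht : b + σ b ≠ 0 := by
    intro h
    apply hb
    have h3 := h2 b
    have : σ b = b := by linear_combination h - h3
    exact this
  have hσt : σ (b + σ b) = b + σ b := by
    rw [map_add, hσ, add_comm]
  refine ⟨b * (b + σ b)⁻¹, ?_⟩
  rw [map_mul, map_inv₀, hσt, ← add_mul, mul_inv_cancel₀ ht]

/-- the kernel of the trace has at least `q` elements -/
theorem card_ker_trace_ge (h2 : ∀ x : F, x + x = 0) (σ : F →+* F) (hσ : ∀ x, σ (σ x) = x) (qq : ℕ)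
    (hF : Nat.card F = qq ^ 2) : qq ≤ Nat.card {k : F // k + σ k = 0} := by
  let T : F →+ F := AddMonoidHom.id F + (σ : F →+* F).toAddMonoidHom
  have hT : ∀ a, T a = a + σ a := fun a => rfl
  have hker : ∀ k : F, k ∈ T.ker ↔ k + σ k = 0 := by
    intro k
    rw [AddMonoidHom.mem_ker, hT]
  have hrange : T.range ≤ T.ker := by
    rintro _ ⟨a, rfl⟩
    rw [hker, hT, map_add, hσ]
    have h3 := h2 a
    have h4 := h2 (σ a)
    linear_combination h3 + h4
  have hcard : Nat.card F = Nat.card T.ker * Nat.card T.range := by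
    rw [← Nat.card_congr (QuotientAddGroup.quotientKerEquivRange T).toEquiv, mul_comm]
    exact AddSubgroup.card_eq_card_quotient_mul_card_addSubgroup T.ker
  have hle : Nat.card T.range ≤ Nat.card T.ker := AddSubgroup.card_le_of_le hrange
  have hK : Nat.card {k : F // k + σ k = 0} = Nat.card T.ker :=
    Nat.card_congr (Equiv.subtypeEquivRight fun k => (hker k).symm)
  rw [hK]
  by_contra hlt
  push Not at hlt
  have h5 : Nat.card T.ker * Nat.card T.range < qq * qq := by
    calc Nat.card T.ker * Nat.card T.range ≤ Nat.card T.ker * Nat.card T.ker := Nat.mul_le_mul_left _ hle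
      _ < qq * qq := Nat.mul_lt_mul_of_lt_of_lt hlt hlt
  rw [← hcard, hF, pow_two] at h5
  exact lt_irrefl _ h5

end field

theorem tri_succ_succ (n : ℕ) : (n + 2) * (n + 2 - 1) / 2 = n * (n - 1) / 2 + (2 * n + 1) := by
  have h1 : (n + 2) * (n + 2 - 1) = n * (n - 1) + 2 * (2 * n + 1) := by
    rcases n with _ | m
    · norm_num
    · have : m + 1 + 2 - 1 = m + 2 := by omega
      have h' : m + 1 - 1 = m := by omega
      rw [this, h']
      ring
  rw [h1, Nat.add_mul_div_left _ _ (by norm_num : 0 < 2)]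

/-- THE INDUCTION -/
theorem UnipU_fin [Fintype F] (h2 : ∀ x : F, x + x = 0) (σ : F →+* F) (hσ : ∀ x, σ (σ x) = x)
    (c0 : F) (hc0 : c0 + σ c0 = 1) (qq : ℕ) (hF : Nat.card F = qq ^ 2)
    (hK : qq ≤ Nat.card {k : F // k + σ k = 0}) :
    ∀ n : ℕ, UnipU σ (Fin n) (qq ^ (n * (n - 1) / 2)) := by
  intro n
  induction n using Nat.twoStepInduction with
  | zero =>
    have : qq ^ (0 * (0 - 1) / 2) = 1 := by norm_num
    rw [this]
    exact UnipU_base σ _
  | one =>
    have : qq ^ (1 * (1 - 1) / 2) = 1 := by norm_num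
    rw [this]
    exact UnipU_base σ _
  | more n ih _ =>
    have hstep := UnipU_step h2 σ hσ c0 hc0 _ ih
    rw [Fintype.card_fin] at hstep
    have e : Fin 2 ⊕ Fin n ≃ Fin (n + 2) := finSumFinEquiv.trans (finCongr (by omega))
    have hre := UnipU_reindex σ e _ hstep
    apply hre.mono
    rw [tri_succ_succ, hF]
    calc qq ^ (n * (n - 1) / 2 + (2 * n + 1)) = (qq ^ 2) ^ n * qq * qq ^ (n * (n - 1) / 2) := by ring
      _ ≤ (qq ^ 2) ^ n * Nat.card {k : F // k + σ k = 0} * qq ^ (n * (n - 1) / 2) :=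
        Nat.mul_le_mul_right _ (Nat.mul_le_mul_left _ hK)

end Cfsg.Agent.Lib.Helper22.SQ
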