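import Cfsg.Agent.Lib.Helper22.SQPSUf
import Cfsg.Agent.Lib.Helper84.SQPSUArith
import Cfsg.Agent.Lib.Helper84.SQPSUb

/-!
K-SQ pack (S4625, architect helper38), PSU leaves 462503 / 462504 (helper22, parallel hand), part g:
the uniform statement `SylSq (PSU n F q)` for every `n ≥ 1`, `q` even, from the inductive unipotent subgroup
`UnipU_fin` (identity Gram matrix, `n → n + 2`), helper84's transport `exists_injective_to_SU` and helper84's
arithmetic `sylSq_psu_of_unip2`; then the two leaves with their exact signatures.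
-/

set_option autoImplicit false
set_option linter.unusedVariables false

namespace Cfsg.Agent.Lib.Helper22.SQ

open Matrix Cfsg Cfsg.Agent.Lib.Helper38.SQ

/-- a 2-subgroup `U` of `X` with squares in `⁅U, U⁆`, seen as a group of its own -/
theorem unip2_subgroup {X : Type*} [Group X] (U : Subgroup X) (hp : IsPGroup 2 U) (c : ℕ)
    (hc : c ≤ Nat.card U) (hsq : ∀ x ∈ U, x ^ 2 ∈ ⁅U, U⁆) : Unip2 U c := by
  refine ⟨⊤, ?_, ?_, ?_⟩
  · exact hp.of_equiv Subgroup.topEquiv.symm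
  · rw [Subgroup.card_top]; exact hc
  · intro x _
    have h1 := hsq x.1 x.2
    rw [← Subgroup.map_subtype_commutator] at h1
    obtain ⟨t, ht, hts⟩ := h1
    have : t = x ^ 2 := Subtype.ext (by simpa using hts)
    rw [← this]
    exact ht

/-- **uniform statement**: `SylSq (PSU n F q)` for all `n ≥ 1`, `q` even. -/
theorem sylSq_psu (F : Type) [Field F] [Fintype F] [CharP F 2] (n q : ℕ)
    (hF : Fintype.card F = q ^ 2) (hn : 1 ≤ n) : SylSq (Cfsg.PSU n F q) := by
  obtain ⟨φ, hφ, hφφ, θ₀, hθ₀⟩ := Cfsg.Agent.Lib.Helper40.GUConj.exists_frob hF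
  have h2 : ∀ x : F, x + x = 0 := CharTwo.add_self_eq_zero
  obtain ⟨c0, hc0⟩ := exists_trace_one h2 φ hφφ ⟨θ₀, hθ₀⟩
  have hFn : Nat.card F = q ^ 2 := by rw [Nat.card_eq_fintype_card, hF]
  have hK := card_ker_trace_ge h2 φ hφφ q hFn
  obtain ⟨U, hUle, hUp, hUc, hUsq⟩ := UnipU_fin h2 φ hφφ c0 hc0 q hFn hK n
  have hJ : ((1 : Matrix (Fin n) (Fin n) F).map φ).transpose = 1 := by
    rw [Matrix.map_one _ (map_zero φ) (map_one φ), Matrix.transpose_one]
  have hJdet : (1 : Matrix (Fin n) (Fin n) F).det ≠ 0 := by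
    rw [Matrix.det_one]; exact one_ne_zero
  have hPJ : ∀ g ∈ U, ((g : Matrix (Fin n) (Fin n) F).map φ).transpose * 1 *
      (g : Matrix (Fin n) (Fin n) F) = 1 := by
    intro g hg
    have h1 : IsU φ (g : Matrix (Fin n) (Fin n) F) := (mem_UG φ g).mp (hUle hg)
    have h3 := congrArg Matrix.transpose h1
    rw [Matrix.transpose_mul, Matrix.transpose_transpose, Matrix.transpose_one] at h3
    rw [Matrix.mul_one]
    exact h3
  obtain ⟨f, hf⟩ := Cfsg.Agent.Lib.Helper84.SQPSU.exists_injective_to_SU hF (ι := Fin n)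
    (Fintype.card_fin n) φ hφ (1 : Matrix (Fin n) (Fin n) F) hJ hJdet U hUp hPJ
  exact Cfsg.Agent.Lib.Helper84.SQ.sylSq_psu_of_unip2 F n q hF hn
    (Unip2.of_injective _ f hf (unip2_subgroup U hUp _ hUc hUsq))

/-- **462503 K-SQ-PSUeven** (exact signature of the spec). -/
theorem sylSq_psu_even (F : Type) [Field F] [Fintype F] [CharP F 2] (k q : ℕ)
    (hF : Fintype.card F = q ^ 2) (hk : 2 ≤ k) :
    SylSq (Cfsg.PSU (2 * k) F q) :=
  sylSq_psu F (2 * k) q hF (by omega)

/-- **462504 K-SQ-PSUodd** (exact signature of the spec). -/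
theorem sylSq_psu_odd (F : Type) [Field F] [Fintype F] [CharP F 2] (k q : ℕ)
    (hF : Fintype.card F = q ^ 2) (hk : 1 ≤ k) (hkq : ¬ (k = 1 ∧ q = 2)) :
    SylSq (Cfsg.PSU (2 * k + 1) F q) :=
  sylSq_psu F (2 * k + 1) q hF (by omega)

end Cfsg.Agent.Lib.Helper22.SQ
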