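import Mathlib
import Cfsg.Prelude.Def_GeometricClasses
import Cfsg.Agent.Lib.Helper99.FieldSub

/-!
# K-SU3-G3 (keystone 577817, architect helper87)

An element of the normaliser of a field subalgebra `K` conjugates an element `x ∈ K` of order 7 to a power of `x`
(`K` is a commutative domain, `x` a primitive 7th root of unity in it).
-/

set_option autoImplicit false
set_option linter.unusedSectionVars false

namespace Cfsg.Agent.Lib.Helper22.SU3K

open Cfsg Cfsg.Geo Matrix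

variable {F : Type*} [Field F] [Fintype F]

local notation "M3" => Matrix (Fin 3) (Fin 3) F
local notation "G3" => GL (Fin 3) F

/-- general version: any size `k + 1`, any prime order `p`, any field. -/
theorem conj_eq_pow_of_mem_normalizer_gen {F : Type*} [Field F] {m r : ℕ} [NeZero m]
    (K : Subalgebra F (Matrix (Fin m) (Fin m) F)) (hK : IsFieldSubalgebra r K) (p : ℕ) (hp : p.Prime)
    (x n : GL (Fin m) F) (hx : (x : Matrix (Fin m) (Fin m) F) ∈ K) (hxp : x ^ p = 1) (hx1 : x ≠ 1)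
    (hn : n ∈ subalgebraNormalizer K) : ∃ i : ℕ, n * x * n⁻¹ = x ^ i := by
  let _ : Field ↥K := (Cfsg.Agent.Lib.Helper99.FieldSub.isField K hK).toField
  have hy : (n : Matrix (Fin m) (Fin m) F) * (x : Matrix (Fin m) (Fin m) F) *
      ((n⁻¹ : GL (Fin m) F) : Matrix (Fin m) (Fin m) F) ∈ K := (hn _).mp hx
  obtain ⟨xK, hxK⟩ : ∃ xK : ↥K, (xK : Matrix (Fin m) (Fin m) F) = x := ⟨⟨_, hx⟩, rfl⟩
  obtain ⟨yK, hyK⟩ : ∃ yK : ↥K, (yK : Matrix (Fin m) (Fin m) F) =
      (n : Matrix (Fin m) (Fin m) F) * (x : Matrix (Fin m) (Fin m) F) *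
        ((n⁻¹ : GL (Fin m) F) : Matrix (Fin m) (Fin m) F) := ⟨⟨_, hy⟩, rfl⟩
  have hxKp : xK ^ p = 1 := by
    apply Subtype.ext
    rw [SubmonoidClass.coe_pow, hxK, ← Units.val_pow_eq_pow_val, hxp]
    rfl
  have hxK1 : xK ≠ 1 := by
    intro h
    apply hx1
    apply Units.ext
    rw [← hxK, h]
    rfl
  have hyKp : yK ^ p = 1 := by
    apply Subtype.ext
    rw [SubmonoidClass.coe_pow, hyK]
    have h1 : (n : Matrix (Fin m) (Fin m) F) * (x : Matrix (Fin m) (Fin m) F) *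
        ((n⁻¹ : GL (Fin m) F) : Matrix (Fin m) (Fin m) F) =
          ((n * x * n⁻¹ : GL (Fin m) F) : Matrix (Fin m) (Fin m) F) := by
      rw [Units.val_mul, Units.val_mul]
    rw [h1, ← Units.val_pow_eq_pow_val, conj_pow, hxp, mul_one, mul_inv_cancel]
    rfl
  have : Fact p.Prime := ⟨hp⟩
  have : NeZero p := ⟨hp.ne_zero⟩
  have hord : orderOf xK = p := orderOf_eq_prime hxKp hxK1
  have hprim : IsPrimitiveRoot xK p := hord ▸ IsPrimitiveRoot.orderOf xK
  obtain ⟨i, -, hi⟩ := hprim.eq_pow_of_pow_eq_one hyKp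
  refine ⟨i, ?_⟩
  apply Units.ext
  have h2 := congrArg Subtype.val hi
  rw [SubmonoidClass.coe_pow, hxK, hyK] at h2
  rw [Units.val_mul, Units.val_mul, Units.val_pow_eq_pow_val]
  exact h2.symm

/-- K-SU3-G3. -/
theorem conj_eq_pow_of_mem_normalizer (K : Subalgebra F M3) (hK : IsFieldSubalgebra 3 K) (x n : G3)
    (hx : (x : M3) ∈ K) (hx7 : x ^ 7 = 1) (hx1 : x ≠ 1) (hn : n ∈ subalgebraNormalizer K) :
    ∃ i : ℕ, n * x * n⁻¹ = x ^ i :=
  conj_eq_pow_of_mem_normalizer_gen K hK 7 (by norm_num) x n hx hx7 hx1 hn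

end Cfsg.Agent.Lib.Helper22.SU3K
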