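import Mathlib
import Cfsg.Prelude.Def_Classical
import Cfsg.Prelude.Def_GeometricClasses
import Cfsg.Agent.Lib.Helper49.SUBDefs
import Cfsg.Agent.Lib.Helper49.SemisimpleConj
import Cfsg.Agent.Lib.Helper20.SLO12

/-!
# K-SUB-8 (keystone 596508, row S5965, architect helper49)

`q = q₀²`, `n = r ∈ {3, 5}`, `r ∣ q₀ + 1`: every `x ∈ SL_r(q)` with `x ^ r = 1` is `GL`-conjugate into the
subfield subgroup `F^× GL_r(q₀)`.

`x` is conjugate to `λ • diag(1, β_j, β_j⁻¹)` (Helper20.SLO12), `β_j⁻¹ = β_j ^ q₀`; with `θ ∉ F₀` the explicit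
matrix `G` with blocks `[[1, θ], [1, θ ^ q₀]]` conjugates `diag(β, β ^ q₀)` to a matrix whose entries are fixed
by `a ↦ a ^ q₀`, i.e. lie in `F₀`.
-/

set_option autoImplicit false
set_option linter.unusedSectionVars false
set_option linter.unusedVariables false
set_option linter.unusedSimpArgs false

namespace Cfsg.Agent.Lib.Helper22.SUB

open Matrix Polynomial Cfsg.Agent.Lib.Helper49.SUB

section blocks

variable {F : Type*} [Field F] (m : ℕ) (θ θ' : F) (β β' : Fin m → F)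

/-- the inner conjugating matrix -/
def GmI : Matrix (Fin m ⊕ Fin m) (Fin m ⊕ Fin m) F :=
  fromBlocks 1 (θ • 1) 1 (θ' • 1)

/-- its inverse -/
def GmI' : Matrix (Fin m ⊕ Fin m) (Fin m ⊕ Fin m) F :=
  fromBlocks (((θ' - θ)⁻¹ * θ') • 1) ((-((θ' - θ)⁻¹ * θ)) • 1) ((-(θ' - θ)⁻¹) • 1) ((θ' - θ)⁻¹ • 1)

/-- the conjugate of `diag(β, β')` -/
def BmI : Matrix (Fin m ⊕ Fin m) (Fin m ⊕ Fin m) F :=
  fromBlocks (diagonal fun j => (θ' - θ)⁻¹ * (θ' * β j - θ * β' j))
    (diagonal fun j => (θ' - θ)⁻¹ * (θ * θ' * (β j - β' j)))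
    (diagonal fun j => (θ' - θ)⁻¹ * (β' j - β j))
    (diagonal fun j => (θ' - θ)⁻¹ * (β' j * θ' - β j * θ))

theorem GmI_mul_GmI' (h : θ' ≠ θ) : GmI m θ θ' * GmI' m θ θ' = 1 := by
  have hδ : θ' - θ ≠ 0 := sub_ne_zero.2 h
  unfold GmI GmI'
  rw [fromBlocks_multiply]
  simp only [Matrix.one_mul, Matrix.smul_mul, Matrix.mul_smul, ← add_smul, smul_smul]
  have key : ∀ a b c d : F, a = 1 → b = 0 → c = 0 → d = 1 →
      (fromBlocks (a • 1) (b • 1) (c • 1) (d • 1) : Matrix (Fin m ⊕ Fin m) (Fin m ⊕ Fin m) F) = 1 := by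
    intro a b c d ha hb hc hd
    rw [ha, hb, hc, hd, one_smul, zero_smul, fromBlocks_one]
  refine key _ _ _ _ ?_ ?_ ?_ ?_
  · field_simp; ring
  · ring
  · ring
  · field_simp; ring

theorem DmI_mul_GmI (h : θ' ≠ θ) :
    (fromBlocks (diagonal β) 0 0 (diagonal β') : Matrix (Fin m ⊕ Fin m) (Fin m ⊕ Fin m) F) *
      GmI m θ θ' = GmI m θ θ' * BmI m θ θ' β β' := by
  have hδ : θ' - θ ≠ 0 := sub_ne_zero.2 h
  unfold GmI BmI
  rw [fromBlocks_multiply, fromBlocks_multiply]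
  simp only [Matrix.one_mul, Matrix.mul_one, Matrix.zero_mul, Matrix.mul_zero, add_zero, zero_add,
    Matrix.smul_mul, Matrix.mul_smul, ← diagonal_smul, ← diagonal_add]
  congr 1 <;> ext i k <;> by_cases hik : i = k
  all_goals first
    | (subst hik
       simp only [Matrix.add_apply, Matrix.smul_apply, diagonal_apply_eq, Matrix.zero_apply,
         Pi.smul_apply, smul_eq_mul, mul_zero, add_zero, zero_add]
       field_simp
       ring)
    | simp [Matrix.add_apply, hik]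

/-- the entries of `BmI` are fixed by a ring endomorphism exchanging `θ, θ'` and `β, β'` -/
theorem BmI_fixed (φ : F →+* F) (h : θ' ≠ θ) (hθ : φ θ = θ') (hθ' : φ θ' = θ)
    (hβ : ∀ j, φ (β j) = β' j) (hβ' : ∀ j, φ (β' j) = β j) (i k : Fin m ⊕ Fin m) :
    φ (BmI m θ θ' β β' i k) = BmI m θ θ' β β' i k := by
  have hδ : θ' - θ ≠ 0 := sub_ne_zero.2 h
  have hδ' : θ - θ' ≠ 0 := sub_ne_zero.2 (Ne.symm h)
  unfold BmI
  rcases i with i | i <;> rcases k with k | k
  all_goals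
    simp only [fromBlocks_apply₁₁, fromBlocks_apply₁₂, fromBlocks_apply₂₁, fromBlocks_apply₂₂]
    by_cases hik : i = k
    · subst hik
      simp only [diagonal_apply_eq, map_mul, map_sub, map_inv₀, hθ, hθ', hβ, hβ']
      field_simp
      ring
    · simp only [diagonal_apply_ne _ hik, map_zero]

end blocks

section outer

variable {F : Type*} [Field F] (m : ℕ) (θ θ' : F) (β β' : Fin m → F)

/-- the conjugating matrix -/
def Gm : Matrix (Unit ⊕ (Fin m ⊕ Fin m)) (Unit ⊕ (Fin m ⊕ Fin m)) F :=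
  fromBlocks 1 0 0 (GmI m θ θ')

/-- its inverse -/
def Gm' : Matrix (Unit ⊕ (Fin m ⊕ Fin m)) (Unit ⊕ (Fin m ⊕ Fin m)) F :=
  fromBlocks 1 0 0 (GmI' m θ θ')

/-- the conjugate of `diag(1, β, β')` -/
def Bm : Matrix (Unit ⊕ (Fin m ⊕ Fin m)) (Unit ⊕ (Fin m ⊕ Fin m)) F :=
  fromBlocks 1 0 0 (BmI m θ θ' β β')

theorem Gm_mul_Gm' (h : θ' ≠ θ) : Gm m θ θ' * Gm' m θ θ' = 1 := by
  unfold Gm Gm'
  rw [fromBlocks_multiply, GmI_mul_GmI' m θ θ' h]
  simp only [Matrix.one_mul, Matrix.mul_zero, Matrix.zero_mul, add_zero, zero_add, fromBlocks_one]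

theorem diagonal_mul_Gm (h : θ' ≠ θ) :
    (diagonal (Sum.elim (fun _ => 1) (Sum.elim β β')) :
        Matrix (Unit ⊕ (Fin m ⊕ Fin m)) (Unit ⊕ (Fin m ⊕ Fin m)) F) * Gm m θ θ' =
      Gm m θ θ' * Bm m θ θ' β β' := by
  rw [← fromBlocks_diagonal, ← fromBlocks_diagonal]
  unfold Gm Bm
  rw [fromBlocks_multiply, fromBlocks_multiply, DmI_mul_GmI m θ θ' β β' h]
  simp only [Matrix.one_mul, Matrix.mul_one, Matrix.mul_zero, Matrix.zero_mul, add_zero, zero_add,
    Matrix.diagonal_one]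

theorem Bm_fixed (φ : F →+* F) (h : θ' ≠ θ) (hθ : φ θ = θ') (hθ' : φ θ' = θ)
    (hβ : ∀ j, φ (β j) = β' j) (hβ' : ∀ j, φ (β' j) = β j) (i k : Unit ⊕ (Fin m ⊕ Fin m)) :
    φ (Bm m θ θ' β β' i k) = Bm m θ θ' β β' i k := by
  unfold Bm
  rcases i with i | i <;> rcases k with k | k
  · simp [Matrix.one_apply]
  · simp
  · simp
  · simp only [fromBlocks_apply₂₂]
    exact BmI_fixed m θ θ' β β' φ h hθ hθ' hβ hβ' i k

end outer

section main

variable {F : Type*} [Field F] [Fintype F]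

/-- an element fixed by the `|F₁|`-th power map lies in the subfield `F₁` (copy of
`Helper18.AschO.mem_subfield_of_pow_card`, to keep the imports light). -/
theorem mem_subfield_of_pow_card' (F₁ : Subfield F) (x : F) (h : x ^ Nat.card F₁ = x) : x ∈ F₁ := by
  classical
  letI : Fintype F₁ := Fintype.ofFinite F₁
  have hc : Nat.card F₁ = Fintype.card F₁ := Nat.card_eq_fintype_card
  rw [hc] at h
  have hc1 : 1 < Fintype.card F₁ := Fintype.one_lt_card
  let S : Finset F := Finset.univ.filter (fun y : F => y ^ Fintype.card F₁ = y)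
  let T : Finset F := Finset.univ.image (Subtype.val : F₁ → F)
  have hTS : T ⊆ S := by
    intro y hy
    obtain ⟨z, _, rfl⟩ := Finset.mem_image.mp hy
    rw [Finset.mem_filter]
    refine ⟨Finset.mem_univ _, ?_⟩
    have := FiniteField.pow_card z
    have h2 := congrArg (Subtype.val : F₁ → F) this
    push_cast at h2
    exact h2
  have hTcard : T.card = Fintype.card F₁ := by
    rw [Finset.card_image_of_injective _ Subtype.val_injective, Finset.card_univ]
  have hScard : S.card ≤ Fintype.card F₁ := by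
    have hsub : S ⊆ (Polynomial.X ^ Fintype.card F₁ - Polynomial.X : Polynomial F).roots.toFinset := by
      intro y hy
      rw [Finset.mem_filter] at hy
      rw [Multiset.mem_toFinset, Polynomial.mem_roots (FiniteField.X_pow_card_sub_X_ne_zero F hc1)]
      simp [hy.2]
    calc S.card ≤ _ := Finset.card_le_card hsub
      _ ≤ Multiset.card (Polynomial.X ^ Fintype.card F₁ - Polynomial.X : Polynomial F).roots :=
          Multiset.toFinset_card_le _
      _ ≤ (Polynomial.X ^ Fintype.card F₁ - Polynomial.X : Polynomial F).natDegree :=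
          Polynomial.card_roots' _
      _ = Fintype.card F₁ := FiniteField.X_pow_card_sub_X_natDegree_eq F hc1
  have hST : T = S := Finset.eq_of_subset_of_card_le hTS (by rw [hTcard]; exact hScard)
  have hxS : x ∈ S := by
    rw [Finset.mem_filter]
    exact ⟨Finset.mem_univ _, h⟩
  rw [← hST] at hxS
  obtain ⟨z, _, rfl⟩ := Finset.mem_image.mp hxS
  exact z.2

/-- the `q₀`-power map as a ring endomorphism -/
theorem exists_frob (F₀ : Subfield F) {q₀ : ℕ} (hF₀ : Nat.card ↥F₀ = q₀) :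
    ∃ φ : F →+* F, ∀ a, φ a = a ^ q₀ := by
  classical
  set p := ringChar F with hp
  haveI : CharP F p := ringChar.charP F
  haveI : Fact p.Prime := ⟨CharP.char_is_prime F p⟩
  haveI : CharP ↥F₀ p := RingHom.charP F₀.subtype Subtype.val_injective p
  letI : Fintype ↥F₀ := Fintype.ofFinite _
  obtain ⟨n, -, hn⟩ := FiniteField.card ↥F₀ p
  have hq₀ : q₀ = p ^ (n : ℕ) := by rw [← hF₀, Nat.card_eq_fintype_card, hn]
  haveI : ExpChar F p := ExpChar.prime Fact.out
  refine ⟨iterateFrobenius F p n, fun a => ?_⟩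
  rw [hq₀, iterateFrobenius_def]

/-- the linear algebra part -/
theorem conj_of_pairing_sub {r m : ℕ} (F₀ : Subfield F) {q₀ : ℕ} (hF₀ : Nat.card ↥F₀ = q₀)
    (hcard : Fintype.card F = q₀ ^ 2) (hr0 : (r : F) ≠ 0) (hrq : r ∣ q₀ + 1)
    (x : GL (Fin r) F) (hxr : x ^ r = 1) (e : (Unit ⊕ (Fin m ⊕ Fin m)) ≃ Fin r) (ρ : Fin r → F)
    (hchar : (x : Matrix (Fin r) (Fin r) F).charpoly = ∏ i, (X - C (ρ i)))
    (hρr : ∀ i, ρ i ^ r = 1)
    (hpair : ∀ j, ρ (e (.inr (.inl j))) * ρ (e (.inr (.inr j))) = ρ (e (.inl ())) ^ 2) :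
    ∃ g : GL (Fin r) F, g⁻¹ * x * g ∈ HS F₀ r := by
  classical
  have hrne : r ≠ 0 := by
    rintro rfl
    exact hr0 Nat.cast_zero
  obtain ⟨φ, hφ⟩ := exists_frob F₀ hF₀
  -- roots of unity are inverted by `φ`
  have hinv : ∀ b : F, b ^ r = 1 → b ^ q₀ * b = 1 := by
    intro b hb
    obtain ⟨t, ht⟩ := hrq
    rw [← pow_succ, ht, pow_mul, hb, one_pow]
  -- an element outside `F₀`
  obtain ⟨θ, hθ⟩ : ∃ θ : F, θ ^ q₀ ≠ θ := by
    by_contra hcon
    push Not at hcon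
    have hall : ∀ a : F, a ∈ F₀ := fun a => mem_subfield_of_pow_card' F₀ a (by rw [hF₀]; exact hcon a)
    have htop : F₀ = ⊤ := eq_top_iff.2 (fun a _ => hall a)
    have h1 : Nat.card ↥F₀ = Nat.card F := by
      rw [htop]
      exact Nat.card_congr (Subfield.topEquiv (K := F)).toEquiv
    rw [hF₀, Nat.card_eq_fintype_card, hcard] at h1
    have h2 : 2 ≤ q₀ := by
      rw [← hF₀]
      exact Finite.one_lt_card (α := ↥F₀)
    nlinarith
  have hθθ : (θ ^ q₀) ^ q₀ = θ := by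
    rw [← pow_mul, ← sq, ← hcard]
    exact FiniteField.pow_card θ
  -- the normalised eigenvalues
  set lam : F := ρ (e (.inl ())) with hlam
  have hlam0 : lam ≠ 0 := by
    intro h
    have := hρr (e (.inl ()))
    rw [← hlam, h, zero_pow hrne] at this
    exact zero_ne_one this
  set β : Fin m → F := fun j => ρ (e (.inr (.inl j))) * lam⁻¹ with hβdef
  set β' : Fin m → F := fun j => ρ (e (.inr (.inr j))) * lam⁻¹ with hβ'def
  have hββ' : ∀ j, β j * β' j = 1 := by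
    intro j
    have := hpair j
    rw [hβdef, hβ'def]
    field_simp
    rw [this, hlam]
  have hβr : ∀ j, β j ^ r = 1 := by
    intro j
    rw [hβdef]
    simp only [mul_pow, inv_pow, hρr, hlam, mul_one, inv_one]
  have hβ'r : ∀ j, β' j ^ r = 1 := by
    intro j
    rw [hβ'def]
    simp only [mul_pow, inv_pow, hρr, hlam, mul_one, inv_one]
  have hφβ : ∀ j, φ (β j) = β' j := by
    intro j
    rw [hφ]
    have h1 := hinv (β j) (hβr j)
    have h2 := hββ' j
    have hb0 : β j ≠ 0 := left_ne_zero_of_mul_eq_one h2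
    apply mul_right_cancel₀ hb0
    rw [h1, mul_comm, h2]
  have hφβ' : ∀ j, φ (β' j) = β j := by
    intro j
    rw [hφ]
    have h1 := hinv (β' j) (hβ'r j)
    have h2 := hββ' j
    have hb0 : β' j ≠ 0 := right_ne_zero_of_mul_eq_one h2
    apply mul_right_cancel₀ hb0
    rw [h1, h2]
  set θ' : F := θ ^ q₀ with hθ'
  have hφθ : φ θ = θ' := hφ θ
  have hφθ' : φ θ' = θ := by rw [hφ]; exact hθθ
  -- conjugate `x` to `diagonal ρ`
  set A : Matrix (Fin r) (Fin r) F := (x : Matrix (Fin r) (Fin r) F) with hA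
  set s : F[X] := X ^ r - C 1 with hs
  have hsq : Squarefree s := (separable_X_pow_sub_C (1 : F) hr0 one_ne_zero).squarefree
  have hAr : A ^ r = 1 := by
    rw [hA, ← Units.val_pow_eq_pow_val, hxr, Units.val_one]
  have hDr : (diagonal ρ : Matrix (Fin r) (Fin r) F) ^ r = 1 := by
    rw [Matrix.diagonal_pow, ← Matrix.diagonal_one]
    congr 1
    funext k
    exact hρr k
  have hA0 : aeval A s = 0 := by
    rw [hs, map_sub, map_pow, aeval_X, aeval_C, hAr, map_one, sub_self]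
  have hD0 : aeval (diagonal ρ : Matrix (Fin r) (Fin r) F) s = 0 := by
    rw [hs, map_sub, map_pow, aeval_X, aeval_C, hDr, map_one, sub_self]
  obtain ⟨P, hP⟩ := Cfsg.Agent.Lib.Helper49.exists_GL_conj_of_charpoly_eq A (diagonal ρ) s hsq hA0 hD0
    (by rw [hchar, Matrix.charpoly_diagonal])
  -- transport the block matrices to `Fin r`
  let Φ := Matrix.reindexAlgEquiv F F e
  set d : Unit ⊕ (Fin m ⊕ Fin m) → F := Sum.elim (fun _ => 1) (Sum.elim β β') with hd
  have hΦd : (diagonal ρ : Matrix (Fin r) (Fin r) F) = lam • Φ (diagonal d) := by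
    show _ = lam • Matrix.reindex e e (diagonal d)
    rw [Matrix.reindex_apply, Matrix.submatrix_diagonal_equiv, ← Matrix.diagonal_smul]
    congr 1
    funext i
    obtain ⟨k, rfl⟩ := e.surjective i
    simp only [Pi.smul_apply, Function.comp_apply, Equiv.symm_apply_apply, smul_eq_mul]
    rcases k with u | k | k
    · simp [hd, hlam]
    · simp only [hd, Sum.elim_inr, Sum.elim_inl, hβdef]
      field_simp
    · simp only [hd, Sum.elim_inr, hβ'def]
      field_simp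
  have hGG' : Φ (Gm m θ θ') * Φ (Gm' m θ θ') = 1 := by
    rw [← map_mul, Gm_mul_Gm' m θ θ' hθ, map_one]
  have hG'G : Φ (Gm' m θ θ') * Φ (Gm m θ θ') = 1 := mul_eq_one_comm.mp hGG'
  let Gg : GL (Fin r) F := ⟨Φ (Gm m θ θ'), Φ (Gm' m θ θ'), hGG', hG'G⟩
  have hGgv : (Gg : Matrix (Fin r) (Fin r) F) = Φ (Gm m θ θ') := rfl
  have hGgi : ((Gg⁻¹ : GL (Fin r) F) : Matrix (Fin r) (Fin r) F) = Φ (Gm' m θ θ') := rfl
  have hPP : (P : Matrix (Fin r) (Fin r) F) * ((P⁻¹ : GL (Fin r) F) : Matrix (Fin r) (Fin r) F) = 1 := by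
    rw [← Units.val_mul, mul_inv_cancel, Units.val_one]
  set y : GL (Fin r) F := (P⁻¹ * Gg)⁻¹ * x * (P⁻¹ * Gg) with hy
  have hyval : (y : Matrix (Fin r) (Fin r) F) = lam • Φ (Bm m θ θ' β β') := by
    have h1 : y = Gg⁻¹ * (P * x * P⁻¹) * Gg := by
      rw [hy]; group
    have h2 : ((P * x * P⁻¹ : GL (Fin r) F) : Matrix (Fin r) (Fin r) F) = diagonal ρ := by
      rw [Units.val_mul, Units.val_mul, ← hA, hP, Matrix.mul_assoc, hPP, Matrix.mul_one]
    rw [h1, Units.val_mul, Units.val_mul, h2, hGgv, hGgi, hΦd, Matrix.mul_smul, Matrix.smul_mul,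
      ← map_mul, ← map_mul, hd, Matrix.mul_assoc, diagonal_mul_Gm m θ θ' β β' hθ, ← Matrix.mul_assoc,
      mul_eq_one_comm.mp (Gm_mul_Gm' m θ θ' hθ), Matrix.one_mul]
  refine ⟨P⁻¹ * Gg, ?_⟩
  rw [← hy, mem_HS_iff]
  -- the matrix `Φ B` as an element of `GL`
  have hB1 : Φ (Bm m θ θ' β β') * (lam • ((y⁻¹ : GL (Fin r) F) : Matrix (Fin r) (Fin r) F)) = 1 := by
    rw [Matrix.mul_smul, ← Matrix.smul_mul, ← hyval, ← Units.val_mul, mul_inv_cancel, Units.val_one]
  have hB2 : (lam • ((y⁻¹ : GL (Fin r) F) : Matrix (Fin r) (Fin r) F)) * Φ (Bm m θ θ' β β') = 1 :=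
    mul_eq_one_comm.mp hB1
  let Ag : GL (Fin r) F := ⟨Φ (Bm m θ θ' β β'), lam • ((y⁻¹ : GL (Fin r) F) : Matrix (Fin r) (Fin r) F),
    hB1, hB2⟩
  refine ⟨Ag, ?_, Units.mk0 lam hlam0, ?_⟩
  · apply Cfsg.Agent.Lib.Helper49.mem_range_map_of_entries
    intro i k
    show Matrix.reindex e e (Bm m θ θ' β β') i k ∈ F₀
    rw [Matrix.reindex_apply, Matrix.submatrix_apply]
    apply mem_subfield_of_pow_card'
    rw [hF₀, ← hφ]
    exact Bm_fixed m θ θ' β β' φ hθ hφθ hφθ' hφβ hφβ' _ _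
  · rw [Units.val_mk0]
    exact hyval

/-- **K-SUB-8.** -/
theorem special_conj_sub (F₀ : Subfield F) {q₀ : ℕ} (hF₀ : Nat.card ↥F₀ = q₀)
    (hcard : Fintype.card F = q₀ ^ 2) (r : ℕ) [Fact r.Prime] (hr : r = 3 ∨ r = 5)
    (hrq : r ∣ q₀ + 1) (x : GL (Fin r) F) (hx : x ∈ Cfsg.Geo.specialLinear (Fin r) F)
    (hxr : x ^ r = 1) : ∃ g : GL (Fin r) F, g⁻¹ * x * g ∈ HS F₀ r := by
  classical
  have hrp : r.Prime := Fact.out
  haveI : NeZero r := ⟨hrp.ne_zero⟩
  have hq₀2 : 2 ≤ q₀ := by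
    rw [← hF₀]
    exact Finite.one_lt_card (α := ↥F₀)
  -- a primitive `r`-th root of unity
  obtain ⟨ζ, hζ⟩ : ∃ ζ : F, IsPrimitiveRoot ζ r := by
    have hcardU : r ∣ Fintype.card Fˣ := by
      rw [Fintype.card_units, hcard]
      obtain ⟨k, rfl⟩ : ∃ k, q₀ = k + 1 := ⟨q₀ - 1, by omega⟩
      have h1 : (k + 1) ^ 2 - 1 = k * (k + 1 + 1) := by
        have : (k + 1) ^ 2 = k * (k + 1 + 1) + 1 := by ring
        rw [this, Nat.add_sub_cancel]
      rw [h1]
      exact Dvd.dvd.mul_left hrq _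
    obtain ⟨u, hu⟩ := exists_prime_orderOf_dvd_card r hcardU
    refine ⟨(u : F), ?_⟩
    rw [IsPrimitiveRoot.coe_units_iff, ← hu]
    exact IsPrimitiveRoot.orderOf u
  have hr0 : (r : F) ≠ 0 := (hζ.neZero').ne
  have hdet : (x : Matrix (Fin r) (Fin r) F).det = 1 := by
    have h1 : Matrix.GeneralLinearGroup.det x = 1 := hx
    have h2 := congrArg (fun u : Fˣ => (u : F)) h1
    simpa using h2
  obtain ⟨ρ, hchar, hρr, hρprod⟩ := Cfsg.Agent.Lib.Helper20.SLO.exists_roots_tuple ζ hζ x hdet hxr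
  choose a' ha'lt ha' using fun i => hζ.eq_pow_of_pow_eq_one (hρr i)
  set a : Fin r → Fin r := fun i => ⟨a' i, ha'lt i⟩ with hadef
  have haρ : ∀ i, ζ ^ (a i : ℕ) = ρ i := fun i => ha' i
  have hsum : (∑ i, (a i : ℕ)) % r = 0 := by
    apply Nat.mod_eq_zero_of_dvd
    rw [← hζ.pow_eq_one_iff_dvd, ← Finset.prod_pow_eq_pow_sum, ← hρprod]
    exact Finset.prod_congr rfl (fun i _ => haρ i)
  obtain ⟨m, hm⟩ : ∃ m : ℕ, r = 1 + (m + m) := by
    rcases hr with rfl | rfl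
    · exact ⟨1, rfl⟩
    · exact ⟨2, rfl⟩
  obtain ⟨e, he⟩ : ∃ e : (Unit ⊕ (Fin m ⊕ Fin m)) ≃ Fin r, ∀ j : Fin m,
      ((a (e (.inr (.inl j))) : ℕ) + a (e (.inr (.inr j)))) % r =
        (2 * (a (e (.inl ())) : ℕ)) % r := by
    rcases hr with rfl | rfl
    · obtain rfl : m = 1 := by omega
      exact Cfsg.Agent.Lib.Helper20.SLO.comb3 a hsum
    · obtain rfl : m = 2 := by omega
      exact Cfsg.Agent.Lib.Helper20.SLO.comb5 a hsum
  refine conj_of_pairing_sub F₀ hF₀ hcard hr0 hrq x hxr e ρ hchar hρr ?_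
  intro j
  rw [← haρ, ← haρ, ← haρ, ← pow_add, ← pow_mul, pow_eq_pow_mod _ hζ.pow_eq_one, he j,
    ← pow_eq_pow_mod _ hζ.pow_eq_one, mul_comm]

end main

end Cfsg.Agent.Lib.Helper22.SUB
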