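import Mathlib

set_option autoImplicit false

/-!
# K-Sp2G leaf Eb (S2411): an additive subgroup of a finite field containing `1` and stable under
`k²`, `k` a generator of the multiplicative group, is everything.
-/

namespace Cfsg.Agent.Lib.Helper22.Sp2G

open Polynomial in
theorem eb_sum_two_sq (F : Type*) [Field F] [Fintype F] (x : F) :
    ∃ a b : F, a ^ 2 + b ^ 2 = x := by
  by_cases hch : ringChar F = 2
  · obtain ⟨r, hr⟩ := FiniteField.isSquare_of_char_two hch x
    exact ⟨r, 0, by rw [hr]; ring⟩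
  · have hodd : Fintype.card F % 2 = 1 := FiniteField.odd_card_of_char_ne_two hch
    obtain ⟨a, b, hab⟩ : ∃ a b, (X ^ 2 : F[X]).eval a + (X ^ 2 - C x : F[X]).eval b = 0 :=
      FiniteField.exists_root_sum_quadratic (degree_X_pow 2) (degree_X_pow_sub_C (by decide) _) hodd
    refine ⟨a, b, ?_⟩
    rw [← sub_eq_zero]
    simpa only [eval_C, eval_X, eval_pow, eval_sub, ← add_sub_assoc] using hab

theorem addSubgroup_eq_top_of_sq {F : Type*} [Field F] [Fintype F] (k : F)
    (hgen : ∀ x : F, x ≠ 0 → ∃ j : ℕ, x = k ^ (j + 1)) (S : AddSubgroup F) (h1 : (1 : F) ∈ S)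
    (hk : ∀ a ∈ S, k ^ 2 * a ∈ S) : ∀ a : F, a ∈ S := by
  have hpow : ∀ j : ℕ, k ^ (2 * j) ∈ S := by
    intro j
    induction j with
    | zero => simpa using h1
    | succ j ih =>
      have := hk _ ih
      have e : k ^ (2 * (j + 1)) = k ^ 2 * k ^ (2 * j) := by ring
      rw [e]; exact this
  have hsq : ∀ y : F, y ^ 2 ∈ S := by
    intro y
    by_cases hy : y = 0
    · subst hy; simp
    · obtain ⟨j, hj⟩ := hgen y hy
      have e : y ^ 2 = k ^ (2 * (j + 1)) := by rw [hj]; ring
      rw [e]; exact hpow _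
  intro a
  obtain ⟨x, y, hxy⟩ := eb_sum_two_sq F a
  rw [← hxy]
  exact S.add_mem (hsq x) (hsq y)

end Cfsg.Agent.Lib.Helper22.Sp2G
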