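import Cfsg.Agent.Lib.Helper44.SpUTools

set_option autoImplicit false
set_option linter.unusedSimpArgs false
set_option linter.unusedVariables false
set_option linter.unusedSectionVars false

/-! S5665, keystone 566513 K-SpU2-E3 `XS_all_of_KI`. -/

namespace Cfsg.Agent.Lib.Helper22.SpU

open Matrix Cfsg.Agent.Lib.Helper18 Cfsg.Agent.Lib.Helper11.SpMax Cfsg.Agent.Lib.Helper44.SpU
open Cfsg.Agent.Lib.Helper43.UF

variable {F : Type*} [Field F] [Fintype F] {m : ℕ}

local notation "V" => (Fin m ⊕ Fin m → F)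
local notation "ff" => Cfsg.sympForm m F
local notation "GLm" => Matrix.GeneralLinearGroup (Fin m ⊕ Fin m) F
local notation "Mat" => Matrix (Fin m ⊕ Fin m) (Fin m ⊕ Fin m) F

omit [Fintype F] in
/-- `δ` has no eigenvector -/
theorem no_eigen3 (U : SData m F) (w : V) (hw : w ≠ 0) (l : F) (h : U.δ *ᵥ w = l • w) : False := by
  apply U.nsq
  refine ⟨l, ?_⟩
  have h1 : U.δ *ᵥ (U.δ *ᵥ w) = U.d • w := U.sq_apply w
  rw [h, Matrix.mulVec_smul, h, smul_smul] at h1
  have h2 : (l * l - U.d) • w = 0 := by rw [sub_smul, h1, sub_self]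
  rcases smul_eq_zero.mp h2 with h3 | h3
  · exact (sub_eq_zero.mp h3).symm
  · exact absurd h3 hw

theorem XS_all_of_KI (U : SData m F) (hm : 7 ≤ m) (M : Subgroup GLm) (hM : M ≤ Cfsg.spGL m F)
    (hKI : ∀ u : V, KI U u → u ∈ XS m M) : ∀ y : V, y ∈ XS m M := by
  classical
  intro y
  by_cases hy0 : y = 0
  · rw [hy0]; exact XS_zero m M
  by_cases hyK : KI U y
  · exact hKI y hyK
  set n : F := ff y (U.δ *ᵥ y) with hn
  have hn0 : n ≠ 0 := hyK
  have h2 := U.two
  have hd := U.d_ne_zero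
  set s : V := (2 / n) • y - U.δ *ᵥ y with hs
  have ha : U.δ *ᵥ y ∉ Submodule.span F (({s} : Finset V) : Set V) := by
    rw [Finset.coe_singleton, Submodule.mem_span_singleton]
    rintro ⟨l, hl⟩
    by_cases hl1 : 1 + l = 0
    · have hl' : l = -1 := by linear_combination hl1
      rw [hl', hs] at hl
      have h3 : (2 / n) • y = 0 := by
        have : (-1 : F) • ((2 / n) • y - U.δ *ᵥ y) - U.δ *ᵥ y = -((2 / n) • y) := by module
        rw [hl, sub_self] at this
        exact neg_eq_zero.mp this.symm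
      rcases smul_eq_zero.mp h3 with h | h
      · exact (div_ne_zero h2 hn0) h
      · exact hy0 h
    · apply no_eigen3 U y hy0 ((1 + l)⁻¹ * (l * (2 / n)))
      rw [hs] at hl
      have h3 : (1 + l) • (U.δ *ᵥ y) = (l * (2 / n)) • y := by
        have e : (1 + l) • (U.δ *ᵥ y) =
            (l * (2 / n)) • y - (l • ((2 / n) • y - U.δ *ᵥ y) - U.δ *ᵥ y) := by module
        rw [e, hl, sub_self, sub_zero]
      have h4 := congrArg (fun z => (1 + l)⁻¹ • z) h3
      simp only [smul_smul, inv_mul_cancel₀ hl1, one_smul] at h4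
      exact h4
  obtain ⟨c, hc, hSc, hac⟩ := exists_KI U hm {s} (by rw [Finset.card_singleton]; omega)
    (U.δ *ᵥ y) ha
  have h3 : ff s (U.δ *ᵥ c) = 0 := hSc s (Finset.mem_singleton_self s)
  rw [hs, sf_sub_left, sf_smul_left, hac] at h3
  rw [U.ff_δδ] at hac
  -- `f y (δ c) = n / 2`
  have h4 : ff y (U.δ *ᵥ c) = n / 2 := by
    field_simp at h3 ⊢
    linear_combination h3
  have h5 : ff y c ≠ 0 := by
    intro h
    rw [h, mul_zero, neg_zero] at hac
    exact zero_ne_one hac
  -- `y - c` is isotropic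
  have h6 : KI U (y - c) := by
    unfold KI
    rw [Matrix.mulVec_sub, sf_sub_left, sf_sub_right, sf_sub_right, U.ff_δ_symm c y, h4]
    have : ff c (U.δ *ᵥ c) = 0 := hc
    rw [this, ← hn]
    field_simp
    ring
  have h7 : ff (y - c) c ≠ 0 := by
    rw [sf_sub_left, sf_self, sub_zero]; exact h5
  have h8 := XS_hyp m M hM c (y - c) (hKI c hc) (hKI _ h6) h7 1
  rw [one_smul, sub_add_cancel] at h8
  exact h8

end Cfsg.Agent.Lib.Helper22.SpU
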