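import Cfsg.Agent.Lib.Helper44.SpUTools

set_option autoImplicit false
set_option linter.unusedSimpArgs false
set_option linter.unusedVariables false
set_option linter.unusedSectionVars false

/-! S5665, keystone 566504 K-SpU2-N0: a symplectic transvection does not normalise `K = F + F δ`. -/

namespace Cfsg.Agent.Lib.Helper22.SpU

open Matrix Cfsg.Agent.Lib.Helper18 Cfsg.Agent.Lib.Helper11.SpMax Cfsg.Agent.Lib.Helper44.SpU
open Cfsg.Agent.Lib.Helper43.UF

variable {F : Type*} [Field F] [Fintype F] {m : ℕ}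

local notation "V" => (Fin m ⊕ Fin m → F)
local notation "ff" => Cfsg.sympForm m F
local notation "GLm" => Matrix.GeneralLinearGroup (Fin m ⊕ Fin m) F
local notation "Mat" => Matrix (Fin m ⊕ Fin m) (Fin m ⊕ Fin m) F

omit [Fintype F] in
/-- `δ` has no eigenvector -/
theorem no_eigen (U : SData m F) (w : V) (hw : w ≠ 0) (l : F) (h : U.δ *ᵥ w = l • w) : False := by
  apply U.nsq
  refine ⟨l, ?_⟩
  have h1 : U.δ *ᵥ (U.δ *ᵥ w) = U.d • w := U.sq_apply w
  rw [h, Matrix.mulVec_smul, h, smul_smul] at h1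
  have h2 : (l * l - U.d) • w = 0 := by rw [sub_smul, h1, sub_self]
  rcases smul_eq_zero.mp h2 with h3 | h3
  · exact (sub_eq_zero.mp h3).symm
  · exact absurd h3 hw

omit [Fintype F] in
/-- `α w + β δ w = 0`, `w ≠ 0` forces `α = β = 0` -/
theorem indep2 (U : SData m F) (w : V) (hw : w ≠ 0) (α β : F)
    (h : α • w + β • (U.δ *ᵥ w) = 0) : α = 0 ∧ β = 0 := by
  by_cases hβ : β = 0
  · subst hβ
    rw [zero_smul, add_zero] at h
    exact ⟨(smul_eq_zero.mp h).resolve_right hw, rfl⟩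
  · exfalso
    apply no_eigen U w hw (-(α / β))
    have h1 : β • (U.δ *ᵥ w) = -(α • w) := by
      rw [eq_neg_iff_add_eq_zero, add_comm]; exact h
    have h2 := congrArg (fun z => β⁻¹ • z) h1
    simp only [smul_smul, inv_mul_cancel₀ hβ, one_smul, smul_neg] at h2
    rw [h2, neg_smul, div_eq_inv_mul, mul_comm]

theorem tg_not_mem_normalizer (U : SData m F) (K : Subalgebra F Mat) (hδ : U.δ ∈ K)
    (hspan : ∀ k ∈ K, ∃ a b : F, k = a • (1 : Mat) + b • U.δ) (hm : 2 ≤ m) (w : V) (hw : w ≠ 0) :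
    tg m w 1 ∉ Cfsg.Geo.subalgebraNormalizer K := by
  intro ht
  have ht' : ∀ k : Mat, k ∈ K ↔
      ((tg m w 1 : GLm) : Mat) * k * (((tg m w 1)⁻¹ : GLm) : Mat) ∈ K := ht
  obtain ⟨a, b, hab⟩ := hspan _ ((ht' U.δ).mp hδ)
  -- the key identity on vectors
  have key : ∀ z : V, (tg m w 1).1 *ᵥ (U.δ *ᵥ z) =
      a • ((tg m w 1).1 *ᵥ z) + b • (U.δ *ᵥ ((tg m w 1).1 *ᵥ z)) := by
    intro z
    have h1 := congrArg (fun A : Mat => A *ᵥ ((tg m w 1).1 *ᵥ z)) hab
    simp only [Matrix.add_mulVec, Matrix.smul_mulVec, Matrix.one_mulVec] at h1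
    rw [← h1, ← Matrix.mulVec_mulVec, ← Matrix.mulVec_mulVec, gl_inv_act]
  set n : F := ff w (U.δ *ᵥ w) with hn
  have hδww : ff (U.δ *ᵥ w) w = -n := by rw [U.skew]
  -- step 1: `z = w`
  have k1 := key w
  rw [tg_act, tg_act, sf_self, mul_zero, zero_smul, add_zero, hδww] at k1
  have k2 : (a + n) • w + (b - 1) • (U.δ *ᵥ w) = 0 := by
    rw [add_smul, sub_smul, one_smul]
    have : U.δ *ᵥ w = a • w + b • (U.δ *ᵥ w) - (1 * -n) • w := by
      rw [← k1]; abel
    have h3 : (1 * -n) • w = -(n • w) := by rw [one_mul, neg_smul]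
    rw [h3] at this
    calc a • w + n • w + (b • (U.δ *ᵥ w) - U.δ *ᵥ w)
        = (a • w + b • (U.δ *ᵥ w) - -(n • w)) - U.δ *ᵥ w := by abel
      _ = 0 := by rw [← this, sub_self]
  obtain ⟨ha, hb⟩ := indep2 U w hw _ _ k2
  have ha' : a = -n := by linear_combination ha
  have hb' : b = 1 := by linear_combination hb
  subst hb'
  -- step 2: the identity for all `z`
  have key2 : ∀ z : V, n • z = (ff z w) • (U.δ *ᵥ w - n • w) - (ff (U.δ *ᵥ z) w) • w := by
    intro z
    have k3 := key z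
    rw [tg_act, tg_act, one_smul, Matrix.mulVec_add, Matrix.mulVec_smul, ha', one_mul, one_mul] at k3
    have : U.δ *ᵥ z + (ff (U.δ *ᵥ z) w) • w =
        -n • (z + (ff z w) • w) + (U.δ *ᵥ z + (ff z w) • (U.δ *ᵥ w)) := k3
    have h4 : n • z = (ff z w) • (U.δ *ᵥ w - n • w) - (ff (U.δ *ᵥ z) w) • w +
        ((U.δ *ᵥ z + (ff (U.δ *ᵥ z) w) • w) -
          (-n • (z + (ff z w) • w) + (U.δ *ᵥ z + (ff z w) • (U.δ *ᵥ w)))) := by
      module
    rw [h4, this, sub_self, add_zero]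
  -- apply `f(·, w)`
  have key3 : ∀ z : V, 2 * n * ff z w = 0 := by
    intro z
    have h5 := congrArg (fun y : V => ff y w) (key2 z)
    simp only [sf_sub_left, sf_smul_left, sf_self, hδww, mul_zero, sub_zero] at h5
    linear_combination h5
  by_cases hn0 : n = 0
  · -- `f(z,w) δw = f(δz,w) w`
    obtain ⟨y, hy⟩ := sf_nondeg_top m w hw
    have hy' : ff y w ≠ 0 := by
      rw [sf_swap]; exact neg_ne_zero.mpr hy
    have h6 := key2 y
    rw [hn0, zero_smul, zero_smul, sub_zero] at h6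
    have h7 : (-(ff (U.δ *ᵥ y) w)) • w + (ff y w) • (U.δ *ᵥ w) = 0 := by
      rw [neg_smul, neg_add_eq_sub]; exact h6.symm
    exact hy' (indep2 U w hw _ _ h7).2
  · obtain ⟨y, hy⟩ := sf_nondeg_top m w hw
    apply hy
    have h8 := key3 y
    have h9 : ff y w = 0 := by
      rcases mul_eq_zero.mp h8 with h | h
      · rcases mul_eq_zero.mp h with h | h
        · exact absurd h U.two
        · exact absurd h hn0
      · exact h
    rw [sf_swap, h9, neg_zero]

end Cfsg.Agent.Lib.Helper22.SpU
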