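import Mathlib
import Cfsg.Agent.Lib.Helper69.StNDefs

/-!
# K-StN leaf E4 (S2401): `φ` is injective on the upper unipotent subgroup `Upos X`

Filtration `UH X k := closure {X i j t | i + k ≤ j}`; `UH X (k+1)` is normal in `UH X k`, the quotient is
generated by the commuting images of `X i (i+k) t`, and the height-`k` entries of `φ g` recover the class of
`g`.
-/

set_option autoImplicit false
set_option linter.unusedSectionVars false
set_option linter.unusedVariables false

namespace Cfsg.Agent.Lib.Helper22.StN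

open Cfsg.Agent.Lib.Helper69.StN Matrix

variable {n : ℕ} {K : Type*} [Field K] {S : Type*} [Group S] {X : Fin n → Fin n → K → S}

/-- root elements of height at least `k` -/
def gensH (X : Fin n → Fin n → K → S) (k : ℕ) : Set S :=
  {g | ∃ i j t, i.val + k ≤ j.val ∧ g = X i j t}

/-- the subgroup generated by the root elements of height at least `k` -/
def UH (X : Fin n → Fin n → K → S) (k : ℕ) : Subgroup S := Subgroup.closure (gensH X k)

theorem UH_one (X : Fin n → Fin n → K → S) : UH X 1 = Upos X := by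
  have h : gensH X 1 = {g | ∃ i j t, i < j ∧ g = X i j t} := by
    ext g
    constructor
    · rintro ⟨i, j, t, h, rfl⟩
      exact ⟨i, j, t, Fin.lt_def.mpr (by omega), rfl⟩
    · rintro ⟨i, j, t, h, rfl⟩
      exact ⟨i, j, t, by have := Fin.lt_def.mp h; omega, rfl⟩
  unfold UH Upos
  rw [h]

theorem UH_top (X : Fin n → Fin n → K → S) : UH X n = ⊥ := by
  unfold UH
  rw [Subgroup.closure_eq_bot_iff]
  rintro g ⟨i, j, t, h, rfl⟩
  exfalso
  have := j.2
  omega

theorem gensH_anti (X : Fin n → Fin n → K → S) {k l : ℕ} (h : k ≤ l) : gensH X l ⊆ gensH X k := by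
  rintro g ⟨i, j, t, hij, rfl⟩
  exact ⟨i, j, t, by omega, rfl⟩

theorem UH_anti (X : Fin n → Fin n → K → S) {k l : ℕ} (h : k ≤ l) : UH X l ≤ UH X k :=
  Subgroup.closure_mono (gensH_anti X h)

theorem inv_mem_gensH (hX : IsSt X) {k : ℕ} (hk : 1 ≤ k) {a : S} (ha : a ∈ gensH X k) :
    a⁻¹ ∈ gensH X k := by
  obtain ⟨i, j, t, hij, rfl⟩ := ha
  have hne : i ≠ j := fun e => by rw [e] at hij; omega
  exact ⟨i, j, -t, hij, hX.inv hne t⟩

/-- commutators of root elements of heights `≥ k` and `≥ l` have height `> l` -/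
theorem comm_mem (hX : IsSt X) {k l : ℕ} (hk : 1 ≤ k) (hl : 1 ≤ l) {a b : S}
    (ha : a ∈ gensH X k) (hb : b ∈ gensH X l) : a * b * a⁻¹ * b⁻¹ ∈ UH X (l + 1) := by
  obtain ⟨i, j, t, hij, rfl⟩ := ha
  obtain ⟨i', j', u, hij', rfl⟩ := hb
  have hne : i ≠ j := fun e => by rw [e] at hij; omega
  have hne' : i' ≠ j' := fun e => by rw [e] at hij'; omega
  by_cases h1 : j = i'
  · subst h1
    have h3 : i ≠ j' := fun e => by rw [e] at hij; omega
    rw [hX.comm3 i j j' hne hne' h3 t u]
    exact Subgroup.subset_closure ⟨i, j', t * u, by omega, rfl⟩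
  · by_cases h2 : i = j'
    · subst h2
      have h3 : i' ≠ j := fun e => h1 e.symm
      have e := hX.comm3 i' i j hne' hne h3 u t
      have e2 : X i j t * X i' i u * (X i j t)⁻¹ * (X i' i u)⁻¹ =
          (X i' i u * X i j t * (X i' i u)⁻¹ * (X i j t)⁻¹)⁻¹ := by group
      rw [e2, e]
      exact inv_mem (Subgroup.subset_closure ⟨i', j, u * t, by omega, rfl⟩)
    · have e := hX.comm i j i' j' hne hne' h2 h1 t u
      have e2 : X i j t * X i' j' u * (X i j t)⁻¹ * (X i' j' u)⁻¹ = 1 := by
        rw [e]; group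
      rw [e2]
      exact one_mem _

/-- a root element of height `≥ k` normalizes `UH X (k+1)` -/
theorem conj_mem_gen (hX : IsSt X) {k : ℕ} (hk : 1 ≤ k) {a : S} (ha : a ∈ gensH X k) {b : S}
    (hb : b ∈ UH X (k + 1)) : a * b * a⁻¹ ∈ UH X (k + 1) := by
  induction hb using Subgroup.closure_induction with
  | mem b hb =>
    have h1 : a * b * a⁻¹ * b⁻¹ ∈ UH X (k + 1 + 1) := comm_mem hX hk (by omega) ha hb
    have h2 : a * b * a⁻¹ * b⁻¹ ∈ UH X (k + 1) := UH_anti X (by omega) h1
    have h3 : b ∈ UH X (k + 1) := Subgroup.subset_closure hb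
    have : a * b * a⁻¹ = (a * b * a⁻¹ * b⁻¹) * b := by group
    rw [this]
    exact mul_mem h2 h3
  | one => simp
  | mul x y _ _ hx hy =>
    have : a * (x * y) * a⁻¹ = (a * x * a⁻¹) * (a * y * a⁻¹) := by group
    rw [this]
    exact mul_mem hx hy
  | inv x _ hx =>
    have : a * x⁻¹ * a⁻¹ = (a * x * a⁻¹)⁻¹ := by group
    rw [this]
    exact inv_mem hx

theorem UH_le_normalizer (hX : IsSt X) {k : ℕ} (hk : 1 ≤ k) :
    UH X k ≤ Subgroup.normalizer ((UH X (k + 1) : Subgroup S) : Set S) := by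
  unfold UH
  rw [Subgroup.closure_le]
  intro a ha
  rw [SetLike.mem_coe, Subgroup.mem_normalizer_iff]
  intro b
  constructor
  · intro hb
    exact conj_mem_gen hX hk ha hb
  · intro hb
    have := conj_mem_gen hX hk (inv_mem_gensH hX hk ha) hb
    have e : a⁻¹ * (a * b * a⁻¹) * a⁻¹⁻¹ = b := by group
    rw [e] at this
    exact this

/-! ### the matrix side -/

/-- matrices equal to `1` below height `k` -/
def IsHt (k : ℕ) (M : Matrix (Fin n) (Fin n) K) : Prop :=
  ∀ i j : Fin n, j.val < i.val + k → M i j = (1 : Matrix (Fin n) (Fin n) K) i j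

theorem IsHt.one (k : ℕ) : IsHt k (1 : Matrix (Fin n) (Fin n) K) := fun _ _ _ => rfl

theorem IsHt.mul {k : ℕ} (hk : 1 ≤ k) {A B : Matrix (Fin n) (Fin n) K} (hA : IsHt k A)
    (hB : IsHt k B) : IsHt k (A * B) := by
  intro i j hij
  rw [Matrix.mul_apply, Finset.sum_eq_single i]
  · rw [hA i i (by omega), Matrix.one_apply_eq, one_mul, hB i j hij]
  · intro l _ hli
    by_cases hl : l.val < i.val + k
    · rw [hA i l hl, Matrix.one_apply_ne (Ne.symm hli), zero_mul]
    · have hlj : l ≠ j := fun e => by rw [e] at hl; omega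
      rw [hB l j (by omega), Matrix.one_apply_ne hlj, mul_zero]
  · intro h; exact absurd (Finset.mem_univ i) h

/-- the entries of height exactly `k` -/
def htEntry (k : ℕ) (M : Matrix (Fin n) (Fin n) K) (i : Fin n) : K :=
  if h : i.val + k < n then M i ⟨i.val + k, h⟩ else 0

theorem htEntry_one {k : ℕ} (hk : 1 ≤ k) (i : Fin n) :
    htEntry k (1 : Matrix (Fin n) (Fin n) K) i = 0 := by
  unfold htEntry
  split_ifs with h
  · apply Matrix.one_apply_ne
    intro e
    have := congrArg Fin.val e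
    simp only at this
    omega
  · rfl

theorem htEntry_mul {k : ℕ} (hk : 1 ≤ k) {A B : Matrix (Fin n) (Fin n) K} (hA : IsHt k A)
    (hB : IsHt k B) (i : Fin n) : htEntry k (A * B) i = htEntry k A i + htEntry k B i := by
  unfold htEntry
  split_ifs with h
  · have hij : i ≠ (⟨i.val + k, h⟩ : Fin n) := by
      intro e
      have := congrArg Fin.val e
      simp only at this
      omega
    rw [Matrix.mul_apply, Finset.sum_eq_add i (⟨i.val + k, h⟩ : Fin n) hij]
    · rw [hA i i (by omega), Matrix.one_apply_eq, one_mul,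
        hB ⟨i.val + k, h⟩ ⟨i.val + k, h⟩ (by simp only; omega), Matrix.one_apply_eq, mul_one, add_comm]
    · intro l _ hl
      by_cases hl' : l.val < i.val + k
      · rw [hA i l hl', Matrix.one_apply_ne (Ne.symm hl.1), zero_mul]
      · have hlv : l.val ≠ i.val + k := fun e => hl.2 (Fin.ext e)
        rw [hB l ⟨i.val + k, h⟩ (by simp only; omega), Matrix.one_apply_ne hl.2, mul_zero]
    · intro h'; exact absurd (Finset.mem_univ _) h'
    · intro h'; exact absurd (Finset.mem_univ _) h'
  · simp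

theorem isHt_transvection {k : ℕ} {i j : Fin n} (hij : i.val + k ≤ j.val) (t : K) :
    IsHt k ((1 : Matrix (Fin n) (Fin n) K) + Matrix.single i j t) := by
  intro i' j' h
  rw [Matrix.add_apply, Matrix.single_apply]
  split_ifs with h'
  · exfalso
    obtain ⟨rfl, rfl⟩ := h'
    omega
  · rw [add_zero]

theorem htEntry_transvection {k : ℕ} (hk : 1 ≤ k) {i j : Fin n} (t : K) (i' : Fin n) :
    htEntry k ((1 : Matrix (Fin n) (Fin n) K) + Matrix.single i j t) i' =
      if i' = i ∧ j.val = i.val + k then t else 0 := by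
  unfold htEntry
  split_ifs with h h' h'
  · obtain ⟨rfl, h2⟩ := h'
    have hj : j = ⟨i'.val + k, h⟩ := Fin.ext h2
    rw [Matrix.add_apply, Matrix.one_apply_ne, zero_add, ← hj, Matrix.single_apply_same]
    intro e
    have := congrArg Fin.val e
    simp only at this
    omega
  · rw [Matrix.add_apply, Matrix.one_apply_ne, zero_add, Matrix.single_apply, if_neg]
    · rintro ⟨rfl, rfl⟩
      exact h' ⟨rfl, rfl⟩
    · intro e
      have := congrArg Fin.val e
      simp only at this
      omega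
  · exfalso
    obtain ⟨rfl, h2⟩ := h'
    have := j.2
    omega
  · rfl

/-! ### induction over `UH X k` with generators only -/

theorem UH_induction (hX : IsSt X) {k : ℕ} (hk : 1 ≤ k) {p : (g : S) → g ∈ UH X k → Prop}
    (one : p 1 (one_mem _))
    (mul_left : ∀ a (ha : a ∈ gensH X k) y (hy : y ∈ UH X k), p y hy →
      p (a * y) (mul_mem (Subgroup.subset_closure ha) hy))
    {g : S} (hg : g ∈ UH X k) : p g hg := by
  induction hg using Subgroup.closure_induction_left with
  | one => exact one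
  | mul_left x hx y hy ih => exact mul_left x hx y hy ih
  | inv_mul_cancel x hx y hy ih => exact mul_left x⁻¹ (inv_mem_gensH hX hk hx) y hy ih

theorem coe_phi_gen {φ : S →* SpecialLinearGroup (Fin n) K} (hφ : IsPhi X φ) {i j : Fin n}
    (hij : i ≠ j) (t : K) :
    ((φ (X i j t) : SpecialLinearGroup (Fin n) K) : Matrix (Fin n) (Fin n) K) =
      1 + Matrix.single i j t := by
  rw [hφ i j hij t]
  rfl

theorem coe_phi_mul (φ : S →* SpecialLinearGroup (Fin n) K) (a y : S) :
    ((φ (a * y) : SpecialLinearGroup (Fin n) K) : Matrix (Fin n) (Fin n) K) =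
      ((φ a : SpecialLinearGroup (Fin n) K) : Matrix (Fin n) (Fin n) K) *
        ((φ y : SpecialLinearGroup (Fin n) K) : Matrix (Fin n) (Fin n) K) := by
  rw [map_mul]
  rfl

theorem coe_phi_one (φ : S →* SpecialLinearGroup (Fin n) K) :
    ((φ 1 : SpecialLinearGroup (Fin n) K) : Matrix (Fin n) (Fin n) K) = 1 := by
  rw [map_one]
  rfl

theorem isHt_phi (hX : IsSt X) {φ : S →* SpecialLinearGroup (Fin n) K} (hφ : IsPhi X φ) {k : ℕ}
    (hk : 1 ≤ k) {g : S} (hg : g ∈ UH X k) :
    IsHt k ((φ g : SpecialLinearGroup (Fin n) K) : Matrix (Fin n) (Fin n) K) := by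
  induction hg using UH_induction hX hk with
  | one => rw [coe_phi_one]; exact IsHt.one k
  | mul_left a ha y hy ih =>
    rw [coe_phi_mul]
    refine IsHt.mul hk ?_ ih
    obtain ⟨i, j, t, hij, rfl⟩ := ha
    have hne : i ≠ j := fun e => by rw [e] at hij; omega
    rw [coe_phi_gen hφ hne]
    exact isHt_transvection hij t

/-! ### the quotient `UH X k ⧸ UH X (k+1)` -/

/-- `UH X (k+1)` inside `UH X k` -/
def NH (X : Fin n → Fin n → K → S) (k : ℕ) : Subgroup ↥(UH X k) :=
  (UH X (k + 1)).subgroupOf (UH X k)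

theorem NH_normal (hX : IsSt X) {k : ℕ} (hk : 1 ≤ k) : (NH X k).Normal :=
  (Subgroup.normal_subgroupOf_iff_le_normalizer (UH_anti X (Nat.le_succ k))).2
    (UH_le_normalizer hX hk)

/-- the root element of height exactly `k` in row `i` (or `1`) -/
def xk (X : Fin n → Fin n → K → S) (k : ℕ) (i : Fin n) (t : K) : S :=
  if h : i.val + k < n then X i ⟨i.val + k, h⟩ t else 1

theorem xk_mem (X : Fin n → Fin n → K → S) (k : ℕ) (i : Fin n) (t : K) : xk X k i t ∈ UH X k := by
  unfold xk
  split_ifs with h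
  · exact Subgroup.subset_closure ⟨i, ⟨i.val + k, h⟩, t, le_refl _, rfl⟩
  · exact one_mem _

theorem xk_add (hX : IsSt X) {k : ℕ} (hk : 1 ≤ k) (i : Fin n) (t u : K) :
    xk X k i (t + u) = xk X k i t * xk X k i u := by
  unfold xk
  split_ifs with h
  · rw [hX.add _ _ (by
      intro e
      have := congrArg Fin.val e
      simp only at this
      omega)]
  · simp

theorem xk_zero (hX : IsSt X) {k : ℕ} (hk : 1 ≤ k) (i : Fin n) : xk X k i (0 : K) = 1 := by
  have := xk_add hX hk i 0 0
  rw [add_zero] at this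
  exact mul_eq_left.mp this.symm

theorem xk_cases (X : Fin n → Fin n → K → S) (k : ℕ) (i : Fin n) (t : K) :
    xk X k i t = 1 ∨ xk X k i t ∈ gensH X k := by
  unfold xk
  split_ifs with h
  · exact Or.inr ⟨i, ⟨i.val + k, h⟩, t, le_refl _, rfl⟩
  · exact Or.inl rfl

/-- the element `xk` in `UH X k` -/
def yk (X : Fin n → Fin n → K → S) (k : ℕ) (i : Fin n) (t : K) : ↥(UH X k) :=
  ⟨xk X k i t, xk_mem X k i t⟩

/-- the homomorphism `t ↦ xk i t` modulo `UH X (k+1)` -/
def quotHom (hX : IsSt X) {k : ℕ} (hk : 1 ≤ k) [(NH X k).Normal] (i : Fin n) :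
    Multiplicative K →* ↥(UH X k) ⧸ NH X k where
  toFun t := QuotientGroup.mk (yk X k i (Multiplicative.toAdd t))
  map_one' := by
    have : yk X k i (Multiplicative.toAdd (1 : Multiplicative K)) = 1 :=
      Subtype.ext (xk_zero hX hk i)
    rw [this]
    rfl
  map_mul' a b := by
    have : yk X k i (Multiplicative.toAdd (a * b)) =
        yk X k i (Multiplicative.toAdd a) * yk X k i (Multiplicative.toAdd b) :=
      Subtype.ext (xk_add hX hk i _ _)
    rw [this]
    rfl

theorem quot_commute (hX : IsSt X) {k : ℕ} (hk : 1 ≤ k) [(NH X k).Normal] {a b : ↥(UH X k)}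
    (ha : a = 1 ∨ (a : S) ∈ gensH X k) (hb : b = 1 ∨ (b : S) ∈ gensH X k) :
    Commute (QuotientGroup.mk a : ↥(UH X k) ⧸ NH X k) (QuotientGroup.mk b) := by
  rcases ha with rfl | ha
  · exact Commute.one_left _
  rcases hb with rfl | hb
  · exact Commute.one_right _
  change (QuotientGroup.mk a : ↥(UH X k) ⧸ NH X k) * QuotientGroup.mk b =
    QuotientGroup.mk b * QuotientGroup.mk a
  rw [← QuotientGroup.mk_mul, ← QuotientGroup.mk_mul, QuotientGroup.eq]
  change ((a * b)⁻¹ * (b * a) : ↥(UH X k)) ∈ (UH X (k + 1)).subgroupOf (UH X k)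
  rw [Subgroup.mem_subgroupOf]
  have h := comm_mem hX hk hk (inv_mem_gensH hX hk hb) (inv_mem_gensH hX hk ha)
  have e : (((a * b)⁻¹ * (b * a) : ↥(UH X k)) : S) =
      (b : S)⁻¹ * (a : S)⁻¹ * (b : S)⁻¹⁻¹ * (a : S)⁻¹⁻¹ := by
    simp only [Subgroup.coe_mul, Subgroup.coe_inv]
    group
  rw [e]
  exact h

theorem yk_cases (X : Fin n → Fin n → K → S) (k : ℕ) (i : Fin n) (t : K) :
    yk X k i t = 1 ∨ ((yk X k i t : ↥(UH X k)) : S) ∈ gensH X k := by
  rcases xk_cases X k i t with h | h
  · exact Or.inl (Subtype.ext h)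
  · exact Or.inr h

theorem quot_pairwise (hX : IsSt X) {k : ℕ} (hk : 1 ≤ k) [(NH X k).Normal] :
    Pairwise fun i j : Fin n => ∀ x y : Multiplicative K,
      Commute (quotHom hX hk i x) (quotHom hX hk j y) := by
  intro i j _ x y
  exact quot_commute hX hk (yk_cases X k i _) (yk_cases X k j _)

/-- the product of the `quotHom`s -/
noncomputable def sigmaHom (hX : IsSt X) {k : ℕ} (hk : 1 ≤ k) [(NH X k).Normal] :
    (Fin n → Multiplicative K) →* ↥(UH X k) ⧸ NH X k :=
  MonoidHom.noncommPiCoprod (quotHom hX hk) (quot_pairwise hX hk)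

/-- the vector of height-`k` entries -/
def htVec (k : ℕ) (M : Matrix (Fin n) (Fin n) K) : Fin n → Multiplicative K :=
  fun i => Multiplicative.ofAdd (htEntry k M i)

theorem htVec_mul {k : ℕ} (hk : 1 ≤ k) {A B : Matrix (Fin n) (Fin n) K} (hA : IsHt k A)
    (hB : IsHt k B) : htVec k (A * B) = htVec k A * htVec k B := by
  funext i
  change Multiplicative.ofAdd (htEntry k (A * B) i) =
    Multiplicative.ofAdd (htEntry k A i) * Multiplicative.ofAdd (htEntry k B i)
  rw [htEntry_mul hk hA hB, ofAdd_add]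

theorem htVec_one {k : ℕ} (hk : 1 ≤ k) : htVec k (1 : Matrix (Fin n) (Fin n) K) = 1 := by
  funext i
  change Multiplicative.ofAdd (htEntry k (1 : Matrix (Fin n) (Fin n) K) i) = 1
  rw [htEntry_one hk]
  rfl

theorem key_gen (hX : IsSt X) {φ : S →* SpecialLinearGroup (Fin n) K} (hφ : IsPhi X φ) {k : ℕ}
    (hk : 1 ≤ k) [(NH X k).Normal] {a : S} (ha : a ∈ gensH X k) :
    (QuotientGroup.mk ⟨a, Subgroup.subset_closure ha⟩ : ↥(UH X k) ⧸ NH X k) =
      sigmaHom hX hk (htVec k ((φ a : SpecialLinearGroup (Fin n) K) : Matrix (Fin n) (Fin n) K)) := by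
  classical
  obtain ⟨i, j, t, hij, rfl⟩ := ha
  have hne : i ≠ j := fun e => by rw [e] at hij; omega
  rw [coe_phi_gen hφ hne]
  by_cases h : j.val = i.val + k
  · have hv : htVec k ((1 : Matrix (Fin n) (Fin n) K) + Matrix.single i j t) =
        Pi.mulSingle i (Multiplicative.ofAdd t) := by
      funext i'
      change Multiplicative.ofAdd (htEntry k _ i') = _
      rw [htEntry_transvection hk]
      by_cases hi : i' = i
      · subst hi
        rw [if_pos ⟨rfl, h⟩, Pi.mulSingle_eq_same]
      · rw [if_neg (fun hh => hi hh.1), Pi.mulSingle_eq_of_ne hi]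
        rfl
    rw [hv]
    unfold sigmaHom
    rw [MonoidHom.noncommPiCoprod_mulSingle]
    change _ = QuotientGroup.mk (yk X k i t)
    congr 1
    apply Subtype.ext
    change X i j t = xk X k i t
    unfold xk
    have hlt : i.val + k < n := by have := j.2; omega
    rw [dif_pos hlt]
    congr 1
    exact Fin.ext h
  · have hv : htVec k ((1 : Matrix (Fin n) (Fin n) K) + Matrix.single i j t) = 1 := by
      funext i'
      change Multiplicative.ofAdd (htEntry k _ i') = 1
      rw [htEntry_transvection hk, if_neg (fun hh => h hh.2)]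
      rfl
    rw [hv, map_one, QuotientGroup.eq_one_iff]
    change _ ∈ (UH X (k + 1)).subgroupOf (UH X k)
    rw [Subgroup.mem_subgroupOf]
    exact Subgroup.subset_closure ⟨i, j, t, by omega, rfl⟩

theorem key (hX : IsSt X) {φ : S →* SpecialLinearGroup (Fin n) K} (hφ : IsPhi X φ) {k : ℕ}
    (hk : 1 ≤ k) [(NH X k).Normal] {g : S} (hg : g ∈ UH X k) :
    (QuotientGroup.mk ⟨g, hg⟩ : ↥(UH X k) ⧸ NH X k) =
      sigmaHom hX hk (htVec k ((φ g : SpecialLinearGroup (Fin n) K) : Matrix (Fin n) (Fin n) K)) := by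
  induction hg using UH_induction hX hk with
  | one =>
    rw [coe_phi_one, htVec_one hk, map_one]
    rfl
  | mul_left a ha y hy ih =>
    rw [coe_phi_mul, htVec_mul hk (isHt_phi hX hφ hk (Subgroup.subset_closure ha))
      (isHt_phi hX hφ hk hy), map_mul, ← ih, ← key_gen hX hφ hk ha]
    rfl

theorem step (hX : IsSt X) {φ : S →* SpecialLinearGroup (Fin n) K} (hφ : IsPhi X φ) {k : ℕ}
    (hk : 1 ≤ k) {g : S} (hg : g ∈ UH X k) (h1 : φ g = 1) : g ∈ UH X (k + 1) := by
  have := NH_normal hX hk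
  have h := key hX hφ hk hg
  rw [h1] at h
  have e : htVec k (((1 : SpecialLinearGroup (Fin n) K)) : Matrix (Fin n) (Fin n) K) = 1 :=
    htVec_one hk
  rw [e, map_one, QuotientGroup.eq_one_iff] at h
  exact Subgroup.mem_subgroupOf.mp h

/-- LEAF E4: `φ` is injective on `Upos X`. -/
theorem Upos_inj (hX : IsSt X) {φ : S →* SpecialLinearGroup (Fin n) K} (hφ : IsPhi X φ) :
    ∀ g ∈ Upos X, φ g = 1 → g = 1 := by
  intro g hg h1
  rw [← UH_one] at hg
  have hall : ∀ k, 1 ≤ k → g ∈ UH X k := by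
    intro k hk
    induction k, hk using Nat.le_induction with
    | base => exact hg
    | succ k hk ih => exact step hX hφ hk ih h1
  rcases Nat.eq_zero_or_pos n with hn | hn
  · subst hn
    have h0 : UH X 1 = ⊥ := by
      unfold UH
      rw [Subgroup.closure_eq_bot_iff]
      rintro g ⟨i, _⟩
      exact i.elim0
    rw [h0] at hg
    exact Subgroup.mem_bot.mp hg
  · have h := hall n hn
    rw [UH_top] at h
    exact Subgroup.mem_bot.mp h

end Cfsg.Agent.Lib.Helper22.StN
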