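import Cfsg.Agent.Lib.Helper49.StOpDefs

/-!
# K-StOp leaf EX3 (S2548): `T` is trivial over the field with two elements
-/

set_option autoImplicit false
set_option linter.unusedSectionVars false
set_option linter.unusedVariables false

namespace Cfsg.Agent.Lib.Helper22.StOp

open Cfsg Cfsg.Agent.Lib.Helper49.StOp

variable {m : ℕ} {F : Type*} [Field F]

theorem Tsub_eq_bot [Fintype F] (hF : Fintype.card F = 2) : Tsub m F = ⊥ := by
  rw [eq_bot_iff]
  intro g hg
  rw [Subgroup.mem_bot]
  have hoff := (mem_Tsub_iff g).1 hg
  apply mat_injective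
  rw [mat_one]
  ext a b
  by_cases hab : a = b
  · subst hab
    rw [Matrix.one_apply_eq]
    have h1 : (mat g * mat g⁻¹) a a = 1 := by
      rw [mat_mul_mat_inv, Matrix.one_apply_eq]
    rw [Matrix.mul_apply, Finset.sum_eq_single a] at h1
    · have hne : mat g a a ≠ 0 := by
        intro h0
        rw [h0, zero_mul] at h1
        exact zero_ne_one h1
      have h2 := FiniteField.pow_card_sub_one_eq_one (mat g a a) hne
      rw [hF] at h2
      simpa using h2
    · intro c _ hca
      rw [hoff a c (Ne.symm hca), zero_mul]
    · intro h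
      exact absurd (Finset.mem_univ a) h
  · rw [Matrix.one_apply_ne hab]
    exact hoff a b hab

end Cfsg.Agent.Lib.Helper22.StOp
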