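import Mathlib

/-!
K-S5529-A (keystone 3355, architect helper95): Ree / Feit-Lyndon-Scott orbit count for a product-one triple of
permutations.  Proof: for the permutation module `α → ℚ` the fixed spaces `Fx, Fy, Fz` satisfy
`(Fx ⊔ Fy) ⊓ Fz ≤ Fx ⊓ Fy` (dot product argument), and `dim Fix H = #orbits H`.
-/

set_option autoImplicit false

namespace Cfsg.Agent.Lib.Helper22.TripleGen

open Equiv

variable {α : Type*} [Fintype α] [DecidableEq α]

/-- Functions fixed by a permutation. -/
def fixP (g : Perm α) : Submodule ℚ (α → ℚ) where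
  carrier := {v | ∀ a, v (g a) = v a}
  add_mem' := by
    intro v w hv hw a
    simp only [Set.mem_setOf_eq] at hv hw
    simp [hv a, hw a]
  zero_mem' := by intro a; rfl
  smul_mem' := by
    intro c v hv a
    simp only [Set.mem_setOf_eq] at hv
    simp [hv a]

/-- Functions fixed by a subgroup. -/
def fixSub (H : Subgroup (Perm α)) : Submodule ℚ (α → ℚ) where
  carrier := {v | ∀ g ∈ H, ∀ a, v (g a) = v a}
  add_mem' := by
    intro v w hv hw g hg a
    simp only [Set.mem_setOf_eq] at hv hw
    simp [hv g hg a, hw g hg a]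
  zero_mem' := by intro g _ a; rfl
  smul_mem' := by
    intro c v hv g hg a
    simp only [Set.mem_setOf_eq] at hv
    simp [hv g hg a]

theorem app_inv (g : Perm α) (a : α) : g (g⁻¹ a) = a := g.apply_symm_apply a

theorem inv_app (g : Perm α) (a : α) : g⁻¹ (g a) = a := g.symm_apply_apply a

/-- The permutations fixing a function. -/
def stabV (v : α → ℚ) : Subgroup (Perm α) where
  carrier := {g | ∀ a, v (g a) = v a}
  mul_mem' := by
    intro g h hg hh a
    simp only [Set.mem_setOf_eq] at hg hh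
    rw [Perm.mul_apply, hg (h a), hh a]
  one_mem' := by intro a; rfl
  inv_mem' := by
    intro g hg a
    simp only [Set.mem_setOf_eq] at hg
    have := hg (g⁻¹ a)
    rw [app_inv g a] at this
    exact this.symm

theorem mem_fixP {g : Perm α} {v : α → ℚ} : v ∈ fixP g ↔ ∀ a, v (g a) = v a := Iff.rfl

theorem mem_fixSub {H : Subgroup (Perm α)} {v : α → ℚ} :
    v ∈ fixSub H ↔ ∀ g ∈ H, ∀ a, v (g a) = v a := Iff.rfl

theorem mem_stabV {g : Perm α} {v : α → ℚ} : g ∈ stabV v ↔ ∀ a, v (g a) = v a := Iff.rfl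

theorem mem_fixSub_iff_le {H : Subgroup (Perm α)} {v : α → ℚ} : v ∈ fixSub H ↔ H ≤ stabV v :=
  ⟨fun h g hg => h g hg, fun h g hg => h hg⟩

theorem fixSub_zpowers (x : Perm α) : fixSub (Subgroup.zpowers x) = fixP x := by
  ext v
  rw [mem_fixSub_iff_le, Subgroup.zpowers_le]
  rfl

theorem fixSub_closure_pair (x y : Perm α) :
    fixSub (Subgroup.closure {x, y}) = fixP x ⊓ fixP y := by
  ext v
  rw [mem_fixSub_iff_le, Subgroup.closure_le, Submodule.mem_inf]
  constructor
  · intro h
    exact ⟨h (by simp), h (by simp)⟩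
  · rintro ⟨hx, hy⟩ g hg
    rcases hg with rfl | hg
    · exact hx
    · rw [Set.mem_singleton_iff] at hg
      subst hg
      exact hy

/-- The dimension of the fixed space of a permutation group is its number of orbits. -/
theorem finrank_fixSub (H : Subgroup (Perm α)) :
    Module.finrank ℚ (fixSub H) = Nat.card (MulAction.orbitRel.Quotient ↥H α) := by
  classical
  haveI : Fintype (MulAction.orbitRel.Quotient ↥H α) := Fintype.ofFinite _
  let mk : α → MulAction.orbitRel.Quotient ↥H α := Quotient.mk''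
  have hmk : Function.Surjective mk := Quotient.mk''_surjective
  let L : (MulAction.orbitRel.Quotient ↥H α → ℚ) →ₗ[ℚ] (α → ℚ) := LinearMap.funLeft ℚ ℚ mk
  have hinj : Function.Injective L := LinearMap.funLeft_injective_of_surjective ℚ ℚ mk hmk
  have hrange : LinearMap.range L = fixSub H := by
    ext v
    constructor
    · rintro ⟨φ, rfl⟩ g hg a
      show φ (mk (g a)) = φ (mk a)
      congr 1
      apply Quotient.sound'
      show MulAction.orbitRel ↥H α (g a) a
      rw [MulAction.orbitRel_apply]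
      exact ⟨⟨g, hg⟩, rfl⟩
    · intro hv
      refine ⟨Quotient.lift v ?_, ?_⟩
      · intro a b hab
        have hab' : MulAction.orbitRel ↥H α a b := hab
        rw [MulAction.orbitRel_apply] at hab'
        obtain ⟨g, rfl⟩ := hab'
        exact hv g.1 g.2 b
      · ext a
        rfl
  rw [← hrange, LinearMap.finrank_range_of_inj hinj, Module.finrank_fintype_fun_eq_card,
    Nat.card_eq_fintype_card]

/-- dot product on `α → ℚ` -/
def dotQ (v w : α → ℚ) : ℚ := ∑ a, v a * w a

theorem dotQ_comp (g : Perm α) (v w : α → ℚ) :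
    dotQ (fun i => v (g i)) (fun i => w (g i)) = dotQ v w := by
  unfold dotQ
  exact Equiv.sum_comp g (fun a => v a * w a)

theorem eq_zero_of_dotQ_self {v : α → ℚ} (h : dotQ v v = 0) : v = 0 := by
  unfold dotQ at h
  have h0 : ∀ a ∈ (Finset.univ : Finset α), v a * v a = 0 :=
    (Finset.sum_eq_zero_iff_of_nonneg (fun a _ => mul_self_nonneg (v a))).1 h
  ext a
  have := h0 a (Finset.mem_univ a)
  simpa using this

/-- key lemma: a sum of an `x`-fixed and a `y`-fixed function fixed by `z = (xy)⁻¹` has both parts fixed by both. -/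
theorem parts_fixed (x y z : Perm α) (h : x * y * z = 1) (a b : α → ℚ)
    (ha : ∀ i, a (x i) = a i) (hb : ∀ i, b (y i) = b i)
    (hv : ∀ i, (a + b) (z i) = (a + b) i) :
    (∀ i, b (x i) = b i) ∧ (∀ i, a (y i) = a i) := by
  -- `(a + b) ∘ x ∘ y = a + b`
  have hz : ∀ i, z (x (y i)) = i ∧ x (y (z i)) = i := by
    intro i
    have h1 : x * y * z = 1 := h
    have h2 : z * (x * y) = 1 := by
      have : z = (x * y)⁻¹ := by
        rw [eq_comm, inv_eq_iff_eq_inv, ← mul_eq_one_iff_eq_inv]; exact h1
      rw [this]; simp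
    constructor
    · have := congrArg (fun p : Perm α => p i) h2
      simpa [Perm.mul_apply] using this
    · have := congrArg (fun p : Perm α => p i) h1
      simpa [Perm.mul_apply] using this
  have hyinv : ∀ i, b (y⁻¹ i) = b i := by
    intro i
    have := hb (y⁻¹ i)
    rw [app_inv y i] at this
    exact this.symm
  -- (a+b)(x i) = (a+b)(y⁻¹ i)
  have hxy : ∀ i, (a + b) (x i) = (a + b) (y⁻¹ i) := by
    intro i
    -- z (x (y (y⁻¹ i))) = y⁻¹ i  hence (a+b)(y⁻¹ i) = (a+b)(z (x i))= (a+b) (x i)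
    have h1 := (hz (y⁻¹ i)).1
    rw [app_inv y i] at h1
    rw [← h1, hv]
  -- d := b ∘ x - b = a ∘ y⁻¹ - a
  have hd : ∀ i, b (x i) - b i = a (y⁻¹ i) - a i := by
    intro i
    have := hxy i
    simp only [Pi.add_apply] at this
    rw [ha i, hyinv i] at this
    linarith
  -- ⟨d, b⟩ = 0
  have hdb : dotQ (fun i => b (x i) - b i) b = 0 := by
    have h1 : dotQ (fun i => b (x i) - b i) b = dotQ (fun i => a (y⁻¹ i) - a i) b := by
      congr 1; ext i; exact hd i
    rw [h1]
    have h2 : dotQ (fun i => a (y⁻¹ i) - a i) b = dotQ (fun i => a (y⁻¹ i)) b - dotQ a b := by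
      unfold dotQ
      rw [← Finset.sum_sub_distrib]
      apply Finset.sum_congr rfl
      intro i _
      ring
    have h3 : dotQ (fun i => a (y⁻¹ i)) b = dotQ (fun i => a (y⁻¹ i)) (fun i => b (y⁻¹ i)) := by
      congr 1; ext i; exact (hyinv i).symm
    rw [h2, h3, dotQ_comp]; ring
  -- ⟨d, d⟩ = -2 ⟨d, b⟩
  have hdd : dotQ (fun i => b (x i) - b i) (fun i => b (x i) - b i) = 0 := by
    have h1 : dotQ (fun i => b (x i) - b i) (fun i => b (x i) - b i)
        = dotQ (fun i => b (x i)) (fun i => b (x i)) - dotQ b b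
          - 2 * dotQ (fun i => b (x i) - b i) b := by
      unfold dotQ
      rw [← Finset.sum_sub_distrib, Finset.mul_sum, ← Finset.sum_sub_distrib]
      apply Finset.sum_congr rfl
      intro i _
      ring
    rw [h1, dotQ_comp, hdb]; ring
  have hd0 := eq_zero_of_dotQ_self hdd
  have hbx : ∀ i, b (x i) = b i := by
    intro i
    have := congrFun hd0 i
    simp only [Pi.zero_apply] at this
    linarith
  refine ⟨hbx, ?_⟩
  intro i
  have h1 := hd (y i)
  rw [hbx] at h1
  rw [inv_app y i] at h1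
  linarith

theorem sup_inf_le (x y z : Perm α) (h : x * y * z = 1) :
    (fixP x ⊔ fixP y) ⊓ fixP z ≤ fixP x ⊓ fixP y := by
  intro v hv
  rw [Submodule.mem_inf, Submodule.mem_sup] at hv
  obtain ⟨⟨a, ha, b, hb, rfl⟩, hz⟩ := hv
  obtain ⟨hbx, hay⟩ := parts_fixed x y z h a b ha hb hz
  rw [Submodule.mem_inf]
  constructor
  · intro i
    simp only [Pi.add_apply]
    rw [ha i, hbx i]
  · intro i
    simp only [Pi.add_apply]
    rw [hay i, hb i]

/-- K-S5529-A: Ree / Feit-Lyndon-Scott. -/
theorem ree_orbit_count {α : Type*} [Fintype α] [DecidableEq α] (x y z : Perm α)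
    (h : x * y * z = 1) :
    Nat.card (MulAction.orbitRel.Quotient ↥(Subgroup.zpowers x) α) +
      Nat.card (MulAction.orbitRel.Quotient ↥(Subgroup.zpowers y) α) +
      Nat.card (MulAction.orbitRel.Quotient ↥(Subgroup.zpowers z) α) ≤
    Fintype.card α + 2 * Nat.card (MulAction.orbitRel.Quotient ↥(Subgroup.closure {x, y}) α) := by
  rw [← finrank_fixSub, ← finrank_fixSub, ← finrank_fixSub, ← finrank_fixSub,
    fixSub_zpowers, fixSub_zpowers, fixSub_zpowers, fixSub_closure_pair]
  have e1 := Submodule.finrank_sup_add_finrank_inf_eq (fixP x) (fixP y)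
  have e2 := Submodule.finrank_sup_add_finrank_inf_eq (fixP x ⊔ fixP y) (fixP z)
  have e3 : Module.finrank ℚ ↥((fixP x ⊔ fixP y) ⊓ fixP z) ≤ Module.finrank ℚ ↥(fixP x ⊓ fixP y) :=
    Submodule.finrank_mono (sup_inf_le x y z h)
  have e4 : Module.finrank ℚ ↥(fixP x ⊔ fixP y ⊔ fixP z) ≤ Fintype.card α := by
    have := Submodule.finrank_le (fixP x ⊔ fixP y ⊔ fixP z)
    rwa [Module.finrank_fintype_fun_eq_card] at this
  omega

end Cfsg.Agent.Lib.Helper22.TripleGen
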