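import Mathlib
import Cfsg.Agent.S3378
import Cfsg.Agent.Lib.Helper48.U32.Abstract

/-!
K-S0690-10 (keystone 69010, architect helper11): endgame of Zassenhaus' theorem.
A perfect group `G` with a subgroup `D` of order 120 containing all elements of order 3 (plus element-order and
pair-count data) is `SL(2,5)`.
-/

set_option autoImplicit false

universe u

namespace Cfsg.Agent.Lib.Helper22.Zass

/-- A perfect solvable group is trivial. -/
theorem subsingleton_of_perfect_solvable {H : Type*} [Group H] (hp : commutator H = ⊤)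
    (hs : Group.IsSolvable H) : Subsingleton H := by
  obtain ⟨n, hn⟩ := hs.solvable
  have hall : ∀ k : ℕ, derivedSeries H k = ⊤ := by
    intro k
    induction k with
    | zero => rfl
    | succ k ih =>
      rw [derivedSeries_succ, ih]
      exact hp
  rw [hall n] at hn
  constructor
  intro a b
  have ha : a ∈ (⊤ : Subgroup H) := Subgroup.mem_top a
  have hb : b ∈ (⊤ : Subgroup H) := Subgroup.mem_top b
  rw [hn, Subgroup.mem_bot] at ha hb
  rw [ha, hb]

/-- In a perfect group a normal subgroup with solvable quotient is everything. -/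
theorem eq_top_of_perfect_of_solvable_quotient {G : Type*} [Group G] (hp : commutator G = ⊤)
    (N : Subgroup G) [N.Normal] (hs : Group.IsSolvable (G ⧸ N)) : N = ⊤ := by
  have hq : commutator (G ⧸ N) = ⊤ := by
    have h1 : commutator (G ⧸ N) = (commutator G).map (QuotientGroup.mk' N) := by
      rw [commutator_def, commutator_def, Subgroup.map_commutator]
      have : (⊤ : Subgroup G).map (QuotientGroup.mk' N) = ⊤ := by
        rw [← MonoidHom.range_eq_map, MonoidHom.range_eq_top]
        exact QuotientGroup.mk'_surjective N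
      rw [this]
    rw [h1, hp, ← MonoidHom.range_eq_map, MonoidHom.range_eq_top]
    exact QuotientGroup.mk'_surjective N
  exact QuotientGroup.subgroup_eq_top_of_subsingleton N (subsingleton_of_perfect_solvable hq hs)

/-- The closure of a pairwise commuting set is commutative. -/
theorem comm_of_mem_closure {G : Type*} [Group G] (S : Set G)
    (hS : ∀ a ∈ S, ∀ b ∈ S, a * b = b * a) :
    ∀ a ∈ Subgroup.closure S, ∀ b ∈ Subgroup.closure S, a * b = b * a := by
  have h1 : ∀ b ∈ S, Subgroup.closure S ≤ Subgroup.centralizer {b} := by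
    intro b hb
    rw [Subgroup.closure_le]
    intro a ha
    rw [SetLike.mem_coe, Subgroup.mem_centralizer_iff]
    intro h hh
    rw [Set.mem_singleton_iff] at hh
    rw [hh]
    exact hS b hb a ha
  intro a ha
  have h2 : Subgroup.closure S ≤ Subgroup.centralizer {a} := by
    rw [Subgroup.closure_le]
    intro b hb
    rw [SetLike.mem_coe, Subgroup.mem_centralizer_iff]
    intro h hh
    rw [Set.mem_singleton_iff] at hh
    rw [hh]
    have := h1 b hb ha
    rw [Subgroup.mem_centralizer_iff] at this
    exact (this b rfl).symm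
  intro b hb
  have := h2 hb
  rw [Subgroup.mem_centralizer_iff] at this
  exact this a rfl

/-- The closure of a pairwise commuting set of elements of exponent `n` has exponent `n`. -/
theorem pow_eq_one_of_mem_closure {G : Type*} [Group G] (S : Set G) (n : ℕ)
    (hS : ∀ a ∈ S, ∀ b ∈ S, a * b = b * a) (hn : ∀ a ∈ S, a ^ n = 1) :
    ∀ d ∈ Subgroup.closure S, d ^ n = 1 := by
  intro d hd
  induction hd using Subgroup.closure_induction with
  | mem w hw => exact hn w hw
  | one => exact one_pow n
  | mul a b ha hb iha ihb =>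
    have hc : Commute a b := comm_of_mem_closure S hS a ha b hb
    rw [hc.mul_pow, iha, ihb, one_mul]
  | inv a ha iha => rw [inv_pow, iha, inv_one]

/-- An abelian subgroup generated by elements of order dividing `3` is a `3`-group. -/
theorem isPGroup_three_closure {G : Type*} [Group G] (S : Set G)
    (hS : ∀ a ∈ S, ∀ b ∈ S, a * b = b * a) (hn : ∀ a ∈ S, a ^ 3 = 1) :
    IsPGroup 3 (Subgroup.closure S) := by
  intro g
  refine ⟨1, ?_⟩
  have := pow_eq_one_of_mem_closure S 3 hS hn g.1 g.2
  apply Subtype.ext
  simpa using this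

/-- If all `3`-subgroups are cyclic, commuting elements of order `3` generate the same subgroup. -/
theorem mem_zpowers_of_cyclic_three {G : Type*} [Group G] [Finite G]
    (hcyc : ∀ Q : Subgroup G, IsPGroup 3 Q → IsCyclic Q)
    (u x : G) (hux : u * x = x * u) (hu3 : u ^ 3 = 1) (hx3 : x ^ 3 = 1) (hu1 : u ≠ 1) :
    x ∈ Subgroup.zpowers u := by
  classical
  by_contra hx
  have hS : ∀ a ∈ ({u, x} : Set G), ∀ b ∈ ({u, x} : Set G), a * b = b * a := by
    intro a ha b hb
    rcases ha with rfl | ha <;> rcases hb with rfl | hb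
    · rfl
    · rw [Set.mem_singleton_iff] at hb; rw [hb]; exact hux
    · rw [Set.mem_singleton_iff] at ha; rw [ha]; exact hux.symm
    · rw [Set.mem_singleton_iff] at ha hb; rw [ha, hb]
  have hn : ∀ a ∈ ({u, x} : Set G), a ^ 3 = 1 := by
    intro a ha
    rcases ha with rfl | ha
    · exact hu3
    · rw [Set.mem_singleton_iff] at ha; rw [ha]; exact hx3
  haveI : IsCyclic (Subgroup.closure ({u, x} : Set G)) := hcyc _ (isPGroup_three_closure _ hS hn)
  haveI : Fintype (Subgroup.closure ({u, x} : Set G)) := Fintype.ofFinite _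
  have huK : u ∈ Subgroup.closure ({u, x} : Set G) := Subgroup.subset_closure (by simp)
  have hxK : x ∈ Subgroup.closure ({u, x} : Set G) := Subgroup.subset_closure (by simp)
  have hle := IsCyclic.card_pow_eq_one_le (α := Subgroup.closure ({u, x} : Set G)) (n := 3) (by norm_num)
  -- four distinct solutions of `a ^ 3 = 1`
  have hx1 : x ≠ 1 := fun h => hx (h ▸ one_mem _)
  have hxu : x ≠ u := fun h => hx (h ▸ Subgroup.mem_zpowers u)
  have hxu2 : x ≠ u ^ 2 := fun h => hx (h ▸ Subgroup.npow_mem_zpowers u 2)
  have hu2 : u ^ 2 ≠ 1 := by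
    intro h
    apply hu1
    have : u ^ 3 = u ^ 2 * u := pow_succ u 2
    rw [hu3, h, one_mul] at this
    exact this.symm
  have huu2 : u ≠ u ^ 2 := by
    intro h
    apply hu1
    have h2 : u ^ 2 = u * u := pow_two u
    rw [h2] at h
    have := mul_left_cancel (a := u) (b := 1) (c := u) (by rw [mul_one]; exact h)
    exact this.symm
  let e1 : Subgroup.closure ({u, x} : Set G) := 1
  let eu : Subgroup.closure ({u, x} : Set G) := ⟨u, huK⟩
  let ex : Subgroup.closure ({u, x} : Set G) := ⟨x, hxK⟩
  have hsub : ({e1, eu, eu ^ 2, ex} : Finset (Subgroup.closure ({u, x} : Set G))) ⊆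
      Finset.univ.filter (fun a => a ^ 3 = 1) := by
    intro a ha
    rw [Finset.mem_filter]
    refine ⟨Finset.mem_univ _, ?_⟩
    simp only [Finset.mem_insert, Finset.mem_singleton] at ha
    rcases ha with rfl | rfl | rfl | rfl
    · exact one_pow 3
    · apply Subtype.ext; simpa [eu] using hu3
    · apply Subtype.ext
      simp only [eu, Subgroup.coe_pow, Subgroup.coe_one]
      rw [← pow_mul, mul_comm, pow_mul, hu3, one_pow]
    · apply Subtype.ext; simpa [ex] using hx3
  have hcard : ({e1, eu, eu ^ 2, ex} : Finset (Subgroup.closure ({u, x} : Set G))).card = 4 := by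
    have n1 : e1 ≠ eu := fun h => hu1 (congrArg Subtype.val h).symm
    have n2 : e1 ≠ eu ^ 2 := fun h => hu2 (by simpa [e1, eu] using (congrArg Subtype.val h).symm)
    have n3 : e1 ≠ ex := fun h => hx1 (congrArg Subtype.val h).symm
    have n4 : eu ≠ eu ^ 2 := fun h => huu2 (by simpa [eu] using congrArg Subtype.val h)
    have n5 : eu ≠ ex := fun h => hxu (congrArg Subtype.val h).symm
    have n6 : eu ^ 2 ≠ ex := fun h => hxu2 (by simpa [eu, ex] using (congrArg Subtype.val h).symm)
    rw [Finset.card_insert_of_notMem, Finset.card_insert_of_notMem, Finset.card_insert_of_notMem,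
      Finset.card_singleton]
    · simp only [Finset.mem_singleton]; exact n6
    · simp only [Finset.mem_insert, Finset.mem_singleton]; push_neg; exact ⟨n4, n5⟩
    · simp only [Finset.mem_insert, Finset.mem_singleton]; push_neg; exact ⟨n1, n2, n3⟩
  have := Finset.card_le_card hsub
  rw [hcard] at this
  omega

/-- A group with at most one involution in which every element of a subgroup `Z` squares to one: `|Z| ≤ 2`. -/
theorem card_le_two_of_sq {G : Type*} [Group G] [Finite G]
    (hinv : ∀ s t : G, orderOf s = 2 → orderOf t = 2 → s = t) (Z : Subgroup G)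
    (hZ : ∀ c ∈ Z, c * c = 1) : Nat.card Z ≤ 2 := by
  classical
  have hord : ∀ c ∈ Z, c ≠ 1 → orderOf c = 2 := by
    intro c hc hc1
    exact orderOf_eq_prime (by rw [pow_two]; exact hZ c hc) hc1
  by_cases h : ∃ c ∈ Z, c ≠ 1
  · obtain ⟨z, hz, hz1⟩ := h
    have hsub : (Z : Set G) ⊆ {1, z} := by
      intro c hc
      by_cases hc1 : c = 1
      · left; exact hc1
      · right
        rw [Set.mem_singleton_iff]
        exact hinv c z (hord c hc hc1) (hord z hz hz1)
    have h1 : Nat.card Z = (Z : Set G).ncard := Nat.card_coe_set_eq (Z : Set G)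
    have h2 : (Z : Set G).ncard ≤ ({1, z} : Set G).ncard :=
      Set.ncard_le_ncard hsub (Set.toFinite _)
    have h3 : ({1, z} : Set G).ncard ≤ 2 := by
      have := Set.ncard_insert_le (1 : G) ({z} : Set G)
      rw [Set.ncard_singleton] at this
      exact this
    omega
  · push_neg at h
    have : Z = ⊥ := by
      rw [Subgroup.eq_bot_iff_forall]
      exact h
    rw [this, Subgroup.card_bot]
    norm_num

/-- A group with at most two elements is solvable. -/
theorem isSolvable_of_card_le_two {H : Type*} [Group H] [Finite H] (h : Nat.card H ≤ 2) :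
    Group.IsSolvable H := by
  have hpos : 0 < Nat.card H := Nat.card_pos
  haveI : Fact (Nat.Prime 2) := ⟨Nat.prime_two⟩
  have hp : IsPGroup 2 H := by
    have h12 : Nat.card H = 1 ∨ Nat.card H = 2 := by omega
    rcases h12 with h1 | h2
    · exact IsPGroup.of_card (n := 0) (by rw [h1]; norm_num)
    · exact IsPGroup.of_card (n := 1) (by rw [h2]; norm_num)
  haveI : Group.IsNilpotent H := hp.isNilpotent
  infer_instance

/-- K-S0690-10: the endgame of Zassenhaus' theorem. -/
theorem endgame {G : Type u} [Group G] [Finite G] (hperf : commutator G = ⊤)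
    (hodd : ∀ p : ℕ, p.Prime → p ≠ 2 → ∀ Q : Subgroup G, IsPGroup p Q → IsCyclic Q)
    (hinv : ∀ s t : G, orderOf s = 2 → orderOf t = 2 → s = t)
    (hsolv : ∀ Y : Subgroup G, ¬ 3 ∣ Nat.card Y → Group.IsSolvable Y)
    (D : Subgroup G) (hD120 : Nat.card D = 120) (hDT : ∀ g : G, orderOf g = 3 → g ∈ D)
    (hDord : ∀ g ∈ D, g ^ 4 = 1 ∨ g ^ 6 = 1 ∨ g ^ 10 = 1)
    (hgen : ∃ x y : G, orderOf x = 3 ∧ orderOf y = 3 ∧ Subgroup.closure {x, y} = D)
    (hpairs : Nat.card {p : G × G // orderOf p.1 = 3 ∧ orderOf p.2 = 3 ∧
      Subgroup.closure {p.1, p.2} = D} ≤ 120) :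
    Nonempty (G ≃* Matrix.SpecialLinearGroup (Fin 2) (ZMod 5)) := by
  classical
  obtain ⟨x, y, hx, hy, hxy⟩ := hgen
  have hxD : x ∈ D := hDT x hx
  have hyD : y ∈ D := hDT y hy
  have hx3 : x ^ 3 = 1 := by rw [← hx]; exact pow_orderOf_eq_one x
  have hy3 : y ^ 3 = 1 := by rw [← hy]; exact pow_orderOf_eq_one y
  have hcyc3 : ∀ Q : Subgroup G, IsPGroup 3 Q → IsCyclic Q := hodd 3 Nat.prime_three (by norm_num)
  -- Step 1: `D` is normal
  have hconj3 : ∀ g w : G, orderOf w = 3 → orderOf (g * w * g⁻¹) = 3 := by
    intro g w hw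
    have := (MulAut.conj g).orderOf_eq w
    rw [MulAut.conj_apply] at this
    rw [this, hw]
  have hDn : D.Normal := by
    constructor
    intro d hd g
    have hsub : Subgroup.closure {x, y} ≤ D.comap (MulAut.conj g).toMonoidHom := by
      rw [Subgroup.closure_le]
      intro w hw
      show (MulAut.conj g) w ∈ D
      rw [MulAut.conj_apply]
      apply hDT
      rcases hw with rfl | hw
      · exact hconj3 g _ hx
      · rw [Set.mem_singleton_iff] at hw; rw [hw]; exact hconj3 g _ hy
    rw [hxy] at hsub
    have := hsub hd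
    simpa [MulAut.conj_apply] using this
  -- the centralizer of `D`
  set C : Subgroup G := Subgroup.centralizer (D : Set G) with hC
  haveI hCn : C.Normal := Subgroup.normal_centralizer
  have hCcomm : ∀ c ∈ C, ∀ d ∈ D, d * c = c * d := by
    intro c hc d hd
    rw [hC, Subgroup.mem_centralizer_iff] at hc
    exact hc d hd
  have hmemC : ∀ g : G, g * x = x * g → g * y = y * g → g ∈ C := by
    intro g hgx hgy
    rw [hC, Subgroup.mem_centralizer_iff]
    intro d hd
    have hle : Subgroup.closure {x, y} ≤ Subgroup.centralizer {g} := by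
      rw [Subgroup.closure_le]
      intro w hw
      rw [SetLike.mem_coe, Subgroup.mem_centralizer_iff]
      intro h hh
      rw [Set.mem_singleton_iff] at hh
      rw [hh]
      rcases hw with rfl | hw
      · exact hgx
      · rw [Set.mem_singleton_iff] at hw; rw [hw]; exact hgy
    rw [hxy] at hle
    have := hle hd
    rw [Subgroup.mem_centralizer_iff] at this
    exact (this g rfl).symm
  -- Step 2: `x ∉ C`
  have hxC : x ∉ C := by
    intro hxc
    have hyx : y * x = x * y := hCcomm x hxc y hyD
    have hS : ∀ a ∈ ({x, y} : Set G), ∀ b ∈ ({x, y} : Set G), a * b = b * a := by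
      intro a ha b hb
      rcases ha with rfl | ha <;> rcases hb with rfl | hb
      · rfl
      · rw [Set.mem_singleton_iff] at hb; rw [hb]; exact hyx.symm
      · rw [Set.mem_singleton_iff] at ha; rw [ha]; exact hyx
      · rw [Set.mem_singleton_iff] at ha hb; rw [ha, hb]
    have hn : ∀ a ∈ ({x, y} : Set G), a ^ 3 = 1 := by
      intro a ha
      rcases ha with rfl | ha
      · exact hx3
      · rw [Set.mem_singleton_iff] at ha; rw [ha]; exact hy3
    have hp := isPGroup_three_closure _ hS hn
    rw [hxy] at hp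
    haveI : Fact (Nat.Prime 3) := ⟨Nat.prime_three⟩
    obtain ⟨n, hn⟩ := hp.exists_card_eq
    rw [hD120] at hn
    have h2 : 2 ∣ 3 ^ n := by rw [← hn]; norm_num
    have := Nat.Prime.dvd_of_dvd_pow Nat.prime_two h2
    omega
  -- Step 3: the centre of `D` has exponent 2
  have hZsq : ∀ c ∈ D ⊓ C, c * c = 1 := by
    rintro c ⟨hcD, hcC⟩
    have hcx : Commute c x := (hCcomm c hcC x hxD).symm
    have hx4 : x ^ 4 = x := by rw [pow_succ, hx3, one_mul]
    have hx6 : x ^ 6 = 1 := by rw [show 6 = 3 * 2 from rfl, pow_mul, hx3, one_pow]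
    have hx10 : x ^ 10 = x := by
      rw [show 10 = 3 * 3 + 1 from rfl, pow_succ, pow_mul, hx3, one_pow, one_mul]
    have hbad : ∀ k : ℕ, c ^ k * x = 1 → False := by
      intro k hk
      apply hxC
      have : x = (c ^ k)⁻¹ := eq_inv_of_mul_eq_one_right hk
      rw [this]
      exact C.inv_mem (C.pow_mem hcC k)
    have hc6 : c ^ 6 = 1 := by
      rcases hDord (c * x) (D.mul_mem hcD hxD) with h | h | h
      · exfalso
        rw [hcx.mul_pow, hx4] at h
        exact hbad 4 h
      · rw [hcx.mul_pow, hx6, mul_one] at h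
        exact h
      · exfalso
        rw [hcx.mul_pow, hx10] at h
        exact hbad 10 h
    by_contra hne
    have hu3 : (c * c) ^ 3 = 1 := by rw [← pow_two, ← pow_mul]; exact hc6
    have huC : c * c ∈ C := C.mul_mem hcC hcC
    have hux : (c * c) * x = x * (c * c) := (hCcomm _ huC x hxD).symm
    have := mem_zpowers_of_cyclic_three hcyc3 (c * c) x hux hu3 hx3 hne
    exact hxC ((Subgroup.zpowers_le.2 huC) this)
  have hZcard : Nat.card (D ⊓ C : Subgroup G) ≤ 2 := card_le_two_of_sq hinv _ hZsq
  -- Step 4: the index of `C` is at most 120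
  have hCidx : C.index ≤ 120 := by
    have hclo : ∀ g : G, Subgroup.closure {g * x * g⁻¹, g * y * g⁻¹} = D := by
      intro g
      apply le_antisymm
      · rw [Subgroup.closure_le]
        intro w hw
        rcases hw with rfl | hw
        · exact hDT _ (hconj3 g x hx)
        · rw [Set.mem_singleton_iff] at hw; rw [hw]; exact hDT _ (hconj3 g y hy)
      · intro d hd
        have hd' : g⁻¹ * d * g ∈ Subgroup.closure {x, y} := by
          rw [hxy]; simpa using hDn.conj_mem d hd g⁻¹
        have hmap : (Subgroup.closure {x, y}).map (MulAut.conj g).toMonoidHom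
            = Subgroup.closure {g * x * g⁻¹, g * y * g⁻¹} := by
          rw [MonoidHom.map_closure, Set.image_pair]
          rfl
        rw [← hmap]
        refine ⟨g⁻¹ * d * g, hd', ?_⟩
        simp [MulAut.conj_apply, mul_assoc]
    let φ : G → {p : G × G // orderOf p.1 = 3 ∧ orderOf p.2 = 3 ∧
        Subgroup.closure {p.1, p.2} = D} :=
      fun g => ⟨(g * x * g⁻¹, g * y * g⁻¹), hconj3 g x hx, hconj3 g y hy, hclo g⟩
    have hφ : ∀ a b : G, a⁻¹ * b ∈ C → φ a = φ b := by
      intro a b hab
      have key : ∀ w, w * (a⁻¹ * b) = (a⁻¹ * b) * w → a * w * a⁻¹ = b * w * b⁻¹ := by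
        intro w hw
        have : b * w * b⁻¹ = a * ((a⁻¹ * b) * w * (a⁻¹ * b)⁻¹) * a⁻¹ := by group
        rw [this, ← hw]; group
      apply Subtype.ext
      show (a * x * a⁻¹, a * y * a⁻¹) = (b * x * b⁻¹, b * y * b⁻¹)
      rw [key x (hCcomm _ hab x hxD), key y (hCcomm _ hab y hyD)]
    let ψ : G ⧸ C → {p : G × G // orderOf p.1 = 3 ∧ orderOf p.2 = 3 ∧
        Subgroup.closure {p.1, p.2} = D} :=
      fun q => Quotient.liftOn' q φ (by
        intro a b hab
        rw [QuotientGroup.leftRel_apply] at hab
        exact hφ a b hab)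
    have hψ : Function.Injective ψ := by
      intro q1 q2
      refine Quotient.inductionOn₂' q1 q2 ?_
      intro a b h
      have h' : φ a = φ b := h
      have h1 : a * x * a⁻¹ = b * x * b⁻¹ := congrArg (fun t => t.1.1) h'
      have h2 : a * y * a⁻¹ = b * y * b⁻¹ := congrArg (fun t => t.1.2) h'
      apply Quotient.sound'
      rw [QuotientGroup.leftRel_apply]
      apply hmemC
      · calc (a⁻¹ * b) * x = a⁻¹ * (b * x * b⁻¹) * b := by group
          _ = a⁻¹ * (a * x * a⁻¹) * b := by rw [h1]
          _ = x * (a⁻¹ * b) := by group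
      · calc (a⁻¹ * b) * y = a⁻¹ * (b * y * b⁻¹) * b := by group
          _ = a⁻¹ * (a * y * a⁻¹) * b := by rw [h2]
          _ = y * (a⁻¹ * b) := by group
    have := Nat.card_le_card_of_injective ψ hψ
    rw [Subgroup.index_eq_card]
    exact le_trans this hpairs
  -- Step 5: `D ⊔ C = ⊤`
  have hrel : 60 ≤ C.relIndex (D ⊔ C) := by
    rw [Subgroup.relIndex_sup_right, ← Subgroup.inf_relIndex_right]
    have h1 := Subgroup.relIndex_mul_relIndex (⊥ : Subgroup G) (C ⊓ D) D bot_le inf_le_right
    rw [Subgroup.relIndex_bot_left, Subgroup.relIndex_bot_left, hD120] at h1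
    have h2 : Nat.card (C ⊓ D : Subgroup G) ≤ 2 := by rw [inf_comm]; exact hZcard
    by_contra hcon
    push_neg at hcon
    have h3 : Nat.card (C ⊓ D : Subgroup G) * (C ⊓ D).relIndex D ≤ 2 * 59 :=
      Nat.mul_le_mul h2 (by omega)
    omega
  have htop : D ⊔ C = ⊤ := by
    have hmul := Subgroup.relIndex_mul_index (show C ≤ D ⊔ C from le_sup_right)
    have hidx2 : (D ⊔ C).index ≤ 2 := by
      by_contra hcon
      push_neg at hcon
      have : 60 * 3 ≤ C.relIndex (D ⊔ C) * (D ⊔ C).index := Nat.mul_le_mul hrel hcon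
      omega
    haveI : (D ⊔ C).Normal := inferInstance
    apply eq_top_of_perfect_of_solvable_quotient hperf
    apply isSolvable_of_card_le_two
    rw [← Subgroup.index_eq_card]
    exact hidx2
  -- Step 6: `D = ⊤`
  have h3C : ¬ 3 ∣ Nat.card C := by
    intro h3
    haveI : Fact (Nat.Prime 3) := ⟨Nat.prime_three⟩
    obtain ⟨c, hc⟩ := exists_prime_orderOf_dvd_card' 3 h3
    have hc3 : orderOf (c : G) = 3 := by rw [Subgroup.orderOf_coe]; exact hc
    have hcD : (c : G) ∈ D := hDT _ hc3
    have hsq := hZsq c ⟨hcD, c.2⟩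
    have h2 : orderOf (c : G) ∣ 2 := orderOf_dvd_of_pow_eq_one (by rw [pow_two]; exact hsq)
    rw [hc3] at h2
    norm_num at h2
  have hCs : Group.IsSolvable C := hsolv C h3C
  have hDtop : D = ⊤ := by
    apply eq_top_of_perfect_of_solvable_quotient hperf
    let f : C →* G ⧸ D := (QuotientGroup.mk' D).comp C.subtype
    have hf : Function.Surjective f := by
      intro q
      refine QuotientGroup.induction_on q ?_
      intro g
      have hg : g ∈ ((D ⊔ C : Subgroup G) : Set G) := by rw [htop]; trivial
      rw [Subgroup.normal_mul] at hg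
      obtain ⟨d, hd, c, hc, rfl⟩ := hg
      refine ⟨⟨c, hc⟩, ?_⟩
      show (QuotientGroup.mk' D) c = (QuotientGroup.mk' D) (d * c)
      rw [map_mul]
      have : (QuotientGroup.mk' D) d = 1 := by
        rw [QuotientGroup.mk'_apply, QuotientGroup.eq_one_iff]; exact hd
      rw [this, one_mul]
    exact solvable_of_surjective hf
  -- Step 7: conclusion
  have hG120 : Nat.card G = 120 := by
    rw [← hD120, hDtop]; exact (Subgroup.card_top).symm
  have hns : ¬ Group.IsSolvable G := by
    intro hs
    haveI := subsingleton_of_perfect_solvable hperf hs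
    have : Nat.card G = 1 := Nat.card_of_subsingleton (1 : G)
    omega
  have hQ : ∀ P : Sylow 2 G, Nonempty ((P : Subgroup G) ≃* QuaternionGroup 2) := by
    intro P
    haveI : Fact (Nat.Prime 2) := ⟨Nat.prime_two⟩
    have hP8 : Nat.card (P : Subgroup G) = 8 := by
      rw [Sylow.card_eq_multiplicity, hG120]
      have : (120 : ℕ).factorization 2 = 3 := by decide +kernel
      rw [this]; norm_num
    have h4 : ∀ r : (P : Subgroup G), r ^ 4 = 1 := by
      intro r
      have h8 : (r : G) ^ 8 = 1 := by
        have := pow_card_eq_one' (G := (P : Subgroup G)) (x := r)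
        rw [hP8] at this
        have := congrArg Subtype.val this
        simpa using this
      have hrD : (r : G) ∈ D := by rw [hDtop]; trivial
      apply Subtype.ext
      rw [Subgroup.coe_pow, Subgroup.coe_one]
      rcases hDord _ hrD with h | h | h
      · exact h
      · have h2 : (r : G) ^ 2 = 1 := by
          have : (r : G) ^ 8 = (r : G) ^ 6 * (r : G) ^ 2 := by rw [← pow_add]
          rw [h8, h, one_mul] at this; exact this.symm
        rw [show 4 = 2 * 2 from rfl, pow_mul, h2, one_pow]
      · have h2 : (r : G) ^ 2 = 1 := by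
          have : (r : G) ^ 10 = (r : G) ^ 8 * (r : G) ^ 2 := by rw [← pow_add]
          rw [h, h8, one_mul] at this; exact this.symm
        rw [show 4 = 2 * 2 from rfl, pow_mul, h2, one_pow]
    obtain ⟨z, hz⟩ := exists_prime_orderOf_dvd_card' (G := (P : Subgroup G)) 2
      (by rw [hP8]; norm_num)
    have hH : Nat.card (Subgroup.zpowers z) = 2 := by rw [Nat.card_zpowers, hz]
    have h1 : ∀ r : (P : Subgroup G), r * r = 1 → r ∈ Subgroup.zpowers z := by
      intro r hr
      by_cases hr1 : r = 1
      · rw [hr1]; exact one_mem _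
      · have hro : orderOf r = 2 := orderOf_eq_prime (by rw [pow_two]; exact hr) hr1
        have hrz : (r : G) = (z : G) :=
          hinv _ _ (by rw [Subgroup.orderOf_coe]; exact hro) (by rw [Subgroup.orderOf_coe]; exact hz)
        have : r = z := Subtype.ext hrz
        rw [this]; exact Subgroup.mem_zpowers z
    have h2 : ∀ r : (P : Subgroup G), r * r ∈ Subgroup.zpowers z := by
      intro r
      apply h1
      have := h4 r
      rw [← pow_two, ← pow_two, ← pow_mul]; exact this
    exact Cfsg.Agent.Lib.Helper48.U32.quat_of_small hP8 _ hH h1 h2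
  exact (Cfsg.Agent.S3378.result).1 G hG120 hns hQ

end Cfsg.Agent.Lib.Helper22.Zass
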